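import Cfsg.Agent.BpLin.Quot
import Cfsg.Agent.LThree.Red
import Cfsg.Agent.CpAut.Base

/-!
# S1332: transfer lemmas for centralizers (helper18)

* `exists_lift` : elements of order `p` of `X / N` lift to elements of order `p`, `N` a normal `p'`-subgroup;
* `good_cent` : `Good p (C_H(x))` implies `Good p (C_{H/N}(xN))`, `N` a central `p'`-subgroup; `good_all`;
* `bps_of_inner` : `BpS p X` from the centralizers of the elements of order `p`.
-/

set_option autoImplicit false

namespace Cfsg.Agent.BpSpor.Transfer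

open Subgroup Cfsg Cfsg.Agent.BpTab

universe u

section

variable {H : Type*} [Group H] [Finite H] {p : ℕ}

/-- elements of order `p` lift -/
theorem exists_lift (hp : p.Prime) (N : Subgroup H) [N.Normal] (hN : (Nat.card ↥N).Coprime p) {y : H ⧸ N}
    (hy : orderOf y = p) : ∃ x : H, orderOf x = p ∧ QuotientGroup.mk' N x = y := by
  obtain ⟨x, rfl⟩ := QuotientGroup.mk'_surjective N y
  have h1 : (QuotientGroup.mk' N x) ^ p = 1 := by rw [← hy, pow_orderOf_eq_one]
  have h2 : x ^ p ∈ N := by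
    rw [← map_pow] at h1
    exact (QuotientGroup.eq_one_iff _).1 h1
  have h4 : (x ^ Nat.card ↥N) ^ p = 1 := by
    have h4 : (⟨x ^ p, h2⟩ : ↥N) ^ Nat.card ↥N = 1 := pow_card_eq_one'
    have h5 := congrArg Subtype.val h4
    rw [← pow_mul, mul_comm, pow_mul]
    exact h5
  obtain ⟨m, hm⟩ : ∃ m : ℕ, Nat.card ↥N * m ≡ 1 [MOD p] := by
    obtain ⟨m, hm⟩ := Nat.exists_mul_mod_eq_one_of_coprime hN hp.one_lt
    exact ⟨m, by rw [Nat.ModEq, hm.2, Nat.mod_eq_of_lt hp.one_lt]⟩
  have h5 : QuotientGroup.mk' N ((x ^ Nat.card ↥N) ^ m) = QuotientGroup.mk' N x := by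
    rw [← pow_mul, map_pow]
    nth_rewrite 2 [← pow_one ((QuotientGroup.mk' N) x)]
    exact pow_eq_pow_iff_modEq.2 (by rw [hy]; exact hm)
  have h6 : orderOf ((x ^ Nat.card ↥N) ^ m) = p := by
    have : Fact p.Prime := ⟨hp⟩
    apply orderOf_eq_prime
    · rw [← pow_mul, mul_comm, pow_mul, h4, one_pow]
    · intro h7
      rw [h7, map_one] at h5
      rw [← h5, orderOf_one] at hy
      exact hp.one_lt.ne hy
  exact ⟨_, h6, h5⟩

/-- `C_H(x)` and `C_{H/N}(xN)` -/
theorem good_cent (hp : p.Prime) (N : Subgroup H) [N.Normal] (hN : (Nat.card ↥N).Coprime p) (hNc : N ≤ center H) {x : H}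
    (hx : orderOf x = p) (h : Good p ↥(centralizer ({x} : Set H))) :
    Good p ↥(centralizer ({(QuotientGroup.mk' N x)} : Set (H ⧸ N))) := by
  have : Fact p.Prime := ⟨hp⟩
  have h1 := LThree.Red.centralizer_mk hp N hN hx
  let π := QuotientGroup.mk' N
  let f0 : ↥(centralizer ({x} : Set H)) →* ↥((centralizer ({x} : Set H)).map π) := π.subgroupMap _
  let f : ↥(centralizer ({x} : Set H)) →* ↥(centralizer ({(QuotientGroup.mk' N x)} : Set (H ⧸ N))) :=
    (MulEquiv.subgroupCongr h1.symm).toMonoidHom.comp f0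
  have hf : Function.Surjective f := (MulEquiv.subgroupCongr h1.symm).surjective.comp (π.subgroupMap_surjective _)
  refine BpLin.good_of_central_ker h hf ?_
  intro y hy
  have hyN : (y : H) ∈ N := (QuotientGroup.eq_one_iff _).1 (congrArg Subtype.val hy)
  rw [mem_center_iff]
  intro g
  exact Subtype.ext (mem_center_iff.1 (hNc hyN) (g : H))

/-- all elements of order `p` of a central quotient -/
theorem good_all (hp : p.Prime) (N : Subgroup H) [N.Normal] (hN : (Nat.card ↥N).Coprime p) (hNc : N ≤ center H)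
    (h : ∀ x : H, orderOf x = p → Good p ↥(centralizer ({x} : Set H))) (y : H ⧸ N) (hy : orderOf y = p) :
    Good p ↥(centralizer ({y} : Set (H ⧸ N))) := by
  obtain ⟨x, hx, rfl⟩ := exists_lift hp N hN hy
  exact good_cent hp N hN hNc hx (h x hx)

end

/-- **`BpS` from the centralizers.** -/
theorem bps_of_inner {X : Type u} [Group X] {p : ℕ} (hc : center X = ⊥) (hi : CpAut.AutInner p X)
    (h : ∀ g : X, orderOf g = p → Good p ↥(centralizer ({g} : Set X))) : BpS p X := by
  intro x hx
  obtain ⟨g, rfl⟩ := hi x hx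
  rw [CpAut.orderOf_conj hc] at hx
  rw [CpAut.fixedSubgroup_conj]
  exact h g hx

end Cfsg.Agent.BpSpor.Transfer
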