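import Cfsg.Agent.PreUniqB.HNCase
import Cfsg.Agent.BpTab.Base
import Cfsg.Agent.BpSpor.Transfer
import Cfsg.Agent.CpAutBFive.Up
import Cfsg.Agent.CpAut.TwoInnerB
import Cfsg.Agent.MonsterN.LitFin
import Cfsg.Agent.CpAutBFive.Closed

-- merged: Cfsg.Agent.BpSpor.BFiveHN
section

/-!
# `Good p (C(x) ∩ C(t))`, `t` not conjugate to `z`, from the classes of involutions of `C(x) / ⟨x⟩` (helper30)

* `pairish_of_classes` : the image of `t` is `Pairish`;
* `good_of_pairish` : the centralizer of a `Pairish` involution is good;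
* `good_inf` : from `C_F(ψ t)` to `C(x) ∩ C(t)`;
* `good_of_classes`, `good_hn` : `C(x)/⟨x⟩ ≅ HN`.
-/

set_option autoImplicit false

namespace Cfsg.Agent.BpSpor.BFiveHN

open Cfsg Subgroup Cfsg.Agent.PreUniq Cfsg.Agent.PreUniqB Cfsg.Agent.LThreeMB Cfsg.Agent.MonsterU
open Cfsg.Agent.MonsterU.Ch Cfsg.Agent.BpTab
open Cfsg.Agent.MonsterU.Lam2 (L2)
open Cfsg.Spor (Co1)

universe u v w

section two

variable {F : Type v} [Group F] [Finite F] {τ : F} {N : Subgroup F} {S : Type w} [Group S] {φ : ↥N →* S}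

/-- `C_F(τ)` with a normal subgroup `2.S` of index at most 2. -/
theorem good_of_two {p : ℕ} (hp : p.Prime) (h : Two τ N φ) (hS : IsSimpleGroup S) :
    Good p ↥(centralizer ({τ} : Set F)) := by
  have : Fact p.Prime := ⟨hp⟩
  have : Fact (Nat.Prime 2) := ⟨Nat.prime_two⟩
  have hfS : Finite S := Finite.of_surjective φ h.surj
  have hN : N ≤ centralizer ({τ} : Set F) := fun n hn => mem_centralizer_singleton_iff.2 (h.comm n hn)
  have hNn : (N.subgroupOf (centralizer ({τ} : Set F))).Normal := ⟨fun n hn c =>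
    mem_subgroupOf.2 (h.norm c (mem_centralizer_singleton_iff.1 c.2) n (mem_subgroupOf.1 hn))⟩
  -- `N` is good
  have h1 : Good p ↥N := by
    refine (good_of_simple hS).of_surjective (f := φ) h.surj ?_
    refine le_trans ?_ (center_le_centralizer _)
    intro n hn
    rw [mem_center_iff]
    intro m
    rcases (h.ker n).1 hn with h2 | h2
    · have h3 : n = 1 := Subtype.ext h2
      rw [h3, one_mul, mul_one]
    · apply Subtype.ext
      show (m : F) * (n : F) = (n : F) * m
      rw [h2]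
      exact h.comm m m.2
  have h2 : Good p ↥(N.subgroupOf (centralizer ({τ} : Set F))) := h1.congr (subgroupOfEquivOfLe hN).symm
  refine Good.of_solvable_quotient h2 ?_
  have h3 : (N.subgroupOf (centralizer ({τ} : Set F))).index ∣ 2 :=
    relIndex_dvd_two fun c hc d hd hcN hdN =>
      h.two c d (mem_centralizer_singleton_iff.1 hc) (mem_centralizer_singleton_iff.1 hd) hcN hdN
  have h4 : IsPGroup 2 (↥(centralizer ({τ} : Set F)) ⧸ N.subgroupOf (centralizer ({τ} : Set F))) := by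
    rcases (Nat.dvd_prime Nat.prime_two).1 h3 with h5 | h5
    · exact IsPGroup.of_card (n := 0) h5
    · exact IsPGroup.of_card (n := 1) h5
  have := h4.isNilpotent
  infer_instance

theorem good_of_pairish {p : ℕ} (hp : p.Prime) (h : Pairish p τ) : Good p ↥(centralizer ({τ} : Set F)) := by
  obtain ⟨N, S, _, φ, hS, -, -, hT⟩ := h
  exact good_of_two hp hT hS

end two

/-- **From `C_F(ψ t)` to `C(x) ∩ C(t)`**, `ψ : C(x) → F` onto with kernel `⟨x⟩`. -/
theorem good_inf {G : Type u} [Group G] [Finite G] {p : ℕ} (hp : p.Prime) (hp2 : p ≠ 2) {x t : G} (hx : orderOf x = p)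
    (ht : orderOf t = 2) (hxt : x * t = t * x) {F : Type v} [Group F] [Finite F]
    (ψ : ↥(centralizer ({x} : Set G)) →* F) (hψ : Function.Surjective ψ)
    (hψk : ∀ c : ↥(centralizer ({x} : Set G)), ψ c = 1 ↔ (c : G) ∈ zpowers x)
    (h : Good p ↥(centralizer ({ψ ⟨t, mem_centralizer_singleton_iff.2 hxt.symm⟩} : Set F))) :
    Good p ↥(centralizer ({x} : Set G) ⊓ centralizer ({t} : Set G)) := by
  have : Fact p.Prime := ⟨hp⟩
  set t' : ↥(centralizer ({x} : Set G)) := ⟨t, mem_centralizer_singleton_iff.2 hxt.symm⟩ with ht'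
  set σ := ψ t' with hσ
  have htt : t * t = 1 := by rw [← pow_two, ← ht, pow_orderOf_eq_one]
  obtain ⟨m, hm⟩ : Odd p := hp.odd_of_ne_two hp2
  have htp : t ^ p = t := by rw [hm, pow_succ, pow_mul, pow_two, htt, one_pow, one_mul]
  have hxp : x ^ p = 1 := by rw [← hx, pow_orderOf_eq_one]
  -- elements commuting with `t` modulo `⟨x⟩`
  have hlift : ∀ c : ↥(centralizer ({x} : Set G)), ψ c * σ = σ * ψ c → (c : G) * t = t * c := by
    intro c hc
    have h1 : ψ (c * t' * c⁻¹ * t'⁻¹) = 1 := by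
      rw [map_mul, map_mul, map_mul, map_inv, map_inv, ← hσ, hc]
      group
    obtain ⟨i, hi⟩ := (hψk _).1 h1
    have hi' : x ^ i = (c : G) * t * (c : G)⁻¹ * t⁻¹ := hi
    have h2 : (c : G) * t * (c : G)⁻¹ = x ^ i * t := by rw [hi']; group
    have h3 : ((c : G) * t * (c : G)⁻¹) ^ p = x ^ i * t := by
      rw [conj_pow, htp, h2]
    have hc2 : Commute (x ^ i) t := (show Commute x t from hxt).zpow_left i
    have h4 : (x ^ i) ^ p = 1 := by rw [← zpow_natCast, ← zpow_mul, mul_comm, zpow_mul, zpow_natCast, hxp, one_zpow]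
    rw [h2, hc2.mul_pow, h4, one_mul, htp] at h3
    rw [← h3] at h2
    calc (c : G) * t = (c : G) * t * (c : G)⁻¹ * c := by group
      _ = t * c := by rw [h2]
  let i : ↥(centralizer ({x} : Set G) ⊓ centralizer ({t} : Set G)) →* ↥(centralizer ({x} : Set G)) :=
    inclusion inf_le_left
  have hi : ∀ d, i d * t' = t' * i d := fun d => Subtype.ext (mem_centralizer_singleton_iff.1 d.2.2)
  let f : ↥(centralizer ({x} : Set G) ⊓ centralizer ({t} : Set G)) →* ↥(centralizer ({σ} : Set F)) :=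
    (ψ.comp i).codRestrict _ fun d => mem_centralizer_singleton_iff.2 (by
      show ψ (i d) * ψ t' = ψ t' * ψ (i d)
      rw [← map_mul, hi, map_mul])
  have hf : Function.Surjective f := by
    rintro ⟨y, hy⟩
    obtain ⟨c, rfl⟩ := hψ y
    have h1 := hlift c (mem_centralizer_singleton_iff.1 hy)
    exact ⟨⟨c, c.2, mem_centralizer_singleton_iff.2 h1⟩, rfl⟩
  refine h.of_surjective hf (le_trans ?_ (center_le_centralizer _))
  intro d hd
  have h1 : ψ (i d) = 1 := congrArg Subtype.val (show f d = 1 from hd)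
  obtain ⟨j, hj⟩ := (hψk _).1 h1
  have hj' : x ^ j = (d : G) := hj
  rw [mem_center_iff]
  intro c
  apply Subtype.ext
  show (c : G) * (d : G) = (d : G) * c
  rw [← hj']
  have h2 : Commute (c : G) x := mem_centralizer_singleton_iff.1 c.2.1
  exact h2.zpow_right j

variable {p : ℕ} {G : Type u} [Group G] {Q : Subgroup G} {z : G} {eta : G → L2}
  {pi : Subgroup.centralizer ({z} : Set G) →* Co1}

/-- **`Good` from the two kinds of involutions.** -/
theorem good_of_classes [Finite G] (h : Chart Q z eta pi) (hp : p.Prime) (hp2 : p ≠ 2)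
    {x : Subgroup.centralizer ({z} : Set G)} (hx : orderOf x = p) (hfr : ¬ fr (pi x) ∣ 2)
    (hfr2 : ∃ k, fr (pi x) = 2 ^ k) {F : Type v} [Group F] (e : XX (x : G) ≃* F) {w0 : F}
    (hcl : ∀ τ : F, orderOf τ = 2 → Pairish p τ ∨ IsConj τ w0) {t : G} (ht : orderOf t = 2)
    (hxt : (x : G) * t = t * x) (hnt : ∀ d : G, d * t * d⁻¹ ≠ z) :
    Good p ↥(centralizer ({(x : G)} : Set G) ⊓ centralizer ({t} : Set G)) := by
  have hF : Finite F := Finite.of_equiv _ e.toEquiv
  have ho : Odd p := hp.odd_of_ne_two hp2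
  have hxo : orderOf (x : G) = p := by rw [Subgroup.orderOf_coe, hx]
  have hxp : (x : G) ^ p = 1 := by rw [← hxo, pow_orderOf_eq_one]
  have htt : t * t = 1 := by rw [← pow_two, ← ht, pow_orderOf_eq_one]
  have ht1 : t ≠ 1 := by
    intro h1
    rw [h1, orderOf_one] at ht
    exact absurd ht (by norm_num)
  obtain ⟨m, hm⟩ := ho
  -- an involution commuting with `x` is not in `⟨x⟩`
  have hinv : ∀ s : G, s * s = 1 → s ≠ 1 → ∀ hs : s * (x : G) = x * s, orderOf (mk (x : G) hs) = 2 := by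
    intro s hss hs1 hs
    have : Fact (Nat.Prime 2) := ⟨Nat.prime_two⟩
    apply orderOf_eq_prime
    · rw [pow_two, mk_mul hs hs (by rw [hss, one_mul, mul_one])]
      rw [mk_congr _ (by rw [one_mul, mul_one]) hss]
      rfl
    · intro h1
      obtain ⟨i, hi⟩ := (mk_eq_one hs).1 h1
      apply hs1
      have h2 : s ^ p = 1 := by rw [← hi, ← zpow_natCast, ← zpow_mul, mul_comm, zpow_mul, zpow_natCast, hxp, one_zpow]
      rwa [hm, pow_succ, pow_mul, pow_two, hss, one_pow, one_mul] at h2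
  rcases hcl (e (mk (x : G) hxt.symm)) (by rw [MulEquiv.orderOf_eq]; exact hinv t htt ht1 hxt.symm) with h1 | h1
  · refine good_inf hp hp2 hxo ht hxt (e.toMonoidHom.comp (QuotientGroup.mk' (Zx (x : G))))
      (e.surjective.comp (QuotientGroup.mk'_surjective _)) (fun c => ?_) (good_of_pairish hp h1)
    show e (QuotientGroup.mk c) = 1 ↔ _
    rw [e.map_eq_one_iff]
    exact mk_eq_one (x := (x : G)) (g := (c : G)) (mem_centralizer_singleton_iff.1 c.2)
  · exfalso
    have hzz : z * z = 1 := h.large.z_sq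
    have hzx : z * (x : G) = x * z := (mem_centralizer_singleton_iff.1 x.2).symm
    rcases hcl (e (tt x)) (by rw [MulEquiv.orderOf_eq]; exact hinv z hzz h.large.z_ne hzx) with h2 | h2
    · exact not_pairish h hp hp2 hx hfr hfr2 e h2
    · obtain ⟨c, hc⟩ := isConj_iff.1 (h1.trans h2.symm)
      obtain ⟨c, rfl⟩ := e.surjective c
      rw [← map_mul, ← map_inv, ← map_mul] at hc
      obtain ⟨g, hg, rfl⟩ := exists_mk c
      have hc2 := e.injective hc
      have h3 : mk (x : G) (conj_comm hg hxt.symm) = mk (x : G) hzx := hc2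
      obtain ⟨i, hi⟩ := (mk_eq_mk _ _).1 h3
      -- `g t g⁻¹ x^i = z`
      apply hnt g
      have hcx : Commute (g * t * g⁻¹) ((x : G) ^ i) :=
        (show Commute (g * t * g⁻¹) (x : G) from conj_comm hg hxt.symm).zpow_right i
      have h4 : (g * t * g⁻¹ * (x : G) ^ i) ^ p = z ^ p := by rw [hi]
      have hpow : ∀ s : G, s * s = 1 → s ^ p = s := fun s hs => by
        rw [hm, pow_succ, pow_mul, pow_two, hs, one_pow, one_mul]
      have h5 : (g * t * g⁻¹) * (g * t * g⁻¹) = 1 := by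
        calc (g * t * g⁻¹) * (g * t * g⁻¹) = g * (t * t) * g⁻¹ := by group
          _ = 1 := by rw [htt]; group
      rw [hcx.mul_pow, hpow _ h5, hpow _ hzz, ← zpow_natCast ((x : G) ^ i), ← zpow_mul, mul_comm i, zpow_mul, zpow_natCast,
        hxp, one_zpow, mul_one] at h4
      exact h4

/-- **`C(x)/⟨x⟩ ≅ HN`.** -/
theorem good_hn' [Finite G] (h : Chart Q z eta pi) {x : Subgroup.centralizer ({z} : Set G)} (hx : orderOf x = 5)
    (hfr : ¬ fr (pi x) ∣ 2) (hfr2 : ∃ k, fr (pi x) = 2 ^ k) (hHN : Spor.IsoHN (XX (x : G))) {t : G}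
    (ht : orderOf t = 2) (hxt : (x : G) * t = t * x) (hnt : ∀ d : G, d * t * d⁻¹ ≠ z) :
    Good 5 ↥(centralizer ({(x : G)} : Set G) ⊓ centralizer ({t} : Set G)) := by
  obtain ⟨e⟩ := hHN
  exact good_of_classes h Nat.prime_five (by norm_num) hx hfr hfr2 e classes_hn ht hxt hnt

theorem good_hn [Finite G] (h : Chart Q z eta pi) {x : Subgroup.centralizer ({z} : Set G)} (hx : orderOf x = 5)
    (hfr : fr (pi x) = 2 ^ 8) (hHN : Spor.IsoHN (XX (x : G))) {t : G}
    (ht : orderOf t = 2) (hxt : (x : G) * t = t * x) (hnt : ∀ d : G, d * t * d⁻¹ ≠ z) :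
    Good 5 ↥(centralizer ({(x : G)} : Set G) ⊓ centralizer ({t} : Set G)) :=
  good_hn' h hx (by rw [hfr]; norm_num) ⟨8, hfr⟩ hHN ht hxt hnt

end Cfsg.Agent.BpSpor.BFiveHN

end

-- merged: Cfsg.Agent.BpSpor.BCover
section

/-!
# `BpS p` for the Baby Monster from the Monster (helper30)

`t` : the involution of the base axis of the concrete model of the Monster; `bps_of` : `BpS p B` for an odd prime `p` from
`Good p (C(x) ∩ C(v))` for all `x` of order `p` of the Monster and all `v` conjugate to `t` commuting with `x`.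
-/

set_option autoImplicit false
set_option maxRecDepth 100000

namespace Cfsg.Agent.BpSpor.BCover

open Cfsg Cfsg.Agent.BpTab
open Cfsg.Agent.MonsterX Cfsg.Agent.MonsterX.Model Cfsg.Agent.MonsterX.MainPack
open Cfsg.Agent.MonsterX.MainBasic Cfsg.Agent.MonsterP Cfsg.Agent.MonsterN Cfsg.Agent.MonsterU
open Subgroup (centralizer mem_centralizer_singleton_iff center)

/-- the involution of the base axis -/
noncomputable abbrev t : ↥InstData.M.G := tG LitFin.all.hG LitFin.all.hR

/-- `C_{C(t)}(x) = C(x) ∩ C(t)` -/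
noncomputable def centEquiv {G : Type*} [Group G] {t : G} (x : ↥(centralizer ({t} : Set G))) :
    ↥(centralizer ({x} : Set ↥(centralizer ({t} : Set G)))) ≃*
      ↥(centralizer ({(x : G)} : Set G) ⊓ centralizer ({t} : Set G)) :=
  (CpAutBFive.infEquiv (x := t) (t := (x : G)) (mem_centralizer_singleton_iff.1 x.2)).trans
    (MulEquiv.subgroupCongr (inf_comm _ _))

/-- from `C(t)` to `C(t) / Z` -/
theorem good_quot {G : Type*} [Group G] [Finite G] {p : ℕ} (hp : p.Prime) (hp2 : p ≠ 2) {t : G} {X : Type*} [Group X]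
    [Finite X] (h2 : Nat.card ↥(center ↥(centralizer ({t} : Set G))) = 2)
    (e : ↥(centralizer ({t} : Set G)) ⧸ center ↥(centralizer ({t} : Set G)) ≃* X)
    (h : ∀ x : G, orderOf x = p → x * t = t * x →
      Good p ↥(centralizer ({x} : Set G) ⊓ centralizer ({t} : Set G))) {y : X} (hy : orderOf y = p) :
    Good p ↥(centralizer ({y} : Set X)) := by
  have : Fact p.Prime := ⟨hp⟩
  obtain ⟨y, rfl⟩ := e.surjective y
  rw [MulEquiv.orderOf_eq] at hy
  have h1 : ∀ x : ↥(centralizer ({t} : Set G)), orderOf x = p →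
      Good p ↥(centralizer ({x} : Set ↥(centralizer ({t} : Set G)))) := by
    intro x hx
    rw [← Subgroup.orderOf_coe] at hx
    exact (h x hx (mem_centralizer_singleton_iff.1 x.2)).congr (centEquiv x).symm
  have h3 := Transfer.good_all hp (center ↥(centralizer ({t} : Set G)))
    (by rw [h2]; exact (Nat.coprime_primes Nat.prime_two hp).2 hp2.symm) le_rfl h1 y hy
  exact h3.congr (CpAutBFive.centEquiv e y)

/-- **`BpS p` for the Baby Monster.** -/
theorem bps_of {p : ℕ} (hp : p.Prime) (hp2 : p ≠ 2)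
    (h : ∀ x v : ↥InstData.M.G, orderOf x = p → IsConj t v → x * v = v * x →
      Good p ↥(centralizer ({x} : Set ↥InstData.M.G) ⊓ centralizer ({v} : Set ↥InstData.M.G))) :
    BpS p Spor.BabyMonster := by
  have hfin : Finite ↥InstData.M.G := G_finite LitFin.all.hO
  have h0 : IsB Spor.BabyMonster := S1704.result
  have hf : Finite Spor.BabyMonster := Nat.finite_of_card_ne_zero (by rw [h0.2]; norm_num)
  obtain ⟨⟨h1, -, ⟨e⟩⟩, -⟩ := ModelB.fieldsKS LitFin.all KDone.lnk KDone.lft (NodesGrp.prel LitFin.H)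
    (NodesNe.ne LitFin.H) LitFin.conj_ten Cfsg.Agent.S1704.result KDone.lnk.x₀_mem
  obtain ⟨g, hg⟩ := ModelB.exists_conj_t LitFin.all.hG LitFin.all.hR KDone.lnk KDone.lft KDone.lnk.x₀_mem
  refine Transfer.bps_of_inner (CpAut.TwoInner.center_eq_bot_of_card h0.1 (by rw [h0.2]; norm_num))
    (fun α _ => CpAut.TwoInner.inner_b α) fun y hy => ?_
  exact good_quot hp hp2 h1 e (fun x hx hc => h x _ hx (isConj_iff.2 ⟨g, hg⟩) hc) hy

end Cfsg.Agent.BpSpor.BCover

end

-- merged: Cfsg.Agent.BpSpor.BFiveAsm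
section

/-!
# S1332: the Baby Monster, `p = 5`: assembly (helper30)

* `good_conj`, `good_of_mem`, `good_in` : `Good 5 (C(x) ∩ C(t))` for `x` of order 5 commuting with a conjugate of `z` and an
  involution `t` not conjugate to `z`, from the case of fixed rank 0 (`Zero`);
* `bps_of_zero` : `BpS 5 B` from `HJ` and the case of fixed rank 0.
-/

set_option autoImplicit false
set_option maxRecDepth 100000

namespace Cfsg.Agent.BpSpor.BFiveAsm

open Cfsg Cfsg.Agent.BpTab Cfsg.Agent.CpAutBFive Cfsg.Agent.MFive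
open Cfsg.Agent.LThreeMB (fr Zx XX KChart.Cent KChart.pi KChart.chart)
open Cfsg.Agent.MonsterU Cfsg.Agent.MonsterU.Ch
open Cfsg.Agent.MonsterU.Lam2 (L2)
open Cfsg.Spor (Co1)
open Subgroup (centralizer zpowers mem_centralizer_singleton_iff center)

universe u

theorem good_conj {p : ℕ} [Fact p.Prime] {G : Type u} [Group G] [Finite G] {g x t x' t' : G} (hx : g * x * g⁻¹ = x')
    (ht : g * t * g⁻¹ = t') (h : Good p ↥(XT x t)) : Good p ↥(XT x' t') := by
  subst hx
  subst ht
  exact h.congr (conjXT g x t)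

variable {G : Type u} [Group G] {Q : Subgroup G} {z : G} {eta : G → L2}
  {pi : Subgroup.centralizer ({z} : Set G) →* Co1}

/-- The case of fixed rank 0. -/
def Zero {G : Type u} [Group G] (z : G) (pi : Subgroup.centralizer ({z} : Set G) →* Co1) : Prop :=
  ∀ (x : Subgroup.centralizer ({z} : Set G)) (t : G), orderOf x = 5 → fr (pi x) = 1 → orderOf t = 2 →
    (x : G) * t = t * x → (∀ d : G, d * t * d⁻¹ ≠ z) → Good 5 ↥(XT (x : G) t)

/-- **`C(x) ∩ C(t)`**, `x` in `C(z)`. -/
theorem good_of_mem [Finite G] (h : Chart Q z eta pi) (htr : TrNe 5 z pi) (I : CoFive) (h8 : HNEight z pi)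
    (hpr : HasPair 5 z pi) (h0 : Zero z pi) {x : Subgroup.centralizer ({z} : Set G)} (hx : orderOf x = 5) {t : G}
    (ht : orderOf t = 2) (hnt : ∀ d : G, d * t * d⁻¹ ≠ z) (hxt : (x : G) * t = t * x) : Good 5 ↥(XT (x : G) t) := by
  have hp : Nat.Prime 5 := Nat.prime_five
  have : Fact (Nat.Prime 5) := ⟨hp⟩
  have ho : Odd 5 := by decide
  by_cases hfr1 : fr (pi x) = 1
  · exact h0 x t hx hfr1 ht hxt hnt
  rcases cases_five h htr I h8 hpr hx with h1 | ⟨x₀, k, i, hx₀, hfr, hk⟩
  · have h2 : fr (pi x) = 2 ^ 4 ∨ fr (pi x) = 2 ^ 8 := (I.ranks (pi x) (orderOf_pi h hp ho hx)).resolve_left hfr1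
    rcases h2 with h2 | h2
    · exact BFiveHN.good_hn' h hx (by rw [h2]; norm_num) ⟨4, h2⟩ h1 ht hxt hnt
    · exact BFiveHN.good_hn' h hx (by rw [h2]; norm_num) ⟨8, h2⟩ h1 ht hxt hnt
  · have hx₀' : orderOf (x₀ : G) = 5 := by rw [Subgroup.orderOf_coe, hx₀]
    have hoi : orderOf ((x₀ : G) ^ i) = 5 := by
      rw [← hk, ← hx, ← Subgroup.orderOf_coe]
      exact MulEquiv.orderOf_eq (MulAut.conj k) (x : G)
    have hcen := centralizer_pow hp hx₀' hoi
    -- the conjugate of `t`
    have hc : (k * t * k⁻¹) * (x₀ : G) ^ i = (x₀ : G) ^ i * (k * t * k⁻¹) := by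
      rw [← hk]
      exact conj_comm' hxt.symm
    have hc' : (k * t * k⁻¹) * (x₀ : G) = (x₀ : G) * (k * t * k⁻¹) := by
      have h4 : k * t * k⁻¹ ∈ centralizer ({(x₀ : G)} : Set G) := by
        rw [← hcen]
        exact mem_centralizer_singleton_iff.2 hc
      exact mem_centralizer_singleton_iff.1 h4
    have ht' : orderOf (k * t * k⁻¹) = 2 := by
      rw [← ht]
      exact MulEquiv.orderOf_eq (MulAut.conj k) t
    have h4 : Good 5 ↥(XT (x₀ : G) (k * t * k⁻¹)) := h0 x₀ _ hx₀ hfr ht' hc'.symm (by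
      intro d hd
      refine hnt (d * k) ?_
      rw [← hd]
      group)
    have h5 : XT (x₀ : G) (k * t * k⁻¹) = XT ((x₀ : G) ^ i) (k * t * k⁻¹) := by
      unfold XT
      rw [hcen]
    refine good_conj (g := k⁻¹) (x := (x₀ : G) ^ i) (t := k * t * k⁻¹) ?_ ?_ (h4.congr (MulEquiv.subgroupCongr h5))
    · rw [← hk]; group
    · group

/-- **`C(x) ∩ C(t)`**, for `x` commuting with a conjugate of `z`. -/
theorem good_in [Finite G] (h : Chart Q z eta pi) (htr : TrNe 5 z pi) (I : CoFive) (h8 : HNEight z pi)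
    (hpr : HasPair 5 z pi) (h0 : Zero z pi) {x t : G} (hx : orderOf x = 5) (ht : orderOf t = 2)
    (hnt : ∀ d : G, d * t * d⁻¹ ≠ z) (hxt : x * t = t * x)
    (hex : ∃ g : G, (g * z * g⁻¹) * x = x * (g * z * g⁻¹)) : Good 5 ↥(XT x t) := by
  have : Fact (Nat.Prime 5) := ⟨Nat.prime_five⟩
  obtain ⟨g, hg⟩ := hex
  have h1 : (g⁻¹ * x * g) * z = z * (g⁻¹ * x * g) := by
    calc (g⁻¹ * x * g) * z = g⁻¹ * (x * (g * z * g⁻¹)) * g := by group
      _ = g⁻¹ * ((g * z * g⁻¹) * x) * g := by rw [hg]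
      _ = z * (g⁻¹ * x * g) := by group
  let x' : centralizer ({z} : Set G) := ⟨g⁻¹ * x * g, mem_centralizer_singleton_iff.2 h1⟩
  have h3 : g * (x' : G) * g⁻¹ = x := by
    show g * (g⁻¹ * x * g) * g⁻¹ = x
    group
  have hx' : orderOf x' = 5 := by
    rw [← Subgroup.orderOf_coe, ← hx, ← h3]
    exact (orderOf_injective (MulAut.conj g).toMonoidHom (MulAut.conj g).injective (x' : G)).symm
  have h4 : (x' : G) * (g⁻¹ * t * g) = (g⁻¹ * t * g) * x' := by
    have h5 := conj_comm' (g := g⁻¹) hxt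
    rw [inv_inv] at h5
    exact h5
  have h5 : orderOf (g⁻¹ * t * g) = 2 := by
    rw [← ht]
    have h6 := MulEquiv.orderOf_eq (MulAut.conj g⁻¹) t
    rw [MulAut.conj_apply, inv_inv] at h6
    exact h6
  refine good_conj h3 (by group) (good_of_mem h htr I h8 hpr h0 hx' h5 ?_ h4)
  intro d hd
  refine hnt (d * g⁻¹) ?_
  rw [← hd]
  group

/-- **`BpS 5` for the Baby Monster**, from `XX s ≅ J2` and the case of fixed rank 0. -/
theorem bps_of_zero (hJ : Closed.HJ) (h0 : Zero MonsterX.KDone.K.z (KChart.pi MFive.Row.hc)) :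
    BpS 5 Spor.BabyMonster := by
  have := MFive.Row.finite_model
  refine BCover.bps_of Nat.prime_five (by norm_num) fun x v hx hv hxv => ?_
  rcases EvenRow.cases_solvable hx with h | h
  · exact good_in (KChart.chart MonsterX.KDone.lft MFive.Row.hc)
      (KPair.trNe_five MonsterX.KDone.lft LThreeMBTr.tens MFive.Row.hc) (Closed.coFive hJ) Closed.hnEight
      (KPair.hasPair Nat.prime_five (by decide) MonsterX.KDone.lft LThreeMBTr.tens MFive.Row.hc MFive.Row.two
        Oct.octPair) h0 hx (RowB.orderOf_t hv) (RowB.not_conj hv) hxv h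
  · exact good_of_solvable (Group.isSolvable_of_isSolvable_injective (f := Subgroup.inclusion inf_le_left)
      (Subgroup.inclusion_injective _))

end Cfsg.Agent.BpSpor.BFiveAsm

end
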