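import Cfsg.Agent.CpAutBig.Tab
import Cfsg.Agent.CpAutBig.CoZero
import Cfsg.Agent.LThreeBX.NoSeven
import Cfsg.Agent.CpAutBig.Small

-- merged: Cfsg.Agent.BpSpor.MBigPerm
section

/-!
# The centraliser in `Co0` of a permutation of cycle type `1^2 11^2` (helper12)

Clone of helper13's `CpAutBig/SevenPerm.lean`: `pi11 : i ↦ 2 i` on the projective line over `F_23`.

* `card_le` : an element of `Co0` acting as `pi11` on the coordinates has a centraliser of order at most
  `4 * 22 * 3 = 264`;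
* `card_stab` : at most `4 * 22 = 88` elements of the centraliser fix the standard frame.
-/

set_option autoImplicit false
open scoped Pointwise

namespace Cfsg.Agent.BpSpor.MBigPerm

open Cfsg Cfsg.Agent.SporadicA.GolayBase Cfsg.Agent.SporadicStructure.TabPerm
open Cfsg.Agent.CpAutBig.FixCount Cfsg.Agent.CpAutBig.Tab
open Cfsg.Agent.MonsterX.FrameStab (IsPerm)

def F11 : List ℕ := [0, 2, 4, 6, 8, 10, 12, 14, 16, 18, 20, 22, 1, 3, 5, 7, 9, 11, 13, 15, 17, 19, 21, 23]
def G11 : List ℕ := [0, 12, 1, 13, 2, 14, 3, 15, 4, 16, 5, 17, 6, 18, 7, 19, 8, 20, 9, 21, 10, 22, 11, 23]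
def CY11 : List ℕ := [0, 1, 1, 1, 1, 2, 1, 2, 1, 1, 2, 2, 1, 1, 2, 2, 1, 2, 1, 2, 2, 2, 2, 3]
def REP11 : List ℕ := [0, 1, 5, 23]
def W11 : List ℕ := [0, 340831, 16436384, 16777215]
/-- The fixed vectors of norm 32 and 48, up to sign. -/
def A11 : List ℕ := [18564, 51332, 30613, 39317, 46967, 22903, 30579, 39283, 34918, 14199, 55671, 26248]

theorem chk11 : chk F11 G11 = true := by decide +kernel

/-- The permutation of cycle type `1^2 11^2`. -/
def pi11 : Equiv.Perm GolayPt := tabPerm F11 G11 chk11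

theorem pi11_mem : pi11 ∈ M24 := tabPerm_mem_M24 _ _ _ (by decide +kernel)

theorem idx_pi11 (p : GolayPt) : idx (pi11 p) = F11.getD (idx p) 0 := idx_tab chk11 p

theorem pi11_fix {i : ℕ} (hi : i = 0 ∨ i = 23) : pi11 (pt i) = pt i := by
  apply idx_injective
  rw [idx_pi11]
  rcases hi with rfl | rfl <;> rw [idx_pt (by norm_num)] <;> decide

theorem fix_iff (p : GolayPt) : pi11 p = p ↔ idx p = 0 ∨ idx p = 23 := by
  have h : ∀ i < 24, (F11.getD i 0 = i ↔ i = 0 ∨ i = 23) := by decide +kernel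
  rw [← idx_injective.eq_iff, idx_pi11]
  exact h _ (idx_lt p)

theorem pi11_pow : pi11 ^ 11 = 1 := by
  ext1 p
  apply idx_injective
  have h : ∀ i < 24, (fun j => F11.getD j 0)^[11] i = i := by decide +kernel
  rw [show idx ((pi11 ^ 11 : Equiv.Perm GolayPt) p) = (fun j => F11.getD j 0)^[11] (idx p) from idx_iter chk11 11 p,
    h _ (idx_lt p)]
  rfl

theorem pi11_ne_one : pi11 ≠ 1 := by
  intro h
  have h1 := (fix_iff (pt 2)).1 (by rw [h]; rfl)
  rw [idx_pt (by norm_num)] at h1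
  omega

/-! ### Invariant words -/

theorem W11_check : allR 12 0 (fun i => !(invm F11 (enc i)) || W11.contains (enc i)) = true := by
  decide +kernel

theorem card_words11 : Nat.card {c : Finset GolayPt // c ∈ supports (golayCode : Set (GolayPt → ZMod 2)) ∧
      ∀ p, pi11 p ∈ c ↔ p ∈ c} ≤ 4 := card_words chk11 W11_check

/-- The image of an invariant word under an element of `M24` commuting with the permutation. -/
theorem smul_inv' {F G : List ℕ} (hFG : chk F G = true) {W : List ℕ}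
    (hW : allR 12 0 (fun i => !(invm F (enc i)) || W.contains (enc i)) = true)
    {σ : Equiv.Perm GolayPt} (hσ : σ ∈ M24) (hc : σ * tabPerm F G hFG = tabPerm F G hFG * σ) {o : ℕ}
    (ho : isCode o = true) (hoi : invm F o = true) :
    ∃ o' ∈ W, σ • fin o = fin o' ∧ popcount o' = popcount o := by
  have h1 : fin o ∈ supports (golayCode : Set (GolayPt → ZMod 2)) := (fin_mem_supports_iff (isCode_lt ho)).2 ho
  have h2 : σ • fin o ∈ supports (golayCode : Set (GolayPt → ZMod 2)) := by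
    have h : σ • supports (golayCode : Set (GolayPt → ZMod 2)) =
      supports (golayCode : Set (GolayPt → ZMod 2)) := hσ
    rw [← h]
    exact Set.smul_mem_smul_set h1
  have hinv : ∀ p, tabPerm F G hFG p ∈ fin o ↔ p ∈ fin o := by
    intro p
    rw [mem_fin, mem_fin, idx_tab]
    unfold invm at hoi
    rw [List.all_eq_true] at hoi
    have h3 := hoi (idx p) (List.mem_range.2 (idx_lt p))
    rw [beq_iff_eq] at h3
    rw [h3]
  have h3 : ∀ p, tabPerm F G hFG p ∈ σ • fin o ↔ p ∈ σ • fin o := by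
    intro p
    have hc' : ∀ q, σ (tabPerm F G hFG q) = tabPerm F G hFG (σ q) := fun q => DFunLike.congr_fun hc q
    obtain ⟨q, rfl⟩ := σ.surjective p
    rw [← hc']
    have h4 : ∀ r, σ r ∈ σ • fin o ↔ r ∈ fin o := fun r => Finset.smul_mem_smul_finset_iff σ
    rw [h4, h4, hinv]
  refine ⟨maskOf (σ • fin o), mem_words hFG hW h2 h3, (fin_maskOf _).symm, ?_⟩
  rw [← card_eq_popcount, Finset.card_smul_finset, card_fin]

/-! ### The centraliser in `M24` -/

/-- the invariant dodecad through a fixed point -/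
def O11 (x : ℕ) : ℕ := if x = 0 then 340831 else 16436384

theorem O11_check : ∀ x < 24, (x = 0 ∨ x = 23) → isCode (O11 x) = true ∧ popcount (O11 x) = 12 ∧
    invm F11 (O11 x) = true ∧ (O11 x).testBit x = true ∧ ∀ w ∈ W11, popcount w = 12 → w.testBit x = true → w = O11 x := by
  decide +kernel

theorem smul_O11 {σ : Equiv.Perm GolayPt} (hσ : σ ∈ M24) (hc : σ * pi11 = pi11 * σ) {p : GolayPt} (hp : pi11 p = p) :
    σ • fin (O11 (idx p)) = fin (O11 (idx (σ p))) := by
  have h1 := O11_check _ (idx_lt p) ((fix_iff p).1 hp)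
  have hp' : pi11 (σ p) = σ p := by
    have : σ (pi11 p) = pi11 (σ p) := DFunLike.congr_fun hc p
    rw [← this, hp]
  have h2 := O11_check _ (idx_lt (σ p)) ((fix_iff (σ p)).1 hp')
  obtain ⟨o, ho, h3, h4⟩ := smul_inv' chk11 W11_check hσ hc h1.1 h1.2.2.1
  rw [h1.2.1] at h4
  have h5 : σ p ∈ fin o := by
    rw [← h3]
    apply Finset.smul_mem_smul_finset
    rw [mem_fin]
    exact h1.2.2.2.1
  rw [mem_fin] at h5
  rw [h3, h2.2.2.2.2 o ho h4 h5]

/-- the possible images of the points 0, 1 -/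
def cand11 : List (ℕ × ℕ) :=
  [0, 23].flatMap fun x => ((List.range 24).filter fun z => (O11 x).testBit z && !(Nat.beq x z)).map fun z => (x, z)

theorem length_cand11 : cand11.length = 22 := by decide +kernel

theorem mem_cand11 {x z : ℕ} (hx : x = 0 ∨ x = 23)
    (hz : z < 24) (hzx : x ≠ z) (ho : (O11 x).testBit z = true) : (x, z) ∈ cand11 := by
  have hb : ∀ a b : ℕ, a ≠ b → (!(Nat.beq a b)) = true := by
    intro a b h
    have h2 : Nat.beq a b = false := by
      rw [← Bool.not_eq_true]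
      intro h3
      exact h (Nat.eq_of_beq_eq_true h3)
    rw [h2]; rfl
  unfold cand11
  rw [List.mem_flatMap]
  refine ⟨x, by simp only [List.mem_cons, List.not_mem_nil, or_false]; exact hx, ?_⟩
  rw [List.mem_map]
  refine ⟨z, List.mem_filter.2 ⟨List.mem_range.2 hz, ?_⟩, rfl⟩
  rw [Bool.and_eq_true]
  exact ⟨ho, hb _ _ hzx⟩

theorem idx_ne {σ : Equiv.Perm GolayPt} {i j : ℕ} (hi : i < 24) (hj : j < 24) (h : i ≠ j) :
    idx (σ (pt i)) ≠ idx (σ (pt j)) := by
  intro h2
  have h3 := σ.injective (idx_injective h2)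
  have h4 := congrArg idx h3
  rw [idx_pt hi, idx_pt hj] at h4
  exact h h4

theorem fix_image {σ : Equiv.Perm GolayPt} (hc : σ * pi11 = pi11 * σ) {i : ℕ} (hi : i = 0 ∨ i = 23) :
    idx (σ (pt i)) = 0 ∨ idx (σ (pt i)) = 23 := by
  apply (fix_iff _).1
  have hc' : ∀ p, σ (pi11 p) = pi11 (σ p) := fun p => DFunLike.congr_fun hc p
  rw [← hc', pi11_fix hi]

theorem pair_mem {σ : Equiv.Perm GolayPt} (hσ : σ ∈ M24) (hc : σ * pi11 = pi11 * σ) :
    (idx (σ (pt 0)), idx (σ (pt 1))) ∈ cand11 := by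
  apply mem_cand11 (fix_image hc (Or.inl rfl)) (idx_lt _) (idx_ne (by norm_num) (by norm_num) (by norm_num))
  rw [← mem_fin, ← smul_O11 hσ hc (pi11_fix (Or.inl rfl))]
  apply Finset.smul_mem_smul_finset
  rw [mem_fin, idx_pt (by norm_num), idx_pt (by norm_num)]
  decide +kernel

/-- Octads separating the points. -/
def sep11 : List ℕ := [5279, 31554, 361272, 1454401, 10698836, 8978620]

/-- The mask of the two fixed points and one cycle. -/
def nine11 : ℕ := 8729439

theorem sep11_check : ∀ m ∈ sep11, isCode m = true ∧ popcount m = 8 ∧ 5 ≤ popcount (m &&& nine11) := by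
  decide +kernel

theorem sep11_separates : ∀ i < 24, ∀ j < 24, (∀ m ∈ sep11, m.testBit i = m.testBit j) → i = j := by
  decide +kernel

theorem nine11_check : ∀ i < 24, nine11.testBit i = true →
    i = 0 ∨ i = 23 ∨ ∃ e < 11, (fun j => F11.getD j 0)^[e] 1 = i := by
  decide +kernel

theorem pair_inj {σ σ' : Equiv.Perm GolayPt} (hσ : σ ∈ M24) (hc : σ * pi11 = pi11 * σ)
    (hσ' : σ' ∈ M24) (hc' : σ' * pi11 = pi11 * σ')
    (h0 : σ (pt 0) = σ' (pt 0)) (h1 : σ (pt 1) = σ' (pt 1)) : σ = σ' := by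
  have h23 : σ (pt 23) = σ' (pt 23) := by
    apply idx_injective
    have a1 := fix_image hc (Or.inr rfl)
    have a2 := fix_image hc' (Or.inr rfl)
    have a3 := fix_image hc (Or.inl rfl)
    have b1 : idx (σ (pt 0)) ≠ idx (σ (pt 23)) := idx_ne (by norm_num) (by norm_num) (by norm_num)
    have b2 : idx (σ' (pt 0)) ≠ idx (σ' (pt 23)) := idx_ne (by norm_num) (by norm_num) (by norm_num)
    rw [← h0] at b2
    omega
  have h2 : σ'⁻¹ * σ = 1 := by
    apply eq_one_of_fix sep11_check sep11_separates (M24.mul_mem (M24.inv_mem hσ') hσ)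
    intro p hp
    have h3 : σ p = σ' p := by
      rw [mem_fin] at hp
      rcases nine11_check _ (idx_lt p) hp with h | h | ⟨e, -, h⟩
      · rw [← pt_idx p, h, h0]
      · rw [← pt_idx p, h, h23]
      · have h4 : (pi11 ^ e : Equiv.Perm GolayPt) (pt 1) = p := by
          apply idx_injective
          rw [show idx ((pi11 ^ e : Equiv.Perm GolayPt) (pt 1)) = (fun j => F11.getD j 0)^[e] (idx (pt 1)) from
            idx_iter chk11 e _, idx_pt (by norm_num), h]
        have k1 : σ ((pi11 ^ e : Equiv.Perm GolayPt) (pt 1)) = (pi11 ^ e : Equiv.Perm GolayPt) (σ (pt 1)) :=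
          iter_comm chk11 hc e _
        have k2 : σ' ((pi11 ^ e : Equiv.Perm GolayPt) (pt 1)) = (pi11 ^ e : Equiv.Perm GolayPt) (σ' (pt 1)) :=
          iter_comm chk11 hc' e _
        rw [← h4, k1, k2, h1]
    change σ'⁻¹ (σ p) = p
    rw [h3]
    exact σ'.symm_apply_apply p
  exact (inv_mul_eq_one.1 h2).symm

/-- The elements of `M24` commuting with `pi11`. -/
theorem card_perm11 : Nat.card {σ : Equiv.Perm GolayPt // σ ∈ M24 ∧ σ * pi11 = pi11 * σ} ≤ 22 := by
  classical
  let f : {σ : Equiv.Perm GolayPt // σ ∈ M24 ∧ σ * pi11 = pi11 * σ} → cand11.toFinset := fun σ =>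
    ⟨(idx (σ.1 (pt 0)), idx (σ.1 (pt 1))),
      List.mem_toFinset.2 (pair_mem σ.2.1 σ.2.2)⟩
  have hf : Function.Injective f := by
    intro σ σ' h
    have h1 := congrArg Subtype.val h
    simp only [f, Prod.mk.injEq] at h1
    exact Subtype.ext (pair_inj σ.2.1 σ.2.2 σ'.2.1 σ'.2.2 (idx_injective h1.1)
      (idx_injective h1.2))
  have h2 := Nat.card_le_card_of_injective f hf
  rw [Nat.card_eq_fintype_card (α := cand11.toFinset), Fintype.card_coe] at h2
  exact h2.trans ((List.toFinset_card_le _).trans length_cand11.le)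

/-! ### The centraliser in `Co0` -/

theorem CY11_check : ∀ i < 24, CY11.getD (F11.getD i 0) 0 = CY11.getD i 0 := by decide +kernel
theorem W11_code : ∀ w ∈ W11, isCode w = true := by decide +kernel
theorem A11_check : chkA CY11 A11 W11 = true := by decide +kernel
theorem REP11_check : ∀ k < 4, REP11.getD k 0 < 24 ∧ CY11.getD (REP11.getD k 0) 0 = k := by decide +kernel
theorem A11_ne : ∀ a ∈ A11, ∃ k < 4, dg a k ≠ 0 := by decide +kernel
theorem A11_pair : A11.Pairwise fun a b => (∃ k < 4, dg a k ≠ dg b k) ∧ (∃ k < 4, dg a k ≠ -dg b k) := by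
  decide +kernel
theorem REP11_iter : ∀ i < 24, ∃ k < 4, REP11.getD k 0 < 24 ∧
    ∃ e < 11, (fun j => F11.getD j 0)^[e] (REP11.getD k 0) = i := by decide +kernel

/-- **The centraliser in `Co0`.** -/
theorem card_le [Finite Co0] {r : Co0} (hr : IsPerm r pi11) : Nat.card {A : Co0 // A * r = r * A} ≤ 264 := by
  obtain ⟨v, hv, hv48, hne⟩ := exists_family chk11 CY11_check W11_code A11_check REP11_check A11_ne A11_pair
  exact Cfsg.Agent.CpAutBig.FixCount.card_le (π := pi11) hr (i₀ := pt 0) (pi11_fix (Or.inl rfl)) (vals chk11 REP11 4)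
    (vals_injective chk11 REP11_iter) v hv hv48 hne card_words11 card_perm11

/-- **The centraliser in the stabilizer of the standard frame.** -/
theorem card_stab {r : Co0} (hr : IsPerm r pi11) :
    Nat.card {A : Co0 // A * r = r * A ∧ A ∈ Cfsg.Agent.SporadicA.Co1Simple.N} ≤ 88 :=
  card_stab_le pi11 hr card_words11 card_perm11

end Cfsg.Agent.BpSpor.MBigPerm

end

-- merged: Cfsg.Agent.BpSpor.MBigCo
section

/-!
# Elements of order 11 and 13 of `Co0` and `Co1` (helper12)

* `conj_eleven` : the subgroups of order 11 of `Co1` are conjugate;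
* `card_cent` : `|C_{Co1}(s)| ≤ 132` for `s` of order 11;
* `fr_le` : an element of order 11 has at most 16 fixed points on `Λ / 2 Λ`;
* `eq_one_of_fix` : an element of odd order prime to 11 commuting with `s` of order 11 and trivial on the fixed points
  of `s` on `Λ / 2 Λ` is trivial;
* `exists_two` : `s` fixes a class of type 2;
* `free_thirteen`, `fr_thirteen` : an element of order 13 has no fixed points.
-/

set_option autoImplicit false
open scoped Pointwise

namespace Cfsg.Agent.BpSpor.MBigCo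

open Cfsg Cfsg.Spor Cfsg.Agent.LeechMat.Core
open Cfsg.Agent.SporadicA.GolayBase Cfsg.Agent.SporadicStructure.TabPerm
open Cfsg.Agent.MonsterX.FrameStab (IsPerm)
open Cfsg.Agent.MonsterU.Lam2
open Cfsg.Agent.BpSpor.MBigPerm
open Cfsg.Agent.SporadicStructure.Co0Base
open Cfsg.Agent.SporadicA.Co0Mono (signCo0 permCo0 permCo0_smul permMap_apply perm_mul_sign_mul_inv signCo0_mul_self
  signCo0_add signCo0_inv wordPerm)
open Cfsg.Agent.SporadicA.Co1Simple (N perm_eq_one sign_perm_pow exists_sign_perm mem_N_of_e8 e8_sub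
  mem_crossSet_of_congr allOne)
open Cfsg.Agent.CoOneType.ClosingFacts
open Cfsg.Agent.LThreeMB (fr)
open Cfsg.Agent.CpAutBig
open Subgroup (centralizer zpowers mem_centralizer_singleton_iff)

/-- the element of `Co0` permuting the coordinates by `pi11` -/
noncomputable def r11 : Co0 := permCo0 ⟨pi11, pi11_mem⟩

theorem isPerm_r11 : IsPerm r11 pi11 := by
  intro v p
  unfold r11
  rw [permCo0_smul, permMap_apply]

theorem r11_pow : r11 ^ 11 = 1 := by
  unfold r11
  rw [← map_pow]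
  have h : (⟨pi11, pi11_mem⟩ : M24) ^ 11 = 1 := Subtype.ext pi11_pow
  rw [h, map_one]

theorem r11_ne : r11 ≠ 1 := by
  intro h
  have h1 := Cfsg.Agent.SporadicA.Co1Simple.perm_smul_e8 ⟨pi11, pi11_mem⟩ (pt 2)
  have h2 : r11 • e8 (pt 2) = e8 (pi11 (pt 2)) := h1
  rw [h, one_smul] at h2
  have h3 := Cfsg.Agent.SporadicA.Co1Simple.e8_inj h2
  have h4 := (fix_iff (pt 2)).1 h3.symm
  rw [idx_pt (by norm_num)] at h4
  omega

theorem orderOf_r11 : orderOf r11 = 11 := by
  have : Fact (Nat.Prime 11) := ⟨by norm_num⟩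
  exact orderOf_eq_prime r11_pow r11_ne

/-- the element of `Co1` -/
noncomputable def s11 : Co1 := mk r11

theorem orderOf_s11 : orderOf s11 = 11 := by
  have : Fact (Nat.Prime 11) := ⟨by norm_num⟩
  refine orderOf_eq_prime ?_ ?_
  · have h1 : s11 ^ 11 = mk (r11 ^ 11) := rfl
    rw [h1, r11_pow]
    rfl
  · intro h
    rcases (mk_eq_one _).1 h with h1 | h1
    · exact r11_ne h1
    · have h2 := r11_pow
      rw [h1, LThreeBX.NoSeven.pow_n (by decide)] at h2
      exact LThreeBX.NoSeven.n_ne h2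

theorem card_co1 : Nat.card Co1 = 4157776806543360000 := Cfsg.Agent.S0399.result.2

theorem finite_co1 : Finite Co1 := Nat.finite_of_card_ne_zero (by rw [card_co1]; norm_num)

/-- **The subgroups of order 11 of `Co1` are conjugate.** -/
theorem conj_eleven {s : Co1} (hs : orderOf s = 11) : ∃ g : Co1, g * s * g⁻¹ ∈ zpowers s11 := by
  have hfin := finite_co1
  obtain ⟨g, -, hg⟩ := Small.conj_of_sylow (p := 11) (by norm_num) (⊤ : Subgroup Co1) (by
    rw [Subgroup.card_top, card_co1]; norm_num) hs orderOf_s11 (Subgroup.mem_top _) (Subgroup.mem_top _)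
  exact ⟨g, hg⟩

theorem card_cent_r11 : Nat.card ↥(centralizer ({r11} : Set Co0)) ≤ 264 := by
  have hfin := CoZero.finite_co0
  refine le_trans (le_of_eq ?_) (MBigPerm.card_le isPerm_r11)
  apply Nat.card_congr
  exact Equiv.subtypeEquivRight fun a => mem_centralizer_singleton_iff

theorem card_cent_s11 : Nat.card ↥(centralizer ({s11} : Set Co1)) ≤ 132 := by
  have hfin := CoZero.finite_co0
  let q : ↥(centralizer ({r11} : Set Co0)) →* Co1 :=
    (QuotientGroup.mk' (Subgroup.center Co0)).comp (centralizer ({r11} : Set Co0)).subtype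
  have hq : ∀ a, q a = mk (a : Co0) := fun a => rfl
  have h1 : q.range = centralizer ({s11} : Set Co1) := by
    apply le_antisymm
    · rintro _ ⟨a, rfl⟩
      rw [mem_centralizer_singleton_iff]
      have h2 := mem_centralizer_singleton_iff.1 a.2
      show mk ((a : Co0) * r11) = mk (r11 * a)
      rw [h2]
    · intro s hs
      obtain ⟨a, rfl⟩ := exists_mk s
      have h2 : mk r11 * mk a = mk a * mk r11 := (mem_centralizer_singleton_iff.1 hs).symm
      have h3 := LThreeBX.NoSeven.comm_of_mk (n := 11) (by decide) r11_pow h2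
      exact ⟨⟨a, mem_centralizer_singleton_iff.2 h3.symm⟩, rfl⟩
  have h2 : 2 ≤ Nat.card q.ker := by
    have hm : (signCo0 allOne : Co0) ∈ centralizer ({r11} : Set Co0) :=
      mem_centralizer_singleton_iff.2 (LThreeBX.NoSeven.n_comm r11)
    have hk : (⟨signCo0 allOne, hm⟩ : ↥(centralizer ({r11} : Set Co0))) ∈ q.ker := by
      rw [MonoidHom.mem_ker, hq, mk_eq_one]
      exact Or.inr rfl
    have h3 : Nontrivial ↥q.ker := by
      refine ⟨⟨⟨_, hk⟩, 1, ?_⟩⟩
      intro h
      exact LThreeBX.NoSeven.n_ne (congrArg (fun x : ↥q.ker => ((x : ↥(centralizer ({r11} : Set Co0))) : Co0)) h)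
    exact Finite.one_lt_card
  have h3 : Nat.card ↥(centralizer ({r11} : Set Co0)) = Nat.card q.ker * Nat.card q.range := by
    rw [← Subgroup.card_mul_index q.ker, Subgroup.index_ker]
  rw [h1] at h3
  have h4 := card_cent_r11
  rw [h3] at h4
  nlinarith [h4, h2]

/-- **`|C_{Co1}(s)| ≤ 132`** -/
theorem card_cent {s : Co1} (hs : orderOf s = 11) : Nat.card ↥(centralizer ({s} : Set Co1)) ≤ 132 := by
  obtain ⟨g, hg⟩ := conj_eleven hs
  rw [CoZero.card_centralizer_of_conj (by norm_num) hs orderOf_s11 hg]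
  exact card_cent_s11

/-! ### The fixed points -/

theorem mem_N_of_cl {a : Co0} {i₀ : GolayPt} (h : cl (a • e8 i₀) = cl (e8 i₀)) : a ∈ N := by
  obtain ⟨w, hw⟩ := cl_eq.1 h
  have hw' : a • e8 i₀ = e8 i₀ + 2 • w := by rw [← hw]; abel
  apply mem_N_of_e8
  intro j
  obtain ⟨u, hu⟩ := e8_sub j i₀
  refine mem_crossSet_of_congr _ (w + a • u) i₀ ?_ ?_
  · rw [Cfsg.Agent.SporadicStructure.Co0Base.co0_sqNorm, FixCount.sqNorm_e8']
  · rw [hu, Cfsg.Agent.SporadicStructure.Co0Base.co0_smul_add, FixCount.nsmul_smul, hw', smul_add]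
    abel

theorem comm_of_N {c : golayCode} {τ σ : M24}
    (h : (signCo0 c * permCo0 τ) * permCo0 σ = permCo0 σ * (signCo0 c * permCo0 τ)) : τ * σ = σ * τ := by
  have h1 : permCo0 σ * signCo0 c * (permCo0 σ)⁻¹ = signCo0 (wordPerm σ c) := perm_mul_sign_mul_inv σ c
  have h2 : signCo0 (c + wordPerm σ c) * permCo0 (σ * τ * σ⁻¹ * τ⁻¹) = 1 := by
    rw [signCo0_add, ← h1, map_mul, map_mul, map_mul, map_inv, map_inv]
    have h3 : signCo0 c * (permCo0 σ * signCo0 c * (permCo0 σ)⁻¹) *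
        (permCo0 σ * permCo0 τ * (permCo0 σ)⁻¹ * (permCo0 τ)⁻¹) =
        signCo0 c * ((permCo0 σ * (signCo0 c * permCo0 τ)) * (permCo0 σ)⁻¹ * (permCo0 τ)⁻¹) := by group
    rw [h3, ← h]
    calc signCo0 c * (signCo0 c * permCo0 τ * permCo0 σ * (permCo0 σ)⁻¹ * (permCo0 τ)⁻¹) =
        signCo0 c * signCo0 c := by group
      _ = 1 := signCo0_mul_self c
  have h3 := perm_eq_one h2
  calc τ * σ = (σ * τ * σ⁻¹ * τ⁻¹) * (τ * σ) := by rw [h3, one_mul]
    _ = σ * τ := by group

/-- an element of `M24` of odd order prime to 11 commuting with `pi11` -/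
theorem perm_one {τ : M24} {n : ℕ} (hn : Odd n) (h11 : ¬ 11 ∣ n) (hτ : τ ^ n = 1)
    (hc : τ * ⟨pi11, pi11_mem⟩ = ⟨pi11, pi11_mem⟩ * τ) : τ = 1 := by
  classical
  let P : Subgroup M24 := centralizer ({⟨pi11, pi11_mem⟩} : Set M24)
  have hP : Nat.card ↥P ≤ 22 := by
    refine le_trans (le_of_eq ?_) card_perm11
    refine Nat.card_congr ⟨fun x => ⟨((x : M24) : Equiv.Perm GolayPt), (x : M24).2, ?_⟩,
      fun x => ⟨⟨x.1, x.2.1⟩, ?_⟩, fun x => rfl, fun x => rfl⟩
    · exact congrArg Subtype.val (mem_centralizer_singleton_iff.1 x.2)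
    · exact mem_centralizer_singleton_iff.2 (Subtype.ext x.2.2)
  have hfin : Finite ↥P := inferInstance
  have hm : (⟨pi11, pi11_mem⟩ : M24) ∈ P := mem_centralizer_singleton_iff.2 rfl
  have hτm : τ ∈ P := mem_centralizer_singleton_iff.2 hc
  have : Fact (Nat.Prime 11) := ⟨by norm_num⟩
  have ho : orderOf (⟨⟨pi11, pi11_mem⟩, hm⟩ : ↥P) = 11 := by
    rw [Subgroup.orderOf_mk]
    refine orderOf_eq_prime (Subtype.ext pi11_pow) ?_
    intro h
    exact pi11_ne_one (congrArg Subtype.val h)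
  have h1 : 11 ∣ Nat.card ↥P := by
    rw [← ho]; exact orderOf_dvd_natCard _
  have h2 : orderOf (⟨τ, hτm⟩ : ↥P) ∣ Nat.card ↥P := orderOf_dvd_natCard _
  have h3 : orderOf τ ∣ n := orderOf_dvd_of_pow_eq_one hτ
  rw [Subgroup.orderOf_mk] at h2
  have hpos : 0 < Nat.card ↥P := Nat.card_pos
  have h4 : Nat.card ↥P ∣ 22 := by
    obtain ⟨k, hk⟩ := h1
    rw [hk] at hP hpos ⊢
    have : k = 1 ∨ k = 2 := by omega
    rcases this with rfl | rfl <;> norm_num
  have h5 : orderOf τ ∣ Nat.gcd n 22 := Nat.dvd_gcd h3 (h2.trans h4)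
  have h6 : Nat.gcd n 22 = 1 := by
    have h7 : Nat.Coprime n (2 * 11) := Nat.Coprime.mul_right (Nat.coprime_two_right.2 hn)
      (((Nat.Prime.coprime_iff_not_dvd (by norm_num)).2 h11).symm)
    exact h7
  rw [h6] at h5
  exact orderOf_eq_one_iff.1 (Nat.dvd_one.1 h5)

/-- an element of odd order prime to 11 of the stabilizer of the frame commuting with `r11` -/
theorem stab_one {a : Co0} {n : ℕ} (hn : Odd n) (h11 : ¬ 11 ∣ n) (ha : a ^ n = 1) (haN : a ∈ N)
    (hc : a * r11 = r11 * a) : a = 1 := by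
  obtain ⟨c, τ, rfl⟩ := exists_sign_perm haN
  have h1 : τ * ⟨pi11, pi11_mem⟩ = ⟨pi11, pi11_mem⟩ * τ := comm_of_N hc
  have h2 : τ ^ n = 1 := by
    obtain ⟨d, hd⟩ := sign_perm_pow c τ n
    rw [hd] at ha
    exact perm_eq_one ha
  have h3 := perm_one hn h11 h2 h1
  rw [h3, map_one, mul_one] at ha ⊢
  obtain ⟨k, rfl⟩ := hn
  rw [pow_succ, pow_mul, pow_two, signCo0_mul_self, one_pow, one_mul] at ha
  exact ha

theorem mem_swap {G : Type*} [Group G] {p : ℕ} (hp : p.Prime) {x r : G} (hx : orderOf x = p)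
    (hr : orderOf r = p) (h : x ∈ zpowers r) : r ∈ zpowers x := by
  have hfin : Finite ↥(zpowers r) := Nat.finite_of_card_ne_zero (by rw [Nat.card_zpowers, hr]; exact hp.ne_zero)
  have hz : zpowers x = zpowers r :=
    Subgroup.eq_of_le_of_card_ge (Subgroup.zpowers_le.2 h) (by rw [Nat.card_zpowers, Nat.card_zpowers, hx, hr])
  rw [hz]
  exact Subgroup.mem_zpowers r

theorem fix_of_mem {x r : Co1} (h : x ∈ zpowers r) {v : L2} (hv : r • v = v) : x • v = v := by
  have h1 : r ∈ MulAction.stabilizer Co1 v := hv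
  exact (Subgroup.zpowers_le.2 h1) h

theorem s11_e8 : s11 • cl (e8 (pt 0)) = cl (e8 (pt 0)) := by
  have h1 : s11 • cl (e8 (pt 0)) = cl (r11 • e8 (pt 0)) := rfl
  rw [h1, FixCount.fix_e8 isPerm_r11 (pi11_fix (Or.inl rfl))]

/-- **Trivial on the fixed points.** -/
theorem eq_one_of_fix {s x : Co1} (hx : orderOf x = 11) {n : ℕ} (hn : Odd n) (h11 : ¬ 11 ∣ n) (hs : s ^ n = 1)
    (hc : s * x = x * s) (hf : ∀ v : L2, x • v = v → s • v = v) : s = 1 := by
  obtain ⟨g, hg⟩ := conj_eleven hx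
  have hgx : orderOf (g * x * g⁻¹) = 11 := by
    rw [← MulAut.conj_apply, MulEquiv.orderOf_eq, hx]
  have hz := mem_swap (by norm_num) hgx orderOf_s11 hg
  have hcg : (g * s * g⁻¹) * (g * x * g⁻¹) = (g * x * g⁻¹) * (g * s * g⁻¹) := by
    calc (g * s * g⁻¹) * (g * x * g⁻¹) = g * (s * x) * g⁻¹ := by group
      _ = g * (x * s) * g⁻¹ := by rw [hc]
      _ = _ := by group
  have hc' : (g * s * g⁻¹) * s11 = s11 * (g * s * g⁻¹) := by
    obtain ⟨k, hk⟩ := hz
    have h1 : Commute (g * s * g⁻¹) (g * x * g⁻¹) := hcg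
    have h2 := h1.zpow_right k
    have h3 : (g * x * g⁻¹) ^ k = s11 := hk
    rw [h3] at h2
    exact h2
  have hs' : (g * s * g⁻¹) ^ n = 1 := by rw [conj_pow, hs, mul_one, mul_inv_cancel]
  obtain ⟨a, ha, han⟩ := LThreeBX.NoSeven.exists_odd hn hs'
  have hac : a * r11 = r11 * a := LThreeBX.NoSeven.comm_of_mk hn han (by rw [ha]; exact hc')
  have hfix : (g * s * g⁻¹) • cl (e8 (pt 0)) = cl (e8 (pt 0)) := by
    have h1 := fix_of_mem hg s11_e8
    have h2 : x • (g⁻¹ • cl (e8 (pt 0))) = g⁻¹ • cl (e8 (pt 0)) := by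
      rw [mul_smul, mul_smul] at h1
      rw [← eq_inv_smul_iff] at h1
      exact h1
    have h3 := hf _ h2
    rw [mul_smul, mul_smul, h3, smul_inv_smul]
  have haN : a ∈ N := by
    apply mem_N_of_cl (i₀ := pt 0)
    have h1 : cl (a • e8 (pt 0)) = mk a • cl (e8 (pt 0)) := rfl
    rw [h1, ha, hfix]
  have h1 := stab_one hn h11 han haN hac
  rw [h1] at ha
  have h2 : g * s * g⁻¹ = 1 := ha.symm
  calc s = g⁻¹ * (g * s * g⁻¹) * g := by group
    _ = 1 := by rw [h2]; group

/-- **A fixed class of type 2.** -/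
theorem exists_two {s : Co1} (hs : orderOf s = 11) : ∃ v : L2, IsType 2 v ∧ s • v = v := by
  obtain ⟨g, hg⟩ := conj_eleven hs
  have h := Tab.chkv_spec (CY := CY11) (a := 18564) (m := 0) (w := 16777215) (Or.inl rfl) (by decide +kernel)
    (by decide +kernel)
  have hfix : r11 • (⟨Tab.xv CY11 18564, h.1⟩ : leechLattice) = ⟨Tab.xv CY11 18564, h.1⟩ := by
    apply Subtype.ext
    funext p
    rw [isPerm_r11]
    change Tab.xv CY11 18564 (pi11.symm p) = Tab.xv CY11 18564 p
    obtain ⟨q, rfl⟩ := pi11.surjective p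
    rw [Equiv.symm_apply_apply]
    unfold Tab.xv
    rw [idx_pi11, CY11_check _ (idx_lt q)]
  have h2 : IsType 2 (cl ⟨Tab.xv CY11 18564, h.1⟩) := by
    refine ⟨_, ?_, rfl⟩
    change sqNorm (Tab.xv CY11 18564) = 16 * 2
    rw [Tab.sqNorm_xv]
    decide +kernel
  have h3 : s11 • cl ⟨Tab.xv CY11 18564, h.1⟩ = cl ⟨Tab.xv CY11 18564, h.1⟩ := by
    have h1 : s11 • cl ⟨Tab.xv CY11 18564, h.1⟩ = cl (r11 • ⟨Tab.xv CY11 18564, h.1⟩) := rfl
    rw [h1, hfix]
  have h4 := fix_of_mem hg h3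
  refine ⟨g⁻¹ • cl ⟨Tab.xv CY11 18564, h.1⟩, h2.smul1 _, ?_⟩
  rw [mul_smul, mul_smul] at h4
  rw [← eq_inv_smul_iff] at h4
  exact h4

/-! ### The number of fixed points -/

theorem sum_smul (a : Co0) (n : ℕ) (v : leechLattice) (ha : a ^ n = 1) :
    a • (∑ i ∈ Finset.range n, a ^ i • v) = ∑ i ∈ Finset.range n, a ^ i • v := by
  have h1 : a • (∑ i ∈ Finset.range n, a ^ i • v) = ∑ i ∈ Finset.range n, a ^ (i + 1) • v := by
    have h2 : a • (∑ i ∈ Finset.range n, a ^ i • v) = ∑ i ∈ Finset.range n, a • (a ^ i • v) :=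
      map_sum (smulHom a) _ _
    rw [h2]
    refine Finset.sum_congr rfl fun i _ => ?_
    rw [← mul_smul, ← pow_succ']
  have h2 := Finset.sum_range_succ' (fun i => a ^ i • v) n
  rw [Finset.sum_range_succ, ha, pow_zero] at h2
  rw [h1]
  exact (add_right_cancel h2).symm

/-- a fixed class contains a fixed vector -/
theorem exists_rep {a : Co0} {n : ℕ} (hn : Odd n) (ha : a ^ n = 1) {x : L2} (hx : mk a • x = x) :
    ∃ v : leechLattice, a • v = v ∧ cl v = x := by
  obtain ⟨v, rfl⟩ := cl_surjective x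
  refine ⟨_, sum_smul a n v ha, ?_⟩
  have h1 : ∀ i : ℕ, cl (a ^ i • v) = cl v := by
    intro i
    have h2 : (mk a) ^ i • cl v = cl v := by
      induction i with
      | zero => rw [pow_zero, one_smul]
      | succ i ih => rw [pow_succ, mul_smul, hx, ih]
    exact h2
  rw [map_sum, Finset.sum_congr rfl fun i _ => h1 i, Finset.sum_const, Finset.card_range]
  obtain ⟨k, rfl⟩ := hn
  rw [add_smul, one_smul, mul_smul]
  have h3 : (2 : ℕ) • (k • cl v) = 0 := by rw [two_smul, add_self]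
  rw [h3, zero_add]

theorem fr_s11 : fr s11 ≤ 2 ^ 4 := by
  obtain ⟨h1, h2⟩ := FixCount.card_QF_le pi11 (Tab.vals chk11 REP11 4) (Tab.vals_injective chk11 REP11_iter)
  have hfin : Finite (FixCount.QF pi11) := Nat.finite_of_card_ne_zero h2
  refine le_trans ?_ h1
  have key : ∀ x : {v : L2 // s11 • v = v}, ∃ v : FixCount.LF pi11, ∃ h : (v : GolayPt → ℤ) ∈ leechLattice,
      cl ⟨v, h⟩ = x.1 := by
    rintro ⟨x, hx⟩
    obtain ⟨v, hv, hvx⟩ := exists_rep (n := 11) (by decide) r11_pow hx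
    refine ⟨⟨v, v.2, fun p => ?_⟩, v.2, hvx⟩
    have h3 := isPerm_r11 v (pi11 p)
    rw [hv, Equiv.symm_apply_apply] at h3
    exact h3
  choose v hv hvx using key
  refine Nat.card_le_card_of_injective (fun x => (QuotientAddGroup.mk (v x) : FixCount.QF pi11)) ?_
  intro x y hxy
  obtain ⟨z, hz, hz2⟩ := FixCount.mk_eq hxy
  apply Subtype.ext
  rw [← hvx x, ← hvx y, cl_eq]
  exact ⟨⟨z, hz⟩, Subtype.ext hz2⟩

/-- **At most 16 fixed points.** -/
theorem fr_le {s : Co1} (hs : orderOf s = 11) : fr s ≤ 2 ^ 4 := by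
  obtain ⟨g, hg⟩ := conj_eleven hs
  have hgx : orderOf (g * s * g⁻¹) = 11 := by
    rw [← MulAut.conj_apply, MulEquiv.orderOf_eq, hs]
  have hz := mem_swap (by norm_num) hgx orderOf_s11 hg
  have h1 : fr (g * s * g⁻¹) = fr s11 := by
    refine Nat.card_congr (Equiv.subtypeEquivRight fun v => ⟨fun h => fix_of_mem hz h, fun h => fix_of_mem hg h⟩)
  rw [← LThreeMB.fr_conj g s, h1]
  exact fr_s11

/-! ### Elements of order 13 -/

/-- **An element of order 13 of `Co0` has no fixed vectors.** -/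
theorem free_thirteen {x : Co0} (hx : orderOf x = 13) : ∀ v : leechLattice, x • v = v → v = 0 := by
  intro v hxv
  by_contra hv
  have hfin := CoZero.finite_co0
  have hp : Nat.Prime 13 := by norm_num
  obtain ⟨u, hu, hn⟩ := CoZero.exists_short_fixed hp (by norm_num) (by rw [← hx, pow_orderOf_eq_one]) v hv hxv
  have h1 := CoZero.card_stab_mul hn u rfl
  have h2 : 13 ∣ CoZero.cnt (sqNorm (u : GolayPt → ℤ)) := by
    rcases hn with h | h | h <;> rw [h] <;> unfold CoZero.cnt <;> norm_num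
  have hm : x ∈ MulAction.stabilizer Co0 u := hu
  have h3 : 13 ∣ Nat.card ↥(MulAction.stabilizer Co0 u) := by
    rw [← hx, ← Subgroup.orderOf_mk x hm]
    exact orderOf_dvd_natCard _
  have h4 := Nat.mul_dvd_mul h3 h2
  rw [h1] at h4
  norm_num at h4

/-- a lift of order 13 -/
theorem exists_lift_thirteen {s : Co1} (hs : orderOf s = 13) : ∃ a : Co0, mk a = s ∧ a ^ 13 = 1 ∧ orderOf a = 13 := by
  have : Fact (Nat.Prime 13) := ⟨by norm_num⟩
  obtain ⟨a, ha, ha13⟩ := LThreeBX.NoSeven.exists_odd (n := 13) (by decide)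
    (show s ^ 13 = 1 by rw [← hs, pow_orderOf_eq_one])
  refine ⟨a, ha, ha13, orderOf_eq_prime ha13 ?_⟩
  rintro rfl
  have h1 : s = 1 := ha.symm
  rw [h1, orderOf_one] at hs
  norm_num at hs

/-- **An element of order 13 of `Co1` has no fixed points.** -/
theorem fr_thirteen {s : Co1} (hs : orderOf s = 13) : fr s = 1 := by
  obtain ⟨a, rfl, ha13, ha⟩ := exists_lift_thirteen hs
  have : Unique {v : L2 // mk a • v = v} := by
    refine ⟨⟨⟨0, smul_zero _⟩⟩, ?_⟩
    rintro ⟨x, hx⟩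
    obtain ⟨v, hv, hvx⟩ := exists_rep (n := 13) (by decide) ha13 hx
    apply Subtype.ext
    change x = 0
    rw [← hvx, free_thirteen ha v hv, map_zero]
  exact Nat.card_unique

/-- the involutions of `Co0` commuting with an element of order 13 -/
theorem eq_neg {a A : Co0} (ha : orderOf a = 13) (hA : A * A = 1) (hc : a * A = A * a) : mk A = 1 := by
  by_cases h1 : A = 1
  · rw [h1]; rfl
  · rw [mk_eq_one]
    right
    rw [CpAutBig.FreeInv.eq_neg_of_free (p := 13) (by norm_num) (by norm_num) (by norm_num)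
      (by rw [← ha, pow_orderOf_eq_one]) (free_thirteen ha) hA h1 hc, Cfsg.Agent.CoOneType.ClosingFacts.neg_eq]

/-- the primes dividing the order of the centralizer in `Co0` of an element of order 13 -/
theorem not_dvd_thirteen {a : Co0} (ha : orderOf a = 13) {q : ℕ} (hq : q.Prime) (h5 : 5 ≤ q) (h13 : q ≠ 13) :
    ¬ q ∣ Nat.card ↥(centralizer ({a} : Set Co0)) := by
  refine TwoPrimes.not_dvd_of_free (by norm_num) hq h13.symm ?_ ha (free_thirteen ha)
  omega

end Cfsg.Agent.BpSpor.MBigCo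

end
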