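import Cfsg.Agent.BpSpor.MFiveAbs
import Cfsg.Agent.KFacts.J2.Facts

/-!
# Involutions of `2.J₂` (helper55)

`Rad p z x N f` with `f : C_D(z) → A`, `A` of type `J₂` (`Dat t u Q v ρ`), `z = k²` in `C_D(z)`: the image of every
involution `s ≠ z` of `C_D(z)` is conjugate to `t` (`isConj_f`).
-/

set_option autoImplicit false
set_option linter.unusedSectionVars false

namespace Cfsg.Agent.BpSpor.M5.Rad

open Subgroup Cfsg Cfsg.Agent.BpTab
open Cfsg.Agent.J2Type.Model Cfsg.Agent.KFacts.J2.Basic Cfsg.Agent.J2Type.CStruct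
open scoped commutatorElement

universe u v

variable {D : Type u} [Group D] {p : ℕ} {z x : D} {N : Subgroup D} {A : Type v} [Group A]
  {f : ↥(centralizer ({z} : Set D)) →* A} [Finite D] [hp : Fact p.Prime]

theorem z_ne_zpow (hp2 : p ≠ 2) (h : Rad p z x N f) (i : ℤ) : z ≠ x ^ i := by
  intro h1
  have h2 : x ^ i = 1 := h.sq_one hp2 (by rw [← h1, h.zz])
  exact h.z1 (h1.trans h2)

/-- the lifts of conjugate elements have the same square modulo `⟨x⟩` -/
theorem sq_of_conj (h : Rad p z x N f) {w s : ↥(centralizer ({z} : Set D))} (hc : IsConj (f w) (f s))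
    (hw : ∀ g : ↥(centralizer ({z} : Set D)), g * (w * w) = (w * w) * g) :
    ∃ i : ℤ, (s : D) * s = w * w * x ^ i := by
  obtain ⟨a, ha⟩ := isConj_iff.1 hc
  obtain ⟨g, rfl⟩ := h.surj a
  have hj : f ((g * w * g⁻¹)⁻¹ * s) = 1 := by
    rw [map_mul, map_inv, map_mul, map_mul, map_inv, ha, inv_mul_cancel]
  obtain ⟨i, hi⟩ := h.ker_sq hj
  refine ⟨i, ?_⟩
  rw [← hi]
  set j := (g * w * g⁻¹)⁻¹ * s with hjd
  have h1 : s = (g * w * g⁻¹) * j := by rw [hjd]; group
  have h2 := h.ker_central hj (g * w * g⁻¹)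
  have h3 : s * s = w * w * (j * j) := by
    rw [h1]
    calc g * w * g⁻¹ * j * (g * w * g⁻¹ * j) = (g * w * g⁻¹) * (j * (g * w * g⁻¹)) * j := by group
      _ = (g * w * g⁻¹) * ((g * w * g⁻¹) * j) * j := by rw [← h2]
      _ = g * (w * w) * g⁻¹ * (j * j) := by group
      _ = w * w * (j * j) := by rw [hw g]; group
  exact congrArg Subtype.val h3

/-- `z` as an element of `C_D(z)` -/
abbrev zC (z : D) : ↥(centralizer ({z} : Set D)) := ⟨z, mem_centralizer_singleton_iff.2 rfl⟩

theorem zC_central (g : ↥(centralizer ({z} : Set D))) : g * zC z = zC z * g :=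
  Subtype.ext (mem_centralizer_singleton_iff.1 g.2)

theorem f_z [hA : IsSimpleGroup A] (h : Rad p z x N f) (hAc : ¬ Group.IsSolvable A) : f (zC z) = 1 :=
  h.f_central hAc zC_central

/-- an involution of `A` lifts to an element of square `1` or `z` -/
theorem exists_lift (hp2 : p ≠ 2) (h : Rad p z x N f) {a : A} (ha : a * a = 1) :
    ∃ s : ↥(centralizer ({z} : Set D)), f s = a ∧ (s * s = 1 ∨ s * s = zC z) := by
  obtain ⟨s, rfl⟩ := h.surj a
  obtain ⟨m, hm⟩ := hp.out.odd_of_ne_two hp2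
  have h1 : f (s * s) = 1 := by rw [map_mul, ha]
  have h2 : f (s ^ p) = f s := by
    rw [hm, pow_succ, pow_mul, pow_two, map_mul, map_pow, h1, one_pow, one_mul]
  have hxp : ∀ i : ℤ, (x ^ i) ^ p = 1 := by
    intro i
    rw [← zpow_natCast, ← zpow_mul, mul_comm, zpow_mul, zpow_natCast, ← h.ox, pow_orderOf_eq_one, one_zpow]
  have hzp : z ^ p = z := by rw [hm, pow_succ, pow_mul, pow_two, h.zz, one_pow, one_mul]
  have h3 : s ^ p * s ^ p = (s * s) ^ p := by
    rw [← pow_add, ← pow_two, ← pow_mul, two_mul]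
  refine ⟨s ^ p, h2, ?_⟩
  obtain ⟨i, hi | hi⟩ := h.ker _ h1
  · left
    rw [h3]
    apply Subtype.ext
    show (((s * s : ↥(centralizer ({z} : Set D)))) : D) ^ p = 1
    rw [hi, hxp]
  · right
    rw [h3]
    apply Subtype.ext
    show (((s * s : ↥(centralizer ({z} : Set D)))) : D) ^ p = z
    rw [hi, (show Commute (x ^ i) z from (h.xzc i z).symm).mul_pow, hxp, one_mul, hzp]

/-- if `C_A(t)` is perfect, the lifts of `t` are centralized by the lifts of `C_A(t)` -/
theorem comm_of_perfect (h : Rad p z x N f) {t : A} (ht : commutator ↥(centralizer ({t} : Set A)) = ⊤)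
    {T : ↥(centralizer ({z} : Set D))} (hT : f T = t) {c : ↥(centralizer ({z} : Set D))} (hc : f c * t = t * f c) :
    c * T = T * c := by
  -- the commutator with `T`
  have hker : ∀ c : ↥(centralizer ({z} : Set D)), f c * t = t * f c → f (c * T * c⁻¹ * T⁻¹) = 1 := by
    intro c hc
    rw [map_mul, map_mul, map_mul, map_inv, map_inv, hT, hc]
    group
  have hmul : ∀ c d : ↥(centralizer ({z} : Set D)), f c * t = t * f c → f d * t = t * f d →
      (c * d) * T * (c * d)⁻¹ * T⁻¹ = (c * T * c⁻¹ * T⁻¹) * (d * T * d⁻¹ * T⁻¹) := by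
    intro c d hc hd
    have h1 := h.ker_central (hker d hd)
    calc c * d * T * (c * d)⁻¹ * T⁻¹ = c * (d * T * d⁻¹ * T⁻¹) * (T * c⁻¹ * T⁻¹) := by group
      _ = (d * T * d⁻¹ * T⁻¹) * c * (T * c⁻¹ * T⁻¹) := by rw [h1]
      _ = (d * T * d⁻¹ * T⁻¹) * (c * T * c⁻¹ * T⁻¹) := by group
      _ = _ := (h1 _).symm
  -- the subgroup of the elements all of whose lifts commute with `T`
  let P : Subgroup ↥(centralizer ({z} : Set D)) := (centralizer ({t} : Set A)).comap f
  have hP : ∀ c, c ∈ P ↔ f c * t = t * f c := fun c => mem_comap.trans mem_centralizer_singleton_iff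
  let κ : ↥P →* ↥(centralizer ({z} : Set D)) :=
    { toFun := fun c => c * T * c⁻¹ * T⁻¹
      map_one' := by
        show (1 : ↥(centralizer ({z} : Set D))) * T * 1⁻¹ * T⁻¹ = 1
        group
      map_mul' := fun c d => hmul c d ((hP c).1 c.2) ((hP d).1 d.2) }
  have hκc : ∀ c d : ↥P, κ c * κ d = κ d * κ c := fun c d => h.ker_central (hker d ((hP d).1 d.2)) _
  let K : Subgroup ↥(centralizer ({t} : Set A)) := (κ.ker).map (f.subgroupComap (centralizer ({t} : Set A)))
  have hle : commutator ↥(centralizer ({t} : Set A)) ≤ K := by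
    rw [commutator_def, commutator_le]
    intro a _ b _
    obtain ⟨a', ha'⟩ := h.surj a
    obtain ⟨b', hb'⟩ := h.surj b
    have ha'' : a' ∈ P := by rw [mem_comap, ha']; exact a.2
    have hb'' : b' ∈ P := by rw [mem_comap, hb']; exact b.2
    refine ⟨⁅(⟨a', ha''⟩ : ↥P), ⟨b', hb''⟩⁆, ?_, ?_⟩
    · show κ ⁅(⟨a', ha''⟩ : ↥P), ⟨b', hb''⟩⁆ = 1
      rw [map_commutatorElement, commutatorElement_eq_one_iff_mul_comm]
      exact hκc _ _
    · rw [map_commutatorElement]
      congr 1
      · exact Subtype.ext ha'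
      · exact Subtype.ext hb'
  have hcK : (⟨f c, mem_centralizer_singleton_iff.2 hc⟩ : ↥(centralizer ({t} : Set A))) ∈ K := by
    apply hle
    rw [ht]
    trivial
  obtain ⟨d, hd, hdc⟩ := hcK
  have hd1 : κ d = 1 := hd
  have hfd : f d = f c := congrArg Subtype.val hdc
  -- `c = d j` with `j` central
  have hj : f ((d : ↥(centralizer ({z} : Set D)))⁻¹ * c) = 1 := by rw [map_mul, map_inv, hfd, inv_mul_cancel]
  have h1 := h.ker_central hj T
  have h2 : (d : ↥(centralizer ({z} : Set D))) * T = T * d := by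
    have h3 : (d : ↥(centralizer ({z} : Set D))) * T * (d : ↥(centralizer ({z} : Set D)))⁻¹ * T⁻¹ = 1 := hd1
    calc (d : ↥(centralizer ({z} : Set D))) * T = ((d : ↥(centralizer ({z} : Set D))) * T *
        (d : ↥(centralizer ({z} : Set D)))⁻¹ * T⁻¹) * T * d := by group
      _ = T * d := by rw [h3, one_mul]
  calc c * T = d * ((d : ↥(centralizer ({z} : Set D)))⁻¹ * c * T) := by group
    _ = d * (T * ((d : ↥(centralizer ({z} : Set D)))⁻¹ * c)) := by rw [h1]
    _ = (d * T) * ((d : ↥(centralizer ({z} : Set D)))⁻¹ * c) := by group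
    _ = T * c := by rw [h2]; group

variable {t u : A} {Q : Subgroup (centralizer ({t} : Set A))} {v : Fin 5 → centralizer ({t} : Set A)}
  {ρ : centralizer ({t} : Set A) →* SP}

/-- **The involutions of `C_D(z)`** map to conjugates of `t`. -/
theorem isConj_f [hA : IsSimpleGroup A] (hAc : ¬ Group.IsSolvable A) (hp2 : p ≠ 2) (h : Rad p z x N f)
    (Dt : Dat t u Q v ρ) {k : ↥(centralizer ({z} : Set D))} (hk : (k : D) * k = z)
    {s : ↥(centralizer ({z} : Set D))} (hs : s * s = 1) (hs1 : (s : D) ≠ 1) (hsz : (s : D) ≠ z) :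
    IsConj t (f s) := by
  have hzc : ∀ g : ↥(centralizer ({z} : Set D)), g * (zC z) = zC z * g := zC_central
  have hkk : k * k = zC z := Subtype.ext hk
  -- involutions of `A`
  have hcov : ∀ a : A, a * a = 1 → a ≠ 1 → IsConj t a ∨ IsConj u a := fun a ha ha1 =>
    Dt.F.cover a (orderOf_two ha ha1)
  -- `t` lifts to an involution
  obtain ⟨T, hT, hTT⟩ := h.exists_lift hp2 Dt.tt
  have hT1 : T * T = 1 := by
    refine hTT.resolve_right fun hTz => ?_
    -- lifts of conjugates of `t` do not have square 1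
    have key : ∀ r : ↥(centralizer ({z} : Set D)), IsConj t (f r) → r * r ≠ 1 := by
      intro r hr hrr
      obtain ⟨i, hi⟩ := h.sq_of_conj (w := T) (s := r) (by rw [hT]; exact hr) (by rw [hTz]; exact hzc)
      have h1 : (r : D) * r = 1 := congrArg Subtype.val hrr
      have h2 : (T : D) * T = z := congrArg Subtype.val hTz
      rw [h1, h2] at hi
      refine h.z_ne_zpow hp2 (-i) ?_
      rw [zpow_neg]
      exact eq_inv_of_mul_eq_one_left hi.symm
    obtain ⟨V, hV, hVV⟩ := h.exists_lift hp2 (Dt.vv 0)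
    have hVz : V * V = zC z := hVV.resolve_left (key V (by rw [hV]; exact Dt.isConj_v 0))
    have hcomm : V * T = T * V := h.comm_of_perfect Dt.perfect hT (by rw [hV]; exact Dt.vt 0)
    refine key (T * V) ?_ ?_
    · rw [map_mul, hT, hV]
      have h1 := Dt.isConj_zv 1 0
      rw [zp_one] at h1
      exact h1
    · calc T * V * (T * V) = T * (V * T) * V := by group
        _ = (T * T) * (V * V) := by rw [hcomm]; group
        _ = 1 := by
          rw [hTz, hVz]
          exact Subtype.ext h.zz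
  have hfk1 : f k * f k = 1 := by rw [← map_mul, hkk, h.f_z hAc]
  have hfk : f k ≠ 1 := by
    intro h1
    obtain ⟨i, hi⟩ := h.ker_sq h1
    exact h.z_ne_zpow hp2 i (hk.symm.trans hi)
  have hku : IsConj u (f k) := by
    refine (hcov _ hfk1 hfk).resolve_left fun h1 => ?_
    obtain ⟨i, hi⟩ := h.sq_of_conj (w := T) (s := k) (by rw [hT]; exact h1) (by
      rw [hT1]
      intro g
      rw [mul_one, one_mul])
    have h2 : (T : D) * T = 1 := congrArg Subtype.val hT1
    rw [hk, h2, one_mul] at hi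
    exact h.z_ne_zpow hp2 i hi
  have hfs : f s ≠ 1 := by
    intro h1
    have h2 : (s : D) * s = 1 := congrArg Subtype.val hs
    obtain ⟨i, hi | hi⟩ := h.ker s h1
    · rw [hi] at h2
      rw [h.sq_one hp2 h2] at hi
      exact hs1 hi
    · rw [hi] at h2
      have h3 : x ^ i * x ^ i = 1 := by
        calc x ^ i * x ^ i = x ^ i * x ^ i * (z * z) := by rw [h.zz, mul_one]
          _ = x ^ i * (x ^ i * z) * z := by group
          _ = x ^ i * (z * x ^ i) * z := by rw [h.xzc i z]
          _ = x ^ i * z * (x ^ i * z) := by group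
          _ = 1 := h2
      rw [h.sq_one hp2 h3, one_mul] at hi
      exact hsz hi
  refine (hcov _ (by rw [← map_mul, hs, map_one]) hfs).resolve_right fun h1 => ?_
  obtain ⟨i, hi⟩ := h.sq_of_conj (w := k) (s := s) (hku.symm.trans h1) (by rw [hkk]; exact hzc)
  have h2 : (s : D) * s = 1 := congrArg Subtype.val hs
  rw [h2, hk] at hi
  refine h.z_ne_zpow hp2 (-i) ?_
  rw [zpow_neg]
  exact eq_inv_of_mul_eq_one_left hi.symm

end Cfsg.Agent.BpSpor.M5.Rad
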