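import Mathlib
import Cfsg.Agent.BpSpor.BFiveLift
import Cfsg.Agent.OddHalf.D4.Spor.JTwo

-- merged: Cfsg.Agent.BpSpor.BFiveExt
section

/-!
# Four anticommuting involutions on an abelian group of order dividing `p³` (helper55)

`ext_trivial` : an abelian group `W` of order dividing `p ^ 3`, `p` odd, with four involutory automorphisms any two of which
anticommute, is trivial (the extraspecial group `2^{1+4}` needs dimension 4).
-/

set_option autoImplicit false

namespace Cfsg.Agent.BpSpor.B5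

open Subgroup

universe u

/-- the version with endomorphisms -/
theorem ext_aux {V : Type u} [CommGroup V] [Finite V] {p : ℕ} [hp : Fact p.Prime] (hp2 : p ≠ 2)
    (hV : Nat.card V ∣ p ^ 3) (a : Fin 4 → V →* V) (hsq : ∀ i v, a i (a i v) = v)
    (hanti : ∀ i j, i ≠ j → ∀ v, a i (a j v) = (a j (a i v))⁻¹) (v : V) : v = 1 := by
  have hodd : Odd (Nat.card V) := (hp.out.odd_of_ne_two hp2).pow.of_dvd_nat hV
  -- square roots
  have hsqr : ∀ v : V, v * v = 1 → v = 1 := by
    intro v hv
    have h1 : orderOf v ∣ 2 := orderOf_dvd_of_pow_eq_one (by rw [pow_two, hv])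
    have h2 : Odd (orderOf v) := hodd.of_dvd_nat (orderOf_dvd_natCard v)
    rcases (Nat.dvd_prime Nat.prime_two).1 h1 with h3 | h3
    · exact orderOf_eq_one_iff.1 h3
    · rw [h3] at h2
      exact absurd h2 (by decide)
  -- fixed points and inverted points of `a 0`
  let F : Subgroup V :=
    { carrier := {v | a 0 v = v}
      one_mem' := map_one _
      mul_mem' := by
        intro x y hx hy
        show a 0 (x * y) = x * y
        rw [map_mul, show a 0 x = x from hx, show a 0 y = y from hy]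
      inv_mem' := by
        intro x hx
        show a 0 x⁻¹ = x⁻¹
        rw [map_inv, show a 0 x = x from hx] }
  let I : Subgroup V :=
    { carrier := {v | a 0 v = v⁻¹}
      one_mem' := by
        show a 0 1 = 1⁻¹
        rw [map_one, inv_one]
      mul_mem' := by
        intro x y hx hy
        show a 0 (x * y) = (x * y)⁻¹
        rw [map_mul, show a 0 x = x⁻¹ from hx, show a 0 y = y⁻¹ from hy, mul_inv]
      inv_mem' := by
        intro x hx
        show a 0 x⁻¹ = x⁻¹⁻¹
        rw [map_inv, show a 0 x = x⁻¹ from hx] }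
  have hF : ∀ v, v ∈ F ↔ a 0 v = v := fun v => Iff.rfl
  have hI : ∀ v, v ∈ I ↔ a 0 v = v⁻¹ := fun v => Iff.rfl
  have hinf : F ⊓ I = ⊥ := by
    rw [eq_bot_iff]
    intro v hv
    have h1 : a 0 v = v := hv.1
    have h2 : a 0 v = v⁻¹ := hv.2
    rw [h1] at h2
    refine mem_bot.2 (hsqr v ?_)
    calc v * v = v⁻¹ * v := by rw [← h2]
      _ = 1 := inv_mul_cancel v
  have hcard : Nat.card ↥F = Nat.card ↥I := by
    refine Nat.card_congr
      { toFun := fun v => ⟨a 1 v, ?_⟩
        invFun := fun v => ⟨a 1 v, ?_⟩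
        left_inv := fun v => Subtype.ext (hsq 1 v)
        right_inv := fun v => Subtype.ext (hsq 1 v) }
    · rw [hI, hanti 0 1 (by decide), (hF v).1 v.2]
    · rw [hF, hanti 0 1 (by decide), (hI v).1 v.2, map_inv, inv_inv]
  have hdvd : Nat.card ↥F * Nat.card ↥F ∣ p ^ 3 := by
    let m : ↥F × ↥I →* V := F.subtype.coprod I.subtype
    have hm : Function.Injective m := by
      rw [injective_iff_map_eq_one]
      rintro ⟨x, y⟩ hxy
      have h1 : (x : V) * y = 1 := hxy
      have h2 : (x : V) ∈ F ⊓ I := by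
        refine ⟨x.2, ?_⟩
        rw [eq_inv_of_mul_eq_one_left h1]
        exact I.inv_mem y.2
      rw [hinf, mem_bot] at h2
      rw [h2, one_mul] at h1
      exact Prod.ext (Subtype.ext h2) (Subtype.ext h1)
    have h3 := card_dvd_of_injective m hm
    rw [Nat.card_prod, ← hcard] at h3
    exact h3.trans hV
  have hFp : Nat.card ↥F ∣ p := by
    obtain ⟨k, hk, hk'⟩ := (Nat.dvd_prime_pow hp.out).1 ((Dvd.intro _ rfl).trans hdvd)
    rw [hk', ← pow_add, Nat.pow_dvd_pow_iff_le_right hp.out.one_lt] at hdvd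
    rw [hk']
    conv_rhs => rw [← pow_one p]
    exact pow_dvd_pow p (by omega)
  have hcyc : IsCyclic ↥F := isCyclic_of_card_dvd_prime hFp
  -- the endomorphisms `a 1 ∘ a i` of `F`
  have hst : ∀ i : Fin 4, i ≠ 0 → i ≠ 1 → ∀ v : ↥F, a 1 (a i v) ∈ F := by
    intro i h0 h1 v
    rw [hF, hanti 0 1 (by decide), hanti 0 i h0.symm, (hF v).1 v.2, map_inv, inv_inv]
  let c : (i : Fin 4) → i ≠ 0 → i ≠ 1 → ↥F →* ↥F := fun i h0 h1 =>
    (((a 1).comp (a i)).comp F.subtype).codRestrict F (hst i h0 h1)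
  have hFbot : ∀ v : ↥F, v = 1 := by
    intro v
    obtain ⟨m, hm⟩ := MonoidHom.map_cyclic (c 2 (by decide) (by decide))
    obtain ⟨n, hn⟩ := MonoidHom.map_cyclic (c 3 (by decide) (by decide))
    have h1 : c 2 (by decide) (by decide) (c 3 (by decide) (by decide) v) =
        c 3 (by decide) (by decide) (c 2 (by decide) (by decide) v) := by
      rw [hm, hn, hn, hm, ← zpow_mul, ← zpow_mul, mul_comm]
    have h2 : a 1 (a 2 (a 1 (a 3 v))) = a 1 (a 3 (a 1 (a 2 v))) := congrArg Subtype.val h1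
    rw [hanti 2 1 (by decide), map_inv, hsq, hanti 3 1 (by decide), map_inv, hsq, hanti 2 3 (by decide), inv_inv] at h2
    have h3 : a 3 (a 2 (v : V)) = 1 := by
      refine hsqr _ ?_
      calc a 3 (a 2 (v : V)) * a 3 (a 2 (v : V)) = a 3 (a 2 (v : V)) * (a 3 (a 2 (v : V)))⁻¹ := by rw [← h2]
        _ = 1 := mul_inv_cancel _
    have h4 : (v : V) = 1 := by
      rw [← hsq 2 (v : V), ← hsq 3 (a 2 (v : V)), h3, map_one, map_one]
    exact Subtype.ext h4
  have hF1 : Nat.card ↥F = 1 := by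
    rw [Nat.card_eq_one_iff_unique]
    exact ⟨⟨fun x y => by rw [hFbot x, hFbot y]⟩, ⟨1⟩⟩
  have hI1 : Nat.card ↥I = 1 := by rw [← hcard, hF1]
  have h1 : v * a 0 v ∈ F := by
    rw [hF, map_mul, hsq, mul_comm]
  have h2 : v * a 0 v = 1 := congrArg Subtype.val (hFbot ⟨_, h1⟩)
  have h3 : v ∈ I := by
    rw [hI]
    exact (inv_eq_of_mul_eq_one_right h2).symm
  rw [Nat.card_eq_one_iff_unique] at hI1
  have := hI1.1
  exact congrArg Subtype.val (Subsingleton.elim (⟨v, h3⟩ : ↥I) 1)

/-- **Four anticommuting involutions**, the version with conjugations in a group. -/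
theorem ext_trivial {D : Type u} [Group D] [Finite D] {p : ℕ} [hp : Fact p.Prime] (hp2 : p ≠ 2) (W : Subgroup D)
    (hWc : ∀ v ∈ W, ∀ w ∈ W, v * w = w * v) (hW : Nat.card ↥W ∣ p ^ 3) (a : Fin 4 → D)
    (hst : ∀ i, ∀ w ∈ W, a i * w * (a i)⁻¹ ∈ W) (hsq : ∀ i, ∀ w ∈ W, a i * (a i * w * (a i)⁻¹) * (a i)⁻¹ = w)
    (hanti : ∀ i j, i ≠ j → ∀ w ∈ W, a i * (a j * w * (a j)⁻¹) * (a i)⁻¹ = (a j * (a i * w * (a i)⁻¹) * (a j)⁻¹)⁻¹) :
    W = ⊥ := by
  let _ : CommGroup ↥W := { (inferInstance : Group ↥W) with mul_comm := fun v w => Subtype.ext (hWc v v.2 w w.2) }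
  let b : Fin 4 → ↥W →* ↥W := fun i =>
    { toFun := fun w => ⟨a i * w * (a i)⁻¹, hst i w w.2⟩
      map_one' := by
        apply Subtype.ext
        show a i * 1 * (a i)⁻¹ = 1
        group
      map_mul' := by
        intro v w
        apply Subtype.ext
        show a i * (v * w : D) * (a i)⁻¹ = (a i * v * (a i)⁻¹) * (a i * w * (a i)⁻¹)
        group }
  rw [eq_bot_iff]
  intro w hw
  have h1 := ext_aux hp2 hW b (fun i v => Subtype.ext (hsq i v v.2))
    (fun i j hij v => Subtype.ext (hanti i j hij v v.2)) ⟨w, hw⟩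
  exact mem_bot.2 (congrArg Subtype.val h1)

end Cfsg.Agent.BpSpor.B5

end

-- merged: Cfsg.Agent.BpSpor.BFiveAbs
section

/-!
# `C_D(wz)` for the isolated involution `z` (helper55)

`Rad p z x N f`, `A` of type `J₂`, `S` a normal `p`-subgroup of `D` in `N` with `C_D(S)` solvable, `w ≠ z` an involution of
`C_D(z)` not conjugate to `wz`, the `p`-subgroups of `C_D(w)` have order dividing `p⁴`: `C_D(wz)` is `Good p`.
-/

set_option autoImplicit false
set_option linter.unusedSectionVars false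

namespace Cfsg.Agent.BpSpor.B5

open Subgroup Cfsg Cfsg.Agent.BpTab
open Cfsg.Agent.J2Type.Model Cfsg.Agent.KFacts.J2.Basic Cfsg.Agent.J2Type.CStruct
open Cfsg.Agent.KFacts.QMinus (permHom range_permHom ker_permHom permHom_apply)

universe u v

/-! ### Normal subgroups of `2^{1+4}.A₅` -/

theorem sign_add : ∀ k : Fin 5, Equiv.Perm.sign (Equiv.addRight k : Equiv.Perm (Fin 5)) = 1 := by
  decide +kernel

theorem exists_even (i j : Fin 5) : ∃ σ : Equiv.Perm (Fin 5), Equiv.Perm.sign σ = 1 ∧ σ i = j :=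
  ⟨Equiv.addRight (j - i), sign_add _, by
    show i + (j - i) = j
    exact add_sub_cancel i j⟩

section model

variable {C : Type*} [Group C] {Q : Subgroup C} {t : C} {v : Fin 5 → C} {ρ : C →* SP}

/-- a non-solvable normal subgroup contains the `v i` -/
theorem v_mem_of_not_solvable (M : IsModel Q t v ρ) (Y : Subgroup C) [hY : Y.Normal] (hs : ¬ Group.IsSolvable ↥Y)
    (hQ : Group.IsSolvable ↥Q) (i : Fin 5) : v i ∈ Y := by
  -- the image in `A₅`
  have hle : ∀ c, permHom ρ c ∈ alternatingGroup (Fin 5) := by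
    intro c
    rw [← range_permHom M]
    exact ⟨c, rfl⟩
  let g : C →* ↥(alternatingGroup (Fin 5)) := (permHom ρ).codRestrict _ hle
  have hg : Function.Surjective g := by
    rintro ⟨σ, hσ⟩
    rw [← range_permHom M] at hσ
    obtain ⟨c, hc⟩ := hσ
    exact ⟨c, Subtype.ext hc⟩
  have hgk : ∀ c, g c = 1 ↔ c ∈ Q := by
    intro c
    rw [← ker_permHom M, MonoidHom.mem_ker]
    exact Subtype.ext_iff
  have hsimp : IsSimpleGroup ↥(alternatingGroup (Fin 5)) := alternatingGroup.isSimpleGroup (by simp)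
  have hcov : ∀ σ : ↥(alternatingGroup (Fin 5)), ∃ y ∈ Y, g y = σ := by
    have h1 : (Y.map g).Normal := hY.map g hg
    rcases h1.eq_bot_or_eq_top with h2 | h2
    · exfalso
      apply hs
      have h3 : Y ≤ Q := by
        intro y hy
        rw [← hgk]
        have h4 : g y ∈ Y.map g := mem_map_of_mem g hy
        rw [h2] at h4
        exact mem_bot.1 h4
      exact Group.isSolvable_of_isSolvable_injective (inclusion_injective h3)
    · intro σ
      have h3 : σ ∈ Y.map g := by rw [h2]; trivial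
      exact h3
  -- `z^a v j v i ∈ Y`
  have h1 : ∀ i j : Fin 5, ∃ a, zp t a * (v j * v i) ∈ Y := by
    intro i j
    obtain ⟨σ, hσ, hσi⟩ := exists_even i j
    obtain ⟨y, hy, hyσ⟩ := hcov ⟨σ, Equiv.Perm.mem_alternatingGroup.2 hσ⟩
    have h2 : (ρ y).σ = σ := congrArg Subtype.val hyσ
    refine ⟨(ρ y).s i, ?_⟩
    have h3 : y * (v i * y⁻¹ * (v i)⁻¹) ∈ Y := Y.mul_mem hy (hY.conj_mem _ (Y.inv_mem hy) _)
    have h4 : y * (v i * y⁻¹ * (v i)⁻¹) = zp t ((ρ y).s i) * (v j * v i) := by
      have h5 : (v i)⁻¹ = v i := inv_eq_of_mul_eq_one_left (M.v_sq i)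
      calc y * (v i * y⁻¹ * (v i)⁻¹) = (y * v i * y⁻¹) * (v i)⁻¹ := by group
        _ = zp t ((ρ y).s i) * v j * v i := by rw [M.conj, h2, hσi, h5]
        _ = _ := by group
    rwa [h4] at h3
  have ht : t ∈ Y := by
    obtain ⟨a, ha⟩ := h1 0 1
    have h2 := Y.mul_mem ha ha
    rw [sq_zp_mul M, vv_sq M (by decide)] at h2
    exact h2
  have hzp : ∀ a, zp t a ∈ Y := by
    intro a
    rcases zmod2_cases a with rfl | rfl
    · rw [zp_zero]
      exact one_mem _
    · rw [zp_one]
      exact ht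
  have h2 : ∀ i j : Fin 5, v j * v i ∈ Y := by
    intro i j
    obtain ⟨a, ha⟩ := h1 i j
    have h3 := Y.mul_mem (Y.inv_mem (hzp a)) ha
    rwa [inv_mul_cancel_left] at h3
  have h4 : v 4 ∈ Y := by
    have h5 := Y.inv_mem (Y.mul_mem (h2 1 0) (h2 3 2))
    have h6 : (v 0 * v 1 * (v 2 * v 3))⁻¹ = v 4 := by
      rw [inv_eq_iff_mul_eq_one]
      calc v 0 * v 1 * (v 2 * v 3) * v 4 = v 0 * v 1 * v 2 * v 3 * v 4 := by group
        _ = 1 := M.v_prod
    rwa [h6] at h5
  have h5 := Y.mul_mem (h2 4 i) (Y.inv_mem h4)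
  rwa [mul_inv_cancel_right] at h5

end model

section main

variable {D : Type u} [Group D] {p : ℕ} {z x : D} {N : Subgroup D} {A : Type v} [Group A]
  {f : ↥(centralizer ({z} : Set D)) →* A} [Finite D] [hp : Fact p.Prime]

/-- an involution with fixed points `⟨x⟩` on `S` inverts `S` modulo `⟨x⟩` -/
theorem inv_of_fix (hp2 : p ≠ 2) (h : M5.Rad p z x N f) {S : Subgroup D} [hS : S.Normal] {w : D} (hw : w * w = 1)
    (hc : ∀ s ∈ S, w * s = s * w → s ∈ zpowers x) {n : D} (hn : n ∈ S) : ∃ i : ℤ, w * n * w⁻¹ = n⁻¹ * x ^ i := by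
  have hZ := h.normalZ
  set q := QuotientGroup.mk' (zpowers x) with hq
  have h1 := Inv.inv_of_fpf (S.map q) (t := q w) (by rw [← map_mul, hw, map_one])
    (by
      have := hS.map q (QuotientGroup.mk'_surjective _)
      rw [normalizer_eq_top]
      trivial) (by
      rintro _ ⟨c, hc', rfl⟩ hcz
      rw [← map_mul, ← map_mul] at hcz
      have h2 : (c * w)⁻¹ * (w * c) ∈ zpowers x := QuotientGroup.eq.1 hcz.symm
      obtain ⟨i, hi⟩ := mem_zpowers_iff.1 h2
      have h3 : w * c = c * w * x ^ i := by rw [hi]; group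
      have h4 : w * c * w⁻¹ = c * x ^ i := by
        rw [h3, mul_assoc, mul_assoc, ← h.xzc, ← mul_assoc w w⁻¹, mul_inv_cancel, one_mul]
      have h5 := h.cent_of_mod hp2 hw h4
      rw [h5, mul_one, mul_inv_eq_iff_eq_mul] at h4
      exact (QuotientGroup.eq_one_iff c).2 (hc c hc' h4)) (mem_map_of_mem q hn)
  rw [← map_mul, ← map_mul, ← map_inv] at h1
  have h2 : (n⁻¹)⁻¹ * (w * n * w) ∈ zpowers x := QuotientGroup.eq.1 h1.symm
  obtain ⟨i, hi⟩ := mem_zpowers_iff.1 h2
  refine ⟨i, ?_⟩
  rw [hi, inv_eq_of_mul_eq_one_left hw]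
  group

/-- then `wz` centralizes `S` -/
theorem cent_of_fix (hp2 : p ≠ 2) (h : M5.Rad p z x N f) {S : Subgroup D} [hS : S.Normal] (hSN : S ≤ N) {w : D}
    (hw : w * w = 1) (hwz : w * z = z * w) (hc : ∀ s ∈ S, w * s = s * w → s ∈ zpowers x) :
    w * z ∈ centralizer (S : Set D) := by
  rw [mem_centralizer_iff]
  intro s hs
  obtain ⟨i, hi⟩ := h.inv hp2 (hSN hs)
  obtain ⟨j, hj⟩ := inv_of_fix hp2 h hw hc hs
  have h1 : (w * z) * s * (w * z)⁻¹ = s * x ^ (i - j) := by
    calc (w * z) * s * (w * z)⁻¹ = w * (z * s * z⁻¹) * w⁻¹ := by group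
      _ = w * (s⁻¹ * x ^ i) * w⁻¹ := by rw [hi]
      _ = w * s⁻¹ * (x ^ i * w⁻¹) := by group
      _ = w * s⁻¹ * (w⁻¹ * x ^ i) := by rw [h.xzc i w⁻¹]
      _ = (w * s * w⁻¹)⁻¹ * x ^ i := by group
      _ = (s⁻¹ * x ^ j)⁻¹ * x ^ i := by rw [hj]
      _ = x ^ (-j) * s * x ^ i := by rw [zpow_neg]; group
      _ = s * x ^ (-j) * x ^ i := by rw [h.xzc (-j) s]
      _ = s * x ^ (i - j) := by rw [mul_assoc, ← zpow_add, sub_eq_neg_add]
  have h2 : (w * z) * (w * z) = 1 := by
    calc (w * z) * (w * z) = w * (z * w) * z := by group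
      _ = (w * w) * (z * z) := by rw [← hwz]; group
      _ = 1 := by rw [hw, h.zz, mul_one]
  rw [h.cent_of_mod hp2 h2 h1, mul_one, mul_inv_eq_iff_eq_mul] at h1
  exact h1.symm

/-- if `C_D(S)` is solvable, the elements of `C_D(z)` outside the kernel of `f` do not centralize `S` -/
theorem not_mem_cent [hA : IsSimpleGroup A] (hAc : ¬ Group.IsSolvable A) (h : M5.Rad p z x N f) {S : Subgroup D}
    [hS : S.Normal] (hs : Group.IsSolvable ↥(centralizer (S : Set D))) {s : ↥(centralizer ({z} : Set D))}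
    (hfs : f s ≠ 1) : (s : D) ∉ centralizer (S : Set D) := by
  intro hsc
  have hn : (centralizer (S : Set D)).Normal := inferInstance
  have h1 : (((centralizer (S : Set D)).subgroupOf (centralizer ({z} : Set D))).map f).Normal :=
    (inferInstance : ((centralizer (S : Set D)).subgroupOf (centralizer ({z} : Set D))).Normal).map f h.surj
  rcases h1.eq_bot_or_eq_top with h2 | h2
  · apply hfs
    have h3 : f s ∈ ((centralizer (S : Set D)).subgroupOf (centralizer ({z} : Set D))).map f :=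
      mem_map_of_mem f (mem_subgroupOf.2 hsc)
    rw [h2] at h3
    exact mem_bot.1 h3
  · apply hAc
    have h3 : Group.IsSolvable ↥((centralizer (S : Set D)).subgroupOf (centralizer ({z} : Set D))) := by
      let j : ↥((centralizer (S : Set D)).subgroupOf (centralizer ({z} : Set D))) →* ↥(centralizer (S : Set D)) :=
        ((centralizer ({z} : Set D)).subtype.comp
          ((centralizer (S : Set D)).subgroupOf (centralizer ({z} : Set D))).subtype).codRestrict _ fun a =>
            mem_subgroupOf.1 a.2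
      have hj : Function.Injective j := fun a b hab =>
        Subtype.ext (Subtype.ext (congrArg (fun y : ↥(centralizer (S : Set D)) => (y : D)) hab))
      exact Group.isSolvable_of_isSolvable_injective hj
    have h4 : Group.IsSolvable ↥(((centralizer (S : Set D)).subgroupOf (centralizer ({z} : Set D))).map f) :=
      Group.isSolvable_of_surjective (f.subgroupMap_surjective _)
    rw [h2] at h4
    exact Group.isSolvable_of_surjective (f := (topEquiv (G := A)).toMonoidHom) topEquiv.surjective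

/-- `C_D(wz) ∩ C(R)` is solvable if `C_D(w) ∩ C_D(z) ∩ C(R)` is -/
theorem solvable_Y (hp2 : p ≠ 2) (h : M5.Rad p z x N f) {S R : Subgroup D} [hS : S.Normal] (hSN : S ≤ N)
    {w : D} (hw : w * w = 1) (hwz : w * z = z * w) (hR : R ≤ S)
    (hE : Group.IsSolvable ↥(centralizer ({w} : Set D) ⊓ centralizer ({z} : Set D) ⊓ centralizer (R : Set D))) :
    Group.IsSolvable ↥(centralizer ({w * z} : Set D) ⊓ centralizer (R : Set D)) := by
  have hN := h.nN
  have hNs : Group.IsSolvable ↥N := by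
    have := h.isNilpotent hp2
    infer_instance
  refine M5.solvable_of_mul (N := N) hNs hE fun y hy => ?_
  obtain ⟨n, hn, c, hc, rfl⟩ := h.sup y
  refine ⟨n, hn, c, ?_, rfl⟩
  have hT : (w * z) * (w * z) = 1 := by
    calc (w * z) * (w * z) = w * (z * w) * z := by group
      _ = (w * w) * (z * z) := by rw [← hwz]; group
      _ = 1 := by rw [hw, h.zz, mul_one]
  have hTz : (w * z) * z = z * (w * z) := by rw [← mul_assoc, ← hwz]
  have hyT : (n * c) * (w * z) = (w * z) * (n * c) := mem_centralizer_singleton_iff.1 hy.1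
  -- `c` commutes with `wz`
  have h1 : c * (w * z) * c⁻¹ * (w * z)⁻¹ ∈ N := by
    have h2 : c * (w * z) * c⁻¹ * (w * z)⁻¹ = n⁻¹ * ((w * z) * n * (w * z)⁻¹) := by
      calc c * (w * z) * c⁻¹ * (w * z)⁻¹ = n⁻¹ * ((n * c) * (w * z)) * (n * c)⁻¹ * n * (w * z)⁻¹ := by group
        _ = n⁻¹ * ((w * z) * (n * c)) * (n * c)⁻¹ * n * (w * z)⁻¹ := by rw [hyT]
        _ = _ := by group
    rw [h2]
    exact N.mul_mem (N.inv_mem hn) (hN.conj_mem n hn _)
  have hcm : ∀ a b : D, a * z = z * a → b * z = z * b → (a * b) * z = z * (a * b) := by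
    intro a b ha hb
    rw [mul_assoc, hb, ← mul_assoc, ha, mul_assoc]
  have hci : c⁻¹ * z = z * c⁻¹ := (show Commute c z from hc).inv_left
  have hTi : (w * z)⁻¹ * z = z * (w * z)⁻¹ := (show Commute (w * z) z from hTz).inv_left
  obtain ⟨i, hi⟩ := mem_zpowers_iff.1 (h.cN _ h1 (hcm _ _ (hcm _ _ (hcm _ _ hc hTz) hci) hTi))
  have hcT : c * (w * z) = (w * z) * c := by
    have h3 : c * (w * z) * c⁻¹ = x ^ i * (w * z) := by rw [hi]; group
    have h4 : x ^ i * x ^ i = 1 := by
      have h5 : (c * (w * z) * c⁻¹) * (c * (w * z) * c⁻¹) = 1 := by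
        calc (c * (w * z) * c⁻¹) * (c * (w * z) * c⁻¹) = c * ((w * z) * (w * z)) * c⁻¹ := by group
          _ = 1 := by rw [hT]; group
      rw [h3] at h5
      calc x ^ i * x ^ i = x ^ i * (x ^ i * ((w * z) * (w * z))) := by rw [hT, mul_one]
        _ = x ^ i * ((x ^ i * (w * z)) * (w * z)) := by group
        _ = x ^ i * (((w * z) * x ^ i) * (w * z)) := by rw [h.xzc i (w * z)]
        _ = x ^ i * (w * z) * (x ^ i * (w * z)) := by group
        _ = 1 := h5
    rw [h.sq_one hp2 h4, one_mul, mul_inv_eq_iff_eq_mul] at h3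
    exact h3
  have hcw : c * w = w * c := by
    have h3 : w = (w * z) * z := by rw [mul_assoc, h.zz, mul_one]
    calc c * w = c * (w * z) * z := by rw [mul_assoc, ← h3]
      _ = (w * z) * (c * z) := by rw [hcT]; group
      _ = (w * z) * z * c := by rw [hc]; group
      _ = w * c := by rw [← h3]
  refine ⟨⟨mem_centralizer_singleton_iff.2 hcw, mem_centralizer_singleton_iff.2 hc⟩,
    mem_centralizer_iff.2 fun r hr => ?_⟩
  have hyr : r * (n * c) = (n * c) * r := mem_centralizer_iff.1 hy.2 r hr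
  have hrS : c * r * c⁻¹ ∈ S := hS.conj_mem r (hR hr) c
  obtain ⟨j, hj⟩ := h.comm hp2 hn (hSN hrS)
  have h4 : c * r * c⁻¹ = r * x ^ (-j) := by
    have h5 : (n * c) * r * (n * c)⁻¹ = r := by rw [← hyr]; group
    have h6 : n * (c * r * c⁻¹) * n⁻¹ = r := by
      calc n * (c * r * c⁻¹) * n⁻¹ = (n * c) * r * (n * c)⁻¹ := by group
        _ = r := h5
    rw [hj] at h6
    rw [zpow_neg]
    exact eq_mul_inv_of_mul_eq h6
  have h5 := h.cent_of_z hp2 (hSN (hR hr)) hc h4
  rw [h5, mul_one, mul_inv_eq_iff_eq_mul] at h4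
  exact h4.symm

variable {u' : A} {w : ↥(centralizer ({z} : Set D))} {Q : Subgroup (centralizer ({f w} : Set A))}
  {v : Fin 5 → centralizer ({f w} : Set A)} {ρ : centralizer ({f w} : Set A) →* SP}

/-- **`C_D(w) ∩ C_D(z) ∩ C(C_S(wz))` is solvable.** -/
theorem solvable_E [hA : IsSimpleGroup A] (hAc : ¬ Group.IsSolvable A) (hp2 : p ≠ 2) (h : M5.Rad p z x N f)
    {S : Subgroup D} [hS : S.Normal] (hSN : S ≤ N) (hxS : x ∈ S)
    (hs : Group.IsSolvable ↥(centralizer (S : Set D)))
    (Dt : Dat (f w) u' Q v ρ) (hw : (w : D) * w = 1) (hnc : ∀ d : D, d * w * d⁻¹ ≠ w * z)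
    (hb : Nat.card ↥(S ⊓ centralizer ({(w : D)} : Set D)) ∣ p ^ 4) :
    Group.IsSolvable ↥(centralizer ({(w : D)} : Set D) ⊓ centralizer ({z} : Set D) ⊓
      centralizer ((S ⊓ centralizer ({(w : D) * z} : Set D) : Subgroup D) : Set D)) := by
  by_contra hns
  have hZ := h.normalZ
  have hwz : (w : D) * z = z * w := mem_centralizer_singleton_iff.1 w.2
  have hwc : (w : D) * z * z = w := by rw [mul_assoc, h.zz, mul_one]
  set R : Subgroup D := S ⊓ centralizer ({(w : D) * z} : Set D) with hR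
  set E : Subgroup D := centralizer ({(w : D)} : Set D) ⊓ centralizer ({z} : Set D) ⊓ centralizer (R : Set D) with hE
  have hmE : ∀ c : D, c ∈ E ↔ (c * w = w * c ∧ c * z = z * c) ∧ ∀ r ∈ R, r * c = c * r := by
    intro c
    rw [hE, mem_inf, mem_inf, mem_centralizer_singleton_iff, mem_centralizer_singleton_iff, mem_centralizer_iff]
    rfl
  have hmR : ∀ r : D, r ∈ R ↔ r ∈ S ∧ r * (w * z) = (w * z) * r := by
    intro r
    rw [hR, mem_inf, mem_centralizer_singleton_iff]
  have hw1 : f w ≠ 1 := Dt.t_ne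
  have hTT : ((w : D) * z) * (w * z) = 1 := by
    calc ((w : D) * z) * (w * z) = w * (z * w) * z := by group
      _ = (w * w) * (z * z) := by rw [← hwz]; group
      _ = 1 := by rw [hw, h.zz, mul_one]
  have hTz : ((w : D) * z) * z = z * (w * z) := by rw [← mul_assoc, ← hwz]
  have hwS : (w : D) ∉ centralizer (S : Set D) := not_mem_cent hAc h hs hw1
  have hfz := h.f_z hAc
  have hTS : (w : D) * z ∉ centralizer (S : Set D) :=
    not_mem_cent hAc h hs (s := w * M5.Rad.zC z) (by rw [map_mul, hfz, mul_one]; exact hw1)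
  -- `z ∉ E`, `w ∉ E`
  have hzE : z ∉ E := by
    intro h1
    apply hwS
    have h2 := cent_of_fix hp2 h hSN hTT hTz (fun s hs' hsT => by
      have h3 : s ∈ R := (hmR s).2 ⟨hs', hsT.symm⟩
      exact h.cN s (hSN hs') (((hmE z).1 h1).2 s h3))
    rwa [hwc] at h2
  have hTE : (w : D) * z ∈ E := by
    rw [hmE]
    refine ⟨⟨?_, hTz⟩, fun r hr => ((hmR r).1 hr).2⟩
    calc (w : D) * z * w = w * (z * w) := by group
      _ = w * (w * z) := by rw [← hwz]
  have hwE : (w : D) ∉ E := by
    intro h1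
    apply hzE
    have h2 := E.mul_mem h1 hTE
    rwa [← mul_assoc, hw, one_mul] at h2
  have hxE : ∀ i : ℤ, x ^ i ∈ E := by
    intro i
    rw [hmE]
    exact ⟨⟨(h.xzc i _).symm, (h.xzc i _).symm⟩, fun r _ => h.xzc i r⟩
  -- the elements of `E` in the kernel of `f`
  have hkE : ∀ c : ↥(centralizer ({z} : Set D)), (c : D) ∈ E → f c = 1 → ∃ i : ℤ, (c : D) = x ^ i := by
    intro c hc hfc
    obtain ⟨i, hi | hi⟩ := h.ker c hfc
    · exact ⟨i, hi⟩
    · exfalso
      apply hzE
      have h1 := E.mul_mem (E.inv_mem (hxE i)) hc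
      rwa [hi, inv_mul_cancel_left] at h1
  -- the image of `E` in `C_A(f w)`
  let E' : Subgroup ↥(centralizer ({z} : Set D)) := E.subgroupOf (centralizer ({z} : Set D))
  have hE'm : ∀ c, c ∈ E' ↔ (c : D) ∈ E := fun c => mem_subgroupOf
  have hfle : ∀ c ∈ E', f c * f w = f w * f c := by
    intro c hc
    rw [← map_mul, ← map_mul]
    congr 1
    exact Subtype.ext ((hmE c).1 ((hE'm c).1 hc)).1.1
  let F : Subgroup ↥(centralizer ({f w} : Set A)) := (E'.map f).subgroupOf (centralizer ({f w} : Set A))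
  have hFn : F.Normal := by
    refine ⟨fun b hb' a => ?_⟩
    obtain ⟨e, he, heb⟩ := mem_subgroupOf.1 hb'
    obtain ⟨c, hc⟩ := h.surj a
    have hac : f c * f w = f w * f c := by rw [hc]; exact mem_centralizer_singleton_iff.1 a.2
    -- `c` commutes with `w`
    have hcz : (c : D) * z = z * c := mem_centralizer_singleton_iff.1 c.2
    have hcw : (c : D) * w = w * c := by
      have h1 : f (c * w * c⁻¹ * w⁻¹) = 1 := by
        rw [map_mul, map_mul, map_mul, map_inv, map_inv, hac]
        group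
      have hi2 : ∀ i : ℤ, (c : D) * w * (c : D)⁻¹ = x ^ i * w → (c : D) * w = w * c := by
        intro i hi
        have h4 : x ^ i * x ^ i = 1 := by
          have h5 : ((c : D) * w * (c : D)⁻¹) * (c * w * (c : D)⁻¹) = 1 := by
            calc ((c : D) * w * (c : D)⁻¹) * (c * w * (c : D)⁻¹) = c * (w * w) * (c : D)⁻¹ := by group
              _ = 1 := by rw [hw]; group
          rw [hi] at h5
          calc x ^ i * x ^ i = x ^ i * (x ^ i * ((w : D) * w)) := by rw [hw, mul_one]
            _ = x ^ i * ((x ^ i * w) * w) := by group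
            _ = x ^ i * ((w * x ^ i) * w) := by rw [h.xzc i w]
            _ = x ^ i * w * (x ^ i * w) := by group
            _ = 1 := h5
        rw [h.sq_one hp2 h4, one_mul, mul_inv_eq_iff_eq_mul] at hi
        exact hi
      obtain ⟨i, hi | hi⟩ := h.ker _ h1
      · refine hi2 i ?_
        have h2 : (c : D) * w * (c : D)⁻¹ * (w : D)⁻¹ = x ^ i := hi
        rw [← h2]
        group
      · exfalso
        have h2 : (c : D) * w * (c : D)⁻¹ * (w : D)⁻¹ = x ^ i * z := hi
        have h3 : (c : D) * w * (c : D)⁻¹ = x ^ i * (w * z) := by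
          calc (c : D) * w * (c : D)⁻¹ = ((c : D) * w * (c : D)⁻¹ * (w : D)⁻¹) * w := by group
            _ = x ^ i * z * w := by rw [h2]
            _ = x ^ i * (w * z) := by rw [hwz]; group
        have h4 : x ^ i * x ^ i = 1 := by
          have h5 : ((c : D) * w * (c : D)⁻¹) * (c * w * (c : D)⁻¹) = 1 := by
            calc ((c : D) * w * (c : D)⁻¹) * (c * w * (c : D)⁻¹) = c * (w * w) * (c : D)⁻¹ := by group
              _ = 1 := by rw [hw]; group
          rw [h3] at h5
          calc x ^ i * x ^ i = x ^ i * (x ^ i * (((w : D) * z) * (w * z))) := by rw [hTT, mul_one]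
            _ = x ^ i * ((x ^ i * (w * z)) * (w * z)) := by group
            _ = x ^ i * (((w * z) * x ^ i) * (w * z)) := by rw [h.xzc i (w * z)]
            _ = x ^ i * (w * z) * (x ^ i * (w * z)) := by group
            _ = 1 := h5
        rw [h.sq_one hp2 h4, one_mul] at h3
        exact hnc c h3
    have hci : (c : D)⁻¹ * z = z * (c : D)⁻¹ := (show Commute (c : D) z from hcz).inv_left
    have hcE : (c : D) * e * (c : D)⁻¹ ∈ E := by
      obtain ⟨⟨e1, e2⟩, e3⟩ := (hmE _).1 ((hE'm e).1 he)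
      have hcwi : (c : D)⁻¹ * w = w * (c : D)⁻¹ := (show Commute (c : D) w from hcw).inv_left
      rw [hmE]
      refine ⟨⟨?_, ?_⟩, fun r hr => ?_⟩
      · calc (c : D) * e * (c : D)⁻¹ * w = c * e * ((c : D)⁻¹ * w) := by group
          _ = c * (e * w) * (c : D)⁻¹ := by rw [hcwi]; group
          _ = (c * w) * e * (c : D)⁻¹ := by rw [e1]; group
          _ = _ := by rw [hcw]; group
      · calc (c : D) * e * (c : D)⁻¹ * z = c * e * ((c : D)⁻¹ * z) := by group
          _ = c * (e * z) * (c : D)⁻¹ := by rw [hci]; group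
          _ = (c * z) * e * (c : D)⁻¹ := by rw [e2]; group
          _ = _ := by rw [hcz]; group
      · have hr' : (c : D)⁻¹ * r * c ∈ R := by
          obtain ⟨r1, r2⟩ := (hmR r).1 hr
          rw [hmR]
          refine ⟨by have := hS.conj_mem r r1 (c : D)⁻¹; rwa [inv_inv] at this, ?_⟩
          have hcT : (c : D) * (w * z) = (w * z) * c := by
            rw [← mul_assoc, hcw, mul_assoc, hcz, ← mul_assoc]
          have hcTi : (c : D)⁻¹ * (w * z) = (w * z) * (c : D)⁻¹ := (show Commute (c : D) (w * z) from hcT).inv_left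
          calc (c : D)⁻¹ * r * c * (w * z) = (c : D)⁻¹ * r * (c * (w * z)) := by group
            _ = (c : D)⁻¹ * (r * (w * z)) * c := by rw [hcT]; group
            _ = ((c : D)⁻¹ * (w * z)) * r * c := by rw [r2]; group
            _ = _ := by rw [hcTi]; group
        have h6 := e3 _ hr'
        calc r * ((c : D) * e * (c : D)⁻¹) = c * (((c : D)⁻¹ * r * c) * e) * (c : D)⁻¹ := by group
          _ = c * (e * ((c : D)⁻¹ * r * c)) * (c : D)⁻¹ := by rw [h6]
          _ = _ := by group
    refine mem_subgroupOf.2 ⟨c * e * c⁻¹, (hE'm _).2 hcE, ?_⟩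
    rw [map_mul, map_mul, map_inv, heb, hc]
    rfl
  have hFs : ¬ Group.IsSolvable ↥F := by
    intro h1
    apply hns
    -- `E' → F` with kernel in `zpowers x`
    let g : ↥E' →* ↥F :=
      { toFun := fun e => ⟨⟨f e, mem_centralizer_singleton_iff.2 (hfle e e.2)⟩,
          mem_subgroupOf.2 (mem_map_of_mem f e.2)⟩
        map_one' := by
          apply Subtype.ext
          apply Subtype.ext
          exact map_one f
        map_mul' := by
          intro a b
          apply Subtype.ext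
          apply Subtype.ext
          exact map_mul f _ _ }
    have hgk : Group.IsSolvable ↥g.ker := by
      refine Group.isSolvable_of_comm fun a b => Subtype.ext (Subtype.ext (Subtype.ext ?_))
      have h2 : f ((a : ↥E') : ↥(centralizer ({z} : Set D))) = 1 := by
        have h3 : g a = 1 := a.2
        exact congrArg (fun y : ↥F => ((y : ↥(centralizer ({f w} : Set A))) : A)) h3
      obtain ⟨i, hi⟩ := hkE _ ((hE'm _).1 (a : ↥E').2) h2
      show (((a : ↥E') : ↥(centralizer ({z} : Set D))) : D) * ((b : ↥E') : ↥(centralizer ({z} : Set D))) =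
        (((b : ↥E') : ↥(centralizer ({z} : Set D))) : D) * ((a : ↥E') : ↥(centralizer ({z} : Set D)))
      rw [hi]
      exact (h.xzc i _).symm
    have hE's : Group.IsSolvable ↥E' := by
      refine Group.isSolvable_of_ker_le_range g.ker.subtype g ?_
      rw [Subgroup.range_subtype]
    have h5 : E ≤ centralizer ({z} : Set D) := by
      rw [hE]
      exact inf_le_left.trans inf_le_right
    exact Group.isSolvable_of_surjective (f := (subgroupOfEquivOfLe h5).toMonoidHom)
      (subgroupOfEquivOfLe h5).surjective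
  have hQs : Group.IsSolvable ↥Q := by
    have hfin : Finite A := Finite.of_surjective f h.surj
    have : Fact (Nat.Prime 2) := ⟨Nat.prime_two⟩
    have h2 : Group.IsNilpotent ↥Q := (Cfsg.Agent.KFacts.J2.Facts.isPGroup_Q Dt.M).isNilpotent
    exact inferInstance
  have hvF : ∀ i, v i ∈ F := v_mem_of_not_solvable Dt.M F hFs hQs
  have hex : ∀ i : Fin 5, ∃ e : ↥(centralizer ({z} : Set D)), (e : D) ∈ E ∧ f e = (v i : A) := by
    intro i
    obtain ⟨e, he, hei⟩ := mem_subgroupOf.1 (hvF i)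
    exact ⟨e, (hE'm e).1 he, hei⟩
  choose e heE hev using hex
  -- relations
  have hsqe : ∀ i, ∃ l : ℤ, (e i : D) * e i = x ^ l := by
    intro i
    refine hkE (e i * e i) (E.mul_mem (heE i) (heE i)) ?_
    rw [map_mul, hev]
    exact Dt.vv i
  have hae : ∀ i j, i ≠ j → ∃ l : ℤ, (e i : D) * e j = x ^ l * (z * w) * (e j * e i) := by
    intro i j hij
    have h1 : f (e i * e j * (w * (e j * e i))⁻¹) = 1 := by
      rw [map_mul, map_mul, map_inv, map_mul, map_mul, hev, hev, Dt.v_anti hij, mul_inv_cancel]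
    obtain ⟨l, hl | hl⟩ := h.ker _ h1
    · exfalso
      apply hwE
      have h2 : (e i : D) * (e j : D) * ((w : D) * ((e j : D) * (e i : D)))⁻¹ = x ^ l := hl
      have h3 : (w : D) = x ^ (-l) * ((e i : D) * (e j : D)) * ((e j : D) * (e i : D))⁻¹ := by
        rw [zpow_neg, ← h2]
        group
      rw [h3]
      exact E.mul_mem (E.mul_mem (hxE _) (E.mul_mem (heE i) (heE j))) (E.inv_mem (E.mul_mem (heE j) (heE i)))
    · refine ⟨l, ?_⟩
      have h2 : (e i : D) * (e j : D) * ((w : D) * ((e j : D) * (e i : D)))⁻¹ = x ^ l * z := hl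
      calc (e i : D) * (e j : D) = ((e i : D) * (e j : D) * ((w : D) * ((e j : D) * (e i : D)))⁻¹) *
            ((w : D) * ((e j : D) * (e i : D))) := by group
        _ = x ^ l * z * (w * (e j * e i)) := by rw [h2]
        _ = _ := by group
  -- the group `W = C_S(w) / ⟨x⟩`
  set q := QuotientGroup.mk' (zpowers x) with hq
  have hqx : ∀ i : ℤ, q (x ^ i) = 1 := fun i => (QuotientGroup.eq_one_iff _).2 (zpow_mem_zpowers x i)
  let T : Subgroup D := S ⊓ centralizer ({(w : D)} : Set D)
  have hmT : ∀ s, s ∈ T ↔ s ∈ S ∧ s * w = w * s := by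
    intro s
    show s ∈ S ⊓ centralizer ({(w : D)} : Set D) ↔ _
    rw [mem_inf, mem_centralizer_singleton_iff]
  have hcT : ∀ c ∈ E, ∀ s ∈ T, c * s * c⁻¹ ∈ T := by
    intro c hc s hs'
    obtain ⟨s1, s2⟩ := (hmT s).1 hs'
    have hcw : c * w = w * c := ((hmE c).1 hc).1.1
    have hcwi : c⁻¹ * w = w * c⁻¹ := (show Commute c (w : D) from hcw).inv_left
    rw [hmT]
    refine ⟨hS.conj_mem s s1 c, ?_⟩
    calc c * s * c⁻¹ * w = c * s * (c⁻¹ * w) := by group
      _ = c * (s * w) * c⁻¹ := by rw [hcwi]; group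
      _ = (c * w) * s * c⁻¹ := by rw [s2]; group
      _ = _ := by rw [hcw]; group
  have hW : T.map q = ⊥ := by
    refine ext_trivial hp2 (T.map q) ?_ ?_ (fun i => q (e i.castSucc)) ?_ ?_ ?_
    · rintro _ ⟨a, ha, rfl⟩ _ ⟨b, hb', rfl⟩
      obtain ⟨i, hi⟩ := h.comm hp2 (hSN ((hmT a).1 ha).1) (hSN ((hmT b).1 hb').1)
      have h1 : a * b = b * x ^ i * a := by rw [← hi]; group
      rw [← map_mul, h1, map_mul, map_mul, hqx, mul_one, ← map_mul]
    · have h1 : x ∈ T := (hmT x).2 ⟨hxS, (h.xc _).symm⟩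
      have h2 : Nat.card ↥(T.map q) * p = Nat.card ↥T := by
        have h3 := card_eq_card_quotient_mul_card_subgroup ((zpowers x).subgroupOf T)
        have h4 : Nat.card ↥((zpowers x).subgroupOf T) = p := by
          rw [Nat.card_congr (subgroupOfEquivOfLe (zpowers_le.2 h1)).toEquiv, Nat.card_zpowers, h.ox]
        have h5 : Nat.card (↥T ⧸ (zpowers x).subgroupOf T) = Nat.card ↥(T.map q) := by
          let g : ↥T →* ↥(T.map q) := q.subgroupMap T
          have hg : g.ker = (zpowers x).subgroupOf T := by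
            ext s
            rw [MonoidHom.mem_ker, mem_subgroupOf, ← QuotientGroup.eq_one_iff]
            exact Subtype.ext_iff
          rw [← hg]
          exact Nat.card_congr (QuotientGroup.quotientKerEquivOfSurjective g (q.subgroupMap_surjective T)).toEquiv
        rw [h3, h4, h5]
      have h6 : Nat.card ↥(T.map q) * p ∣ p ^ 3 * p := by
        rw [h2, ← pow_succ]
        exact hb
      exact Nat.dvd_of_mul_dvd_mul_right hp.out.pos h6
    · rintro i _ ⟨s, hs', rfl⟩
      refine ⟨e i.castSucc * s * (e i.castSucc : D)⁻¹, hcT _ (heE _) s hs', ?_⟩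
      rw [map_mul, map_mul, map_inv]
    · rintro i _ ⟨s, hs', rfl⟩
      obtain ⟨l, hl⟩ := hsqe i.castSucc
      rw [← map_inv, ← map_mul, ← map_mul, ← map_mul, ← map_mul]
      congr 1
      calc (e i.castSucc : D) * (e i.castSucc * s * (e i.castSucc : D)⁻¹) * (e i.castSucc : D)⁻¹ =
          ((e i.castSucc : D) * e i.castSucc) * s * ((e i.castSucc : D) * e i.castSucc)⁻¹ := by group
        _ = x ^ l * s * (x ^ l)⁻¹ := by rw [hl]
        _ = s * x ^ l * (x ^ l)⁻¹ := by rw [h.xzc l s]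
        _ = s := by group
    · rintro i j hij _ ⟨s, hs', rfl⟩
      obtain ⟨l, hl⟩ := hae i.castSucc j.castSucc (fun h1 => hij (Fin.castSucc_injective _ h1))
      set a : D := ((e i.castSucc : ↥(centralizer ({z} : Set D))) : D) with ha
      set b : D := ((e j.castSucc : ↥(centralizer ({z} : Set D))) : D) with hb'
      have h1 : b * a * s * (b * a)⁻¹ ∈ T := hcT _ (E.mul_mem (heE _) (heE _)) s hs'
      obtain ⟨m, hm⟩ := h.inv hp2 (hSN ((hmT _).1 h1).1)
      have h2 := ((hmT _).1 h1).2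
      set s' := b * a * s * (b * a)⁻¹ with hs''
      have h3 : a * b * s * (a * b)⁻¹ = s'⁻¹ * x ^ m := by
        rw [hl]
        calc x ^ l * (z * w) * (b * a) * s * (x ^ l * (z * w) * (b * a))⁻¹ =
            x ^ l * (z * w) * s' * (w : D)⁻¹ * z⁻¹ * (x ^ l)⁻¹ := by rw [hs'']; group
          _ = x ^ l * z * (w * s') * (w : D)⁻¹ * z⁻¹ * (x ^ l)⁻¹ := by group
          _ = x ^ l * (z * s' * z⁻¹) * (x ^ l)⁻¹ := by rw [← h2]; group
          _ = x ^ l * (s'⁻¹ * x ^ m) * (x ^ l)⁻¹ := by rw [hm]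
          _ = (s'⁻¹ * x ^ m) * x ^ l * (x ^ l)⁻¹ := by rw [h.xzc l (s'⁻¹ * x ^ m)]
          _ = _ := by group
      have h4 : a * (b * s * b⁻¹) * a⁻¹ = s'⁻¹ * x ^ m := by rw [← h3]; group
      have h5 : b * (a * s * a⁻¹) * b⁻¹ = s' := by rw [hs'']; group
      rw [← map_inv, ← map_inv, ← map_mul, ← map_mul, ← map_mul, ← map_mul, ← map_mul, ← map_mul, ← map_mul,
        ← map_mul, h4, h5, map_mul, hqx, mul_one, map_inv]
  -- conclusion
  apply hTS
  refine cent_of_fix hp2 h hSN hw hwz fun s hs' hsw => ?_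
  have h1 : q s ∈ T.map q := mem_map_of_mem q ((hmT s).2 ⟨hs', hsw.symm⟩)
  rw [hW] at h1
  exact (QuotientGroup.eq_one_iff s).1 (mem_bot.1 h1)

/-- **`C_D(wz)` is good.** -/
theorem good_cent [hA : IsSimpleGroup A] (hAc : ¬ Group.IsSolvable A) (hp2 : p ≠ 2) (h : M5.Rad p z x N f)
    {S : Subgroup D} [hS : S.Normal] (hSp : IsPGroup p ↥S) (hSN : S ≤ N) (hxS : x ∈ S)
    (hs : Group.IsSolvable ↥(centralizer (S : Set D)))
    (Dt : Dat (f w) u' Q v ρ) (hw : (w : D) * w = 1) (hnc : ∀ d : D, d * w * d⁻¹ ≠ w * z)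
    (hb : Nat.card ↥(S ⊓ centralizer ({(w : D)} : Set D)) ∣ p ^ 4) :
    Good p ↥(centralizer ({(w : D) * z} : Set D)) := by
  have hwz : (w : D) * z = z * w := mem_centralizer_singleton_iff.1 w.2
  have h1 := solvable_E hAc hp2 h hSN hxS hs Dt hw hnc hb
  have h2 := solvable_Y hp2 h hSN hw hwz (R := S ⊓ centralizer ({(w : D) * z} : Set D)) inf_le_left h1
  refine good_of_constrained (P := S.subgroupOf (centralizer ({(w : D) * z} : Set D))) inferInstance ?_ ?_
  · exact hSp.of_injective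
      (((centralizer ({(w : D) * z} : Set D)).subtype.comp
        (S.subgroupOf (centralizer ({(w : D) * z} : Set D))).subtype).codRestrict S fun a => mem_subgroupOf.1 a.2)
      fun a b hab => Subtype.ext (Subtype.ext (congrArg (fun y : ↥S => (y : D)) hab))
  · let g : ↥(centralizer ((S.subgroupOf (centralizer ({(w : D) * z} : Set D)) :
        Subgroup ↥(centralizer ({(w : D) * z} : Set D))) : Set ↥(centralizer ({(w : D) * z} : Set D)))) →*
        ↥(centralizer ({(w : D) * z} : Set D) ⊓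
          centralizer ((S ⊓ centralizer ({(w : D) * z} : Set D) : Subgroup D) : Set D)) :=
      ((centralizer ({(w : D) * z} : Set D)).subtype.comp (Subgroup.subtype _)).codRestrict _ (by
        intro c
        refine ⟨(c : ↥(centralizer ({(w : D) * z} : Set D))).2, mem_centralizer_iff.2 fun r hr => ?_⟩
        have h3 := mem_centralizer_iff.1 c.2 ⟨r, hr.2⟩ (mem_subgroupOf.2 hr.1)
        exact congrArg Subtype.val h3)
    have hg : Function.Injective g := fun a b hab =>
      Subtype.ext (Subtype.ext (congrArg (fun y : ↥(centralizer ({(w : D) * z} : Set D) ⊓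
        centralizer ((S ⊓ centralizer ({(w : D) * z} : Set D) : Subgroup D) : Set D)) => (y : D)) hab))
    exact Group.isSolvable_of_isSolvable_injective hg

end main

end Cfsg.Agent.BpSpor.B5

end
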