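import Cfsg.Agent.BpNum.Num

/-!
# A criterion for `[L_{p'}(H), O_{p'}(H)] = 1` in terms of the centralizers of the involutions of `H`

`good_of_inv`: `p` odd, `64 ∤ |H|`, and for every involution `t` of `H` the order of `C_H(t)` is only divisible by
`2` and `p`; then `H` is `Good p`.
-/

set_option autoImplicit false

namespace Cfsg.Agent.BpSpor.Inv

open Subgroup Cfsg Cfsg.Agent.BpTab Cfsg.Agent.BpNum

universe u

variable {H : Type u} [Group H] [Finite H]

/-- an involution which centralizes nothing in a finite group normalized by it inverts it -/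
theorem inv_of_fpf (R : Subgroup H) {t : H} (ht : t * t = 1) (hN : t ∈ normalizer (R : Set H))
    (hc : ∀ c ∈ R, t * c = c * t → c = 1) {x : H} (hx : x ∈ R) : t * x * t = x⁻¹ := by
  have htt : t⁻¹ = t := inv_eq_of_mul_eq_one_left ht
  let φ : ↥R →* ↥R := (R.normalizerMonoidHom ⟨t, hN⟩ : MulAut ↥R).toMonoidHom
  have hφ : ∀ y : ↥R, ((φ y : ↥R) : H) = t * y * t := by
    intro y
    change t * (y : H) * t⁻¹ = _
    rw [htt]
  have h1 : MonoidHom.FixedPointFree φ := by
    intro g hg
    apply Subtype.ext
    refine hc _ g.2 ?_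
    have h2 : t * (g : H) * t = g := by rw [← hφ, hg]
    calc t * (g : H) = t * g * (t * t) := by rw [ht, mul_one]
      _ = (t * g * t) * t := by group
      _ = g * t := by rw [h2]
  have h2 : Function.Involutive φ := by
    intro g
    apply Subtype.ext
    rw [hφ, hφ]
    calc t * (t * (g : H) * t) * t = (t * t) * g * (t * t) := by group
      _ = g := by rw [ht, one_mul, mul_one]
  have h3 := congrFun (h1.coe_eq_inv_of_involutive h2) ⟨x, hx⟩
  have h4 := congrArg (Subtype.val) h3
  rw [hφ] at h4
  exact h4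

/-- if every `n` is a product of an element of the kernel of `f` and an element of a subgroup `C` whose image is
solvable, then the range of `f` is solvable -/
theorem solvable_range {M Y : Type*} [Group M] [Group Y] (f : M →* Y) (C : Subgroup M) (hC : Group.IsSolvable C)
    (h : ∀ n : M, ∃ d ∈ f.ker, ∃ c ∈ C, n = d * c) : Group.IsSolvable f.range := by
  let g : ↥C →* ↥f.range := f.rangeRestrict.comp C.subtype
  have hg : Function.Surjective g := by
    rintro ⟨_, n, rfl⟩
    obtain ⟨d, hd, c, hc, rfl⟩ := h n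
    refine ⟨⟨c, hc⟩, ?_⟩
    apply Subtype.ext
    change f c = f (d * c)
    rw [map_mul, MonoidHom.mem_ker.1 hd, one_mul]
  exact Group.isSolvable_of_surjective hg

theorem dvd_of_primes {n p : ℕ} (hn : n ≠ 0) (hp : p.Prime) (h : ∀ q : ℕ, q.Prime → q ∣ n → q = 2 ∨ q = p) :
    n ∣ 2 ^ n * p ^ n := by
  have h0 : 2 ^ n * p ^ n ≠ 0 := mul_ne_zero (pow_ne_zero _ two_ne_zero) (pow_ne_zero _ hp.ne_zero)
  rw [← Nat.factorization_prime_le_iff_dvd hn h0]
  intro q hq
  by_cases hqn : q ∣ n
  · have h1 : n.factorization q ≤ n := (Nat.factorization_lt q hn).le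
    have h2 : q ^ n ∣ 2 ^ n * p ^ n := by
      rcases h q hq hqn with rfl | rfl
      · exact dvd_mul_right _ _
      · exact dvd_mul_left _ _
    exact h1.trans ((hq.pow_dvd_iff_le_factorization h0).1 h2)
  · rw [Nat.factorization_eq_zero_of_not_dvd hqn]
    exact Nat.zero_le _

theorem good_of_inv {p : ℕ} [hp : Fact p.Prime]
    (FT : ∀ (K : Type u) [Group K] [Finite K], Odd (Nat.card K) → Group.IsSolvable K) (h64 : ¬ 64 ∣ Nat.card H)
    (hinv : ∀ t : H, orderOf t = 2 → ∀ q : ℕ, q.Prime → q ∣ Nat.card (centralizer ({t} : Set H)) → q = 2 ∨ q = p) :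
    Good p H := by
  classical
  refine good_of_act fun r hr hrp R hR _ => ?_
  have hrF : Fact r.Prime := ⟨hr⟩
  by_contra hY
  have k2 := (dvd_card_of_not_solvable hR hY).1
  have hr2 : r ≠ 2 := fun h => h64 (k2 h)
  apply hY
  clear k2
  have hR1 : R ≠ ⊥ := by
    rintro rfl
    apply hY
    have : Subsingleton (MulAut (↥(⊥ : Subgroup H) ⧸ frattini ↥(⊥ : Subgroup H))) := by
      refine ⟨fun a b => ?_⟩
      ext x
      exact Subsingleton.elim _ _
    infer_instance
  -- `r`-elements do not commute with involutions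
  have hrt : ∀ t : H, orderOf t = 2 → ∀ c ∈ R, t * c = c * t → c = 1 := by
    intro t ht c hc htc
    by_contra hc1
    have h1 : r ∣ orderOf c := by
      have h2 : IsPGroup r (zpowers c) := hR.to_le ((zpowers_le).2 hc)
      obtain ⟨k, hk⟩ := IsPGroup.iff_card.1 h2
      rw [Nat.card_zpowers] at hk
      have hk0 : k ≠ 0 := by
        rintro rfl
        exact hc1 (orderOf_eq_one_iff.1 (by rw [hk, pow_zero]))
      rw [hk]
      exact dvd_pow_self r hk0
    have h2 : orderOf c ∣ Nat.card (centralizer ({t} : Set H)) := by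
      have h3 : c ∈ centralizer ({t} : Set H) := by
        rw [Subgroup.mem_centralizer_singleton_iff]
        exact htc.symm
      have h4 := orderOf_dvd_natCard (⟨c, h3⟩ : ↥(centralizer ({t} : Set H)))
      rwa [Subgroup.orderOf_mk] at h4
    rcases hinv t ht r hr (h1.trans h2) with h3 | h3
    · exact hr2 h3
    · exact hrp h3
  by_cases hodd : Odd (Nat.card ↥(normalizer (R : Set H)))
  · have := FT _ hodd
    exact Group.isSolvable_of_surjective (act R).rangeRestrict_surjective
  · rw [Nat.not_odd_iff_even, even_iff_two_dvd] at hodd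
    obtain ⟨t, ht⟩ := exists_prime_orderOf_dvd_card' 2 hodd
    have ht' : orderOf (t : H) = 2 := by rw [Subgroup.orderOf_coe]; exact ht
    have htt : (t : H) * t = 1 := by rw [← pow_two, ← ht', pow_orderOf_eq_one]
    have htt' : t * t = 1 := Subtype.ext htt
    have hti : t⁻¹ = t := inv_eq_of_mul_eq_one_left htt'
    have hinvt : ∀ x ∈ R, (t : H) * x * t = x⁻¹ := fun x hx => inv_of_fpf R htt t.2 (hrt _ ht') hx
    have hker : ∀ d : ↥(normalizer (R : Set H)), (∀ x ∈ R, (d : H) * x * (d : H)⁻¹ = x) → d ∈ (act R).ker := by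
      intro d hd
      rw [MonoidHom.mem_ker]
      ext v
      induction v using QuotientGroup.induction_on with
      | H q =>
        rw [act_mk, MulAut.one_apply]
        congr 1
        apply Subtype.ext
        exact hd q q.2
    -- odd order of the elements which centralize `R`
    have hco : ∀ d : ↥(normalizer (R : Set H)), (∀ x ∈ R, (d : H) * x * (d : H)⁻¹ = x) → Odd (orderOf d) := by
      intro d hd
      by_contra h
      rw [Nat.not_odd_iff_even, even_iff_two_dvd] at h
      obtain ⟨m, hm⟩ := h
      have hm0 : m ≠ 0 := by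
        rintro rfl
        exact (orderOf_pos d).ne' (by omega)
      have h1 : orderOf (d ^ m) = 2 := by
        rw [orderOf_pow' d hm0, hm, Nat.gcd_mul_left_left, Nat.mul_div_cancel _ (Nat.pos_of_ne_zero hm0)]
      have h2 : orderOf ((d : H) ^ m) = 2 := by
        rw [← Subgroup.coe_pow, Subgroup.orderOf_coe]; exact h1
      obtain ⟨x, hx1⟩ := Subgroup.ne_bot_iff_exists_ne_one.1 hR1
      apply hx1
      apply Subtype.ext
      refine hrt _ h2 x x.2 ?_
      have h3 : Commute (d : H) x := by
        have h4 := hd x x.2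
        rw [mul_inv_eq_iff_eq_mul] at h4
        exact h4
      exact (h3.pow_left m).eq
    have hC : Group.IsSolvable ↥(centralizer ({t} : Set ↥(normalizer (R : Set H)))) := by
      have h0 : ∀ c : ↥(centralizer ({t} : Set ↥(normalizer (R : Set H)))),
          (c : ↥(normalizer (R : Set H))).1 ∈ centralizer ({(t : H)} : Set H) := by
        intro c
        have h1 := Subgroup.mem_centralizer_singleton_iff.1 c.2
        rw [Subgroup.mem_centralizer_singleton_iff]
        exact congrArg Subtype.val h1
      let g : ↥(centralizer ({t} : Set ↥(normalizer (R : Set H)))) →* ↥(centralizer ({(t : H)} : Set H)) :=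
        ((normalizer (R : Set H)).subtype.comp (Subgroup.subtype _)).codRestrict _ h0
      have hg : Function.Injective g := by
        intro a b hab
        apply Subtype.ext
        apply Subtype.ext
        have h9 : ((g a : ↥(centralizer ({(t : H)} : Set H))) : H) = g b := by rw [hab]
        exact h9
      have hs : Group.IsSolvable ↥(centralizer ({(t : H)} : Set H)) := by
        have hdv : Nat.card ↥(centralizer ({(t : H)} : Set H)) ∣ 2 ^ (Nat.card ↥(centralizer ({(t : H)} : Set H))) *
            p ^ (Nat.card ↥(centralizer ({(t : H)} : Set H))) := by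
          exact dvd_of_primes Nat.card_pos.ne' hp.out (hinv _ ht')
        exact solvable_of_dvd Nat.prime_two hp.out hdv
      exact Group.isSolvable_of_isSolvable_injective hg
    refine solvable_range (act R) (centralizer {t}) hC fun n => ?_
    set a : ↥(normalizer (R : Set H)) := n * t * n⁻¹ * t with ha
    have haR : ∀ x ∈ R, (a : H) * x * (a : H)⁻¹ = x := by
      intro x hx
      have h1 : (a : H) = (n : H) * t * (n : H)⁻¹ * t := rfl
      have hti' : (t : H)⁻¹ = t := inv_eq_of_mul_eq_one_left htt
      have h2 : (t : H) * x * (t : H)⁻¹ = x⁻¹ := by rw [hti']; exact hinvt x hx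
      have h3 : (n : H)⁻¹ * x⁻¹ * n ∈ R := by
        have := (Subgroup.mem_normalizer_iff.1 (inv_mem n.2) x⁻¹).1 (R.inv_mem hx)
        simpa using this
      have h4 : (t : H) * ((n : H)⁻¹ * x⁻¹ * n) * (t : H)⁻¹ = ((n : H)⁻¹ * x⁻¹ * n)⁻¹ := by
        rw [hti']; exact hinvt _ h3
      calc (a : H) * x * (a : H)⁻¹ = n * (t * ((n : H)⁻¹ * (t * x * (t : H)⁻¹) * n) * (t : H)⁻¹) * (n : H)⁻¹ := by
            rw [h1]; group
        _ = n * (t * ((n : H)⁻¹ * x⁻¹ * n) * (t : H)⁻¹) * (n : H)⁻¹ := by rw [h2]
        _ = n * ((n : H)⁻¹ * x⁻¹ * n)⁻¹ * (n : H)⁻¹ := by rw [h4]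
        _ = x := by group
    have hao := hco a haR
    obtain ⟨m, hm⟩ := hao
    set d : ↥(normalizer (R : Set H)) := a ^ (m + 1) with hd
    have hdd : d * d = a := by
      rw [hd, ← pow_add]
      have h1 : m + 1 + (m + 1) = orderOf a + 1 := by omega
      rw [h1, pow_succ, pow_orderOf_eq_one, one_mul]
    have hta : t * a * t⁻¹ = a⁻¹ := by
      rw [ha, hti]
      have h1 : (n * t * n⁻¹ * t)⁻¹ = t⁻¹ * n * t⁻¹ * n⁻¹ := by group
      rw [h1, hti]
      calc t * (n * t * n⁻¹ * t) * t = t * n * t * n⁻¹ * (t * t) := by group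
        _ = t * n * t * n⁻¹ := by rw [htt', mul_one]
    have htd : t * d * t⁻¹ = d⁻¹ := by
      rw [hd, ← conj_pow, hta, inv_pow]
    have hda : ∀ x ∈ R, (d : H) * x * (d : H)⁻¹ = x := by
      intro x hx
      have h1 : Commute (a : H) x := by
        have h4 := haR x hx
        rw [mul_inv_eq_iff_eq_mul] at h4
        exact h4
      have h2 : Commute (d : H) x := h1.pow_left (m + 1)
      rw [mul_inv_eq_iff_eq_mul]
      exact h2
    refine ⟨d, hker d hda, d⁻¹ * n, ?_, by group⟩
    rw [Subgroup.mem_centralizer_singleton_iff]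
    -- `d⁻¹ n t = t d⁻¹ n`
    have h1 : n * t * n⁻¹ = d * t * d⁻¹ := by
      have h2 : t * d⁻¹ = d * t := by
        have h3 : d⁻¹ = t * d * t := by rw [← htd, hti]
        rw [h3]
        calc t * (t * d * t) = (t * t) * d * t := by group
          _ = d * t := by rw [htt', one_mul]
      calc n * t * n⁻¹ = a * t := by
            rw [ha]
            calc n * t * n⁻¹ = n * t * n⁻¹ * (t * t) := by rw [htt', mul_one]
              _ = n * t * n⁻¹ * t * t := by group
        _ = d * (d * t) := by rw [← hdd]; group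
        _ = d * t * d⁻¹ := by rw [mul_assoc d t d⁻¹, h2]
    calc d⁻¹ * n * t = d⁻¹ * (n * t * n⁻¹) * n := by group
      _ = d⁻¹ * (d * t * d⁻¹) * n := by rw [h1]
      _ = t * (d⁻¹ * n) := by group

end Cfsg.Agent.BpSpor.Inv
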