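import Cfsg.Agent.BpSpor.Tools
import Cfsg.Agent.BpSpor.Inv
import Cfsg.Agent.LThreeMB.Quo

/-!
# `D = N C_D(z)`, `N` normal of odd order, `C_N(z) = ⟨x⟩` central of order `p` (helper55)

* `Rad` : the situation, `f : C_D(z) → A` onto a simple group with kernel `⟨x, z⟩`;
* `inv`, `comm` : `z` inverts `N / ⟨x⟩`, which is abelian;
* `exists_radical` : if `p ^ (a + 2) ∣ |D|`, `p ^ (a + 1) ∤ |A|` and `z` is a square, then `D` has a normal `p`-subgroup
  `S ≤ N` with `C_D(S)` solvable;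
* `good` : then `D` is `Good p`.
-/

set_option autoImplicit false
set_option linter.unusedSectionVars false

namespace Cfsg.Agent.BpSpor.M5

open Subgroup Cfsg Cfsg.Agent.BpTab

universe u v

/-- `D = N C_D(z)` with `N` normal of odd order and `C_N(z) = ⟨x⟩` central of order `p`; `C_D(z) / ⟨x, z⟩ ≅ A`. -/
structure Rad {D : Type u} [Group D] (p : ℕ) (z x : D) (N : Subgroup D) {A : Type v} [Group A]
    (f : ↥(centralizer ({z} : Set D)) →* A) : Prop where
  zz : z * z = 1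
  z1 : z ≠ 1
  ox : orderOf x = p
  xc : ∀ g, g * x = x * g
  nN : N.Normal
  oN : Odd (Nat.card ↥N)
  sup : ∀ g : D, ∃ n ∈ N, ∃ c, c * z = z * c ∧ g = n * c
  xN : x ∈ N
  cN : ∀ n ∈ N, n * z = z * n → n ∈ zpowers x
  surj : Function.Surjective f
  ker : ∀ c, f c = 1 → ∃ i : ℤ, (c : D) = x ^ i ∨ (c : D) = x ^ i * z

/-- `Y ⊆ N E` with `N` normal, `N` and `E` solvable -/
theorem solvable_of_mul {D : Type u} [Group D] {N E Y : Subgroup D} [N.Normal] (hN : Group.IsSolvable ↥N)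
    (hE : Group.IsSolvable ↥E) (h : ∀ y ∈ Y, ∃ n ∈ N, ∃ e ∈ E, y = n * e) : Group.IsSolvable ↥Y := by
  set q := QuotientGroup.mk' N with hq
  have hle : Y.map q ≤ E.map q := by
    rintro _ ⟨y, hy, rfl⟩
    obtain ⟨n, hn, e, he, rfl⟩ := h y hy
    refine ⟨e, he, ?_⟩
    rw [map_mul, show q n = 1 from (QuotientGroup.eq_one_iff n).2 hn, one_mul]
  have hEs : Group.IsSolvable ↥(E.map q) := Group.isSolvable_of_surjective (q.subgroupMap_surjective E)
  have h1 : Group.IsSolvable ↥(Y.map q) := Group.isSolvable_of_isSolvable_injective (inclusion_injective hle)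
  refine Group.isSolvable_of_ker_le_range (inclusion (inf_le_left : Y ⊓ N ≤ Y)) (q.subgroupMap Y) ?_
    (hG' := ?_) (hG'' := h1)
  · intro y hy
    have h2 : q (y : D) = 1 := congrArg Subtype.val (MonoidHom.mem_ker.1 hy)
    exact ⟨⟨y, y.2, (QuotientGroup.eq_one_iff _).1 h2⟩, rfl⟩
  · exact Group.isSolvable_of_isSolvable_injective (inclusion_injective (inf_le_right : Y ⊓ N ≤ N))

namespace Rad

variable {D : Type u} [Group D] {p : ℕ} {z x : D} {N : Subgroup D} {A : Type v} [Group A]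
  {f : ↥(centralizer ({z} : Set D)) →* A}

theorem xzc (h : Rad p z x N f) (i : ℤ) (g : D) : g * x ^ i = x ^ i * g := by
  have h1 : Commute g x := h.xc g
  exact (h1.zpow_right i)

theorem zinv (h : Rad p z x N f) : z⁻¹ = z := inv_eq_of_mul_eq_one_left h.zz

theorem normalZ (h : Rad p z x N f) : (zpowers x).Normal := by
  refine ⟨fun n hn g => ?_⟩
  obtain ⟨i, rfl⟩ := mem_zpowers_iff.1 hn
  rw [h.xzc, mul_inv_cancel_right]
  exact hn

/-- `x ^ i` is trivial if its square is -/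
theorem sq_one [hp : Fact p.Prime] (hp2 : p ≠ 2) (h : Rad p z x N f) {i : ℤ} (hi : x ^ i * x ^ i = 1) : x ^ i = 1 := by
  have h1 : (x ^ i) ^ p = 1 := by
    rw [← zpow_natCast, ← zpow_mul, mul_comm, zpow_mul, zpow_natCast, ← h.ox, pow_orderOf_eq_one, one_zpow]
  obtain ⟨m, hm⟩ := hp.out.odd_of_ne_two hp2
  rw [hm, pow_succ, pow_mul, pow_two, hi, one_pow, one_mul] at h1
  exact h1

/-- an involution `w` with `w s w⁻¹ = s x ^ i` commutes with `s` -/
theorem cent_of_mod [Fact p.Prime] (hp2 : p ≠ 2) (h : Rad p z x N f) {w s : D} (hw : w * w = 1) {i : ℤ}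
    (hs : w * s * w⁻¹ = s * x ^ i) : x ^ i = 1 := by
  have h1 : w * (w * s * w⁻¹) * w⁻¹ = s := by
    have : w⁻¹ = w := inv_eq_of_mul_eq_one_left hw
    calc w * (w * s * w⁻¹) * w⁻¹ = (w * w) * s * (w⁻¹ * w⁻¹) := by group
      _ = s := by rw [this, hw, one_mul, mul_one]
  rw [hs] at h1
  have h2 : w * (s * x ^ i) * w⁻¹ = w * s * w⁻¹ * x ^ i := by
    calc w * (s * x ^ i) * w⁻¹ = w * s * (x ^ i * w⁻¹) := by group
      _ = w * s * (w⁻¹ * x ^ i) := by rw [h.xzc]
      _ = _ := by group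
  rw [h2, hs, mul_assoc] at h1
  exact h.sq_one hp2 (mul_eq_left.1 h1)

variable [Finite D] [hp : Fact p.Prime]

/-- `z` inverts `N` modulo `⟨x⟩` -/
theorem inv (hp2 : p ≠ 2) (h : Rad p z x N f) {n : D} (hn : n ∈ N) : ∃ i : ℤ, z * n * z⁻¹ = n⁻¹ * x ^ i := by
  have hZ := h.normalZ
  have hN := h.nN
  set q := QuotientGroup.mk' (zpowers x) with hq
  have h1 := Inv.inv_of_fpf (N.map q) (t := q z) (by rw [← map_mul, h.zz, map_one])
    (by
      have := hN.map q (QuotientGroup.mk'_surjective _)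
      rw [normalizer_eq_top]
      trivial) (by
      rintro _ ⟨c, hc, rfl⟩ hcz
      rw [← map_mul, ← map_mul] at hcz
      have h2 : (c * z)⁻¹ * (z * c) ∈ zpowers x := QuotientGroup.eq.1 hcz.symm
      obtain ⟨i, hi⟩ := mem_zpowers_iff.1 h2
      have h3 : z * c = c * z * x ^ i := by rw [hi]; group
      have h4 : z * c * z⁻¹ = c * x ^ i := by
        rw [h3, mul_assoc, mul_assoc, ← h.xzc, ← mul_assoc z z⁻¹, mul_inv_cancel, one_mul]
      have h5 := h.cent_of_mod hp2 h.zz h4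
      rw [h5, mul_one, mul_inv_eq_iff_eq_mul] at h4
      exact (QuotientGroup.eq_one_iff c).2 (h.cN c hc h4.symm)) (mem_map_of_mem q hn)
  rw [← map_mul, ← map_mul, ← map_inv] at h1
  have h2 : (n⁻¹)⁻¹ * (z * n * z) ∈ zpowers x := QuotientGroup.eq.1 h1.symm
  obtain ⟨i, hi⟩ := mem_zpowers_iff.1 h2
  refine ⟨i, ?_⟩
  rw [hi, h.zinv]
  group

/-- `N / ⟨x⟩` is abelian -/
theorem comm (hp2 : p ≠ 2) (h : Rad p z x N f) {n m : D} (hn : n ∈ N) (hm : m ∈ N) :
    ∃ i : ℤ, n * m * n⁻¹ = m * x ^ i := by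
  obtain ⟨i, hi⟩ := h.inv hp2 hn
  obtain ⟨j, hj⟩ := h.inv hp2 hm
  obtain ⟨k, hk⟩ := h.inv hp2 (N.mul_mem hn hm)
  have h1 : z * (n * m) * z⁻¹ = (z * n * z⁻¹) * (z * m * z⁻¹) := by group
  rw [hi, hj, hk] at h1
  have h2 : n⁻¹ * x ^ i * (m⁻¹ * x ^ j) = n⁻¹ * m⁻¹ * x ^ (i + j) := by
    rw [zpow_add]
    calc n⁻¹ * x ^ i * (m⁻¹ * x ^ j) = n⁻¹ * (x ^ i * m⁻¹) * x ^ j := by group
      _ = n⁻¹ * (m⁻¹ * x ^ i) * x ^ j := by rw [h.xzc i m⁻¹]
      _ = _ := by group
  rw [h2] at h1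
  have h3 : m⁻¹ * n⁻¹ = n⁻¹ * m⁻¹ * x ^ (i + j - k) := by
    rw [sub_eq_add_neg, zpow_add, ← mul_assoc, ← h1]
    group
  refine ⟨-(i + j - k), ?_⟩
  calc n * m * n⁻¹ = (n * (m⁻¹ * n⁻¹))⁻¹ := by group
    _ = (n * (n⁻¹ * m⁻¹ * x ^ (i + j - k)))⁻¹ := by rw [h3]
    _ = x ^ (-(i + j - k)) * m := by
      rw [zpow_neg]
      group
    _ = _ := (h.xzc _ _).symm

/-- an element of `C(z)` acting trivially on `s ∈ N` modulo `⟨x⟩` centralizes `s` -/
theorem cent_of_z (hp2 : p ≠ 2) (h : Rad p z x N f) {s c : D} (hs : s ∈ N) (hc : c * z = z * c) {i : ℤ}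
    (hi : c * s * c⁻¹ = s * x ^ i) : x ^ i = 1 := by
  obtain ⟨j, hj⟩ := h.inv hp2 hs
  have hc' : c⁻¹ * z = z * c⁻¹ := (show Commute c z from hc).inv_left
  have h1 : c * (z * s * z⁻¹) * c⁻¹ = z * (c * s * c⁻¹) * z⁻¹ := by
    calc c * (z * s * z⁻¹) * c⁻¹ = (c * z) * s * (c * z)⁻¹ := by group
      _ = (z * c) * s * (z * c)⁻¹ := by rw [hc]
      _ = _ := by group
  have h2 : c * (z * s * z⁻¹) * c⁻¹ = s⁻¹ * x ^ j * x ^ (-i) := by
    rw [hj]
    calc c * (s⁻¹ * x ^ j) * c⁻¹ = c * s⁻¹ * (x ^ j * c⁻¹) := by group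
      _ = c * s⁻¹ * (c⁻¹ * x ^ j) := by rw [h.xzc j c⁻¹]
      _ = (c * s * c⁻¹)⁻¹ * x ^ j := by group
      _ = (s * x ^ i)⁻¹ * x ^ j := by rw [hi]
      _ = x ^ (-i) * (s⁻¹ * x ^ j) := by
        rw [zpow_neg]
        group
      _ = s⁻¹ * x ^ j * x ^ (-i) := (h.xzc _ _).symm
  have h3 : z * (c * s * c⁻¹) * z⁻¹ = s⁻¹ * x ^ j * x ^ i := by
    rw [hi]
    calc z * (s * x ^ i) * z⁻¹ = z * s * (x ^ i * z⁻¹) := by group
      _ = z * s * (z⁻¹ * x ^ i) := by rw [h.xzc i z⁻¹]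
      _ = (z * s * z⁻¹) * x ^ i := by group
      _ = _ := by rw [hj]
  rw [h2, h3] at h1
  have h4 : x ^ (-i) = x ^ i := mul_left_cancel h1
  apply h.sq_one hp2
  calc x ^ i * x ^ i = x ^ (-i) * x ^ i := by rw [h4]
    _ = 1 := by rw [← zpow_add, neg_add_cancel, zpow_zero]

theorem isNilpotent (hp2 : p ≠ 2) (h : Rad p z x N f) : Group.IsNilpotent ↥N := by
  refine Group.of_quotient_center_nilpotent ?_
  have h1 : ∀ a b : ↥N ⧸ center ↥N, a * b = b * a := by
    intro a b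
    obtain ⟨a, rfl⟩ := QuotientGroup.mk'_surjective (center ↥N) a
    obtain ⟨b, rfl⟩ := QuotientGroup.mk'_surjective (center ↥N) b
    rw [← map_mul, ← map_mul]
    refine (QuotientGroup.eq.2 ?_ : QuotientGroup.mk (a * b) = QuotientGroup.mk (b * a))
    obtain ⟨i, hi⟩ := h.comm hp2 (N.inv_mem b.2) (N.inv_mem a.2)
    have h2 : ((a * b)⁻¹ * (b * a) : ↥N) = ⟨x ^ i, N.zpow_mem h.xN i⟩ := by
      apply Subtype.ext
      show ((a : D) * b)⁻¹ * (b * a) = x ^ i
      calc ((a : D) * b)⁻¹ * (b * a) = ((b : D)⁻¹ * (a : D)⁻¹ * ((b : D)⁻¹)⁻¹) * a := by group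
        _ = (a : D)⁻¹ * x ^ i * a := by rw [hi]
        _ = (a : D)⁻¹ * (x ^ i * a) := by group
        _ = (a : D)⁻¹ * (a * x ^ i) := by rw [h.xzc i (a : D)]
        _ = x ^ i := by group
    rw [h2, mem_center_iff]
    intro g
    exact Subtype.ext (h.xzc i g)
  let _ : CommGroup (↥N ⧸ center ↥N) := { (inferInstance : Group (↥N ⧸ center ↥N)) with mul_comm := h1 }
  exact inferInstance

/-- the normal Sylow `p`-subgroup of `N` -/
theorem exists_sylow (hp2 : p ≠ 2) (h : Rad p z x N f) : ∃ S : Subgroup D, S.Normal ∧ IsPGroup p ↥S ∧ S ≤ N ∧ x ∈ S ∧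
    ∀ k : ℕ, p ^ k ∣ Nat.card ↥N → p ^ k ∣ Nat.card ↥S := by
  have hN := h.nN
  have hnil : Group.IsNilpotent ↥N := h.isNilpotent hp2
  obtain ⟨P⟩ : Nonempty (Sylow p ↥N) := inferInstance
  have hPn : (P : Subgroup ↥N).Normal := inferInstance
  have hPc : (P : Subgroup ↥N).Characteristic := Sylow.characteristic_of_normal P hPn
  refine ⟨(P : Subgroup ↥N).map N.subtype, ConjAct.normal_of_characteristic_of_normal, P.isPGroup'.map _,
    map_subtype_le _, ?_, ?_⟩
  · -- `x ∈ P`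
    have hx : IsPGroup p ↥(zpowers (⟨x, h.xN⟩ : ↥N)) := by
      refine IsPGroup.of_card (n := 1) ?_
      rw [Nat.card_zpowers, ← Subgroup.orderOf_coe, pow_one]
      exact h.ox
    obtain ⟨P', hP'⟩ := hx.exists_le_sylow
    have : Subsingleton (Sylow p ↥N) := by
      have := Sylow.unique_of_normal P hPn
      infer_instance
    rw [Subsingleton.elim P' P] at hP'
    exact ⟨⟨x, h.xN⟩, hP' (mem_zpowers _), rfl⟩
  · intro k hk
    rw [card_map_of_injective N.subtype_injective]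
    exact P.pow_dvd_card_of_pow_dvd_card hk

theorem f_central [hA : IsSimpleGroup A] (h : Rad p z x N f) (hAc : ¬ Group.IsSolvable A)
    {c : ↥(centralizer ({z} : Set D))} (hc : ∀ g : ↥(centralizer ({z} : Set D)), g * c = c * g) : f c = 1 := by
  have h1 : f c ∈ center A := by
    rw [mem_center_iff]
    intro a
    obtain ⟨g, rfl⟩ := h.surj a
    rw [← map_mul, ← map_mul, hc]
  rcases (inferInstance : (center A).Normal).eq_bot_or_eq_top with h2 | h2
  · rw [h2] at h1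
    exact mem_bot.1 h1
  · exact (hAc (Group.isSolvable_of_comm fun a b => by
      have h3 : b ∈ center A := by rw [h2]; trivial
      exact mem_center_iff.1 h3 a)).elim

/-- a normal subgroup of `D` is solvable or covers `A` modulo `N` -/
theorem solvable_or_cover [hA : IsSimpleGroup A] (hp2 : p ≠ 2) (h : Rad p z x N f) (C : Subgroup D) [hC : C.Normal] :
    Group.IsSolvable ↥C ∨ ∀ a : A, ∃ c : ↥(centralizer ({z} : Set D)), (c : D) ∈ C ⊔ N ∧ f c = a := by
  have hN := h.nN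
  have h1 : (((C ⊔ N).subgroupOf (centralizer ({z} : Set D))).map f).Normal :=
    (inferInstance : ((C ⊔ N).subgroupOf (centralizer ({z} : Set D))).Normal).map f h.surj
  rcases h1.eq_bot_or_eq_top with h2 | h2
  · left
    have hs : Group.IsSolvable ↥N := by
      have := h.isNilpotent hp2
      infer_instance
    refine solvable_of_mul (E := zpowers z) hs inferInstance fun y hy => ?_
    obtain ⟨n, hn, c, hc, rfl⟩ := h.sup y
    have h3 : c ∈ C ⊔ N := by
      have h4 : c = n⁻¹ * (n * c) := by group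
      rw [h4]
      exact mul_mem (mem_sup_right (N.inv_mem hn)) (mem_sup_left hy)
    have h5 : f ⟨c, mem_centralizer_singleton_iff.2 hc⟩ ∈
        ((C ⊔ N).subgroupOf (centralizer ({z} : Set D))).map f := mem_map_of_mem f (mem_subgroupOf.2 h3)
    rw [h2] at h5
    obtain ⟨i, hi⟩ := h.ker _ (mem_bot.1 h5)
    have hi' : c = x ^ i ∨ c = x ^ i * z := hi
    rcases hi' with hi | hi
    · exact ⟨n * x ^ i, N.mul_mem hn (N.zpow_mem h.xN i), 1, one_mem _, by rw [hi, mul_one]⟩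
    · exact ⟨n * x ^ i, N.mul_mem hn (N.zpow_mem h.xN i), z, mem_zpowers z, by rw [hi]; group⟩
  · right
    intro a
    have h3 : a ∈ ((C ⊔ N).subgroupOf (centralizer ({z} : Set D))).map f := by rw [h2]; trivial
    obtain ⟨c, hc, rfl⟩ := h3
    exact ⟨c, mem_subgroupOf.1 hc, rfl⟩

/-- the kernel of `f` is central -/
theorem ker_central (h : Rad p z x N f) {j : ↥(centralizer ({z} : Set D))} (hj : f j = 1)
    (g : ↥(centralizer ({z} : Set D))) : g * j = j * g := by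
  have hg : (g : D) * z = z * g := mem_centralizer_singleton_iff.1 g.2
  apply Subtype.ext
  show (g : D) * j = j * g
  obtain ⟨i, hi | hi⟩ := h.ker j hj
  · rw [hi]
    exact h.xzc i g
  · rw [hi]
    calc (g : D) * (x ^ i * z) = (g * x ^ i) * z := by group
      _ = x ^ i * (g * z) := by rw [h.xzc]; group
      _ = x ^ i * z * g := by rw [hg]; group

theorem ker_sq (h : Rad p z x N f) {j : ↥(centralizer ({z} : Set D))} (hj : f j = 1) :
    ∃ i : ℤ, (j : D) * j = x ^ i := by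
  obtain ⟨i, hi | hi⟩ := h.ker j hj
  · exact ⟨i + i, by rw [hi, zpow_add]⟩
  · refine ⟨i + i, ?_⟩
    rw [hi, zpow_add]
    calc x ^ i * z * (x ^ i * z) = x ^ i * (z * x ^ i) * z := by group
      _ = x ^ i * (x ^ i * z) * z := by rw [h.xzc i z]
      _ = x ^ i * x ^ i * (z * z) := by group
      _ = x ^ i * x ^ i := by rw [h.zz, mul_one]

/-- a non-solvable normal subgroup of `D` contains `z` modulo `N`, if `z` is a square in `C_D(z)` -/
theorem z_mem_sup [hA : IsSimpleGroup A] (hp2 : p ≠ 2) (h : Rad p z x N f) {k : ↥(centralizer ({z} : Set D))}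
    (hk : (k : D) * k = z) (C : Subgroup D) [hC : C.Normal] (hCs : ¬ Group.IsSolvable ↥C) :
    ∃ c ∈ C, ∃ n ∈ N, z = c * n := by
  have hN := h.nN
  obtain ⟨c, hc, hck⟩ := (h.solvable_or_cover hp2 C).resolve_left hCs (f k)
  -- `k = c j`
  have hj : f (c⁻¹ * k) = 1 := by rw [map_mul, map_inv, hck, inv_mul_cancel]
  obtain ⟨i, hi⟩ := h.ker_sq hj
  have h1 : k * k = c * c * ((c⁻¹ * k) * (c⁻¹ * k)) := by
    have h2 := h.ker_central hj c
    calc k * k = (c * (c⁻¹ * k)) * (c * (c⁻¹ * k)) := by group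
      _ = c * ((c⁻¹ * k) * c) * (c⁻¹ * k) := by group
      _ = c * (c * (c⁻¹ * k)) * (c⁻¹ * k) := by rw [← h2]
      _ = _ := by group
  have h3 : z ∈ C ⊔ N := by
    have h4 : z = (c : D) * c * x ^ i := by
      rw [← hi]
      exact hk.symm.trans (congrArg Subtype.val h1)
    rw [h4]
    exact mul_mem (mul_mem hc hc) (mem_sup_right (N.zpow_mem h.xN i))
  obtain ⟨c', hc', n, hn, e⟩ := mem_sup_of_normal_left.1 h3
  exact ⟨c', hc', n, hn, e.symm⟩

theorem card_N_mul [hA : IsSimpleGroup A] (hAc : ¬ Group.IsSolvable A) (h : Rad p z x N f) :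
    ∃ m : ℕ, m ∣ 2 ∧ Nat.card D = Nat.card ↥N * (Nat.card A * m) := by
  have hN := h.nN
  let α : ↥(centralizer ({z} : Set D)) →* D ⧸ N := (QuotientGroup.mk' N).comp (centralizer ({z} : Set D)).subtype
  have hα : Function.Surjective α := by
    intro y
    obtain ⟨g, rfl⟩ := QuotientGroup.mk'_surjective N y
    obtain ⟨n, hn, c, hc, rfl⟩ := h.sup g
    refine ⟨⟨c, mem_centralizer_singleton_iff.2 hc⟩, ?_⟩
    show QuotientGroup.mk' N c = QuotientGroup.mk' N (n * c)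
    rw [map_mul, show QuotientGroup.mk' N n = 1 from (QuotientGroup.eq_one_iff _).2 hn, one_mul]
  have hle : ∀ c, α c = 1 → f c = 1 := by
    intro c hc
    have h1 : (c : D) ∈ N := (QuotientGroup.eq_one_iff _).1 hc
    obtain ⟨i, hi⟩ := mem_zpowers_iff.1 (h.cN c h1 (mem_centralizer_singleton_iff.1 c.2))
    refine h.f_central hAc fun g => Subtype.ext ?_
    show (g : D) * c = c * g
    rw [← hi]
    exact h.xzc i g
  obtain ⟨ρ, hρ⟩ := LThreeMB.exists_fac α hα f (fun a ha => hle a ha)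
  have hρs : Function.Surjective ρ := by
    intro s
    obtain ⟨c, rfl⟩ := h.surj s
    exact ⟨α c, hρ c⟩
  refine ⟨Nat.card ↥ρ.ker, ?_, ?_⟩
  · -- the kernel is `{1, z}`
    have h1 : ρ.ker ≤ zpowers (QuotientGroup.mk' N z) := by
      intro e he
      obtain ⟨c, rfl⟩ := hα e
      have hc : f c = 1 := by rw [← hρ]; exact he
      obtain ⟨i, hi | hi⟩ := h.ker c hc
      · have h2 : α c = 1 := by
          show QuotientGroup.mk' N (c : D) = 1
          rw [hi]
          exact (QuotientGroup.eq_one_iff _).2 (N.zpow_mem h.xN i)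
        rw [h2]
        exact one_mem _
      · have h2 : α c = QuotientGroup.mk' N z := by
          show QuotientGroup.mk' N (c : D) = _
          rw [hi, map_mul, show QuotientGroup.mk' N (x ^ i) = 1 from
            (QuotientGroup.eq_one_iff _).2 (N.zpow_mem h.xN i), one_mul]
        rw [h2]
        exact mem_zpowers _
    refine (card_dvd_of_le h1).trans ?_
    rw [Nat.card_zpowers]
    refine orderOf_dvd_of_pow_eq_one ?_
    rw [pow_two, ← map_mul, h.zz, map_one]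
  · rw [card_eq_card_quotient_mul_card_subgroup N, card_eq_card_quotient_mul_card_subgroup ρ.ker,
      Nat.card_congr (QuotientGroup.quotientKerEquivOfSurjective ρ hρs).toEquiv]
    exact Nat.mul_comm _ _

/-- **The radical.** -/
theorem exists_radical [hA : IsSimpleGroup A] (hAc : ¬ Group.IsSolvable A) (hp2 : p ≠ 2) (h : Rad p z x N f)
    {k : ↥(centralizer ({z} : Set D))} (hk : (k : D) * k = z) {a : ℕ} (hD : p ^ (a + 2) ∣ Nat.card D)
    (hAa : ¬ p ^ (a + 1) ∣ Nat.card A) : ∃ S : Subgroup D, S.Normal ∧ IsPGroup p ↥S ∧ S ≤ N ∧ x ∈ S ∧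
      Group.IsSolvable ↥(centralizer (S : Set D)) := by
  obtain ⟨S, hS, hSp, hSN, hxS, hcard⟩ := h.exists_sylow hp2
  refine ⟨S, hS, hSp, hSN, hxS, ?_⟩
  by_contra hns
  obtain ⟨c, hc, n, hn, hz⟩ := h.z_mem_sup hp2 hk (centralizer (S : Set D)) hns
  -- `z` centralizes `S`
  have h1 : S ≤ zpowers x := by
    intro s hs
    obtain ⟨i, hi⟩ := h.comm hp2 hn (hSN hs)
    have h2 : s * x ^ i ∈ S := S.mul_mem hs (S.zpow_mem hxS i)
    have h3 : z * s * z⁻¹ = s * x ^ i := by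
      rw [hz]
      calc c * n * s * (c * n)⁻¹ = c * (n * s * n⁻¹) * c⁻¹ := by group
        _ = c * (s * x ^ i) * c⁻¹ := by rw [hi]
        _ = (s * x ^ i) * c * c⁻¹ := by rw [← mem_centralizer_iff.1 hc _ h2]
        _ = _ := by group
    rw [h.cent_of_mod hp2 h.zz h3, mul_one, mul_inv_eq_iff_eq_mul] at h3
    exact h.cN s (hSN hs) h3.symm
  have h2 : ¬ p ^ 2 ∣ Nat.card ↥N := by
    intro h3
    have h4 := (hcard 2 h3).trans (card_dvd_of_le h1)
    rw [Nat.card_zpowers, h.ox] at h4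
    have h5 := Nat.le_of_dvd hp.out.pos h4
    have h6 := hp.out.two_le
    nlinarith
  obtain ⟨m, hm, hcD⟩ := h.card_N_mul hAc
  have hp1 := hp.out
  have hm0 : ¬ p ∣ m := fun h3 => hp2 ((Nat.prime_dvd_prime_iff_eq hp1 Nat.prime_two).1 (h3.trans hm))
  rw [hcD, ← mul_assoc] at hD
  have hD' : p ^ (a + 2) ∣ Nat.card ↥N * Nat.card A :=
    Nat.Coprime.dvd_of_dvd_mul_right (Nat.Coprime.pow_left _ ((Nat.Prime.coprime_iff_not_dvd hp1).2 hm0)) hD
  obtain ⟨b, w, hb, hw, hbw⟩ := (Nat.dvd_mul).1 hD'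
  obtain ⟨b', hb', rfl⟩ := (Nat.dvd_prime_pow hp1).1 (Dvd.intro w hbw)
  have hb2 : b' ≤ 1 := by
    by_contra h3
    exact h2 ((pow_dvd_pow p (by omega)).trans hb)
  obtain ⟨c', hc', rfl⟩ := (Nat.dvd_prime_pow hp1).1 (Dvd.intro_left _ hbw)
  rw [← pow_add] at hbw
  have h3 := Nat.pow_right_injective hp1.two_le hbw
  exact hAa ((pow_dvd_pow p (by omega)).trans hw)

/-- **`D` is good.** -/
theorem good [hA : IsSimpleGroup A] (hAc : ¬ Group.IsSolvable A) (hp2 : p ≠ 2) (h : Rad p z x N f)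
    {k : ↥(centralizer ({z} : Set D))} (hk : (k : D) * k = z) {a : ℕ} (hD : p ^ (a + 2) ∣ Nat.card D)
    (hAa : ¬ p ^ (a + 1) ∣ Nat.card A) : Good p D := by
  obtain ⟨S, hS, hSp, hSN, hxS, hs⟩ := h.exists_radical hAc hp2 hk hD hAa
  exact good_of_constrained hS hSp hs

end Rad

end Cfsg.Agent.BpSpor.M5
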