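import Cfsg.Agent.BpSpor.Transfer
import Cfsg.Agent.BpSpor.Tools
import Cfsg.Agent.LThreeMB.Inputs
import Cfsg.Agent.CpAutBig.CoOneSeven
import Cfsg.Agent.S0280
import Cfsg.Agent.S0283
import Cfsg.Agent.BpSpor.MFiveAbs
import Cfsg.Agent.CpAutBFive.ZeroXT
import Cfsg.Agent.MFive.Top
import Cfsg.Agent.MFive.KPair
import Cfsg.Agent.S1620
import Cfsg.Agent.J2Sylow.SporSylow

-- merged: Cfsg.Agent.BpSpor.CoOneThree
section

/-!
# S1332: the row `Co1`, `p = 3`, from the facts on the elements of order three (helper18)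

* `core_bot_of_quot` : `O_{p'}(C / Z) = 1`, `Z` a normal `p`-subgroup, implies `O_{p'}(C) = 1`;
* `good_of_noComp` : no component of `C / O_{p'}(C)`: `Good p C`;
* `bps_three_of` : the row from `LThreeMB.CoOne` (helper53, helper15, helper68, helper38) and the class of fixed rank 6
  (helper46).
-/

set_option autoImplicit false

namespace Cfsg.Agent.BpSpor.Co1

open Subgroup Cfsg Cfsg.Agent.BpTab Cfsg.Agent.Lib Cfsg.Agent.LThreeMB
open Cfsg.Spor (Co1)

/-- the `p'`-core of a quotient by a `p`-group -/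
theorem core_bot_of_quot {C : Type*} [Group C] [Finite C] {p : ℕ} [hp : Fact p.Prime] (Z : Subgroup C) [Z.Normal]
    (hZ : IsPGroup p ↥Z) (h : pPrimeCore p (C ⧸ Z) = ⊥) : pPrimeCore p C = ⊥ := by
  have hn := Cores.pPrimeCore_normal (G := C) p
  have hc := Cores.pPrimeCore_coprime (G := C) p
  have h1 : (pPrimeCore p C).map (QuotientGroup.mk' Z) ≤ pPrimeCore p (C ⧸ Z) := by
    refine Cores.le_pPrimeCore (hn.map _ (QuotientGroup.mk'_surjective Z)) ?_
    exact Nat.Coprime.coprime_dvd_left (card_map_dvd _ _) hc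
  rw [h, le_bot_iff, Subgroup.map_eq_bot_iff, QuotientGroup.ker_mk'] at h1
  have h2 : pPrimeCore p C ⊓ Z = ⊥ := by
    obtain ⟨n, hn'⟩ := IsPGroup.iff_card.1 hZ
    refine (Subgroup.disjoint_of_coprime_natCard ?_).eq_bot
    rw [hn']
    exact Nat.Coprime.pow_right n hc
  rw [eq_bot_iff, ← h2]
  exact le_inf le_rfl h1

theorem good_of_noComp {C : Type*} [Group C] [Finite C] {p : ℕ} [hp : Fact p.Prime]
    (h : ∀ L : Subgroup (C ⧸ pPrimeCore p C), ¬ IsComponent L) : Good p C :=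
  good_of_none fun _ hK => h _ hK.2.1

theorem isPGroup_Zx {G : Type*} [Group G] {x : G} {p : ℕ} [Fact p.Prime] (hx : orderOf x = p) :
    IsPGroup p ↥(Zx x) := by
  refine IsPGroup.of_card (n := 1) ?_
  rw [Zx, Nat.card_zpowers, self, Subgroup.orderOf_mk, hx, pow_one]

/-- `C(x) / ⟨x⟩` with trivial `p'`-core -/
theorem good_of_XX {G : Type*} [Group G] [Finite G] {x : G} {p : ℕ} [hp : Fact p.Prime] (hx : orderOf x = p)
    (h : pPrimeCore p (XX x) = ⊥) : Good p ↥(centralizer ({x} : Set G)) :=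
  good_of_core (core_bot_of_quot (Zx x) (isPGroup_Zx hx) h)

/-- `E ≤ M` normal, `|E|` a power of `p`, `M / E` simple of order divisible by `p`, `|X : M| = 2`, `O_2(X) = 1` -/
theorem core_bot_of_chain {X : Type*} [Group X] [Finite X] {p : ℕ} [hp : Fact p.Prime] {E M : Subgroup X} [hE : E.Normal]
    (hEM : E ≤ M) (hEp : IsPGroup p ↥E) (hM2 : M.index = 2)
    (hs : IsSimpleGroup (↥M ⧸ E.subgroupOf M)) (hd : p ∣ Nat.card (↥M ⧸ E.subgroupOf M))
    (h2 : ∀ N : Subgroup X, N.Normal → IsPGroup 2 ↥N → N = ⊥) : pPrimeCore p X = ⊥ := by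
  have hn := Cores.pPrimeCore_normal (G := X) p
  have hc := Cores.pPrimeCore_coprime (G := X) p
  have hM : pPrimeCore p ↥M = ⊥ := by
    refine core_bot_of_quot (E.subgroupOf M) ?_ (BpTab.pPrimeCore_eq_bot_of_simple hs hd)
    obtain ⟨n, hn'⟩ := IsPGroup.iff_card.1 hEp
    refine IsPGroup.of_card (n := n) ?_
    rw [← hn']
    exact Nat.card_congr (subgroupOfEquivOfLe hEM).toEquiv
  have h3 := BpSpor.core_card_dvd_index hM
  rw [hM2] at h3
  apply h2 _ hn
  rcases (Nat.dvd_prime Nat.prime_two).1 h3 with h4 | h4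
  · exact IsPGroup.of_card (n := 0) (by rw [h4, pow_zero])
  · exact IsPGroup.of_card (n := 1) (by rw [h4, pow_one])

theorem card_psu_four {K : Type*} [Field K] [Fintype K] (hK : Fintype.card K = 9) : 3 ∣ Nat.card (PSU 4 K 3) := by
  have h1 := S0280.result (F := K) (q := 3) (by rw [hK]; norm_num) 4 (by norm_num)
  have h2 : 3 ∣ Nat.gcd 4 (3 + 1) * ((3 + 1) * Nat.card (PSU 4 K 3)) := by
    rw [h1]
    exact Dvd.dvd.mul_right (dvd_pow_self 3 (by norm_num)) _
  have h3 : Nat.Prime 3 := by norm_num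
  rcases h3.dvd_mul.1 h2 with h | h
  · norm_num at h
  · rcases h3.dvd_mul.1 h with h | h
    · norm_num at h
    · exact h

/-- **Row `Co1`, `p = 3`**, from the facts on the elements of order three. -/
theorem bps_three_of (I : CoOne)
    (h6 : ∃ s : Co1, orderOf s = 3 ∧ fr s = 2 ^ 6 ∧
      ∀ L : Subgroup (↥(centralizer ({s} : Set Co1)) ⧸ pPrimeCore 3 ↥(centralizer ({s} : Set Co1))), ¬ IsComponent L) :
    BpS 3 Co1 := by
  have hfin : Finite Co1 := CpAutBig.CoOneSeven.finite_co1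
  have : Fact (Nat.Prime 3) := ⟨by norm_num⟩
  -- conjugate elements
  have hconj : ∀ {s t : Co1}, (∃ g : Co1, g * s * g⁻¹ = t) → Good 3 ↥(centralizer ({s} : Set Co1)) →
      Good 3 ↥(centralizer ({t} : Set Co1)) := by
    rintro s t ⟨g, rfl⟩ h
    have e : ↥(centralizer ({s} : Set Co1)) ≃* ↥(centralizer ({g * s * g⁻¹} : Set Co1)) :=
      ((centralizer ({s} : Set Co1)).equivMapOfInjective _ (MulAut.conj g).injective).trans
        (MulEquiv.subgroupCongr (CpAutBig.CoZero.map_centralizer g s))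
    exact h.congr e
  refine Transfer.bps_of_inner CpAutBig.CoOneSeven.center_co1 (CpAutBig.CoOneSeven.autInner 3) fun s hs => ?_
  rcases I.ranks s hs with h | h | h | h
  · obtain ⟨e⟩ := I.suz s hs h
    refine good_of_XX hs (BpTab.pPrimeCore_eq_bot_of_simple ((MulEquiv.isSimpleGroup_congr e).2 S1694.result.1) ?_)
    rw [Nat.card_congr e.toEquiv, S1694.result.2]
    norm_num
  · obtain ⟨t, ht, hft, hL⟩ := h6
    exact hconj (I.six t s ht hs hft h) (good_of_noComp hL)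
  · obtain ⟨t, ht, hft, ⟨e⟩, -, -⟩ := I.nine
    refine hconj (I.eight t s ht hs hft h) (good_of_XX ht (BpTab.pPrimeCore_eq_bot_of_simple ?_ ?_))
    · have h9 : IsSimpleGroup ↥(alternatingGroup (Fin 9)) := alternatingGroup.isSimpleGroup (by simp)
      exact (MulEquiv.isSimpleGroup_congr e).2 h9
    · rw [Nat.card_congr e.toEquiv, nat_card_alternatingGroup, Nat.card_eq_fintype_card, Fintype.card_fin]
      norm_num [Nat.factorial]
  · obtain ⟨t, ht, hft, hT, -⟩ := I.psu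
    obtain ⟨E, M, hE, hM, K, hK1, hK2, hEM, hE3, hM2, hK9, ⟨e⟩⟩ := hT.chain
    refine hconj (I.twelve t s ht hs hft h) (good_of_XX ht ?_)
    refine core_bot_of_chain (E := E) (M := M) hEM ?_ hM2 ?_ ?_ hT.o2
    · exact IsPGroup.of_card (n := 1) (by rw [hE3, pow_one])
    · exact (MulEquiv.isSimpleGroup_congr e).2 (S0283.result (by rw [hK9]; norm_num) 4 (by norm_num) (by norm_num))
    · rw [Nat.card_congr e.toEquiv]
      exact card_psu_four hK9

end Cfsg.Agent.BpSpor.Co1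

end

-- merged: Cfsg.Agent.BpSpor.MFiveTop
section

/-!
# `C_G(x)` for `x` of prime order `p ≥ 3` of fixed rank 0 : the `B_p`-property (helper55)

* `Rad.exists_of_isolated` : `z` isolated in `D` and `C_D(z)` a central extension of a simple group of even order: the
  situation `Rad` of `BpSpor/MFiveAbs`;
* `exists_rad` : for `D = C_G(x)`, `x` of fixed rank 0 in a group with a chart;
* `good_zero` : `Good p C_G(x)` if `z` is a square in `C_G(x)` and `|C_G(x)|` is divisible by `p ^ (a + 2)`, `p ^ (a + 1)` does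
  not divide the order of `C_{Co1}(pi x) / ⟨pi x⟩`.
-/

set_option autoImplicit false
set_option linter.unusedSectionVars false

namespace Cfsg.Agent.BpSpor.M5

open Subgroup Cfsg Cfsg.Agent.BpTab
open Cfsg.Agent.MonsterU Cfsg.Agent.MFive
open Cfsg.Agent.LThreeMB (fr Zx XX zD toCC toCC_inj toXX self)
open Cfsg.Agent.MonsterU.Ch
open Cfsg.Agent.MonsterU.Lam2 (L2)
open Cfsg.Spor (Co1)

universe u v

/-- **The situation `Rad` from an isolated involution.** -/
theorem Rad.exists_of_isolated {D : Type u} [Group D] [Finite D] {p : ℕ} [hp : Fact p.Prime] (hp2 : p ≠ 2) {z x : D}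
    (hz : orderOf z = 2) (ox : orderOf x = p) (xc : ∀ g, g * x = x * g)
    (hiso : ∀ d : D, (d * z * d⁻¹) * z = z * (d * z * d⁻¹) → d * z * d⁻¹ = z)
    {A : Type v} [Group A] (hA : IsSimpleGroup A) (hev : Even (Nat.card A))
    (f : ↥(centralizer ({z} : Set D)) →* A) (hf : Function.Surjective f)
    (hk : ∀ c, f c = 1 → ∃ i : ℤ, (c : D) = x ^ i ∨ (c : D) = x ^ i * z) : ∃ N : Subgroup D, Rad p z x N f := by
  obtain ⟨N₀, hN₀, hNo₀, hsup₀⟩ := LThreeMB.ZStar.exists_core hz hiso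
  have hzz : z * z = 1 := by rw [← pow_two, ← hz, pow_orderOf_eq_one]
  have hz1 : z ≠ 1 := fun h => by rw [h, orderOf_one] at hz; omega
  have hxn : (zpowers x).Normal := by
    refine ⟨fun n hn g => ?_⟩
    obtain ⟨i, rfl⟩ := mem_zpowers_iff.1 hn
    have h1 : Commute g (x ^ i) := (show Commute g x from xc g).zpow_right i
    rw [h1.eq, mul_inv_cancel_right]
    exact hn
  have hodd : Odd (Nat.card ↥(N₀ ⊔ zpowers x : Subgroup D)) := by
    have h1 : Nat.card ↥(N₀ ⊔ zpowers x : Subgroup D) ∣ Nat.card ↥N₀ * Nat.card ↥(zpowers x) :=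
      Lib.Cores.card_sup_dvd N₀ (zpowers x) hN₀
    refine Odd.of_dvd_nat ?_ h1
    rw [Nat.card_zpowers, ox]
    exact hNo₀.mul (hp.out.odd_of_ne_two hp2)
  have hnz : ∀ n ∈ N₀ ⊔ zpowers x, ∀ i : ℤ, n ≠ x ^ i * z := by
    intro n hn i hni
    have h1 : z ∈ N₀ ⊔ zpowers x := by
      have h2 := mul_mem (inv_mem (mem_sup_right (S := N₀) (zpow_mem_zpowers x i))) hn
      rwa [hni, inv_mul_cancel_left] at h2
    have h3 : orderOf z ∣ Nat.card ↥(N₀ ⊔ zpowers x : Subgroup D) := by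
      rw [← Subgroup.orderOf_mk z h1]
      exact orderOf_dvd_natCard _
    rw [hz] at h3
    exact (Nat.not_even_iff_odd.2 hodd) (even_iff_two_dvd.2 h3)
  refine ⟨N₀ ⊔ zpowers x, ⟨hzz, hz1, ox, xc, inferInstance, hodd, ?_, mem_sup_right (mem_zpowers x), ?_, hf, hk⟩⟩
  · intro g
    have hg : g ∈ N₀ ⊔ centralizer ({z} : Set D) := by rw [hsup₀]; trivial
    obtain ⟨n, hn, c, hc, rfl⟩ := mem_sup_of_normal_left.1 hg
    exact ⟨n, mem_sup_left hn, c, mem_centralizer_singleton_iff.1 hc, rfl⟩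
  · intro n hn hnz'
    -- the image of `N ∩ C(z)` in `A` is trivial
    have h1 : (((N₀ ⊔ zpowers x).subgroupOf (centralizer ({z} : Set D))).map f).Normal :=
      (inferInstance : ((N₀ ⊔ zpowers x).subgroupOf (centralizer ({z} : Set D))).Normal).map f hf
    have hfin : Finite A := Finite.of_surjective f hf
    have h2 : Nat.card ↥(((N₀ ⊔ zpowers x).subgroupOf (centralizer ({z} : Set D))).map f) ∣
        Nat.card ↥(N₀ ⊔ zpowers x : Subgroup D) := by
      refine (card_map_dvd _ f).trans ?_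
      have h3 : Nat.card ↥((N₀ ⊔ zpowers x).subgroupOf (centralizer ({z} : Set D))) =
          Nat.card ↥(((N₀ ⊔ zpowers x).subgroupOf (centralizer ({z} : Set D))).map
            (centralizer ({z} : Set D)).subtype) :=
        (card_map_of_injective (Subgroup.subtype_injective _)).symm
      rw [h3, subgroupOf_map_subtype]
      exact card_dvd_of_le inf_le_left
    rcases h1.eq_bot_or_eq_top with h | h
    · have h4 : f ⟨n, mem_centralizer_singleton_iff.2 hnz'⟩ ∈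
          ((N₀ ⊔ zpowers x).subgroupOf (centralizer ({z} : Set D))).map f :=
        mem_map_of_mem f (mem_subgroupOf.2 hn)
      rw [h] at h4
      obtain ⟨i, hi | hi⟩ := hk _ (mem_bot.1 h4)
      · have hi' : n = x ^ i := hi
        rw [hi']
        exact zpow_mem_zpowers x i
      · exact absurd hi (hnz n hn i)
    · exfalso
      rw [h, card_top] at h2
      exact (Nat.not_even_iff_odd.2 (hodd.of_dvd_nat h2)) hev

section chart

variable {p : ℕ} {G : Type u} [Group G] {Q : Subgroup G} {z : G} {eta : G → L2}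
  {pi : Subgroup.centralizer ({z} : Set G) →* Co1}

/-- **The situation `Rad` in `C_G(x)`**, `x` of fixed rank 0. -/
theorem exists_rad [Finite G] [hp : Fact p.Prime] (h : Chart Q z eta pi) (hp2 : p ≠ 2)
    {x : Subgroup.centralizer ({z} : Set G)} (hx : orderOf x = p) (hfr : fr (pi x) = 1)
    (hiso : ∀ d : G, d * (x : G) = x * d → (d * z * d⁻¹) * z = z * (d * z * d⁻¹) → d * z * d⁻¹ = z)
    (hAs : IsSimpleGroup (XX (pi x))) (hev : Even (Nat.card (XX (pi x)))) :
    ∃ N : Subgroup ↥(centralizer ({(x : G)} : Set G)), Rad p (zD x) (self (x : G)) N (toXX pi x) := by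
  have ho : Odd p := hp.out.odd_of_ne_two hp2
  have hx3 : x ^ p = 1 := by rw [← hx, pow_orderOf_eq_one]
  refine Rad.exists_of_isolated hp2 (orderOf_zD h x) ?_ ?_ ?_ hAs hev (toXX pi x) (toXX_surj h hp.out ho hx3) ?_
  · rw [← Subgroup.orderOf_coe]
    show orderOf (x : G) = p
    rw [Subgroup.orderOf_coe, hx]
  · intro g
    exact Subtype.ext (mem_centralizer_singleton_iff.1 g.2)
  · intro d hd
    exact Subtype.ext (hiso d (mem_centralizer_singleton_iff.1 d.2) (congrArg Subtype.val hd))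
  · intro c hc
    obtain ⟨i, hi | hi⟩ := CpAutBFive.ker_toXX h ho hx3 hfr hc
    · exact ⟨i, Or.inl (Subtype.ext hi)⟩
    · exact ⟨i, Or.inr (Subtype.ext hi)⟩

/-- **`C_G(x)` is good**, `x` of fixed rank 0. -/
theorem good_zero [Finite G] [hp : Fact p.Prime] (h : Chart Q z eta pi) (hp2 : p ≠ 2)
    {x : Subgroup.centralizer ({z} : Set G)} (hx : orderOf x = p) (hfr : fr (pi x) = 1)
    (hiso : ∀ d : G, d * (x : G) = x * d → (d * z * d⁻¹) * z = z * (d * z * d⁻¹) → d * z * d⁻¹ = z)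
    (hAs : IsSimpleGroup (XX (pi x))) (hAc : ¬ Group.IsSolvable (XX (pi x))) (hev : Even (Nat.card (XX (pi x))))
    {k : G} (hkx : k * (x : G) = x * k) (hkk : k * k = z) {a : ℕ}
    (hD : p ^ (a + 2) ∣ Nat.card ↥(centralizer ({(x : G)} : Set G))) (hAa : ¬ p ^ (a + 1) ∣ Nat.card (XX (pi x))) :
    Good p ↥(centralizer ({(x : G)} : Set G)) := by
  obtain ⟨N, hN⟩ := exists_rad h hp2 hx hfr hiso hAs hev
  have hkz : k * z = z * k := by rw [← hkk, mul_assoc]
  refine hN.good hAc hp2 (k := ⟨⟨k, mem_centralizer_singleton_iff.2 hkx⟩, mem_centralizer_singleton_iff.2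
    (Subtype.ext hkz)⟩) ?_ hD hAa
  exact Subtype.ext hkk

/-- an element of fixed rank 0 whose square is `z` in the centralizer of one `x₀` gives one for all -/
theorem exists_sq [Finite G] (h : Chart Q z eta pi) (hp : p.Prime) (ho : Odd p) (hcl : WClassOf p 1)
    {x₀ : Subgroup.centralizer ({z} : Set G)} (hx₀ : orderOf x₀ = p) (hfr₀ : fr (pi x₀) = 1) {k₀ : G}
    (hk₀ : k₀ * (x₀ : G) = x₀ * k₀) (hkk₀ : k₀ * k₀ = z) {x : Subgroup.centralizer ({z} : Set G)}
    (hx : orderOf x = p) (hfr : fr (pi x) = 1) : ∃ k : G, k * (x : G) = x * k ∧ k * k = z := by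
  obtain ⟨c, i, hc⟩ := hcl (pi x) (pi x₀) (orderOf_pi h hp ho hx) (orderOf_pi h hp ho hx₀) hfr hfr₀
  have hc' : c * pi x * c⁻¹ = pi (x₀ ^ i) := by rw [hc, map_pow]
  obtain ⟨g, hg⟩ := exists_conj_of_conj h hp ho (y := x₀ ^ i) (by rw [← hx, pow_orderOf_eq_one])
    (by rw [← pow_mul, mul_comm, pow_mul, ← hx₀, pow_orderOf_eq_one, one_pow]) hc'
  have hg' : (g : G) * x * (g : G)⁻¹ = (x₀ : G) ^ i := congrArg Subtype.val hg
  have hgz : (g : G) * z = z * g := mem_centralizer_singleton_iff.1 g.2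
  have hki : k₀ * (x₀ : G) ^ i = (x₀ : G) ^ i * k₀ := (show Commute k₀ (x₀ : G) from hk₀).pow_right i
  refine ⟨(g : G)⁻¹ * k₀ * g, ?_, ?_⟩
  · calc (g : G)⁻¹ * k₀ * g * x = (g : G)⁻¹ * k₀ * (g * x * (g : G)⁻¹) * g := by group
      _ = (g : G)⁻¹ * (k₀ * (x₀ : G) ^ i) * g := by rw [hg']; group
      _ = (g : G)⁻¹ * ((x₀ : G) ^ i * k₀) * g := by rw [hki]
      _ = (g : G)⁻¹ * ((g * x * (g : G)⁻¹) * k₀) * g := by rw [hg']
      _ = x * ((g : G)⁻¹ * k₀ * g) := by group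
  · calc (g : G)⁻¹ * k₀ * g * ((g : G)⁻¹ * k₀ * g) = (g : G)⁻¹ * (k₀ * k₀) * g := by group
      _ = (g : G)⁻¹ * (z * g) := by rw [hkk₀]; group
      _ = z := by rw [← hgz]; group

/-- the orders of the centralizers of the elements of fixed rank 0 -/
theorem card_eq_zero_rank [Finite G] (h : Chart Q z eta pi) (hp : p.Prime) (ho : Odd p) (hcl : WClassOf p 1)
    {x₀ x : Subgroup.centralizer ({z} : Set G)} (hx₀ : orderOf x₀ = p) (hfr₀ : fr (pi x₀) = 1)
    (hx : orderOf x = p) (hfr : fr (pi x) = 1) :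
    Nat.card ↥(centralizer ({(x₀ : G)} : Set G)) = Nat.card ↥(centralizer ({(x : G)} : Set G)) := by
  obtain ⟨c, i, hc⟩ := hcl (pi x) (pi x₀) (orderOf_pi h hp ho hx) (orderOf_pi h hp ho hx₀) hfr hfr₀
  have hc' : c * pi x * c⁻¹ = pi (x₀ ^ i) := by rw [hc, map_pow]
  obtain ⟨g, hg⟩ := exists_conj_of_conj h hp ho (y := x₀ ^ i) (by rw [← hx, pow_orderOf_eq_one])
    (by rw [← pow_mul, mul_comm, pow_mul, ← hx₀, pow_orderOf_eq_one, one_pow]) hc'
  have hg' : (g : G) * x * (g : G)⁻¹ = (x₀ : G) ^ i := congrArg Subtype.val hg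
  obtain ⟨e⟩ := exists_cent_equiv hp (x := (x : G)) (y := (x₀ : G)) (by rw [Subgroup.orderOf_coe, hx])
    (by rw [Subgroup.orderOf_coe, hx₀]) hg'
  exact Nat.card_congr e.toEquiv

/-- **`5⁴` divides `|C_G(x)|`** for `x` of fixed rank 0. -/
theorem dvd_zero [Finite G] (h : Chart Q z eta pi) (htr : TrNe 5 z pi) (I : CoFive) (h8 : HNEight z pi)
    (hpr : HasPair 5 z pi) (hcl : WClassOf 5 1)
    (h4 : ∃ c : Co1, orderOf c = 5 ∧ fr c = 2 ^ 4 ∧ 5 ^ 4 ∣ Nat.card ↥(centralizer ({c} : Set Co1)))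
    {x : Subgroup.centralizer ({z} : Set G)} (hx : orderOf x = 5) (hfr : fr (pi x) = 1) :
    5 ^ 4 ∣ Nat.card ↥(centralizer ({(x : G)} : Set G)) := by
  have hp : Nat.Prime 5 := Nat.prime_five
  have ho : Odd 5 := by decide
  obtain ⟨c, hc, hfc, hcd⟩ := h4
  obtain ⟨x₄, hx₄, rfl⟩ := KPair.exists_order h hp ho hc
  obtain ⟨x₀, u, g, hx₀, hfr₀, huz, hux, hne, hg⟩ := hpr
  obtain ⟨k, i, hk⟩ := conj_pair h hp ho htr (R := fun n => n = 2 ^ 8) I.ranks I.four
    (fun x hx h2 => ⟨(simple_of_isoHN (h8 x hx h2)).1, (simple_of_isoHN (h8 x hx h2)).2.1⟩) hx₀ hfr₀ huz hux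
    hne hg hx₄ hfc
  obtain ⟨e⟩ := exists_cent_equiv hp (x := (x₄ : G)) (y := (x₀ : G)) (by rw [Subgroup.orderOf_coe, hx₄])
    (by rw [Subgroup.orderOf_coe, hx₀]) hk
  rw [← card_eq_zero_rank h hp ho hcl hx₀ hfr₀ hx hfr, Nat.card_congr e.toEquiv]
  have h5 : x₄ ^ 5 = 1 := by rw [← hx₄, pow_orderOf_eq_one]
  have h6 := card_dvd_of_surjective _ (MFive.be_surj h hp ho h5)
  refine hcd.trans (h6.trans (card_dvd_of_le ?_))
  exact inf_le_right

/-- the facts on `J₂` -/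
theorem j2_facts {S : Type u} [Group S] (h : Spor.IsoJ2 S) : IsSimpleGroup S ∧ Even (Nat.card S) ∧
    ¬ Group.IsSolvable S ∧ ¬ 5 ^ (2 + 1) ∣ Nat.card S := by
  obtain ⟨e⟩ := id h
  have hs : IsSimpleGroup S := (MulEquiv.isSimpleGroup_congr e).2 Cfsg.Agent.S1620.result.1
  have hc : Nat.card S = 604800 := by
    rw [Nat.card_congr e.toEquiv, Cfsg.Agent.J2Sylow.SporSylow.card_J2]
  refine ⟨hs, ?_, ?_, ?_⟩
  · rw [hc]; decide
  · intro h1
    have hf : Finite S := Nat.finite_of_card_ne_zero (by rw [hc]; norm_num)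
    let _ : CommGroup S := { (inferInstance : Group S) with
      mul_comm := (IsSimpleGroup.comm_iff_isSolvable (G := S)).2 h1 }
    have h3 : (Nat.card S).Prime := IsSimpleGroup.prime_card
    rw [hc] at h3
    revert h3
    norm_num
  · rw [hc]; decide

/-- **Every `x` of order 5 in `C(z)`.** -/
theorem good_all [Finite G] (h : Chart Q z eta pi) (htr : TrNe 5 z pi) (I : CoFive)
    (hJ : ∀ s : Co1, orderOf s = 5 → fr s = 1 → Spor.IsoJ2 (XX s)) (h8 : HNEight z pi)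
    (hpr : HasPair 5 z pi) (hcl : WClassOf 5 1)
    (h4 : ∃ c : Co1, orderOf c = 5 ∧ fr c = 2 ^ 4 ∧ 5 ^ 4 ∣ Nat.card ↥(centralizer ({c} : Set Co1)))
    (hk : ∃ (x₀ : Subgroup.centralizer ({z} : Set G)) (k : G), orderOf x₀ = 5 ∧ fr (pi x₀) = 1 ∧
      k * (x₀ : G) = x₀ * k ∧ k * k = z)
    {x : Subgroup.centralizer ({z} : Set G)} (hx : orderOf x = 5) :
    Good 5 ↥(centralizer ({(x : G)} : Set G)) := by
  have hp : Nat.Prime 5 := Nat.prime_five
  have hpf : Fact (Nat.Prime 5) := ⟨hp⟩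
  have ho : Odd 5 := by decide
  rcases cases_five h htr I h8 hpr hx with h1 | ⟨x₀, k, i, hx₀, hfr, hk'⟩
  · have hxo : orderOf (x : G) = 5 := by rw [Subgroup.orderOf_coe, hx]
    obtain ⟨hs, -, hev⟩ := simple_of_isoHN h1
    refine Co1.good_of_XX hxo (pPrimeCore_eq_bot_of_simple hs ?_)
    obtain ⟨e⟩ := id h1
    rw [Nat.card_congr e.toEquiv, Cfsg.Agent.S1701.result.2]
    decide
  · obtain ⟨x₁, k₁, hx₁, hfr₁, hkx₁, hkk₁⟩ := hk
    obtain ⟨k₀, hk₀, hkk₀⟩ := exists_sq h hp ho hcl hx₁ hfr₁ hkx₁ hkk₁ hx₀ hfr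
    obtain ⟨f1, f2, f3, f4⟩ := j2_facts (hJ _ (orderOf_pi h hp ho hx₀) hfr)
    have h2 : Good 5 ↥(centralizer ({(x₀ : G)} : Set G)) :=
      good_zero h (by decide) hx₀ hfr (fun d hd hc => isolated h htr hx₀ hfr d hd hc) f1 f3 f2 hk₀ hkk₀
        (dvd_zero h htr I h8 hpr hcl h4 hx₀ hfr) f4
    obtain ⟨e⟩ := exists_cent_equiv hp (x := (x : G)) (y := (x₀ : G)) (by rw [Subgroup.orderOf_coe, hx])
      (by rw [Subgroup.orderOf_coe, hx₀]) hk'
    exact h2.congr e

end chart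

end Cfsg.Agent.BpSpor.M5

end
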