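import Cfsg.Agent.BpSpor.BFiveAbs
import Cfsg.Agent.BpSpor.MFiveTop
import Cfsg.Agent.CpAutBFive.Asm
import Cfsg.Agent.S0399

/-!
# `C_G(x) ∩ C_G(t)`, `x` of order 5 of fixed rank 0, `t` an involution not conjugate to `z` (helper55)

* `exists_comm` : an involution of `D = N C_D(z)` commutes with a conjugate of `z`;
* `good_zero` : `Good 5 (C_G(x) ∩ C_G(t))`.
-/

set_option autoImplicit false
set_option linter.unusedSectionVars false

namespace Cfsg.Agent.BpSpor.B5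

open Subgroup Cfsg Cfsg.Agent.BpTab
open Cfsg.Agent.MonsterU Cfsg.Agent.MFive
open Cfsg.Agent.LThreeMB (fr Zx XX zD toCC toCC_inj toXX self)
open Cfsg.Agent.MonsterU.Ch
open Cfsg.Agent.MonsterU.Lam2 (L2)
open Cfsg.Agent.J2Type.Model Cfsg.Agent.KFacts.J2.Basic Cfsg.Agent.J2Type.CStruct
open Cfsg.Agent.CpAutBFive (XT mem_XT)
open Cfsg.Spor (Co1)

universe u v

section abs

variable {D : Type u} [Group D] {p : ℕ} {z x : D} {N : Subgroup D} {A : Type v} [Group A]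
  {f : ↥(centralizer ({z} : Set D)) →* A} [Finite D] [hp : Fact p.Prime]

/-- an involution of `D` commutes with a conjugate of `z` -/
theorem exists_comm (h : M5.Rad p z x N f) {t : D} (ht : t * t = 1) :
    ∃ g : D, (g * z * g⁻¹) * t = t * (g * z * g⁻¹) := by
  have hN := h.nN
  have hti : t⁻¹ = t := inv_eq_of_mul_eq_one_left ht
  have hzi := h.zinv
  -- `t z t⁻¹ z⁻¹ ∈ N`
  obtain ⟨n, hn, c, hc, htc⟩ := h.sup t
  set w := z * (t * z * t⁻¹) with hw
  have hwN : w ∈ N := by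
    have h1 : w = (z * n * z⁻¹) * n⁻¹ := by
      rw [hw, htc]
      calc z * (n * c * z * (n * c)⁻¹) = z * (n * (c * z) * c⁻¹ * n⁻¹) := by group
        _ = z * (n * (z * c) * c⁻¹ * n⁻¹) := by rw [hc]
        _ = (z * n * z) * n⁻¹ := by group
        _ = (z * n * z⁻¹) * n⁻¹ := by rw [hzi]
    rw [h1]
    exact N.mul_mem (hN.conj_mem n hn z) (N.inv_mem hn)
  have hodd : Odd (orderOf w) := by
    refine h.oN.of_dvd_nat ?_
    rw [← Subgroup.orderOf_mk w hwN]
    exact orderOf_dvd_natCard _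
  obtain ⟨m, hm⟩ := hodd
  have hwm : w ^ (2 * m + 1) = 1 := by rw [← hm, pow_orderOf_eq_one]
  -- `z` and `t` invert `w`
  have hz : z * w * z⁻¹ = w⁻¹ := by
    rw [hw]
    calc z * (z * (t * z * t⁻¹)) * z⁻¹ = (z * z) * (t * z * t⁻¹) * z⁻¹ := by group
      _ = (t * z * t⁻¹) * z⁻¹ := by rw [h.zz, one_mul]
      _ = (t * z⁻¹ * t⁻¹) * z⁻¹ := by rw [hzi]
      _ = (z * (t * z * t⁻¹))⁻¹ := by group
  have ht' : t * w * t⁻¹ = w⁻¹ := by
    rw [hw]
    calc t * (z * (t * z * t⁻¹)) * t⁻¹ = (t * z * t⁻¹) * ((t * t) * z * (t * t)⁻¹) := by group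
      _ = (t * z * t⁻¹) * z := by rw [ht]; group
      _ = (t * z⁻¹ * t⁻¹) * z⁻¹ := by rw [hzi]
      _ = (z * (t * z * t⁻¹))⁻¹ := by group
  have htz : t * z * t⁻¹ = z * w := by
    rw [hw, ← mul_assoc, h.zz, one_mul]
  -- `y = z w^{m+1}` commutes with `t`
  have hzk : ∀ k : ℕ, z * w ^ k * z⁻¹ = (w ^ k)⁻¹ := by
    intro k
    rw [← conj_pow, hz, inv_pow]
  have htk : ∀ k : ℕ, t * w ^ k * t⁻¹ = (w ^ k)⁻¹ := by
    intro k
    rw [← conj_pow, ht', inv_pow]
  have hy : t * (z * w ^ (m + 1)) * t⁻¹ = z * w ^ (m + 1) := by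
    have h1 : w * (w ^ (m + 1))⁻¹ = w ^ (m + 1) := by
      rw [mul_inv_eq_iff_eq_mul]
      have h2 : w ^ (m + 1) * w ^ (m + 1) = w ^ (2 * m + 1) * w := by
        rw [← pow_add, ← pow_succ]
        congr 1
        omega
      rw [h2, hwm, one_mul]
    calc t * (z * w ^ (m + 1)) * t⁻¹ = (t * z * t⁻¹) * (t * w ^ (m + 1) * t⁻¹) := by group
      _ = z * w * (w ^ (m + 1))⁻¹ := by rw [htz, htk]
      _ = z * (w * (w ^ (m + 1))⁻¹) := by group
      _ = _ := by rw [h1]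
  -- `y` is conjugate to `z` by a power of `w`
  -- `w^{-j} z w^{j} = z w^{2j}` with `2 j ≡ m + 1`
  have hconj : ∀ j : ℕ, (w ^ j)⁻¹ * z * ((w ^ j)⁻¹)⁻¹ = z * w ^ (2 * j) := by
    intro j
    have h1 : (w ^ j)⁻¹ * z = z * w ^ j := by
      rw [← hzk j]
      group
    rw [inv_inv, h1, mul_assoc, ← pow_add, two_mul]
  refine ⟨(w ^ ((m + 1) * (m + 1)))⁻¹, ?_⟩
  have h3 : w ^ (2 * ((m + 1) * (m + 1))) = w ^ (m + 1) := by
    have h4 : 2 * ((m + 1) * (m + 1)) = (2 * m + 1) * (m + 1) + (m + 1) := by ring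
    rw [h4, pow_add, pow_mul, hwm, one_pow, one_mul]
  rw [hconj, h3]
  calc z * w ^ (m + 1) * t = t * (z * w ^ (m + 1)) * t⁻¹ * t := by rw [hy]
    _ = t * (z * w ^ (m + 1)) := by group

/-- the kernel of `f` and involutions: `f s` conjugate to `f w` -/
theorem conj_of_f (hp2 : p ≠ 2) (h : M5.Rad p z x N f) {w s : ↥(centralizer ({z} : Set D))} (hw : (w : D) * w = 1)
    (hs : (s : D) * s = 1) (hc : IsConj (f w) (f s)) :
    (∃ g : D, g * w * g⁻¹ = s) ∨ ∃ g : D, g * (w * z) * g⁻¹ = s := by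
  obtain ⟨a, ha⟩ := isConj_iff.1 hc
  obtain ⟨g, rfl⟩ := h.surj a
  have hj : f ((g * w * g⁻¹)⁻¹ * s) = 1 := by
    rw [map_mul, map_inv, map_mul, map_mul, map_inv, ha, inv_mul_cancel]
  have hgz : (g : D) * z = z * g := mem_centralizer_singleton_iff.1 g.2
  have hwz : (w : D) * z = z * w := mem_centralizer_singleton_iff.1 w.2
  have hwi : (w : D)⁻¹ = w := inv_eq_of_mul_eq_one_left hw
  have key : ∀ (i : ℤ) (y : D), y * y = 1 → (s : D) = y * x ^ i → x ^ i = 1 := by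
    intro i y hy hsy
    apply h.sq_one hp2
    have h1 := hs
    rw [hsy] at h1
    calc x ^ i * x ^ i = (y * y) * (x ^ i * x ^ i) := by rw [hy, one_mul]
      _ = y * (y * x ^ i) * x ^ i := by group
      _ = y * (x ^ i * y) * x ^ i := by rw [h.xzc i y]
      _ = y * x ^ i * (y * x ^ i) := by group
      _ = 1 := h1
  obtain ⟨i, hi | hi⟩ := h.ker _ hj
  · left
    refine ⟨g, ?_⟩
    have h1 : ((g : D) * w * (g : D)⁻¹)⁻¹ * s = x ^ i := hi
    have h2 : (s : D) = ((g : D) * w * (g : D)⁻¹) * x ^ i := by rw [← h1]; group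
    have h3 := key i _ (by
      calc (g : D) * w * (g : D)⁻¹ * (g * w * (g : D)⁻¹) = g * (w * w) * (g : D)⁻¹ := by group
        _ = 1 := by rw [hw]; group) h2
    rw [h2, h3, mul_one]
  · right
    refine ⟨g, ?_⟩
    have h1 : ((g : D) * w * (g : D)⁻¹)⁻¹ * s = x ^ i * z := hi
    have hzi : (g : D)⁻¹ * z = z * (g : D)⁻¹ := (show Commute (g : D) z from hgz).inv_left
    have h2 : (s : D) = ((g : D) * (w * z) * (g : D)⁻¹) * x ^ i := by
      calc (s : D) = ((g : D) * w * (g : D)⁻¹) * (((g : D) * w * (g : D)⁻¹)⁻¹ * s) := by group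
        _ = ((g : D) * w * (g : D)⁻¹) * (x ^ i * z) := by rw [h1]
        _ = ((g : D) * w * (g : D)⁻¹) * (z * x ^ i) := by rw [h.xzc i z]
        _ = (g : D) * w * ((g : D)⁻¹ * z) * x ^ i := by group
        _ = _ := by rw [hzi]; group
    have h3 := key i _ (by
      calc (g : D) * (w * z) * (g : D)⁻¹ * (g * (w * z) * (g : D)⁻¹) = g * (w * (z * w) * z) * (g : D)⁻¹ := by group
        _ = g * ((w * w) * (z * z)) * (g : D)⁻¹ := by rw [← hwz]; group
        _ = 1 := by rw [hw, h.zz]; group) h2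
    rw [h2, h3, mul_one]

end abs

section chart

variable {G : Type u} [Group G] {Q : Subgroup G} {z : G} {eta : G → L2}
  {pi : Subgroup.centralizer ({z} : Set G) →* Co1}

/-- the `5`-subgroups of `C(z)` have order dividing `5⁴` -/
theorem card_dvd_five [Finite G] (h : Chart Q z eta pi) {P : Subgroup G} (hP : IsPGroup 5 ↥P)
    (hPz : P ≤ centralizer ({z} : Set G)) : Nat.card ↥P ∣ 5 ^ 4 := by
  have h5 : Fact (Nat.Prime 5) := ⟨Nat.prime_five⟩
  let g : ↥P →* Co1 := pi.comp (inclusion hPz)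
  have hg : Function.Injective g := by
    rw [injective_iff_map_eq_one]
    intro a ha
    have h1 : (a : G) ∈ Q := (h.pi_eq_one (inclusion hPz a)).1 ha
    have h2 : (a : G) ^ 4 = 1 := pow_four h h1
    have h3 : a ^ 4 = 1 := Subtype.ext h2
    obtain ⟨k, hk⟩ := hP a
    have h4 : a ^ (Nat.gcd 4 (5 ^ k)) = 1 := pow_gcd_eq_one.2 ⟨h3, hk⟩
    have h6 : Nat.gcd 4 (5 ^ k) = 1 := by
      have : Nat.Coprime 4 (5 ^ k) := Nat.Coprime.pow_right k (by decide)
      exact this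
    rwa [h6, pow_one] at h4
  have h1 := card_dvd_of_injective g hg
  rw [Cfsg.Agent.S0399.result.2] at h1
  obtain ⟨n, hn⟩ := IsPGroup.iff_card.1 hP
  rw [hn] at h1 ⊢
  have h2 : n ≤ 4 := by
    by_contra h3
    have h4 : 5 ^ 5 ∣ 4157776806543360000 := (pow_dvd_pow 5 (by omega)).trans h1
    revert h4
    decide
  exact pow_dvd_pow 5 h2

/-- the second involution for all elements of fixed rank 0 -/
theorem exists_u [Finite G] (h : Chart Q z eta pi) (hpr : HasPair 5 z pi) (hcl : WClassOf 5 1)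
    {x : Subgroup.centralizer ({z} : Set G)} (hx : orderOf x = 5) (hfr : fr (pi x) = 1) :
    ∃ u g : G, u * z = z * u ∧ u * (x : G) = x * u ∧ u ≠ z ∧ g * z * g⁻¹ = u := by
  have hp : Nat.Prime 5 := Nat.prime_five
  have ho : Odd 5 := by decide
  obtain ⟨x₀, u, g, hx₀, hfr₀, huz, hux, hne, hg⟩ := hpr
  obtain ⟨c, i, hc⟩ := hcl (pi x) (pi x₀) (orderOf_pi h hp ho hx) (orderOf_pi h hp ho hx₀) hfr hfr₀
  have hc' : c * pi x * c⁻¹ = pi (x₀ ^ i) := by rw [hc, map_pow]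
  obtain ⟨b, hb⟩ := exists_conj_of_conj h hp ho (y := x₀ ^ i) (by rw [← hx, pow_orderOf_eq_one])
    (by rw [← pow_mul, mul_comm, pow_mul, ← hx₀, pow_orderOf_eq_one, one_pow]) hc'
  have hb' : (b : G) * x * (b : G)⁻¹ = (x₀ : G) ^ i := congrArg Subtype.val hb
  have hbz : (b : G) * z = z * b := mem_centralizer_singleton_iff.1 b.2
  have hbz' : (b : G)⁻¹ * z = z * (b : G)⁻¹ := (show Commute (b : G) z from hbz).inv_left
  have hui : u * (x₀ : G) ^ i = (x₀ : G) ^ i * u := (show Commute u (x₀ : G) from hux.symm).pow_right i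
  refine ⟨(b : G)⁻¹ * u * b, (b : G)⁻¹ * g * b, ?_, ?_, ?_, ?_⟩
  · calc (b : G)⁻¹ * u * b * z = (b : G)⁻¹ * u * (b * z) := by group
      _ = (b : G)⁻¹ * (u * z) * b := by rw [hbz]; group
      _ = ((b : G)⁻¹ * z) * u * b := by rw [huz]; group
      _ = z * ((b : G)⁻¹ * u * b) := by rw [hbz']; group
  · calc (b : G)⁻¹ * u * b * x = (b : G)⁻¹ * u * (b * x * (b : G)⁻¹) * b := by group
      _ = (b : G)⁻¹ * (u * (x₀ : G) ^ i) * b := by rw [hb']; group
      _ = (b : G)⁻¹ * ((x₀ : G) ^ i * u) * b := by rw [hui]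
      _ = (b : G)⁻¹ * ((b * x * (b : G)⁻¹) * u) * b := by rw [hb']
      _ = x * ((b : G)⁻¹ * u * b) := by group
  · intro h1
    apply hne
    calc u = b * ((b : G)⁻¹ * u * b) * (b : G)⁻¹ := by group
      _ = (b * z) * (b : G)⁻¹ := by rw [h1]
      _ = z := by rw [hbz]; group
  · calc (b : G)⁻¹ * g * b * z * ((b : G)⁻¹ * g * b)⁻¹ = (b : G)⁻¹ * g * (b * z) * (b : G)⁻¹ * g⁻¹ * b := by group
      _ = (b : G)⁻¹ * (g * z * g⁻¹) * b := by rw [hbz]; group
      _ = _ := by rw [hg]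

/-- `C_{C(x)}(t) = C(x) ∩ C(t)` -/
def centXT' {x t : G} (ht : t * x = x * t) :
    ↥(centralizer ({(⟨t, mem_centralizer_singleton_iff.2 ht⟩ : ↥(centralizer ({x} : Set G)))} :
      Set ↥(centralizer ({x} : Set G)))) ≃* ↥(XT x t) where
  toFun c := ⟨((c : ↥(centralizer ({x} : Set G))) : G), mem_XT.2 ⟨mem_centralizer_singleton_iff.1 c.1.2,
    congrArg Subtype.val (mem_centralizer_singleton_iff.1 c.2)⟩⟩
  invFun c := ⟨⟨c, mem_centralizer_singleton_iff.2 (mem_XT.1 c.2).1⟩,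
    mem_centralizer_singleton_iff.2 (Subtype.ext (mem_XT.1 c.2).2)⟩
  left_inv _ := rfl
  right_inv _ := rfl
  map_mul' _ _ := rfl

/-- centralizers of conjugate elements -/
theorem good_conj {D : Type u} [Group D] [Finite D] {p : ℕ} [Fact p.Prime] {g s t : D} (h : g * s * g⁻¹ = t)
    (hs : Good p ↥(centralizer ({s} : Set D))) : Good p ↥(centralizer ({t} : Set D)) := by
  obtain ⟨⟨e⟩, -⟩ := LThreeMB.exists_XX_equiv h
  exact hs.congr e

/-- **`C(x) ∩ C(t)` is good**, `x` of fixed rank 0, `t` an involution not conjugate to `z`. -/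
theorem good_zero [Finite G] (h : Chart Q z eta pi) (htr : TrNe 5 z pi) (hpr : HasPair 5 z pi) (hcl : WClassOf 5 1)
    {x : Subgroup.centralizer ({z} : Set G)} (hx : orderOf x = 5) (hfr : fr (pi x) = 1)
    (hJ : Spor.IsoJ2 (XX (pi x))) (hD : 5 ^ 4 ∣ Nat.card ↥(centralizer ({(x : G)} : Set G)))
    {k : G} (hkx : k * (x : G) = x * k) (hkk : k * k = z)
    {t : G} (ht : orderOf t = 2) (hxt : (x : G) * t = t * x) (hnt : ∀ d : G, d * t * d⁻¹ ≠ z) :
    Good 5 ↥(XT (x : G) t) := by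
  have h5 : Fact (Nat.Prime 5) := ⟨Nat.prime_five⟩
  obtain ⟨f1, f2, f3, f4⟩ := M5.j2_facts hJ
  obtain ⟨N, hN⟩ := M5.exists_rad h (by decide) hx hfr (fun d hd hc => isolated h htr hx hfr d hd hc) f1 f2
  have hkz : k * z = z * k := by rw [← hkk, mul_assoc]
  let kD : ↥(centralizer ({zD x} : Set ↥(centralizer ({(x : G)} : Set G)))) :=
    ⟨⟨k, mem_centralizer_singleton_iff.2 hkx⟩, mem_centralizer_singleton_iff.2 (Subtype.ext hkz)⟩
  have hkD : (kD : ↥(centralizer ({(x : G)} : Set G))) * kD = zD x := Subtype.ext hkk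
  obtain ⟨S, hS, hSp, hSN, hxS, hs⟩ := hN.exists_radical f3 (by decide) hkD hD f4
  have hzz : z * z = 1 := h.large.z_sq
  have htt : t * t = 1 := by rw [← pow_two, ← ht, pow_orderOf_eq_one]
  -- the two involutions
  obtain ⟨u, g₀, huz, hux, hune, hg₀⟩ := exists_u h hpr hcl hx hfr
  have huu : u * u = 1 := by
    rw [← hg₀]
    calc g₀ * z * g₀⁻¹ * (g₀ * z * g₀⁻¹) = g₀ * (z * z) * g₀⁻¹ := by group
      _ = 1 := by rw [hzz]; group
  have hu1 : u ≠ 1 := by
    intro h1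
    apply h.large.z_ne
    calc z = g₀⁻¹ * (g₀ * z * g₀⁻¹) * g₀ := by group
      _ = 1 := by rw [hg₀, h1]; group
  let w : ↥(centralizer ({zD x} : Set ↥(centralizer ({(x : G)} : Set G)))) :=
    ⟨⟨u, mem_centralizer_singleton_iff.2 hux⟩, mem_centralizer_singleton_iff.2 (Subtype.ext huz)⟩
  let tD : ↥(centralizer ({(x : G)} : Set G)) := ⟨t, mem_centralizer_singleton_iff.2 hxt.symm⟩
  have htD : tD * tD = 1 := Subtype.ext htt
  obtain ⟨g, hg⟩ := exists_comm hN htD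
  -- `s = g⁻¹ t g`
  have hsz : (g⁻¹ * tD * g) * zD x = zD x * (g⁻¹ * tD * g) := by
    calc (g⁻¹ * tD * g) * zD x = g⁻¹ * (tD * (g * zD x * g⁻¹)) * g := by group
      _ = g⁻¹ * ((g * zD x * g⁻¹) * tD) * g := by rw [hg]
      _ = _ := by group
  let s : ↥(centralizer ({zD x} : Set ↥(centralizer ({(x : G)} : Set G)))) :=
    ⟨g⁻¹ * tD * g, mem_centralizer_singleton_iff.2 hsz⟩
  have hss : (s : ↥(centralizer ({(x : G)} : Set G))) * s = 1 := by
    show g⁻¹ * tD * g * (g⁻¹ * tD * g) = 1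
    calc g⁻¹ * tD * g * (g⁻¹ * tD * g) = g⁻¹ * (tD * tD) * g := by group
      _ = 1 := by rw [htD]; group
  have hts : ∀ d : ↥(centralizer ({(x : G)} : Set G)), ∀ y : ↥(centralizer ({(x : G)} : Set G)),
      d * y * d⁻¹ = s → (g * d : ↥(centralizer ({(x : G)} : Set G))) * y * (g * d)⁻¹ = tD := by
    intro d y hd
    have h1 : (g * d) * y * (g * d)⁻¹ = g * (d * y * d⁻¹) * g⁻¹ := by group
    rw [h1, hd]
    show g * (g⁻¹ * tD * g) * g⁻¹ = tD
    group
  have hnt' : ∀ d : ↥(centralizer ({(x : G)} : Set G)), ∀ y : ↥(centralizer ({(x : G)} : Set G)),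
      (∃ b : G, b * z * b⁻¹ = (y : G)) → d * y * d⁻¹ ≠ s := by
    rintro d y ⟨b, hb⟩ hd
    have h1 := congrArg Subtype.val (hts d y hd)
    have h2 : ((g * d : ↥(centralizer ({(x : G)} : Set G))) : G) * (y : G) *
        ((g * d : ↥(centralizer ({(x : G)} : Set G))) : G)⁻¹ = t := h1
    refine hnt ((((g * d : ↥(centralizer ({(x : G)} : Set G))) : G) * b)⁻¹) ?_
    rw [← h2, ← hb]
    group
  have hs1 : (s : ↥(centralizer ({(x : G)} : Set G))) ≠ 1 := by
    intro h1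
    have h2 := hts 1 s (by group)
    have h3 : g⁻¹ * tD * g = 1 := h1
    have h4 : tD = 1 := by
      calc tD = g * (g⁻¹ * tD * g) * g⁻¹ := by group
        _ = 1 := by rw [h3]; group
    have h6 : t = 1 := congrArg Subtype.val h4
    rw [h6, orderOf_one] at ht
    omega
  have hsz' : (s : ↥(centralizer ({(x : G)} : Set G))) ≠ zD x := by
    intro h1
    exact hnt' 1 (zD x) ⟨1, by show 1 * z * 1⁻¹ = z; group⟩ (by rw [h1]; group)
  have hww : (w : ↥(centralizer ({(x : G)} : Set G))) * w = 1 := Subtype.ext huu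
  have hw1 : (w : ↥(centralizer ({(x : G)} : Set G))) ≠ 1 := fun h1 => hu1 (congrArg Subtype.val h1)
  have hwz : (w : ↥(centralizer ({(x : G)} : Set G))) ≠ zD x := fun h1 => hune (congrArg Subtype.val h1)
  -- the images in `J₂`
  have hfin : Finite (XX (pi x)) := Finite.of_surjective _ hN.surj
  obtain ⟨t0, u0, Q0, v0, ρ0, Dt0⟩ := Cfsg.Agent.KFacts.J2.Facts.exists_dat_of hJ
  have hcw : IsConj t0 (toXX pi x w) := hN.isConj_f f3 (by decide) Dt0 hkD (Subtype.ext hww) hw1 hwz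
  have hcs : IsConj t0 (toXX pi x s) := hN.isConj_f f3 (by decide) Dt0 hkD (Subtype.ext hss) hs1 hsz'
  have hDt : ∃ (u' : XX (pi x)) (Q' : Subgroup (centralizer ({toXX pi x w} : Set (XX (pi x)))))
      (v' : Fin 5 → centralizer ({toXX pi x w} : Set (XX (pi x))))
      (ρ' : centralizer ({toXX pi x w} : Set (XX (pi x))) →* SP), Dat (toXX pi x w) u' Q' v' ρ' := by
    obtain ⟨a, ha⟩ := isConj_iff.1 hcw
    have hc : MulAut.conj a t0 = toXX pi x w := ha
    obtain ⟨u', D'⟩ := Dt0.map (MulAut.conj a)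
    rw [← hc]
    exact ⟨u', _, _, _, D'⟩
  obtain ⟨u', Q', v', ρ', Dt⟩ := hDt
  have hws : ∃ d : ↥(centralizer ({(x : G)} : Set G)), d * ((w : ↥(centralizer ({(x : G)} : Set G))) * zD x) * d⁻¹ = s := by
    rcases conj_of_f (by decide) hN hww hss (hcw.symm.trans hcs) with ⟨d, hd⟩ | ⟨d, hd⟩
    · exact absurd hd (hnt' d w ⟨g₀, hg₀⟩)
    · exact ⟨d, hd⟩
  obtain ⟨d, hd⟩ := hws
  have hnc : ∀ e : ↥(centralizer ({(x : G)} : Set G)), e * w * e⁻¹ ≠ w * zD x := by
    intro e he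
    refine hnt' (d * e) w ⟨g₀, hg₀⟩ ?_
    rw [← hd, ← he]
    group
  -- the bound
  have hb : Nat.card ↥(S ⊓ centralizer ({(w : ↥(centralizer ({(x : G)} : Set G)))} :
      Set ↥(centralizer ({(x : G)} : Set G)))) ∣ 5 ^ 4 := by
    let T : Subgroup ↥(centralizer ({(x : G)} : Set G)) := S ⊓ centralizer ({(w : ↥(centralizer ({(x : G)} : Set G)))} :
      Set ↥(centralizer ({(x : G)} : Set G)))
    let j : ↥(centralizer ({(x : G)} : Set G)) →* G :=
      (MulAut.conj g₀⁻¹).toMonoidHom.comp (centralizer ({(x : G)} : Set G)).subtype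
    have hj : Function.Injective j := (MulAut.conj g₀⁻¹).injective.comp Subtype.val_injective
    have h1 : Nat.card ↥(T.map j) = Nat.card ↥T := card_map_of_injective hj
    have h2 : T.map j ≤ centralizer ({z} : Set G) := by
      rintro _ ⟨c, hc, rfl⟩
      rw [mem_centralizer_singleton_iff]
      have h3 : (c : G) * u = u * c := congrArg Subtype.val (mem_centralizer_singleton_iff.1 hc.2)
      show g₀⁻¹ * (c : G) * g₀⁻¹⁻¹ * z = z * (g₀⁻¹ * (c : G) * g₀⁻¹⁻¹)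
      calc g₀⁻¹ * (c : G) * g₀⁻¹⁻¹ * z = g₀⁻¹ * (c * (g₀ * z * g₀⁻¹)) * g₀ := by group
        _ = g₀⁻¹ * ((g₀ * z * g₀⁻¹) * c) * g₀ := by rw [hg₀, h3]
        _ = _ := by group
    have h3 : IsPGroup 5 ↥T := hSp.to_le inf_le_left
    rw [← h1]
    exact card_dvd_five h (h3.map j) h2
  have hgood := good_cent f3 (by decide) hN hSp hSN hxS hs Dt hww hnc hb
  exact (good_conj (hts d _ hd) hgood).congr (centXT' hxt.symm)

end chart

end Cfsg.Agent.BpSpor.B5
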