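import Cfsg.Agent.BpSpor.LocalCrit
import Mathlib.GroupTheory.FixedPointFree

/-!
# S1332, sporadic rows: one involution, centralizer like `3 × 2.A6` (helper25)

* `good_of_act_sylow` : the criterion `BpNum.good_of_act` with Sylow subgroups of `O_{p'}(H)`;
* `good_of_unique` : `s` is the only involution of `C = C_H(s)`, every normal subgroup `K` of odd order of `C` has
  `9 |K| ∣ |C|`, every normal `3'`-subgroup of `C` has order dividing 4, and `|H|` is not divisible by `64`, `625`,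
  `343`, `r ^ 2` (`r ≥ 11`): `Good 3 H`.
-/

set_option autoImplicit false

namespace Cfsg.Agent.BpSpor

open Subgroup Cfsg
open Cfsg.Agent.BpTab Cfsg.Agent.Lib Cfsg.Agent.SignalizersComponents
open Cfsg.Agent.Intrinsic.Charac

universe u

variable {H : Type u} [Group H] [Finite H]

/-- the criterion with Sylow subgroups -/
theorem good_of_act_sylow {p : ℕ} [hp : Fact p.Prime]
    (h : ∀ r : ℕ, r.Prime → r ≠ p → ∀ R0 : Sylow r ↥(pPrimeCore p H),
      Group.IsSolvable (BpNum.act ((R0 : Subgroup ↥(pPrimeCore p H)).map (pPrimeCore p H).subtype)).range) :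
    Good p H := by
  have hOn := Cores.pPrimeCore_normal (G := H) p
  have hO := Cores.pPrimeCore_coprime (G := H) p
  rw [good_iff]
  intro K hK
  have h3 := pElem_eq_of_isPComponent hK
  have hperf := ClassificationK.PCompTransport.isPComponent_perfect p hK
  rw [commutator_eq_bot_iff_le_centralizer, ← h3]
  refine (closure_le _).mpr ?_
  rintro y ⟨hy, n, hn⟩
  have hP : IsPGroup p (zpowers y) := by
    refine IsPGroup.iff_card.2 ?_
    rw [Nat.card_zpowers]
    obtain ⟨k, -, hk⟩ := (Nat.dvd_prime_pow hp.out).1 (orderOf_dvd_of_pow_eq_one hn)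
    exact ⟨k, hk⟩
  have hPK : zpowers y ≤ K := (zpowers_le).2 hy
  refine (BpNum.le_centralizer_of_sylow (O := pPrimeCore p H) (P := zpowers y) ?_) (mem_zpowers y)
  intro r hr hrO
  have : Fact r.Prime := ⟨hr⟩
  obtain ⟨R0⟩ : Nonempty (Sylow r ↥(pPrimeCore p H)) := inferInstance
  have hrp : r ≠ p := by
    rintro rfl
    exact (Nat.Prime.coprime_iff_not_dvd hr).1 hO.symm hrO
  have hRp : IsPGroup r ↥((R0 : Subgroup ↥(pPrimeCore p H)).map (pPrimeCore p H).subtype) := R0.2.map _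
  obtain ⟨g, hg⟩ := BpNum.exists_conj hrp hO hperf hRp (Sylow.normalizer_sup_eq_top R0)
    (h r hr hrp R0) hP hPK
  exact ⟨R0, g, hg⟩

/-- an involution acting without fixed points on a normal subgroup inverts it -/
theorem inv_of_free {s : H} (hs : s * s = 1) {W : Subgroup H} [hW : W.Normal]
    (hf : W ⊓ centralizer ({s} : Set H) = ⊥) : (∀ w ∈ W, s * w * s⁻¹ = w⁻¹) ∧ ∀ a ∈ W, ∀ b ∈ W, a * b = b * a := by
  let φ : ↥W →* ↥W := (MulAut.conjNormal s : MulAut ↥W).toMonoidHom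
  have hφ : ∀ w : ↥W, ((φ w : ↥W) : H) = s * w * s⁻¹ := fun w => MulAut.conjNormal_apply s w
  have h1 : MonoidHom.FixedPointFree φ := by
    intro w hw
    have h2 : s * (w : H) * s⁻¹ = w := by rw [← hφ, hw]
    have h3 : (w : H) ∈ W ⊓ centralizer ({s} : Set H) :=
      ⟨w.2, mem_centralizer_singleton_iff.2 (mul_inv_eq_iff_eq_mul.1 h2).symm⟩
    rw [hf, mem_bot] at h3
    exact Subtype.ext h3
  have h2 : Function.Involutive φ := by
    intro w
    apply Subtype.ext
    rw [hφ, hφ]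
    have h3 : s⁻¹ = s := inv_eq_of_mul_eq_one_right hs
    calc s * (s * (w : H) * s⁻¹) * s⁻¹ = (s * s) * w * (s * s)⁻¹ := by group
      _ = w := by rw [hs]; group
  refine ⟨fun w hw => ?_, fun a ha b hb => ?_⟩
  · have h3 := congrFun (h1.coe_eq_inv_of_involutive h2) ⟨w, hw⟩
    have h4 := congrArg (Subtype.val) h3
    rw [hφ] at h4
    exact h4
  · have h3 : Commute (⟨a, ha⟩ : ↥W) ⟨b, hb⟩ := h1.commute_all_of_involutive h2 _ _
    exact congrArg Subtype.val h3.eq

/-- the numbers `|GL_k(5)|`, `k ≤ 3`, are not divisible by 9 -/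
theorem not_nine_dvd {k : ℕ} (hk : k ≤ 3) : ¬ 9 ∣ ∏ i : Fin k, (5 ^ k - 5 ^ (i : ℕ)) := by
  interval_cases k
  · simp
  · simp
  · simp [Fin.prod_univ_succ]
  · simp [Fin.prod_univ_succ]

theorem eq_five {r : ℕ} (hr : r.Prime) (h3 : r ≠ 3) (h2 : r ≠ 2) (h7 : r ≠ 7) (h11 : r < 11) : r = 5 := by
  have := hr.two_le
  interval_cases r <;> first | omega | exact absurd hr (by norm_num)

/-- `act` of an inverting element is not trivial -/
theorem act_ne_one {r : ℕ} [Fact r.Prime] (hr2 : r ≠ 2) {R : Subgroup H} (hR : IsPGroup r R)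
    {n : ↥(normalizer (R : Set H))} (hinv : ∀ x ∈ R, (n : H) * x * (n : H)⁻¹ = x⁻¹)
    (h1 : BpNum.act R n = 1) : Nat.card (R ⧸ frattini R) = 1 := by
  have hodd : ∀ v : R ⧸ frattini R, v = 1 := by
    intro v
    have h2 : BpNum.act R n v = v := by rw [h1]; rfl
    have h3 : BpNum.act R n v = v⁻¹ := by
      induction v using QuotientGroup.induction_on with
      | H q =>
        rw [BpNum.act_mk, ← QuotientGroup.mk_inv]
        congr 1
        exact Subtype.ext (hinv q q.2)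
    rw [h2] at h3
    have h4 : v ^ 2 = 1 := by
      rw [pow_two]
      nth_rewrite 2 [h3]
      exact mul_inv_cancel v
    have h5 : v ^ r = 1 := BpNum.quo_pow hR v
    have h6 : Nat.Coprime 2 r := (Nat.coprime_primes Nat.prime_two (Fact.out : r.Prime)).2 (Ne.symm hr2)
    have h7 : v ^ Nat.gcd 2 r = 1 := pow_gcd_eq_one.2 ⟨h4, h5⟩
    rwa [h6, pow_one] at h7
  have : Subsingleton (R ⧸ frattini R) := ⟨fun a b => by rw [hodd a, hodd b]⟩
  exact Nat.card_unique

/-- **one involution, `p = 3`** -/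
theorem good_of_unique {s : H} (hs : orderOf s = 2) (hu : ∀ u : H, orderOf u = 2 → u * s = s * u → u = s)
    (hodd : ∀ K : Subgroup ↥(centralizer ({s} : Set H)), K.Normal → Odd (Nat.card ↥K) →
      Nat.card ↥K * 9 ∣ Nat.card ↥(centralizer ({s} : Set H)))
    (hthr : ∀ K : Subgroup ↥(centralizer ({s} : Set H)), K.Normal → ¬ 3 ∣ Nat.card ↥K → Nat.card ↥K ∣ 4)
    (h2 : ¬ 64 ∣ Nat.card H) (h5 : ¬ 625 ∣ Nat.card H) (h7 : ¬ 343 ∣ Nat.card H)
    (h11 : ∀ r : ℕ, r.Prime → 11 ≤ r → ¬ r ^ 2 ∣ Nat.card H) : Good 3 H := by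
  have h3F : Fact (Nat.Prime 3) := ⟨Nat.prime_three⟩
  have h2F : Fact (Nat.Prime 2) := ⟨Nat.prime_two⟩
  have h5F : Fact (Nat.Prime 5) := ⟨Nat.prime_five⟩
  have hn := Cores.pPrimeCore_normal (G := H) 3
  have hco := Cores.pPrimeCore_coprime (G := H) 3
  have hs2 : s * s = 1 := by rw [← pow_two, ← hs, pow_orderOf_eq_one]
  have hs1 : s ≠ 1 := by
    rintro rfl
    rw [orderOf_one] at hs
    norm_num at hs
  refine good_of_act_sylow fun r hr hr3 R0 => ?_
  have : Fact r.Prime := ⟨hr⟩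
  set R : Subgroup H := (R0 : Subgroup ↥(pPrimeCore 3 H)).map (pPrimeCore 3 H).subtype with hRdef
  have hR : IsPGroup r ↥R := R0.2.map _
  by_contra hns
  obtain ⟨k2, k3, k5, k7, k11⟩ := BpNum.dvd_card_of_not_solvable hR hns
  have e2 : r ≠ 2 := fun h => h2 (k2 h)
  have e7 : r ≠ 7 := fun h => h7 (k7 h)
  have e11 : r < 11 := by
    by_contra hlt
    exact h11 r hr (by omega) k11
  have hr5 : r = 5 := eq_five hr hr3 e2 e7 e11
  subst hr5
  -- `X = N C`
  obtain ⟨N, hN, hNodd, hsup⟩ := CpAut.TwoCov.exists_odd_sup hs (fun u hu' hc => by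
    by_cases h1 : u = 1
    · exact Or.inl h1
    · exact Or.inr (hu u (orderOf_eq_prime (by rw [pow_two, hu']) h1) hc))
  set C := centralizer ({s} : Set H) with hCdef
  set W : Subgroup H := N ⊓ pPrimeCore 3 H with hW
  have hWn : W.Normal := inferInstance
  have hWodd : Odd (Nat.card ↥W) := Odd.of_dvd_nat hNodd (card_dvd_of_le inf_le_left)
  -- the fixed points of `s` on `W`
  have hsC : ∀ u : ↥C, (u : H) * s = s * u := fun u => mem_centralizer_singleton_iff.1 u.2
  have hWs : W ⊓ C = ⊥ := by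
    have h1 : (W.subgroupOf C).Normal := inferInstance
    have h3 : Nat.card ↥(W.subgroupOf C) = Nat.card ↥(W ⊓ C) := by
      have e := (W.subgroupOf C).equivMapOfInjective C.subtype C.subtype_injective
      rw [Nat.card_congr e.toEquiv, subgroupOf_map_subtype]
    have h4 : ¬ 3 ∣ Nat.card ↥(W.subgroupOf C) := by
      rw [h3]
      intro hd
      have h6 : Nat.Coprime (Nat.card ↥(W ⊓ C)) 3 := hco.coprime_dvd_left (card_dvd_of_le (inf_le_left.trans inf_le_right))
      exact (Nat.prime_three.coprime_iff_not_dvd.1 h6.symm) hd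
    have h6 := hthr _ h1 h4
    have h8 : Odd (Nat.card ↥(W.subgroupOf C)) := by
      rw [h3]
      exact Odd.of_dvd_nat hWodd (card_dvd_of_le inf_le_left)
    rw [← card_eq_one, ← h3]
    have h9 : Nat.Coprime (Nat.card ↥(W.subgroupOf C)) 4 := by
      rw [show (4 : ℕ) = 2 ^ 2 by norm_num]
      exact (Nat.coprime_two_right.2 h8).pow_right 2
    exact Nat.eq_one_of_dvd_coprimes h9 dvd_rfl h6
  obtain ⟨hinv, hcomm⟩ := inv_of_free hs2 hWs
  -- the core modulo `W`
  have hcore : pPrimeCore 3 H ≤ W ⊔ C := by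
    refine CpAut.TwoCov.sup_eq_top hs W hWodd fun g hg => ⟨?_, ?_⟩
    · have h1 : g ∈ N ⊔ C := by rw [hsup]; exact mem_top g
      obtain ⟨n, hn', c, hc, rfl⟩ := mem_sup_of_normal_left.1 h1
      have h3 : c * s = s * c := mem_centralizer_singleton_iff.1 hc
      have h4 : n * c * s * (n * c)⁻¹ * s⁻¹ = n * (s * n⁻¹ * s⁻¹) := by
        calc n * c * s * (n * c)⁻¹ * s⁻¹ = n * (c * s) * c⁻¹ * n⁻¹ * s⁻¹ := by group
          _ = n * (s * n⁻¹ * s⁻¹) := by rw [h3]; group
      rw [h4]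
      exact N.mul_mem hn' (hN.conj_mem _ (N.inv_mem hn') s)
    · have h4 : g * s * g⁻¹ * s⁻¹ = g * (s * g⁻¹ * s⁻¹) := by group
      rw [h4]
      exact mul_mem hg (hn.conj_mem _ (inv_mem hg) s)
  have hidx : (W.subgroupOf (pPrimeCore 3 H)).index ∣ 4 := by
    have h1 : (pPrimeCore 3 H) = W ⊔ (pPrimeCore 3 H ⊓ C) := by
      apply le_antisymm
      · intro y hy
        obtain ⟨w, hw, c, hc, rfl⟩ := mem_sup_of_normal_left.1 (hcore hy)
        have h3 : c ∈ pPrimeCore 3 H := by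
          have h4 : c = w⁻¹ * (w * c) := by group
          rw [h4]
          exact mul_mem (inv_mem hw.2) hy
        exact mul_mem (mem_sup_left hw) (mem_sup_right ⟨h3, hc⟩)
      · exact sup_le inf_le_right inf_le_left
    have h3 : W.relIndex (pPrimeCore 3 H) = W.relIndex (pPrimeCore 3 H ⊓ C) := by
      conv_lhs => rw [h1]
      rw [sup_comm, relIndex_sup_right]
    have h4 : W.relIndex (pPrimeCore 3 H ⊓ C) ∣ Nat.card ↥(pPrimeCore 3 H ⊓ C) := relIndex_dvd_card _ _
    change W.relIndex (pPrimeCore 3 H) ∣ 4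
    rw [h3]
    refine h4.trans ?_
    have h6 : ((pPrimeCore 3 H).subgroupOf C).Normal := inferInstance
    have h8 : Nat.card ↥((pPrimeCore 3 H).subgroupOf C) = Nat.card ↥(pPrimeCore 3 H ⊓ C) := by
      have e := ((pPrimeCore 3 H).subgroupOf C).equivMapOfInjective C.subtype C.subtype_injective
      rw [Nat.card_congr e.toEquiv, subgroupOf_map_subtype]
    rw [← h8]
    refine hthr _ h6 ?_
    rw [h8]
    intro hd
    have h9 : Nat.Coprime (Nat.card ↥(pPrimeCore 3 H ⊓ C)) 3 := hco.coprime_dvd_left (card_dvd_of_le inf_le_left)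
    exact (Nat.prime_three.coprime_iff_not_dvd.1 h9.symm) hd
  -- 5-elements of the core are in `W`
  have h5W : ∀ y ∈ pPrimeCore 3 H, ∀ k : ℕ, y ^ 5 ^ k = 1 → y ∈ W := by
    intro y hy k hk
    have h1 : y ^ 4 ∈ W := by
      have h3 : (⟨y, hy⟩ : ↥(pPrimeCore 3 H)) ^ (W.subgroupOf (pPrimeCore 3 H)).index ∈ W.subgroupOf (pPrimeCore 3 H) :=
        Subgroup.pow_index_mem _ _
      obtain ⟨m, hm⟩ := hidx
      have h4 : (⟨y, hy⟩ : ↥(pPrimeCore 3 H)) ^ 4 ∈ W.subgroupOf (pPrimeCore 3 H) := by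
        rw [hm, pow_mul]
        exact pow_mem h3 m
      exact mem_subgroupOf.1 h4
    have h3 : Nat.Coprime 4 (5 ^ k) := Nat.Coprime.pow_right k (by norm_num)
    have h4 : QuotientGroup.mk' W y = 1 := by
      have a1 : (QuotientGroup.mk' W y) ^ 4 = 1 := by
        rw [← map_pow]
        exact (QuotientGroup.eq_one_iff _).2 h1
      have a2 : (QuotientGroup.mk' W y) ^ 5 ^ k = 1 := by rw [← map_pow, hk, map_one]
      have a3 : (QuotientGroup.mk' W y) ^ Nat.gcd 4 (5 ^ k) = 1 := pow_gcd_eq_one.2 ⟨a1, a2⟩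
      rwa [h3, pow_one] at a3
    exact (QuotientGroup.eq_one_iff _).1 h4
  have hRW : R ≤ W := by
    rintro _ ⟨y, hy, rfl⟩
    obtain ⟨k, hk⟩ := R0.2 ⟨y, hy⟩
    exact h5W y y.2 k (congrArg (fun z : ↥(R0 : Subgroup ↥(pPrimeCore 3 H)) => ((z : ↥(pPrimeCore 3 H)) : H)) hk)
  have hWR : ∀ y ∈ W, ∀ k : ℕ, y ^ 5 ^ k = 1 → y ∈ R := by
    intro y hy k hk
    have h1 : IsPGroup 5 ↥(zpowers y) := by
      obtain ⟨j, -, hj⟩ := (Nat.dvd_prime_pow Nat.prime_five).1 (orderOf_dvd_of_pow_eq_one hk)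
      exact IsPGroup.of_card (n := j) (by rw [Nat.card_zpowers, hj])
    have h3 : zpowers y ≤ W := zpowers_le.2 hy
    have h4 : zpowers y ≤ normalizer (R : Set H) := by
      intro z hz
      rw [mem_normalizer_iff]
      have key : ∀ z ∈ W, ∀ x ∈ R, z * x * z⁻¹ ∈ R := by
        intro z hz x hx
        rw [hcomm z hz x (hRW hx), mul_inv_cancel_right]
        exact hx
      intro x
      refine ⟨fun hx => key z (h3 hz) x hx, fun hx => ?_⟩
      have h4 := key z⁻¹ (inv_mem (h3 hz)) _ hx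
      have h6 : z⁻¹ * (z * x * z⁻¹) * z⁻¹⁻¹ = x := by group
      rwa [h6] at h4
    have h6 : IsPGroup 5 ↥(zpowers y ⊔ R) := IsPGroup.to_sup_of_normal_right' h1 hR h4
    have h8 : zpowers y ⊔ R ≤ pPrimeCore 3 H := sup_le (h3.trans inf_le_right) (hRW.trans inf_le_right)
    have h9 : (R0 : Subgroup ↥(pPrimeCore 3 H)) ≤ (zpowers y ⊔ R).subgroupOf (pPrimeCore 3 H) := by
      intro z hz
      rw [mem_subgroupOf]
      exact mem_sup_right ⟨z, hz, rfl⟩
    have h10 := R0.3 (h6.comap_of_injective (pPrimeCore 3 H).subtype (pPrimeCore 3 H).subtype_injective :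
      IsPGroup 5 ↥((zpowers y ⊔ R).subgroupOf (pPrimeCore 3 H))) h9
    refine ⟨⟨y, hy.2⟩, ?_, rfl⟩
    change (⟨y, hy.2⟩ : ↥(pPrimeCore 3 H)) ∈ (R0 : Subgroup ↥(pPrimeCore 3 H))
    rw [← h10]
    change y ∈ zpowers y ⊔ R
    exact mem_sup_left (mem_zpowers y)
  have hRn : R.Normal := by
    refine ⟨fun x hx g => ?_⟩
    obtain ⟨k, hk⟩ := hR ⟨x, hx⟩
    have hk' : x ^ 5 ^ k = 1 := congrArg Subtype.val hk
    exact hWR _ (hWn.conj_mem x (hRW hx) g) k (by rw [conj_pow, hk', mul_one, mul_inv_cancel])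
  -- the action of `C`
  have htop : normalizer (R : Set H) = ⊤ := normalizer_eq_top_iff.2 hRn
  have hle : C ≤ normalizer (R : Set H) := by rw [htop]; exact le_top
  let φ : ↥C →* MulAut (R ⧸ frattini R) := (BpNum.act R).comp (inclusion hle)
  obtain ⟨k, hk⟩ : ∃ k, Nat.card (R ⧸ frattini R) = 5 ^ k := by
    obtain ⟨m, hm⟩ := IsPGroup.iff_card.1 hR
    have hq : Nat.card (R ⧸ frattini R) ∣ Nat.card R := card_quotient_dvd_card _
    obtain ⟨k, -, hk⟩ := (Nat.dvd_prime_pow Nat.prime_five).1 (hm ▸ hq)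
    exact ⟨k, hk⟩
  have hk3 : k ≤ 3 := by
    by_contra hlt
    apply h5
    have h1 : 5 ^ 4 ∣ 5 ^ k := pow_dvd_pow 5 (by omega)
    rw [show (625 : ℕ) = 5 ^ 4 by norm_num]
    refine h1.trans ?_
    rw [← hk]
    exact (card_quotient_dvd_card _).trans (card_subgroup_dvd_card _)
  have hk0 : k ≠ 0 := by
    rintro rfl
    apply hns
    have h1 : Group.IsSolvable (MulAut (R ⧸ frattini R)) := BpNum.mulAut_solvable_of_le_one (r := 5) hk (by norm_num)
    infer_instance
  have hker : φ.ker.Normal := inferInstance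
  have hsk : (⟨s, mem_centralizer_singleton_iff.2 rfl⟩ : ↥C) ∉ φ.ker := by
    intro h1
    have h3 := act_ne_one (n := (inclusion hle) ⟨s, mem_centralizer_singleton_iff.2 rfl⟩) (by norm_num) hR
      (fun x hx => hinv x (hRW hx)) (MonoidHom.mem_ker.1 h1)
    rw [hk] at h3
    exact hk0 ((Nat.pow_eq_one.1 h3).resolve_left (by norm_num))
  have hkodd : Odd (Nat.card ↥φ.ker) := by
    rw [← Nat.not_even_iff_odd]
    intro he
    obtain ⟨u, hu'⟩ := exists_prime_orderOf_dvd_card' 2 (even_iff_two_dvd.1 he)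
    apply hsk
    have h1 : (((u : ↥φ.ker) : ↥C) : H) = s :=
      hu _ (by rw [Subgroup.orderOf_coe, Subgroup.orderOf_coe, hu']) (hsC _)
    have h3 : (⟨s, mem_centralizer_singleton_iff.2 rfl⟩ : ↥C) = (u : ↥C) := Subtype.ext h1.symm
    rw [h3]
    exact u.2
  have h9 := hodd _ hker hkodd
  have h10 : 9 ∣ Nat.card φ.range := by
    have h1 : Nat.card ↥φ.ker * Nat.card φ.range = Nat.card ↥C := by
      rw [← index_ker, card_mul_index]
    rw [← h1] at h9
    exact Nat.dvd_of_mul_dvd_mul_left Nat.card_pos h9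
  have h12 : 9 ∣ Nat.card (MulAut (R ⧸ frattini R)) := h10.trans (card_subgroup_dvd_card _)
  rw [BpNum.card_mulAut (BpNum.quo_comm hR) (BpNum.quo_pow hR) hk] at h12
  exact not_nine_dvd hk3 h12

end Cfsg.Agent.BpSpor
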