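import Cfsg.Agent.LThreeBX.Main
import Cfsg.Agent.BpSpor.Tools
import Cfsg.Agent.Lib.KleinGen
import Cfsg.Agent.Lib.HallHigman
import Cfsg.Agent.LThreeCo1Six.Main
import Cfsg.Agent.LThreeCo1.Ranks
import Cfsg.Agent.LThreeBX.NoSeven
import Cfsg.Agent.LThreeMB.Six
import Cfsg.Agent.BpSpor.Act
import Cfsg.Agent.BpSpor.UniqueCrit
import Cfsg.Agent.S1694
import Cfsg.Agent.LThreeMB.NegRoot
import Cfsg.Agent.LThreeMB.Inputs
import Cfsg.Agent.LThreeB.Asm

-- merged: Cfsg.Agent.BpSpor.BThreeAbs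
section

/-!
# Isolated involutions and `3`-components (helper46)

`Zer z φ` : `z` is isolated in `D`, `φ : C_D(z) → X` onto a simple group with a small central kernel, `z` a square in `C_D(z)`.

* `mem_of_cover` : a normal subgroup of `C_D(z)` outside the kernel contains `z`;
* `not_comm_t` : if `z` does not centralise the normal subgroup `A` of odd order then `z t` does not centralise `C_A(t)`;
* `no_comp` : `D` has no `3`-component, if `z` does not centralise a normal `3`-subgroup;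
* `no_comp_t` : `C_D(t)` has no `3`-component;
* `exists_three` : `z` does not centralise a normal `3`-subgroup.
-/

set_option autoImplicit false

namespace Cfsg.Agent.BpSpor.BThree

open Subgroup Cfsg Cfsg.Agent.Lib Cfsg.Agent.SignalizersComponents Cfsg.Agent.BpTab Cfsg.Agent.LThreeBX
open scoped commutatorElement

universe u v

/-- an involution acting as an element of odd order acts trivially -/
theorem act_odd {D : Type*} [Group D] {A : Subgroup D} {u n : D} (huu : u * u = 1) (hn : Odd (orderOf n))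
    (hA : ∀ a ∈ A, n * a * n⁻¹ ∈ A) (h : ∀ a ∈ A, u * a * u⁻¹ = n * a * n⁻¹) {a : D} (ha : a ∈ A) : a * u = u * a := by
  have h2 : ∀ b ∈ A, (n * n) * b * (n * n)⁻¹ = b := by
    intro b hb
    calc (n * n) * b * (n * n)⁻¹ = n * (n * b * n⁻¹) * n⁻¹ := by group
      _ = u * (u * b * u⁻¹) * u⁻¹ := by rw [← h _ (hA b hb), h b hb]
      _ = (u * u) * b * (u * u)⁻¹ := by group
      _ = b := by rw [huu]; group
  obtain ⟨m, hm⟩ := hn
  have h3 : n = ((n * n) ^ m)⁻¹ := by
    rw [eq_inv_iff_mul_eq_one, ← pow_two, ← pow_mul, ← pow_succ', ← hm, pow_orderOf_eq_one]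
  have h4 : ∀ k : ℕ, (n * n) ^ k * a = a * (n * n) ^ k := by
    have h5 : Commute (n * n) a := mul_inv_eq_iff_eq_mul.1 (h2 a ha)
    exact fun k => (h5.pow_left k).eq
  have h5 : Commute n a := by
    rw [h3]
    exact Commute.inv_left (h4 m)
  have h6 : u * a * u⁻¹ = a := by
    rw [h a ha]
    exact mul_inv_eq_iff_eq_mul.2 h5.eq
  exact (mul_inv_eq_iff_eq_mul.1 h6).symm

/-- The situation. -/
structure Zer {D : Type u} [Group D] (z : D) {X : Type v} [Group X] (φ : ↥(centralizer ({z} : Set D)) →* X) :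
    Prop where
  two : orderOf z = 2
  iso : ∀ d : D, (d * z * d⁻¹) * z = z * (d * z * d⁻¹) → d * z * d⁻¹ = z
  surj : Function.Surjective φ
  ker : Abs.Ker φ
  zker : φ Abs.zA = 1
  cen : ∀ k ∈ φ.ker, k ^ 3 = 1 → (k : D) ∈ center D
  simple : IsSimpleGroup X
  root : ∃ k : ↥(centralizer ({z} : Set D)), k * k = Abs.zA

section

variable {D : Type u} [Group D] [Finite D] {z : D} {X : Type v} [Group X]
  {φ : ↥(centralizer ({z} : Set D)) →* X}

namespace Zer

omit [Finite D] in
theorem sq (H : Zer z φ) : z * z = 1 := by rw [← pow_two, ← H.two, pow_orderOf_eq_one]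

omit [Finite D] in
theorem ne_one (H : Zer z φ) : z ≠ 1 := by
  intro h
  have := H.two
  rw [h, orderOf_one] at this
  norm_num at this

omit [Finite D] in
/-- A normal subgroup of `C(z)` not in the kernel contains `z`. -/
theorem cover (H : Zer z φ) {K : Subgroup ↥(centralizer ({z} : Set D))} (hK : K.Normal)
    {w : ↥(centralizer ({z} : Set D))} (hw : w ∈ K) (hφ : φ w ≠ 1) : Abs.zA ∈ K := by
  have := H.simple
  have hn : (K.map φ).Normal := Subgroup.Normal.map hK φ H.surj
  rcases hn.eq_bot_or_eq_top with h | h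
  · exact absurd ((Subgroup.mem_bot).1 (h ▸ mem_map_of_mem φ hw)) hφ
  · obtain ⟨k, hk⟩ := H.root
    obtain ⟨k', hk', he⟩ : φ k ∈ K.map φ := by rw [h]; trivial
    obtain ⟨c, hc⟩ : ∃ c, c = k'⁻¹ * k := ⟨_, rfl⟩
    have hcker : c ∈ φ.ker := by rw [hc, MonoidHom.mem_ker, map_mul, map_inv, he, inv_mul_cancel]
    have hkc : k = k' * c := by rw [hc]; group
    have hz3 : (Abs.zA : ↥(centralizer ({z} : Set D))) = Abs.zA ^ 3 := by
      have h1 : (Abs.zA : ↥(centralizer ({z} : Set D))) * Abs.zA = 1 := Subtype.ext H.sq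
      rw [pow_succ, pow_two, h1, one_mul]
    have h1 : (Abs.zA : ↥(centralizer ({z} : Set D))) = k' ^ 6 := by
      have h2 : Commute k' c := H.ker.cen c hcker k'
      calc (Abs.zA : ↥(centralizer ({z} : Set D))) = Abs.zA ^ 3 := hz3
        _ = (k * k) ^ 3 := by rw [hk]
        _ = (k' * c) ^ 6 := by rw [← pow_two, ← pow_mul, hkc]
        _ = k' ^ 6 * c ^ 6 := h2.mul_pow 6
        _ = k' ^ 6 := by rw [H.ker.six c hcker, mul_one]
    rw [h1]
    exact K.pow_mem hk' 6

omit [Finite D] in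
theorem mem_of_cover (H : Zer z φ) {K : Subgroup D} (hK : K.Normal) {w : ↥(centralizer ({z} : Set D))}
    (hw : (w : D) ∈ K) (hφ : φ w ≠ 1) : z ∈ K :=
  mem_subgroupOf.1 (H.cover (K := K.subgroupOf (centralizer ({z} : Set D))) inferInstance (mem_subgroupOf.2 hw) hφ)

omit [Finite D] in
/-- Normal subgroups of odd order meet `C(z)` in the kernel. -/
theorem odd_ker (H : Zer z φ) {N : Subgroup D} (hN : N.Normal) (ho : Odd (Nat.card ↥N))
    {c : ↥(centralizer ({z} : Set D))} (hc : (c : D) ∈ N) : φ c = 1 := by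
  by_contra h
  have hz := H.mem_of_cover hN hc h
  have h1 : (2 : ℕ) ∣ Nat.card ↥N := by
    rw [← H.two, ← Subgroup.orderOf_mk z hz]
    exact orderOf_dvd_natCard _
  exact (Nat.not_even_iff_odd.2 ho) (even_iff_two_dvd.2 h1)

omit [Finite D] in
/-- and in the centre of `D` -/
theorem odd_center (H : Zer z φ) {N : Subgroup D} (hN : N.Normal) (ho : Odd (Nat.card ↥N)) {n : D} (hn : n ∈ N)
    (hz : n * z = z * n) : n ∈ center D ∧ n ^ 3 = 1 := by
  have h1 := H.odd_ker hN ho (c := ⟨n, mem_centralizer_singleton_iff.2 hz⟩) hn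
  have h6 : n ^ 6 = 1 := congrArg Subtype.val (H.ker.six _ h1)
  have hno : Odd (orderOf n) := by
    have h2 : orderOf n ∣ Nat.card ↥N := by
      rw [← Subgroup.orderOf_mk n hn]
      exact orderOf_dvd_natCard _
    exact ho.of_dvd_nat h2
  have h3 : n ^ 3 = 1 := by
    have h4 : orderOf n ∣ 2 * 3 := by
      rw [orderOf_dvd_iff_pow_eq_one]; exact h6
    exact orderOf_dvd_iff_pow_eq_one.1 ((Nat.Coprime.dvd_of_dvd_mul_left (Nat.coprime_two_right.2 hno) h4))
  exact ⟨H.cen _ h1 (Subtype.ext h3), h3⟩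

omit [Finite D] in
/-- `z` does not centralise `A` implies `z t` does not centralise `C_A(t)`. -/
theorem not_comm_t (H : Zer z φ) {A : Subgroup D} (hA : A.Normal) (ho : Odd (Nat.card ↥A))
    (hz : ∃ a ∈ A, a * z ≠ z * a) {t : ↥(centralizer ({z} : Set D))} (htt : (t : D) * t = 1) (ht : φ t ≠ 1) :
    ∃ a ∈ A, a * t = t * a ∧ a * (z * t) ≠ (z * t) * a := by
  by_contra hcon
  push Not at hcon
  have htz : z * (t : D) = t * z := (mem_centralizer_singleton_iff.1 t.2).symm
  have h1 : A ≤ centralizer ({z * (t : D)} : Set D) := by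
    refine KleinGen.le_of_klein A _ ho z t H.sq htt htz (fun h hh => hA.conj_mem h hh z)
      (fun h hh => hA.conj_mem h hh t) ?_ ?_ ?_
    · rintro a ⟨ha, haz⟩
      have h2 := (H.odd_center hA ho ha (mem_centralizer_singleton_iff.1 haz)).1
      exact mem_centralizer_singleton_iff.2 ((mem_center_iff.1 h2) (z * t)).symm
    · rintro a ⟨ha, hat⟩
      exact mem_centralizer_singleton_iff.2 (hcon a ha (mem_centralizer_singleton_iff.1 hat))
    · exact inf_le_right
  obtain ⟨a, ha, haz⟩ := hz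
  have h2 : z ∈ centralizer (A : Set D) := by
    refine H.mem_of_cover (K := centralizer (A : Set D)) inferInstance (w := Abs.zA * t) ?_ ?_
    · rw [mem_centralizer_iff]
      intro b hb
      exact mem_centralizer_singleton_iff.1 (h1 hb)
    · rw [map_mul, H.zker, one_mul]
      exact ht
  exact haz ((mem_centralizer_iff.1 h2) a ha)

end Zer

/-- solvability from the image modulo a normal subgroup of odd order -/
theorem solvable_of_image (FT : ∀ (K : Type u) [Group K] [Finite K], Odd (Nat.card K) → Group.IsSolvable K)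
    {N K S : Subgroup D} (hN : N.Normal) (ho : Odd (Nat.card ↥N)) (hS : Group.IsSolvable ↥S)
    (h : ∀ k ∈ K, ∃ s ∈ S, ∃ n ∈ N, k = n * s) : Group.IsSolvable ↥K := by
  have hNs : Group.IsSolvable ↥N := FT ↥N ho
  let f : ↥K →* D ⧸ N := (QuotientGroup.mk' N).comp K.subtype
  have hr : f.range ≤ S.map (QuotientGroup.mk' N) := by
    rintro _ ⟨k, rfl⟩
    obtain ⟨s, hs, n, hn, hk⟩ := h k k.2
    refine ⟨s, hs, ?_⟩
    show QuotientGroup.mk' N s = QuotientGroup.mk' N k
    rw [hk, map_mul, show QuotientGroup.mk' N n = 1 from (QuotientGroup.eq_one_iff n).2 hn, one_mul]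
  have hSm : Group.IsSolvable ↥(S.map (QuotientGroup.mk' N)) :=
    Group.isSolvable_of_surjective ((QuotientGroup.mk' N).subgroupMap_surjective S)
  have hrs : Group.IsSolvable ↥f.range := Group.isSolvable_of_isSolvable_injective (inclusion_injective hr)
  have hks : Group.IsSolvable ↥f.ker := by
    let g : ↥f.ker →* ↥N := (K.subtype.comp f.ker.subtype).codRestrict N fun k => (QuotientGroup.eq_one_iff _).1 k.2
    have hg : Function.Injective g := by
      intro a b hab
      exact Subtype.ext (Subtype.ext (congrArg (fun n : ↥N => (n : D)) hab))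
    exact Group.isSolvable_of_isSolvable_injective hg
  rw [Group.isSolvable_iff_subgroup_quotient f.ker]
  exact ⟨hks, Group.isSolvable_of_isSolvable_injective (f := (QuotientGroup.quotientKerEquivRange f).toMonoidHom)
    (QuotientGroup.quotientKerEquivRange f).injective⟩

/-- no `3`-components if the centraliser of a normal `3`-subgroup is solvable -/
theorem no_pcomp {p : ℕ} [Fact p.Prime] {A : Subgroup D} (hA : A.Normal) (hp : IsPGroup p ↥A)
    (hs : Group.IsSolvable ↥(centralizer (A : Set D))) (L : Subgroup D) : ¬ IsPComponent p L := by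
  intro hL
  have h1 := pcomp_le_centralizer hA hp hL
  have h2 : Group.IsSolvable ↥L := Group.isSolvable_of_isSolvable_injective (inclusion_injective h1)
  have h3 : Group.IsSolvable ↥(L.map (QuotientGroup.mk' (pPrimeCore p D))) :=
    Group.isSolvable_of_surjective ((QuotientGroup.mk' (pPrimeCore p D)).subgroupMap_surjective L)
  exact Components.quasisimple_not_isSolvable hL.2.1.2 h3

/-- `N` normal of odd order, `D = N C(z)`, `K` normal in `D`: `(N K) ∩ C(z)`. -/
def cap (z : D) (N K : Subgroup D) (hN : N.Normal) : Subgroup D where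
  carrier := {c | c ∈ centralizer ({z} : Set D) ∧ ∃ n ∈ N, n * c ∈ K}
  one_mem' := ⟨one_mem _, 1, N.one_mem, by rw [one_mul]; exact K.one_mem⟩
  mul_mem' := by
    rintro a b ⟨ha, n, hn, hna⟩ ⟨hb, m, hm, hmb⟩
    refine ⟨mul_mem ha hb, n * (a * m * a⁻¹), N.mul_mem hn (hN.conj_mem m hm a), ?_⟩
    have := K.mul_mem hna hmb
    convert this using 1
    group
  inv_mem' := by
    rintro a ⟨ha, n, hn, hna⟩
    refine ⟨inv_mem ha, a⁻¹ * n⁻¹ * a, ?_, ?_⟩
    · have := hN.conj_mem n⁻¹ (N.inv_mem hn) a⁻¹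
      rwa [inv_inv] at this
    · have := K.inv_mem hna
      convert this using 1
      group

omit [Finite D] in
theorem mem_cap {z c : D} {N K : Subgroup D} {hN : N.Normal} :
    c ∈ cap z N K hN ↔ c ∈ centralizer ({z} : Set D) ∧ ∃ n ∈ N, n * c ∈ K := Iff.rfl

namespace Zer

/-- **`D` has no `3`-component.** -/
theorem no_comp (FT : ∀ (K : Type u) [Group K] [Finite K], Odd (Nat.card K) → Group.IsSolvable K) (H : Zer z φ)
    {p : ℕ} [Fact p.Prime] {A : Subgroup D} (hA : A.Normal) (hp : IsPGroup p ↥A) (hz : ∃ a ∈ A, a * z ≠ z * a)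
    (L : Subgroup D) : ¬ IsPComponent p L := by
  obtain ⟨N, hN, hNo, hsup⟩ := LThreeMB.ZStar.exists_core H.two H.iso
  refine no_pcomp hA hp ?_ L
  set K := centralizer (A : Set D) with hK
  have hKn : K.Normal := inferInstance
  have hdec : ∀ k : D, ∃ n ∈ N, ∃ c ∈ centralizer ({z} : Set D), k = n * c := by
    intro k
    have hg : k ∈ N ⊔ centralizer ({z} : Set D) := by rw [hsup]; trivial
    obtain ⟨n, hn, c, hc, rfl⟩ := mem_sup_of_normal_left.1 hg
    exact ⟨n, hn, c, hc, rfl⟩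
  refine solvable_of_image FT (S := cap z N K hN) hN hNo ?_ ?_
  · -- `cap` is in the kernel
    have hle : (cap z N K hN).subgroupOf (centralizer ({z} : Set D)) ≤ φ.ker := by
      intro c hc
      by_contra hne
      have hn : ((cap z N K hN).subgroupOf (centralizer ({z} : Set D))).Normal := by
        refine ⟨fun a ha g => ?_⟩
        obtain ⟨h1, n, hn, hna⟩ := mem_cap.1 (mem_subgroupOf.1 ha)
        refine mem_subgroupOf.2 (mem_cap.2 ⟨(g * a * g⁻¹).2, (g : D) * n * (g : D)⁻¹, hN.conj_mem n hn g, ?_⟩)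
        have := hKn.conj_mem _ hna (g : D)
        convert this using 1
        push_cast
        group
      have hzc := H.cover hn hc hne
      obtain ⟨-, n, hn', hnz⟩ := mem_cap.1 (mem_subgroupOf.1 hzc)
      have hnz' : n * z ∈ K := hnz
      obtain ⟨a, ha, haz⟩ := hz
      have hno : Odd (orderOf n⁻¹) := by
        rw [orderOf_inv]
        have h2 : orderOf n ∣ Nat.card ↥N := by
          rw [← Subgroup.orderOf_mk n hn']
          exact orderOf_dvd_natCard _
        exact hNo.of_dvd_nat h2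
      refine haz (act_odd (A := A) H.sq hno (fun b hb => hA.conj_mem b hb _) ?_ ha)
      intro b hb
      have h3 : (n * z) * b = b * (n * z) := (mem_centralizer_iff.1 hnz' b hb).symm
      calc z * b * z⁻¹ = n⁻¹ * ((n * z) * b) * z⁻¹ := by group
        _ = n⁻¹ * (b * (n * z)) * z⁻¹ := by rw [h3]
        _ = n⁻¹ * b * n⁻¹⁻¹ := by group
    refine Group.isSolvable_of_comm fun a b => ?_
    have h1 := hle (x := ⟨a, (mem_cap.1 a.2).1⟩) (mem_subgroupOf.2 a.2)
    have h2 := H.ker.cen _ h1 ⟨b, (mem_cap.1 b.2).1⟩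
    exact Subtype.ext (congrArg Subtype.val h2).symm
  · intro k hk
    obtain ⟨n, hn, c, hc, rfl⟩ := hdec k
    exact ⟨c, mem_cap.2 ⟨hc, n, hn, hk⟩, n, hn, rfl⟩

/-- `C(u) ∩ C(P)` -/
abbrev UP (u : D) (P : Subgroup D) : Subgroup D := centralizer ({u} : Set D) ⊓ centralizer (P : Set D)

/-- The `2`-group `P`. -/
structure Two (z u : D) (P : Subgroup D) : Prop where
  comm_z : ∀ p ∈ P, p * z = z * p
  comm_u : ∀ p ∈ P, p * u = u * p
  norm : ∀ g, g * u = u * g → ∀ p ∈ P, g * p * g⁻¹ ∈ P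
  comm : ∀ p ∈ P, ∀ q ∈ P, ⁅p, q⁆ = 1 ∨ ⁅p, q⁆ = u
  cent : ∀ p ∈ P, (∀ q ∈ P, p * q = q * p) → p = 1 ∨ p = u

/-- **`C_D(t)` has no `3`-component.** -/
theorem no_comp_t (FT : ∀ (K : Type u) [Group K] [Finite K], Odd (Nat.card K) → Group.IsSolvable K) (H : Zer z φ)
    {p : ℕ} [Fact p.Prime] (hp2 : p ≠ 2) {A : Subgroup D} (hA : A.Normal) (hp : IsPGroup p ↥A)
    (hz : ∃ a ∈ A, a * z ≠ z * a) {t : D} (htz : t * z = z * t) (htt : t * t = 1)
    (ht : φ ⟨t, mem_centralizer_singleton_iff.2 htz⟩ ≠ 1) {P : Subgroup D} (hP : Two z (z * t) P)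
    (hS : Group.IsSolvable ↥(UP (z * t) P)) : ∀ L : Subgroup ↥(centralizer ({t} : Set D)), ¬ IsPComponent p L := by
  obtain ⟨N, hN, hNo, hsup⟩ := LThreeMB.ZStar.exists_core H.two H.iso
  have hAo : Odd (Nat.card ↥A) := by
    obtain ⟨m, hm⟩ := IsPGroup.iff_card.1 hp
    rw [hm]
    exact ((Fact.out : p.Prime).eq_two_or_odd'.resolve_left hp2).pow
  obtain ⟨a, ha, hat, hau⟩ := H.not_comm_t hA hAo hz (t := ⟨t, mem_centralizer_singleton_iff.2 htz⟩) htt ht
  set C := centralizer ({t} : Set D) with hC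
  have hmC : ∀ {g : D}, g ∈ C ↔ g * t = t * g := mem_centralizer_singleton_iff
  -- decomposition of `C(t)`
  have hdec : ∀ k ∈ C, ∃ n ∈ N, ∃ c ∈ centralizer ({z} : Set D), n ∈ C ∧ c ∈ C ∧ k = n * c := by
    intro k hk
    have hg : k ∈ N ⊔ centralizer ({z} : Set D) := by rw [hsup]; trivial
    obtain ⟨n, hn, c, hc, rfl⟩ := mem_sup_of_normal_left.1 hg
    have hcz : c * z = z * c := mem_centralizer_singleton_iff.1 hc
    -- `c t c⁻¹ t⁻¹ ∈ N ∩ C(z)`
    obtain ⟨w, hw⟩ : ∃ w, w = c * t * c⁻¹ * t⁻¹ := ⟨_, rfl⟩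
    have h1 : w ∈ N := by
      have h3 := hmC.1 hk
      have h4 : w = n⁻¹ * (t * n * t⁻¹) := by
        calc w = n⁻¹ * ((n * c) * t) * c⁻¹ * t⁻¹ := by rw [hw]; group
          _ = n⁻¹ * (t * (n * c)) * c⁻¹ * t⁻¹ := by rw [h3]
          _ = n⁻¹ * (t * n * t⁻¹) := by group
      rw [h4]
      exact N.mul_mem (N.inv_mem hn) (hN.conj_mem n hn t)
    have hwz : w * z = z * w := by
      have h5 : Commute c z := hcz
      have h6 : Commute t z := htz
      rw [hw]
      exact (((h5.mul_left h6).mul_left h5.inv_left).mul_left h6.inv_left).eq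
    obtain ⟨hwc, hw3⟩ := H.odd_center hN hNo h1 hwz
    have hwt : c * t * c⁻¹ = w * t := by rw [hw]; group
    have hw2 : w * w = 1 := by
      have h5 : t * w = w * t := mem_center_iff.1 hwc t
      have h6 : (w * t) * (w * t) = 1 := by
        rw [← hwt]
        calc c * t * c⁻¹ * (c * t * c⁻¹) = c * (t * t) * c⁻¹ := by group
          _ = 1 := by rw [htt]; group
      calc w * w = w * w * (t * t) := by rw [htt, mul_one]
        _ = w * (w * t) * t := by group
        _ = w * (t * w) * t := by rw [h5]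
        _ = 1 := by rw [← h6]; group
    have hw1 : w = 1 := by
      rw [pow_succ, pow_two, hw2, one_mul] at hw3
      exact hw3
    rw [hw1, one_mul] at hwt
    have hcC : c ∈ C := hmC.2 (mul_inv_eq_iff_eq_mul.1 hwt)
    refine ⟨n, hn, c, hc, ?_, hcC, rfl⟩
    have := C.mul_mem hk (C.inv_mem hcC)
    rwa [mul_inv_cancel_right] at this
  -- the centraliser of `C_A(t)` in `C(t)`
  let B : Subgroup D := A ⊓ C
  let T0 : Subgroup D := C ⊓ centralizer (B : Set D)
  have hBn : ∀ g ∈ C, ∀ b ∈ B, g * b * g⁻¹ ∈ B := fun g hg b hb =>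
    ⟨hA.conj_mem b hb.1 g, C.mul_mem (C.mul_mem hg hb.2) (C.inv_mem hg)⟩
  have hT0n : ∀ g ∈ C, ∀ k ∈ T0, g * k * g⁻¹ ∈ T0 := by
    intro g hg k hk
    refine ⟨C.mul_mem (C.mul_mem hg hk.1) (C.inv_mem hg), mem_centralizer_iff.2 fun b hb => ?_⟩
    have h1 := mem_centralizer_iff.1 hk.2 (g⁻¹ * b * g) (by
      have := hBn g⁻¹ (C.inv_mem hg) b hb
      rwa [inv_inv] at this)
    calc b * (g * k * g⁻¹) = g * ((g⁻¹ * b * g) * k) * g⁻¹ := by group
      _ = g * (k * (g⁻¹ * b * g)) * g⁻¹ := by rw [h1]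
      _ = g * k * g⁻¹ * b := by group
  -- it is solvable
  have hT0 : Group.IsSolvable ↥T0 := by
    let S1 : Subgroup D := cap z N T0 hN ⊓ C
    have huC : z * t ∈ C := hmC.2 (by rw [← mul_assoc t z t, htz])
    -- `z t` is not in `S1`
    have hu : z * t ∉ S1 := by
      rintro ⟨⟨-, n, hn, hnT⟩, -⟩
      have hnC : n ∈ C := by
        have := C.mul_mem hnT.1 (C.inv_mem huC)
        rwa [mul_inv_cancel_right] at this
      have hno : Odd (orderOf n⁻¹) := by
        rw [orderOf_inv]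
        have h2 : orderOf n ∣ Nat.card ↥N := by
          rw [← Subgroup.orderOf_mk n hn]
          exact orderOf_dvd_natCard _
        exact hNo.of_dvd_nat h2
      refine hau (act_odd (A := B) (u := z * t) ?_ hno (fun b hb => hBn _ (C.inv_mem hnC) b hb) ?_ ⟨ha, hmC.2 hat⟩)
      · calc z * t * (z * t) = z * (t * z) * t := by group
          _ = (z * z) * (t * t) := by rw [htz]; group
          _ = 1 := by rw [H.sq, htt, one_mul]
      · intro b hb
        have h3 : (n * (z * t)) * b = b * (n * (z * t)) := (mem_centralizer_iff.1 hnT.2 b hb).symm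
        calc (z * t) * b * (z * t)⁻¹ = n⁻¹ * ((n * (z * t)) * b) * (z * t)⁻¹ := by group
          _ = n⁻¹ * (b * (n * (z * t))) * (z * t)⁻¹ := by rw [h3]
          _ = n⁻¹ * b * n⁻¹⁻¹ := by group
    have hPC : ∀ q ∈ P, q ∈ C := by
      intro q hq
      have h1 : Commute q z := hP.comm_z q hq
      have h2 : Commute q (z * t) := hP.comm_u q hq
      have h3 : t = z⁻¹ * (z * t) := by group
      refine hmC.2 ?_
      rw [h3]
      exact (h1.inv_right.mul_right h2).eq
    have hS1n : ∀ q ∈ P, ∀ s ∈ S1, q * s * q⁻¹ ∈ S1 := by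
      rintro q hq s ⟨⟨hs1, n, hn, hns⟩, hs2⟩
      have hqC := hPC q hq
      refine ⟨⟨?_, q * n * q⁻¹, hN.conj_mem n hn q, ?_⟩, C.mul_mem (C.mul_mem hqC hs2) (C.inv_mem hqC)⟩
      · have hqz : q ∈ centralizer ({z} : Set D) := mem_centralizer_singleton_iff.2 (hP.comm_z q hq)
        exact mul_mem (mul_mem hqz hs1) (inv_mem hqz)
      · have := hT0n q hqC _ hns
        convert this using 1
        group
    -- `S1 ∩ P = 1`
    have hSP : ∀ q ∈ P, q ∈ S1 → q = 1 := by
      intro q hq hqS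
      by_contra hq1
      by_cases hall : ∀ r ∈ P, q * r = r * q
      · rcases hP.cent q hq hall with h1 | h1
        · exact hq1 h1
        · exact hu (h1 ▸ hqS)
      · push Not at hall
        obtain ⟨r, hr, hne⟩ := hall
        rcases hP.comm q hq r hr with h1 | h1
        · exact hne (commutatorElement_eq_one_iff_mul_comm.1 h1)
        · apply hu
          rw [← h1, commutatorElement_def]
          have h2 := S1.mul_mem hqS (hS1n r hr _ (S1.inv_mem hqS))
          convert h2 using 1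
          group
    have hS1le : S1 ≤ UP (z * t) P := by
      intro s hs
      have hsz : Commute s z := mem_centralizer_singleton_iff.1 hs.1.1
      have hst : Commute s t := hmC.1 hs.2
      have hsu : s * (z * t) = z * t * s := (hsz.mul_right hst).eq
      refine ⟨mem_centralizer_singleton_iff.2 hsu, mem_centralizer_iff.2 fun q hq => ?_⟩
      have h1 : s * q * s⁻¹ * q⁻¹ ∈ P := P.mul_mem (hP.norm s hsu q hq) (P.inv_mem hq)
      have h2 : s * q * s⁻¹ * q⁻¹ ∈ S1 := by
        have := S1.mul_mem hs (hS1n q hq _ (S1.inv_mem hs))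
        convert this using 1
        group
      have h3 := hSP _ h1 h2
      rw [mul_inv_eq_one, mul_inv_eq_iff_eq_mul] at h3
      exact h3.symm
    refine solvable_of_image FT (S := S1) hN hNo
      (Group.isSolvable_of_isSolvable_injective (inclusion_injective hS1le)) ?_
    intro k hk
    obtain ⟨n, hn, c, hc, hnC, hcC, rfl⟩ := hdec k hk.1
    exact ⟨c, ⟨⟨hc, n, hn, hk⟩, hcC⟩, n, hn, rfl⟩
  -- conclusion
  have hBn' : (B.subgroupOf C).Normal := ⟨fun b hb g => mem_subgroupOf.2 (hBn g g.2 b (mem_subgroupOf.1 hb))⟩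
  refine fun L => no_pcomp hBn' ?_ ?_ L
  · exact (hp.to_le (inf_le_left : B ≤ A)).of_equiv (subgroupOfEquivOfLe (inf_le_right : B ≤ C)).symm
  · let f : ↥(centralizer ((B.subgroupOf C : Subgroup ↥C) : Set ↥C)) →* ↥T0 :=
      (C.subtype.comp (centralizer ((B.subgroupOf C : Subgroup ↥C) : Set ↥C)).subtype).codRestrict T0 (fun g => by
        refine ⟨g.1.2, mem_centralizer_iff.2 fun b hb => ?_⟩
        exact congrArg Subtype.val (mem_centralizer_iff.1 g.2 (⟨b, hb.2⟩ : ↥C) (mem_subgroupOf.2 hb)))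
    have hf : Function.Injective f := by
      intro a b hab
      exact Subtype.ext (Subtype.ext (congrArg (fun g : ↥T0 => (g : D)) hab))
    exact Group.isSolvable_of_isSolvable_injective hf

/-- **`z` does not centralise every normal `p`-subgroup.** -/
theorem exists_pgroup (FT : ∀ (K : Type u) [Group K] [Finite K], Odd (Nat.card K) → Group.IsSolvable K) (H : Zer z φ)
    {t : D} (htz : t * z = z * t) (htt : t * t = 1)
    (ht : φ ⟨t, mem_centralizer_singleton_iff.2 htz⟩ ≠ 1) {P : Subgroup D} (hP : Two z (z * t) P)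
    (hPo : IsPGroup 2 ↥P)
    (h5 : ∀ (g : D) (r : ℕ), r.Prime → r ≠ 2 → r ≠ 3 → g ∈ UP (z * t) P → g ^ r = 1 → g = 1)
    (hne : ∃ d : D, d * z ≠ z * d) :
    ∃ A : Subgroup D, A.Normal ∧ IsPGroup 3 ↥A ∧ ∃ a ∈ A, a * z ≠ z * a := by
  have : Fact (Nat.Prime 3) := ⟨Nat.prime_three⟩
  have : Fact (Nat.Prime 2) := ⟨Nat.prime_two⟩
  by_contra hcon
  obtain ⟨N, hN, hNo, hsup⟩ := LThreeMB.ZStar.exists_core H.two H.iso
  have huu : z * t * (z * t) = 1 := by
    calc z * t * (z * t) = z * (t * z) * t := by group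
      _ = (z * z) * (t * t) := by rw [htz]; group
      _ = 1 := by rw [H.sq, htt, one_mul]
  -- the `3'`-core of `N`
  have hWc : (pPrimeCore 3 ↥N).Characteristic := Cores.pPrimeCore_characteristic 3
  have hW1 : pPrimeCore 3 ↥N = ⊥ := by
    set W : Subgroup D := (pPrimeCore 3 ↥N).map N.subtype with hW
    have hWn : W.Normal := inferInstance
    have hWN : W ≤ N := map_subtype_le _
    have hWo : Odd (Nat.card ↥W) := hNo.of_dvd_nat (card_dvd_of_le hWN)
    have hW3 : (Nat.card ↥W).Coprime 3 := by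
      rw [hW, card_map_of_injective N.subtype_injective]
      exact Cores.pPrimeCore_coprime 3
    have hcz : ∀ w ∈ W, w * z = z * w → w = 1 := by
      intro w hw hwz
      obtain ⟨-, h3⟩ := H.odd_center hWn hWo hw hwz
      have h4 : orderOf w ∣ Nat.card ↥W := by
        rw [← Subgroup.orderOf_mk w hw]
        exact orderOf_dvd_natCard _
      have h5 : orderOf w = 1 := Nat.Coprime.eq_one_of_dvd (hW3.coprime_dvd_left h4) (orderOf_dvd_iff_pow_eq_one.2 h3)
      exact orderOf_eq_one_iff.1 h5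
    have hcu : ∀ w ∈ W, w * (z * t) = (z * t) * w → w = 1 := by
      intro w hw hwu
      have hmem : ∀ k : ℕ, w ^ k ∈ UP (z * t) P := by
        intro k
        refine Subgroup.pow_mem _ ?_ k
        refine ⟨mem_centralizer_singleton_iff.2 hwu, mem_centralizer_iff.2 fun q hq => ?_⟩
        -- `[w, q] ∈ W ∩ P`
        have h1 : w * q * w⁻¹ * q⁻¹ ∈ P := P.mul_mem (hP.norm w hwu q hq) (P.inv_mem hq)
        have h2 : w * q * w⁻¹ * q⁻¹ ∈ W := by
          have := W.mul_mem hw (hWn.conj_mem _ (W.inv_mem hw) q)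
          convert this using 1
          group
        obtain ⟨c, hc⟩ : ∃ c, c = w * q * w⁻¹ * q⁻¹ := ⟨_, rfl⟩
        rw [← hc] at h1 h2
        have h3 : orderOf c ∣ Nat.card ↥W := by
          rw [← Subgroup.orderOf_mk c h2]
          exact orderOf_dvd_natCard _
        obtain ⟨m, hm⟩ := IsPGroup.iff_card.1 hPo
        have h4 : orderOf c ∣ 2 ^ m := by
          rw [← hm, ← Subgroup.orderOf_mk c h1]
          exact orderOf_dvd_natCard _
        have h5 : (Nat.card ↥W).Coprime (2 ^ m) := (Nat.coprime_two_right.2 hWo).pow_right m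
        have h6 : orderOf c = 1 := Nat.dvd_one.1 (h5 ▸ Nat.dvd_gcd h3 h4)
        have h7 : w * q * w⁻¹ * q⁻¹ = 1 := by rw [← hc]; exact orderOf_eq_one_iff.1 h6
        rw [mul_inv_eq_one, mul_inv_eq_iff_eq_mul] at h7
        exact h7.symm
      by_contra hw1
      obtain ⟨r, hr, hrd⟩ := Nat.exists_prime_and_dvd (n := orderOf w) (fun h => hw1 (orderOf_eq_one_iff.1 h))
      have h4 : orderOf w ∣ Nat.card ↥W := by
        rw [← Subgroup.orderOf_mk w hw]
        exact orderOf_dvd_natCard _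
      obtain ⟨m, hm⟩ := hrd
      have hm0 : 0 < m := Nat.pos_of_ne_zero (by
        rintro rfl
        rw [mul_zero] at hm
        exact (orderOf_pos w).ne' hm)
      have h5' := h5 (w ^ m) r hr ?_ ?_ (hmem m) (by rw [← pow_mul, mul_comm, ← hm, pow_orderOf_eq_one])
      · have h6 := Nat.le_of_dvd hm0 (orderOf_dvd_iff_pow_eq_one.2 h5')
        rw [hm] at h6
        have := hr.two_le
        nlinarith
      · rintro rfl
        exact (Nat.not_even_iff_odd.2 hWo) (even_iff_two_dvd.2 ((Dvd.intro _ hm.symm).trans h4))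
      · rintro rfl
        exact Nat.prime_three.coprime_iff_not_dvd.1 hW3.symm ((Dvd.intro _ hm.symm).trans h4)
    have hinv : ∀ y : D, y * y = 1 → (∀ w ∈ W, w * y = y * w → w = 1) → ∀ w ∈ W, y * w * y⁻¹ = w⁻¹ := by
      intro y hy hyc w hw
      obtain ⟨c, hc, k, hk, h1, h2, rfl⟩ := KleinGen.exists_centralizer_mul_inverted W hWo y hy
        (fun h hh => hWn.conj_mem h hh y) hw
      have h3 : c = 1 := hyc c hc h1.symm
      rw [h3, one_mul]
      exact h2
    have hwz := hinv z H.sq hcz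
    have hwu := hinv (z * t) huu hcu
    have hzW : z ∈ centralizer (W : Set D) := by
      refine H.mem_of_cover (K := centralizer (W : Set D)) inferInstance (w := ⟨t, mem_centralizer_singleton_iff.2 htz⟩)
        ?_ ht
      rw [mem_centralizer_iff]
      intro w hw
      have h1 : (z * t) * w * (z * t)⁻¹ = z * w * z⁻¹ := by rw [hwu w hw, hwz w hw]
      have h2 : t * w * t⁻¹ = w := by
        calc t * w * t⁻¹ = z⁻¹ * ((z * t) * w * (z * t)⁻¹) * z := by group
          _ = w := by rw [h1]; group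
      exact (mul_inv_eq_iff_eq_mul.1 h2).symm
    have hWb : W = ⊥ := by
      rw [eq_bot_iff]
      intro w hw
      exact mem_bot.2 (hcz w hw (mem_centralizer_iff.1 hzW w hw))
    rwa [hW, map_eq_bot_iff_of_injective _ N.subtype_injective] at hWb
  -- `N` is central
  have hNs : Group.IsSolvable ↥N := FT ↥N hNo
  have hHH := HallHigman.centralizer_pCore_le_of_solvable (G := ↥N) 3 hW1
  have hCc : (pCore 3 ↥N).Characteristic := Cores.pCore_characteristic 3
  have hAp : IsPGroup 3 ↥((pCore 3 ↥N).map N.subtype) := (Cores.pCore_isPGroup 3).map _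
  have hAz : ∀ a ∈ (pCore 3 ↥N).map N.subtype, a * z = z * a := by
    by_contra h
    push Not at h
    exact hcon ⟨_, inferInstance, hAp, h⟩
  have hAc : ∀ a ∈ (pCore 3 ↥N).map N.subtype, a ∈ center D := fun a ha =>
    (H.odd_center hN hNo (map_subtype_le _ ha) (hAz a ha)).1
  have hNz : ∀ n ∈ N, n * z = z * n := by
    intro n hn
    have h1 : (⟨n, hn⟩ : ↥N) ∈ pCore 3 ↥N := by
      apply hHH
      rw [mem_centralizer_iff]
      intro a ha
      exact Subtype.ext ((mem_center_iff.1 (hAc a ⟨a, ha, rfl⟩)) n).symm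
    exact hAz n ⟨_, h1, rfl⟩
  obtain ⟨d, hd⟩ := hne
  apply hd
  have hg : d ∈ N ⊔ centralizer ({z} : Set D) := by rw [hsup]; trivial
  obtain ⟨n, hn, c, hc, rfl⟩ := mem_sup_of_normal_left.1 hg
  have h1 : Commute n z := hNz n hn
  have h2 : Commute c z := mem_centralizer_singleton_iff.1 hc
  exact (h1.mul_left h2).eq

end Zer

end

end Cfsg.Agent.BpSpor.BThree

end

-- merged: Cfsg.Agent.BpSpor.BThreeCo
section

/-!
# Elements of order 3 and fixed rank 6 of `Co1` (helper46)

* `eq_one_of_fix` : an element of prime order at least 5 of `C_{Co1}(s)` trivial on the fixed points of `s` in `Λ/2Λ` is trivial;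
* `card_dvd` : `3 ^ 6 ∣ |C_{Co1}(s)|`.
-/

set_option autoImplicit false

namespace Cfsg.Agent.BpSpor.BThree.Co

open Cfsg Cfsg.Spor Cfsg.Agent.LThreeMB
open Cfsg.Agent.MonsterU.Lam2
open Cfsg.Agent.LThreeCo1Six Cfsg.Agent.LThreeCo1Six.Ker
open Cfsg.Agent.LThreeCo1.AGrp Cfsg.Agent.LThreeCo1.Class
open Cfsg.Agent.LThreeCo1.Rel (a)
open Module Cfsg.Agent.SigZeroCo2.Rank Cfsg.Agent.SigZeroCo2.Lin
open Cfsg.Agent.PreUniqCo.LatCo Cfsg.Agent.PreUniqCo.FixBound
open Subgroup (centralizer mem_centralizer_singleton_iff)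

/-! ### Fixed points modulo 2 -/

theorem nsmul_odd {r : ℕ} (hr : Odd r) (v : L2) : r • v = v := by
  obtain ⟨k, rfl⟩ := hr
  rw [add_smul, mul_comm, mul_smul, two_nsmul, add_self, smul_zero, zero_add, one_smul]

theorem nrm_two {y : Co0} (r : ℕ) (l : leechLattice) : nrm y r (2 • l) = 2 • nrm y r l := by
  rw [two_nsmul, nrm_add, two_nsmul]

/-- no nonzero element of norm zero -/
theorem eq_zero_of_nrm {x y : Co0} {r : ℕ} (hr : Odd r) (hxy : Commute x y)
    (h : ∀ v : leechLattice, x • v = v → cl (y • v) = cl v) : ∀ (n : ℕ) (v : leechLattice),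
      (sqNorm (v : GolayPt → ℤ)).toNat ≤ n → x • v = v → nrm y r v = 0 → v = 0 := by
  intro n
  induction n with
  | zero =>
    intro v hn _ _
    by_contra hv
    have := CpAutBig.CoZero.sqNorm_pos hv
    omega
  | succ n ih =>
    intro v hn hxv hv
    have h1 : ∀ k : ℕ, x • (y ^ k • v) = y ^ k • v := fun k => by
      rw [← mul_smul, (hxy.pow_right k).eq, mul_smul, hxv]
    have h2 : ∀ k : ℕ, cl (y ^ k • v) = cl v := by
      intro k
      induction k with
      | zero => rw [pow_zero, one_smul]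
      | succ k ih => rw [pow_succ', mul_smul, h _ (h1 k), ih]
    have h3 : cl v = 0 := by
      have h4 : cl (nrm y r v) = r • cl v := by
        unfold nrm
        rw [map_sum, Finset.sum_congr rfl fun k _ => h2 k, Finset.sum_const, Finset.card_range]
      rw [nsmul_odd hr, hv, map_zero] at h4
      exact h4.symm
    obtain ⟨u, hu⟩ := cl_eq_zero.1 h3
    have h5 : sqNorm (v : GolayPt → ℤ) = 4 * sqNorm (u : GolayPt → ℤ) := by
      rw [hu, ← CpAutBig.CoZero.sqNorm_two_nsmul]; rfl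
    have h6 : x • u = u := by
      apply CpAutBig.CoZero.two_nsmul_inj
      rw [← smul_two x u, ← hu, hxv]
    have h7 : nrm y r u = 0 := by
      apply CpAutBig.CoZero.two_nsmul_inj
      rw [← nrm_two, ← hu, hv, smul_zero]
    by_cases hu0 : u = 0
    · rw [hu, hu0, smul_zero]
    · have h8 := CpAutBig.CoZero.sqNorm_pos hu0
      exact absurd (ih u (by omega) h6 h7) hu0

/-- **An element of odd order trivial on the fixed points of `x` modulo 2 is trivial on the fixed points of `x`.** -/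
theorem fix_two {x y : Co0} {r : ℕ} (hr : Odd r) (hy : y ^ r = 1) (hxy : Commute x y)
    (h : ∀ v : leechLattice, x • v = v → cl (y • v) = cl v) {v : leechLattice} (hv : x • v = v) : y • v = v := by
  have h1 : x • (y • v) = y • v := by rw [← mul_smul, hxy.eq, mul_smul, hv]
  have h2 : y • v - v = 0 := by
    refine eq_zero_of_nrm hr hxy h _ _ le_rfl ?_ ?_
    · rw [smul_sub', h1, hv]
    · have h3 : nrm y r (y • v) = nrm y r v := by
        rw [nrm_smul (Commute.refl y), nrm_fix hy]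
      rw [sub_eq_add_neg, nrm_add, h3]
      have h4 : nrm y r (-v) = -nrm y r v := by
        unfold nrm
        rw [← Finset.sum_neg_distrib]
        exact Finset.sum_congr rfl fun k _ => smul_neg' _ _
      rw [h4, add_neg_cancel]
  exact sub_eq_zero.1 h2

theorem fix_le_of {x y : Co0} (h : ∀ v : leechLattice, x • v = v → y • v = v) : fix (rep x) ≤ fix (rep y) := by
  intro v hv
  obtain ⟨m, hm, l, hl⟩ := exists_mul v
  have h1 : x • l = l := by
    apply tau_injective
    rw [← rep_tau, hl, map_smul, mem_fix.1 hv]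
  have h2 := congrArg tau (h l h1)
  rw [← rep_tau, hl, map_smul] at h2
  have hm' : (m : ℚ) ≠ 0 := by exact_mod_cast hm
  exact mem_fix.2 (smul_right_injective Sp hm' h2)

theorem order_mk6 : orderOf (QuotientGroup.mk c6 : Co1) = 3 := by
  have : Fact (Nat.Prime 3) := ⟨Nat.prime_three⟩
  have h6 := Cfsg.Agent.LThreeCo1.Ranks.fr_c6
  refine orderOf_eq_prime ?_ ?_
  · rw [← QuotientGroup.mk_pow, ← order_c6, pow_orderOf_eq_one]
    rfl
  · intro h
    rw [h] at h6
    have h2 : fr (1 : Co1) = 2 ^ 24 := by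
      rw [fr, ← card_L2]
      exact Nat.card_congr (Equiv.subtypeUnivEquiv fun v => one_smul _ v)
    rw [h2] at h6
    norm_num at h6

/-- **Trivial on the fixed points modulo 2.** -/
theorem eq_one_of_fix {s y : Co1} (hs : orderOf s = 3) (hfr : fr s = 2 ^ 6) (hsy : y * s = s * y) {r : ℕ}
    (hr : r.Prime) (h5 : 5 ≤ r) (hy : y ^ r = 1) (hfix : ∀ v : L2, s • v = v → y • v = v) : y = 1 := by
  obtain ⟨k, hk⟩ := Cfsg.Agent.LThreeCo1.Ranks.six s _ hs order_mk6 hfr Cfsg.Agent.LThreeCo1.Ranks.fr_c6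
  have hro : Odd r := (hr.eq_two_or_odd').resolve_left (by omega)
  obtain ⟨Y, hY, hYr⟩ := LThreeBX.NoSeven.exists_odd (s := k * y * k⁻¹) hro (by rw [conj_pow, hy, mul_one, mul_inv_cancel])
  have hcomm : (k * y * k⁻¹) * (k * s * k⁻¹) = (k * s * k⁻¹) * (k * y * k⁻¹) := by
    calc (k * y * k⁻¹) * (k * s * k⁻¹) = k * (y * s) * k⁻¹ := by group
      _ = k * (s * y) * k⁻¹ := by rw [hsy]
      _ = (k * s * k⁻¹) * (k * y * k⁻¹) := by group
  have hc3 : c6 ^ 3 = 1 := by rw [← order_c6, pow_orderOf_eq_one]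
  have hxy : Commute c6 Y := by
    refine LThreeBX.NoSeven.comm_of_mk (n := 3) (by decide) hc3 ?_
    rw [hY]
    show (QuotientGroup.mk c6 : Co1) * _ = _ * QuotientGroup.mk c6
    rw [← hk, hcomm]
  have h1 : ∀ v : leechLattice, c6 • v = v → cl (Y • v) = cl v := by
    intro v hv
    have h2 : (k * s * k⁻¹) • cl v = cl v := by
      rw [hk]
      show cl (c6 • v) = cl v
      rw [hv]
    have h3 : (k * y * k⁻¹) • cl v = cl v := by
      have h4 : s • (k⁻¹ • cl v) = k⁻¹ • cl v := by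
        rw [← mul_smul, eq_inv_smul_iff, ← mul_smul, ← mul_assoc]
        exact h2
      have h5 := hfix _ h4
      rw [mul_smul, mul_smul, h5, smul_inv_smul]
    rw [← hY] at h3
    exact h3
  have h2 := fix_le_of fun v hv => fix_two hro hYr hxy h1 hv
  have hY1 : Y = 1 := by
    by_contra hne
    have : Fact r.Prime := ⟨hr⟩
    exact Ker.not_trivial hc3 Data.dx Data.reg hxy hr h5 (orderOf_eq_prime hYr hne) h2
  rw [hY1] at hY
  have h3 : k * y * k⁻¹ = 1 := hY.symm
  rw [mul_inv_eq_one] at h3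
  exact mul_eq_left.1 h3

/-! ### The order -/

theorem card_dvd_c6 : 3 ^ 6 ∣ Nat.card ↥(centralizer ({(QuotientGroup.mk c6 : Co1)} : Set Co1)) := by
  have hfin : Finite Co0 := Cfsg.Agent.CoOneType.FrameFix.finite_co0
  have : Finite Co1 := Quotient.finite _
  let f : Multiplicative V →* ↥(centralizer ({(QuotientGroup.mk c6 : Co1)} : Set Co1)) :=
    ((QuotientGroup.mk' _).comp (hom hA)).codRestrict _ fun v => mem_centralizer_singleton_iff.2 (by
      show (QuotientGroup.mk (Ph a _) : Co1) * QuotientGroup.mk c6 = QuotientGroup.mk c6 * QuotientGroup.mk (Ph a _)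
      rw [← QuotientGroup.mk_mul, ← QuotientGroup.mk_mul, c6, hA.ph_comm])
  have hf : Function.Injective f := by
    rw [injective_iff_map_eq_one]
    intro v hv
    have h1 : (QuotientGroup.mk (Ph a (Multiplicative.toAdd v)) : Co1) = 1 := congrArg Subtype.val hv
    rcases (Cfsg.Agent.CoOneType.ClosingFacts.mk_eq_one _).1 h1 with h2 | h2
    · exact inj _ h2
    · exfalso
      have h3 := hA.ph_cube (Multiplicative.toAdd v)
      rw [h2, LThreeBX.NoSeven.pow_n (by decide)] at h3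
      exact LThreeBX.NoSeven.n_ne h3
  have h1 : Nat.card (Multiplicative V) = 3 ^ 6 := by
    rw [Nat.card_congr Multiplicative.toAdd]
    show Nat.card (Fin 6 → ZMod 3) = 3 ^ 6
    rw [Nat.card_fun, Nat.card_zmod, Nat.card_fin]
  rw [← h1, ← Nat.card_range_of_injective hf]
  exact Subgroup.card_subgroup_dvd_card f.range

theorem card_dvd {s : Co1} (hs : orderOf s = 3) (hfr : fr s = 2 ^ 6) :
    3 ^ 6 ∣ Nat.card ↥(centralizer ({s} : Set Co1)) := by
  obtain ⟨k, hk⟩ := Cfsg.Agent.LThreeCo1.Ranks.six s _ hs order_mk6 hfr Cfsg.Agent.LThreeCo1.Ranks.fr_c6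
  obtain ⟨⟨e⟩, -⟩ := exists_XX_equiv hk
  rw [Nat.card_congr e.toEquiv]
  exact card_dvd_c6

end Cfsg.Agent.BpSpor.BThree.Co

end

-- merged: Cfsg.Agent.BpSpor.BThreeZ
section

/-!
# `C_M(x)`, `x` of order 3 and fixed rank 0: the instance of `BThreeAbs` (helper46)
-/

set_option autoImplicit false

namespace Cfsg.Agent.BpSpor.BThree

open Cfsg Cfsg.Agent.MonsterU Cfsg.Agent.LThree Cfsg.Agent.LThreeMB
open Cfsg.Agent.MonsterU.Ch
open Cfsg.Agent.MonsterU.Lam2 (L2 bf bf_smul1 bf_add_right)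
open Cfsg.Spor (Co1)
open Subgroup (centralizer zpowers mem_centralizer_singleton_iff mem_centralizer_iff)
open Cfsg.Agent.LThreeBX.Abs (Ker zA)
open scoped commutatorElement

universe u v

variable {G : Type u} [Group G] {Q : Subgroup G} {z : G} {eta : G → L2}
  {pi : Subgroup.centralizer ({z} : Set G) →* Co1}

/-- The data at an element of fixed rank 0. -/
theorem zer (h : Chart Q z eta pi) (ht : TrNe z pi) {x : centralizer ({z} : Set G)} (hx : orderOf x = 3)
    (hfr : fr (pi x) = 1) (hS : Spor.IsoSuz (XX (pi x))) (hr : ∃ k : G, k * x = x * k ∧ k * k = z) :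
    Zer (zD x) (toXX pi x) := by
  have hx3 : x ^ 3 = 1 := by rw [← hx, pow_orderOf_eq_one]
  have hxG : (x : G) ^ 3 = 1 := congrArg Subtype.val hx3
  have hz2 : z * z = 1 := h.large.z_sq
  refine ⟨?_, ?_, toXX_surj h hx3, LThreeBX.Main.ker h hx3 hfr, ?_, ?_, ?_, ?_⟩
  · rw [← Subgroup.orderOf_coe]
    exact LargeExtra.Base.orderOf_z h.large
  · intro d hd
    exact Subtype.ext (isolated h ht hx hfr d (mem_centralizer_singleton_iff.1 d.2) (congrArg Subtype.val hd))
  · refine (QuotientGroup.eq_one_iff _).2 ?_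
    have h1 : be pi x (toCC x zA) = 1 := (be_eq_one h).2 h.large.z_mem
    show be pi x (toCC x zA) ∈ Zx (pi x)
    rw [h1]
    exact Subgroup.one_mem _
  · intro k hk hk3
    have hk3' : ((k : ↥(centralizer ({(x : G)} : Set G))) : G) ^ 3 = 1 :=
      congrArg (fun g : ↥(centralizer ({zD x} : Set ↥(centralizer ({(x : G)} : Set G)))) =>
        ((g : ↥(centralizer ({(x : G)} : Set G))) : G)) hk3
    have hxz : Commute (x : G) z := mem_centralizer_singleton_iff.1 x.2
    rw [Subgroup.mem_center_iff]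
    intro g
    apply Subtype.ext
    show (g : G) * ((k : ↥(centralizer ({(x : G)} : Set G))) : G) = ((k : ↥(centralizer ({(x : G)} : Set G))) : G) * g
    have hgx : Commute (g : G) (x : G) := mem_centralizer_singleton_iff.1 g.2
    obtain ⟨i, hi | hi⟩ := LThreeBX.Main.ker_form h hx3 hfr hk
    · rw [hi]; exact (hgx.zpow_right i).eq
    · exfalso
      apply h.large.z_ne
      have h3 : ((x : G) ^ i) ^ 3 = 1 := by
        rw [← zpow_natCast, ← zpow_mul, mul_comm, zpow_mul, zpow_natCast, hxG, one_zpow]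
      rw [hi, (hxz.zpow_left i).mul_pow, h3, one_mul, pow_succ, pow_two, hz2, one_mul] at hk3'
      exact hk3'
  · obtain ⟨e⟩ := hS
    exact (MulEquiv.isSimpleGroup_congr e).2 Cfsg.Agent.S1694.result.1
  · obtain ⟨k, hkx, hkk⟩ := hr
    have hkz : k * z = z * k := by rw [← hkk, mul_assoc]
    exact ⟨⟨⟨k, mem_centralizer_singleton_iff.2 hkx⟩, mem_centralizer_singleton_iff.2 (Subtype.ext hkz)⟩,
      Subtype.ext (Subtype.ext hkk)⟩

/-- `g Q g⁻¹ ∩ C(x)` -/
def PP (Q : Subgroup G) (g x : G) : Subgroup ↥(centralizer ({x} : Set G)) where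
  carrier := {d | g⁻¹ * (d : G) * g ∈ Q}
  one_mem' := by
    show g⁻¹ * 1 * g ∈ Q
    rw [mul_one, inv_mul_cancel]
    exact Q.one_mem
  mul_mem' := by
    intro a b ha hb
    show g⁻¹ * ((a : G) * b) * g ∈ Q
    have := Q.mul_mem ha hb
    convert this using 1
    group
  inv_mem' := by
    intro a ha
    show g⁻¹ * (a : G)⁻¹ * g ∈ Q
    have := Q.inv_mem ha
    convert this using 1
    group

theorem mem_PP {g x : G} {d : ↥(centralizer ({x} : Set G))} : d ∈ PP Q g x ↔ g⁻¹ * (d : G) * g ∈ Q := Iff.rfl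

theorem isPGroup_PP [Finite G] (h : Chart Q z eta pi) (g x : G) : IsPGroup 2 ↥(PP Q g x) := by
  have hQ : IsPGroup 2 ↥Q := LargeExtra.Base.isPGroup h.large
  let f : ↥(PP Q g x) →* ↥Q :=
    { toFun := fun d => ⟨g⁻¹ * ((d : ↥(centralizer ({x} : Set G))) : G) * g, d.2⟩
      map_one' := Subtype.ext (by
        show g⁻¹ * 1 * g = 1
        group)
      map_mul' := fun a b => Subtype.ext (by
        show g⁻¹ * (((a : ↥(centralizer ({x} : Set G))) : G) * ((b : ↥(centralizer ({x} : Set G))) : G)) * g =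
          g⁻¹ * ((a : ↥(centralizer ({x} : Set G))) : G) * g * (g⁻¹ * ((b : ↥(centralizer ({x} : Set G))) : G) * g)
        group) }
  refine hQ.of_injective f ?_
  intro a b hab
  have h1 : g⁻¹ * ((a : ↥(centralizer ({x} : Set G))) : G) * g = g⁻¹ * ((b : ↥(centralizer ({x} : Set G))) : G) * g :=
    congrArg Subtype.val hab
  exact Subtype.ext (Subtype.ext (mul_left_cancel (mul_right_cancel h1)))

/-- elements of `Q ∩ C(x)` commuting with `Q ∩ C(x)` -/
theorem cent_fix (h : Chart Q z eta pi) {x : centralizer ({z} : Set G)} (hx : x ^ 3 = 1) {p : G} (hp : p ∈ Q)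
    (hpx : (x : G) * p = p * x) (hall : ∀ q ∈ Q, (x : G) * q = q * x → p * q = q * p) : p = 1 ∨ p = z := by
  refine h.large.cent p hp fun q hq => ?_
  have hpf := (comm_iff_fix h hx hp).1 hpx
  have hx1 : (x : G) * q * (x : G)⁻¹ ∈ Q := conj_Q h x q hq
  have hx2 : ((x * x : centralizer ({z} : Set G)) : G) * q * ((x * x : centralizer ({z} : Set G)) : G)⁻¹ ∈ Q :=
    conj_Q h (x * x) q hq
  obtain ⟨q1, hq1⟩ : ∃ q1, q1 = (x : G) * q * (x : G)⁻¹ := ⟨_, rfl⟩
  obtain ⟨q2, hq2⟩ : ∃ q2, q2 = ((x * x : centralizer ({z} : Set G)) : G) * q *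
    ((x * x : centralizer ({z} : Set G)) : G)⁻¹ := ⟨_, rfl⟩
  rw [← hq1] at hx1
  rw [← hq2] at hx2
  have e1 : eta q1 = pi x • eta q := by rw [hq1, h.eta_conj x q hq]
  have e2 : eta q2 = pi x • (pi x • eta q) := by rw [hq2, h.eta_conj (x * x) q hq, map_mul, mul_smul]
  have e3 : eta (q * q1 * q2) = eta q + pi x • eta q + pi x • (pi x • eta q) := by
    rw [h.eta_mul _ (Q.mul_mem hq hx1) _ hx2, h.eta_mul _ hq _ hx1, e1, e2]
  have hm : q * q1 * q2 ∈ Q := Q.mul_mem (Q.mul_mem hq hx1) hx2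
  have h3 : pi x • (pi x • (pi x • eta q)) = eta q := by
    rw [← mul_smul, ← mul_smul, ← pow_two, ← pow_succ, ← map_pow, hx, map_one, one_smul]
  have hfix : pi x • eta (q * q1 * q2) = eta (q * q1 * q2) := by
    rw [e3, smul_add, smul_add, h3]
    abel
  have h4 := (h.comm_iff hp hm).1 (hall _ hm ((comm_iff_fix h hx hm).2 hfix))
  have h5 : bf (eta p) (pi x • eta q) = bf (eta p) (eta q) := by
    conv_lhs => rw [← hpf]
    rw [bf_smul1]
  have h6 : bf (eta p) (pi x • (pi x • eta q)) = bf (eta p) (eta q) := by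
    conv_lhs => rw [← hpf]
    rw [bf_smul1, h5]
  rw [e3, bf_add_right, bf_add_right, h5, h6] at h4
  refine (h.comm_iff hp hq).2 ?_
  revert h4
  generalize bf (eta p) (eta q) = c
  revert c
  decide

/-- **The `2`-group `P`.** `u = g z g⁻¹` in `C(x)`. -/
theorem two (h : Chart Q z eta pi) (ht : TrNe z pi) {x : centralizer ({z} : Set G)} (hx : orderOf x = 3)
    (hfr : fr (pi x) = 1) {u : ↥(centralizer ({(x : G)} : Set G))} {g : G} (hg : g * z * g⁻¹ = u)
    (huz : (u : G) * z = z * u) : Zer.Two (zD x) u (PP Q g (x : G)) := by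
  have hz2 : z * z = 1 := h.large.z_sq
  have hx3 : x ^ 3 = 1 := by rw [← hx, pow_orderOf_eq_one]
  have key : ∀ d : G, d * (u : G) = u * d → (g⁻¹ * d * g) * z = z * (g⁻¹ * d * g) := by
    intro d hd
    calc (g⁻¹ * d * g) * z = g⁻¹ * (d * (g * z * g⁻¹)) * g := by group
      _ = g⁻¹ * (d * u) * g := by rw [hg]
      _ = g⁻¹ * ((g * z * g⁻¹) * d) * g := by rw [hd, hg]
      _ = z * (g⁻¹ * d * g) := by group
  have hu1 : (u : G) ≠ 1 := by
    intro h1
    apply h.large.z_ne
    calc z = g⁻¹ * (g * z * g⁻¹) * g := by group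
      _ = 1 := by rw [hg, h1]; group
  have hcu : ∀ p ∈ PP Q g (x : G), (p : G) * u = u * p := by
    intro p hp
    have h1 := h.large.comm_z _ (mem_PP.1 hp)
    calc (p : G) * u = g * ((g⁻¹ * (p : G) * g) * z) * g⁻¹ := by rw [← hg]; group
      _ = g * (z * (g⁻¹ * (p : G) * g)) * g⁻¹ := by rw [h1]
      _ = u * p := by rw [← hg]; group
  have hnorm : ∀ d : G, d * (u : G) = u * d → ∀ (hd : d * (x : G) = x * d), ∀ p ∈ PP Q g (x : G),
      (⟨d, mem_centralizer_singleton_iff.2 hd⟩ : ↥(centralizer ({(x : G)} : Set G))) * p *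
        (⟨d, mem_centralizer_singleton_iff.2 hd⟩)⁻¹ ∈ PP Q g (x : G) := by
    intro d hdu hd p hp
    have h1 := h.large.conj_mem _ (key d hdu) _ (mem_PP.1 hp)
    refine mem_PP.2 ?_
    show g⁻¹ * (d * (p : G) * d⁻¹) * g ∈ Q
    convert h1 using 1
    group
  have hzx : z * (x : G) = x * z := (mem_centralizer_singleton_iff.1 x.2).symm
  have hsq : ∀ p ∈ PP Q g (x : G), (p : G) * p = 1 ∨ (p : G) * p = u := by
    intro p hp
    have e : (p : G) * p = g * ((g⁻¹ * (p : G) * g) * (g⁻¹ * (p : G) * g)) * g⁻¹ := by group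
    rcases h.large.sq _ (mem_PP.1 hp) with h1 | h1
    · left; rw [e, h1]; group
    · right; rw [e, h1, hg]
  refine ⟨?_, ?_, ?_, ?_, ?_⟩
  · -- `P` commutes with `z`
    intro p hp
    apply Subtype.ext
    show (p : G) * z = z * p
    have hpx : (p : G) * x = x * p := mem_centralizer_singleton_iff.1 p.2
    -- `c = p z p⁻¹ z` is in `P`
    have hc : p * (zD x * p⁻¹ * (zD x)⁻¹) ∈ PP Q g (x : G) :=
      (PP Q g (x : G)).mul_mem hp (hnorm z huz.symm hzx _ ((PP Q g (x : G)).inv_mem hp))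
    obtain ⟨c, hc'⟩ : ∃ c : G, c = p * (z * (p : G)⁻¹ * z⁻¹) := ⟨_, rfl⟩
    have hzi : z⁻¹ = z := h.large.z_inv
    have hcd : c = (p : G) * z * (p : G)⁻¹ * z := by rw [hc', hzi]; group
    have hci : z * c * z = c⁻¹ := by
      rw [hcd]
      calc z * ((p : G) * z * (p : G)⁻¹ * z) * z = z * (p : G) * z * (p : G)⁻¹ * (z * z) := by group
        _ = z * (p : G) * z * (p : G)⁻¹ := by rw [hz2, mul_one]
        _ = z⁻¹ * (p : G) * z⁻¹ * (p : G)⁻¹ := by rw [hzi]
        _ = ((p : G) * z * (p : G)⁻¹ * z)⁻¹ := by group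
    have hiso : ∀ d : G, d * (x : G) = x * d → (d * z * d⁻¹) * z = z * (d * z * d⁻¹) → d * z * d⁻¹ = z :=
      fun d hd hdc => isolated h ht hx hfr d hd hdc
    have h1 : (p : G) * z * (p : G)⁻¹ = z := by
      have hpc : (p : G) * z * (p : G)⁻¹ = c * z := by rw [hcd, mul_assoc _ z z, hz2, mul_one]
      rcases hsq _ hc with h2 | h2
      · have h2' : c * c = 1 := by rw [hc']; exact h2
        apply hiso _ hpx
        have h3 : c⁻¹ = c := inv_eq_of_mul_eq_one_left h2'
        have h4 : z * c = c * z := by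
          calc z * c = (z * c * z) * z := by rw [mul_assoc _ z z, hz2, mul_one]
            _ = c * z := by rw [hci, h3]
        rw [hpc]
        calc c * z * z = c * (z * z) := by group
          _ = c := by rw [hz2, mul_one]
          _ = z * z * c := by rw [hz2, one_mul]
          _ = z * (c * z) := by rw [mul_assoc, h4]
      · exfalso
        have h2' : c * c = u := by rw [hc']; exact h2
        have hcx : c * (x : G) = x * c := by
          rw [hc']
          have a1 : Commute (p : G) x := hpx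
          have a2 : Commute z (x : G) := hzx
          exact (a1.mul_left ((a2.mul_left a1.inv_left).mul_left a2.inv_left)).eq
        have h3 : c * z * c⁻¹ = u * z := by
          rw [← hci, ← h2']
          calc c * z * (z * c * z) = c * (z * z) * c * z := by group
            _ = c * c * z := by rw [hz2, mul_one]
        have h4 := hiso c hcx (by rw [h3, mul_assoc, hz2, mul_one, huz, ← mul_assoc, hz2, one_mul])
        rw [h3] at h4
        exact hu1 (mul_eq_right.1 h4)
    exact mul_inv_eq_iff_eq_mul.1 h1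
  · intro p hp
    exact Subtype.ext (hcu p hp)
  · intro d hd p hp
    exact hnorm d (congrArg Subtype.val hd) (mem_centralizer_singleton_iff.1 d.2) p hp
  · intro p hp q hq
    have e : ((⁅p, q⁆ : ↥(centralizer ({(x : G)} : Set G))) : G) = g * ((g⁻¹ * (p : G) * g) * (g⁻¹ * (q : G) * g) *
        (g⁻¹ * (p : G) * g)⁻¹ * (g⁻¹ * (q : G) * g)⁻¹) * g⁻¹ := by
      rw [commutatorElement_def]
      push_cast
      group
    rcases h.large.comm _ (mem_PP.1 hp) _ (mem_PP.1 hq) with h1 | h1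
    · left
      apply Subtype.ext
      rw [e, h1]
      show _ = (1 : G)
      group
    · right
      apply Subtype.ext
      rw [e, h1, ← hg]
      have h2 := h.large.comm_z _ (mem_PP.1 hq)
      have h3 := h.large.comm_z _ (mem_PP.1 hp)
      generalize g⁻¹ * (p : G) * g = a at h3 ⊢
      generalize g⁻¹ * (q : G) * g = b at h2 ⊢
      calc g * (b * a * z * a⁻¹ * b⁻¹) * g⁻¹ = g * (b * (a * z) * a⁻¹ * b⁻¹) * g⁻¹ := by group
        _ = g * ((b * z) * b⁻¹) * g⁻¹ := by rw [h3]; group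
        _ = g * z * g⁻¹ := by rw [h2]; group
  · intro p hp hall
    -- transport to `Q ∩ C(g⁻¹ x g)`
    have hxu : (x : G) * u = u * x := (mem_centralizer_singleton_iff.1 u.2).symm
    let x' : centralizer ({z} : Set G) := ⟨g⁻¹ * (x : G) * g, mem_centralizer_singleton_iff.2 (key x hxu)⟩
    have hx' : x' ^ 3 = 1 := by
      apply Subtype.ext
      show (g⁻¹ * (x : G) * g) ^ 3 = 1
      have h1 : (x : G) ^ 3 = 1 := congrArg Subtype.val hx3
      calc (g⁻¹ * (x : G) * g) ^ 3 = g⁻¹ * (x : G) ^ 3 * g := by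
            simp only [pow_succ, pow_zero, one_mul]; group
        _ = 1 := by rw [h1]; group
    have h1 := cent_fix h hx' (mem_PP.1 hp) (by
      show (g⁻¹ * (x : G) * g) * (g⁻¹ * (p : G) * g) = (g⁻¹ * (p : G) * g) * (g⁻¹ * (x : G) * g)
      have h2 : (p : G) * x = x * p := mem_centralizer_singleton_iff.1 p.2
      calc (g⁻¹ * (x : G) * g) * (g⁻¹ * (p : G) * g) = g⁻¹ * (x * p) * g := by group
        _ = g⁻¹ * (p * x) * g := by rw [h2]
        _ = _ := by group) (by
      intro q hq hxq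
      have hxq' : (g⁻¹ * (x : G) * g) * q = q * (g⁻¹ * (x : G) * g) := hxq
      have h3 : (g * q * g⁻¹) * (x : G) = x * (g * q * g⁻¹) := by
        calc (g * q * g⁻¹) * (x : G) = g * (q * (g⁻¹ * (x : G) * g)) * g⁻¹ := by group
          _ = g * ((g⁻¹ * (x : G) * g) * q) * g⁻¹ := by rw [hxq']
          _ = _ := by group
      have h4 := hall ⟨g * q * g⁻¹, mem_centralizer_singleton_iff.2 h3⟩ (mem_PP.2 (by
        show g⁻¹ * (g * q * g⁻¹) * g ∈ Q
        convert hq using 1
        group))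
      have h5 : (p : G) * (g * q * g⁻¹) = (g * q * g⁻¹) * p := congrArg Subtype.val h4
      calc g⁻¹ * (p : G) * g * q = g⁻¹ * ((p : G) * (g * q * g⁻¹)) * g := by group
        _ = g⁻¹ * ((g * q * g⁻¹) * p) * g := by rw [h5]
        _ = q * (g⁻¹ * (p : G) * g) := by group)
    rcases h1 with h1 | h1
    · left
      apply Subtype.ext
      calc (p : G) = g * (g⁻¹ * (p : G) * g) * g⁻¹ := by group
        _ = 1 := by rw [h1]; group
    · right
      apply Subtype.ext
      calc (p : G) = g * (g⁻¹ * (p : G) * g) * g⁻¹ := by group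
        _ = u := by rw [h1, hg]

end Cfsg.Agent.BpSpor.BThree

end

-- merged: Cfsg.Agent.BpSpor.BThreeRank
section

/-!
# `C_M(x)`, `x` of order 3 and fixed rank 0: the second class of `2`-central involutions (helper46)

`x`, `u = g z g⁻¹ ≠ z` commuting with `x` and `z`, `x' = g⁻¹ x g`: the fixed rank of `x'` is 6; consequences for `C(u) ∩ C(P)`.
-/

set_option autoImplicit false

namespace Cfsg.Agent.BpSpor.BThree

open Cfsg Cfsg.Agent.MonsterU Cfsg.Agent.LThree Cfsg.Agent.LThreeMB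
open Cfsg.Agent.MonsterU.Ch
open Cfsg.Agent.MonsterU.Lam2 (L2 bf bf_smul1 bf_add_right)
open Cfsg.Spor (Co1)
open Subgroup (centralizer zpowers mem_centralizer_singleton_iff mem_centralizer_iff)

universe u v

variable {G : Type u} [Group G] {Q : Subgroup G} {z : G} {eta : G → L2}
  {pi : Subgroup.centralizer ({z} : Set G) →* Co1}

/-- The fixed rank of `x'` is 6. -/
theorem fr_six [Finite G] (h : Chart Q z eta pi) (ht : TrNe z pi)
    (hC : ∀ s : Co1, orderOf s = 3 → fr s = 1 ∨ fr s = 2 ^ 6 ∨ fr s = 2 ^ 8 ∨ fr s = 2 ^ 12)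
    (h812 : ∀ x : Subgroup.centralizer ({z} : Set G), orderOf x = 3 → (fr (pi x) = 2 ^ 8 ∨ fr (pi x) = 2 ^ 12) →
      IsSimpleGroup (XX (x : G)) ∧ Subgroup.center (XX (x : G)) ≠ ⊤)
    {x₀ : Subgroup.centralizer ({z} : Set G)} (hx₀ : orderOf x₀ = 3) (hfr₀ : fr (pi x₀) = 1) {u g : G}
    (huz : u * z = z * u) (hux : (x₀ : G) * u = u * x₀) (hne : u ≠ z) (hg : g * z * g⁻¹ = u)
    {x' : Subgroup.centralizer ({z} : Set G)} (hgx' : g * (x' : G) * g⁻¹ = x₀) : orderOf x' = 3 ∧ fr (pi x') = 2 ^ 6 := by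
  have hz2 : z * z = 1 := h.large.z_sq
  have hx' : orderOf x' = 3 := by
    rw [← Subgroup.orderOf_coe, ← hx₀, ← Subgroup.orderOf_coe, ← hgx']
    exact (orderOf_injective (MulAut.conj g).toMonoidHom (MulAut.conj g).injective (x' : G)).symm
  refine ⟨hx', ?_⟩
  have hu2 : u * u = 1 := by
    rw [← hg]
    calc g * z * g⁻¹ * (g * z * g⁻¹) = g * (z * z) * g⁻¹ := by group
      _ = 1 := by rw [hz2]; group
  have hu1 : u ≠ 1 := by
    intro h1
    apply h.large.z_ne
    calc z = g⁻¹ * (g * z * g⁻¹) * g := by group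
      _ = 1 := by rw [hg, h1]; group
  rcases hC (pi x') (orderOf_pi h hx') with h1 | h1 | h1
  · exfalso
    refine ht x₀ x' u g hx₀ hx' hfr₀ h1 huz hu2 hu1 hne hux ?_
    calc g * ((x' : G) * z) * g⁻¹ = (g * x' * g⁻¹) * (g * z * g⁻¹) := by group
      _ = x₀ * u := by rw [hgx', hg]
  · exact h1
  · exfalso
    obtain ⟨h2, h3⟩ := h812 x' hx' h1
    obtain ⟨-, ⟨e⟩⟩ := exists_XX_equiv hgx'
    refine not_simple h hx₀ (fun d hd hc => isolated h ht hx₀ hfr₀ d hd hc)
      ((MulEquiv.isSimpleGroup_congr e).1 h2) ?_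
    intro h4
    apply h3
    rw [eq_top_iff]
    intro a _
    rw [Subgroup.mem_center_iff]
    intro b
    apply e.injective
    rw [map_mul, map_mul]
    have h5 : e a ∈ Subgroup.center (XX (x₀ : G)) := by rw [h4]; trivial
    exact Subgroup.mem_center_iff.1 h5 (e b)

/-- **No elements of prime order at least 5 centralising `P`.** -/
theorem up_five (h : Chart Q z eta pi) {x x' : centralizer ({z} : Set G)} {g : G} (hx' : orderOf x' = 3)
    (hfr' : fr (pi x') = 2 ^ 6) (hgx' : g * (x' : G) * g⁻¹ = x) {u : ↥(centralizer ({(x : G)} : Set G))}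
    (hg : g * z * g⁻¹ = u) (d : ↥(centralizer ({(x : G)} : Set G))) (r : ℕ) (hr : r.Prime) (hr2 : r ≠ 2) (hr3 : r ≠ 3)
    (hd : d ∈ Zer.UP u (PP Q g (x : G))) (hdr : d ^ r = 1) : d = 1 := by
  have hx3 : x' ^ 3 = 1 := by rw [← hx', pow_orderOf_eq_one]
  have h5 : 5 ≤ r := by
    have := hr.two_le
    by_contra hlt
    have h4 : r = 4 := by omega
    subst h4
    revert hr
    decide
  have hdG : (d : G) ^ r = 1 := congrArg Subtype.val hdr
  have hdx : (d : G) * x = x * d := mem_centralizer_singleton_iff.1 d.2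
  have hdu : (d : G) * u = u * d := congrArg Subtype.val (mem_centralizer_singleton_iff.1 hd.1)
  obtain ⟨e, he⟩ : ∃ e, e = g⁻¹ * (d : G) * g := ⟨_, rfl⟩
  have hde : (d : G) = g * e * g⁻¹ := by rw [he]; group
  have her : e ^ r = 1 := by
    have h1 := map_pow (MulAut.conj g⁻¹) (d : G) r
    have h2 : (MulAut.conj g⁻¹) (d : G) = e := by
      rw [he, MulAut.conj_apply, inv_inv]
    rw [h2, hdG, map_one] at h1
    exact h1.symm
  have hez : e * z = z * e := by
    rw [he]
    calc (g⁻¹ * (d : G) * g) * z = g⁻¹ * ((d : G) * (g * z * g⁻¹)) * g := by group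
      _ = g⁻¹ * ((g * z * g⁻¹) * d) * g := by rw [hg, hdu]
      _ = z * (g⁻¹ * (d : G) * g) := by group
  have hex : e * (x' : G) = x' * e := by
    rw [he]
    calc (g⁻¹ * (d : G) * g) * x' = g⁻¹ * ((d : G) * (g * x' * g⁻¹)) * g := by group
      _ = g⁻¹ * ((g * x' * g⁻¹) * d) * g := by rw [hgx', hdx]
      _ = x' * (g⁻¹ * (d : G) * g) := by group
  let e' : centralizer ({z} : Set G) := ⟨e, mem_centralizer_singleton_iff.2 hez⟩
  have hex' : e' * x' = x' * e' := Subtype.ext hex
  have her' : e' ^ r = 1 := Subtype.ext her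
  -- `pi e'` fixes the fixed points of `pi x'`
  have hfix : ∀ v : L2, pi x' • v = v → pi e' • v = v := by
    intro v hv
    obtain ⟨q, hq, rfl⟩ := h.eta_surj v
    have hxq := (comm_iff_fix h hx3 hq).2 hv
    have h1 : (g * q * g⁻¹) * (x : G) = x * (g * q * g⁻¹) := by
      rw [← hgx']
      calc (g * q * g⁻¹) * (g * (x' : G) * g⁻¹) = g * (q * x') * g⁻¹ := by group
        _ = g * (x' * q) * g⁻¹ := by rw [hxq]
        _ = _ := by group
    have h2 := (mem_centralizer_iff.1 hd.2) ⟨g * q * g⁻¹, mem_centralizer_singleton_iff.2 h1⟩ (mem_PP.2 (by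
      show g⁻¹ * (g * q * g⁻¹) * g ∈ Q
      convert hq using 1
      group))
    have h3 : (g * q * g⁻¹) * (d : G) = d * (g * q * g⁻¹) := congrArg Subtype.val h2
    have h4 : e * q = q * e := by
      rw [he]
      calc g⁻¹ * (d : G) * g * q = g⁻¹ * ((d : G) * (g * q * g⁻¹)) * g := by group
        _ = g⁻¹ * ((g * q * g⁻¹) * d) * g := by rw [h3]
        _ = q * (g⁻¹ * (d : G) * g) := by group
    rw [← h.eta_conj e' q hq]
    congr 1
    exact mul_inv_eq_iff_eq_mul.2 h4
  have h6 : pi e' = 1 := Co.eq_one_of_fix (orderOf_pi h hx') hfr' (by rw [← map_mul, ← map_mul, hex']) hr h5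
    (by rw [← map_pow, her', map_one]) hfix
  have heQ : e ∈ Q := (h.pi_eq_one e').1 h6
  have he4 : e ^ 4 = 1 := by
    have h7 : e ^ 4 = (e * e) * (e * e) := by
      simp only [pow_succ, pow_zero, one_mul, mul_assoc]
    rcases h.large.sq _ heQ with h8 | h8
    · rw [h7, h8, one_mul]
    · rw [h7, h8, h.large.z_sq]
  have he1 : e = 1 := by
    have h9 : orderOf e ∣ 4 := orderOf_dvd_of_pow_eq_one he4
    have h10 : orderOf e ∣ r := orderOf_dvd_of_pow_eq_one her
    have h11 : Nat.Coprime 4 r := by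
      have : Nat.Coprime 2 r := (Nat.coprime_primes Nat.prime_two hr).2 (Ne.symm hr2)
      exact Nat.Coprime.pow_left 2 this
    exact orderOf_eq_one_iff.1 (Nat.eq_one_of_dvd_coprimes h11 h9 h10)
  apply Subtype.ext
  rw [hde, he1]
  show g * 1 * g⁻¹ = 1
  group

/-- **`C(u) ∩ C(P)` is solvable.** -/
theorem up_solvable [Finite G] (h : Chart Q z eta pi) {x x' : centralizer ({z} : Set G)} {g : G} (hx' : orderOf x' = 3)
    (hfr' : fr (pi x') = 2 ^ 6) (hgx' : g * (x' : G) * g⁻¹ = x) {u : ↥(centralizer ({(x : G)} : Set G))}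
    (hg : g * z * g⁻¹ = u) : Group.IsSolvable ↥(Zer.UP u (PP Q g (x : G))) := by
  refine LThreeCo1Six.Abs.isSolvable_of_primes fun r hr h5 y hy => ?_
  have h1 := up_five h hx' hfr' hgx' hg (y : ↥(centralizer ({(x : G)} : Set G))) r hr (by omega) (by omega) y.2
    (by rw [← hy, ← Subgroup.orderOf_coe, pow_orderOf_eq_one])
  have h2 : y = 1 := Subtype.ext h1
  rw [h2, orderOf_one] at hy
  exact hr.one_lt.ne hy

end Cfsg.Agent.BpSpor.BThree

end

-- merged: Cfsg.Agent.BpSpor.MThreeAbs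
section

/-!
# Isolated involutions and quotient `Suz`: the odd core (helper23)

* `exists_hom` : the homomorphism of `D = N C_D(z)` onto the simple quotient of `C_D(z)`;
* `le_ker` : a normal subgroup of `C_D(z)` without `z` is in the kernel of `C_D(z) → Suz`;
* `core_inf_eq_bot` : `O_{3'}(N) = 1`; `good` : `Good 3 D`.
-/

set_option autoImplicit false

namespace Cfsg.Agent.BpSpor.MThree

open Subgroup Cfsg Cfsg.Agent.Lib Cfsg.Agent.BpTab Cfsg.Agent.SignalizersComponents
open Cfsg.Agent.LThreeBX.Abs (Ker zA)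

universe u v

/-- a normal `p'`-subgroup is in the kernel of a map onto a simple group of order divisible by `p` -/
theorem core_le_ker {H : Type u} [Group H] [Finite H] {p : ℕ} [hp : Fact p.Prime] {X : Type v} [Group X]
    (hX : IsSimpleGroup X) (hd : p ∣ Nat.card X) (F : H →* X) (hF : Function.Surjective F) {N : Subgroup H}
    (hN : N.Normal) (hc : (Nat.card ↥N).Coprime p) : N ≤ F.ker := by
  rcases (hN.map F hF).eq_bot_or_eq_top with h | h
  · exact (Subgroup.map_eq_bot_iff _).1 h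
  · exfalso
    have h1 := card_map_dvd N F
    rw [h, card_top] at h1
    exact (hp.out.coprime_iff_not_dvd.1 hc.symm) (hd.trans h1)

/-- **The simple quotient of a `p`-component**, for a group with a map onto a simple group with solvable kernel. -/
theorem card_dvd_of_hom {H : Type u} [Group H] [Finite H] {p : ℕ} [hp : Fact p.Prime] {X : Type v} [Group X]
    (hX : IsSimpleGroup X) (hnc : center X ≠ ⊤) (hd : p ∣ Nat.card X) (F : H →* X) (hF : Function.Surjective F)
    (hk : Group.IsSolvable ↥F.ker) {L : Subgroup H} (hL : IsPComponent p L) :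
    Nat.card X ∣ Nat.card (↥(L.map (QuotientGroup.mk' (pPrimeCore p H))) ⧸
        center ↥(L.map (QuotientGroup.mk' (pPrimeCore p H)))) := by
  have hOn := Cores.pPrimeCore_normal (G := H) p
  have hOc := Cores.pPrimeCore_coprime (G := H) p
  have hle := core_le_ker hX hd F hF hOn hOc
  have hXf : Finite X := Finite.of_surjective F hF
  have hcX : center X = ⊥ := ((inferInstance : (center X).Normal).eq_bot_or_eq_top).resolve_right hnc
  let F' : H ⧸ pPrimeCore p H →* X := QuotientGroup.lift _ F hle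
  have hF' : Function.Surjective F' := by
    intro x
    obtain ⟨h, rfl⟩ := hF x
    exact ⟨QuotientGroup.mk h, rfl⟩
  have hk' : Group.IsSolvable ↥F'.ker := by
    let γ : ↥F.ker →* ↥F'.ker := ((QuotientGroup.mk' (pPrimeCore p H)).comp F.ker.subtype).codRestrict F'.ker
      (fun g => g.2)
    have hγ : Function.Surjective γ := by
      rintro ⟨y, hy⟩
      obtain ⟨c, rfl⟩ := QuotientGroup.mk'_surjective _ y
      exact ⟨⟨c, hy⟩, rfl⟩
    exact Group.isSolvable_of_surjective hγ
  set Lb := L.map (QuotientGroup.mk' (pPrimeCore p H)) with hLb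
  have hC : IsComponent Lb := hL.2.1
  have htop : Lb.map F' = ⊤ := by
    rcases (hC.1.map hF').eq_bot_or_top_of_isSimpleGroup hX with h | h
    · exfalso
      have h1 : Lb ≤ F'.ker := (Subgroup.map_eq_bot_iff _).1 h
      exact Components.quasisimple_not_isSolvable hC.2
        (Group.isSolvable_of_isSolvable_injective (f := inclusion h1) (inclusion_injective h1))
    · exact h
  let g : ↥Lb →* X := F'.comp Lb.subtype
  have hg : Function.Surjective g := by
    intro x
    have hx : x ∈ Lb.map F' := htop ▸ mem_top x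
    obtain ⟨l, hl, rfl⟩ := hx
    exact ⟨⟨l, hl⟩, rfl⟩
  have hcen : center ↥Lb ≤ g.ker := by
    intro l hl
    rw [MonoidHom.mem_ker, ← mem_bot, ← hcX, mem_center_iff]
    intro x
    obtain ⟨m, rfl⟩ := hg x
    rw [← map_mul, ← map_mul, mem_center_iff.1 hl m]
  have hs : Function.Surjective (QuotientGroup.lift (center ↥Lb) g hcen) := by
    intro x
    obtain ⟨l, rfl⟩ := hg x
    exact ⟨QuotientGroup.mk l, rfl⟩
  exact card_dvd_of_surjective _ hs

/-! ### Arithmetic -/

/-- `∏ (r ^ d - r ^ i)` -/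
def gl (r d : ℕ) : ℕ → ℕ
  | 0 => 1
  | n + 1 => gl r d n * (r ^ d - r ^ n)

theorem gl_eq (r d : ℕ) : ∏ i : Fin d, (r ^ d - r ^ (i : ℕ)) = gl r d d := by
  have h : ∀ n, gl r d n = ∏ i ∈ Finset.range n, (r ^ d - r ^ i) := by
    intro n
    induction n with
    | zero => rfl
    | succ n ih => rw [Finset.prod_range_succ, ← ih]; rfl
  rw [h, Finset.prod_range]

/-- `q` does not divide `|GL_d(r)|` for `d ≤ k` -/
def noGL (q r k : ℕ) : Bool := (List.range (k + 1)).all fun d => gl r d d % q != 0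

theorem not_dvd_of_noGL {q r k : ℕ} (h : noGL q r k = true) (hq : q.Coprime r) {d M : ℕ} (hd : d ≤ k) :
    ¬ q ∣ r ^ M * ∏ i : Fin d, (r ^ d - r ^ (i : ℕ)) := by
  intro h1
  rw [gl_eq] at h1
  have h2 := (hq.pow_right M).dvd_of_dvd_mul_left h1
  unfold noGL at h
  rw [List.all_eq_true] at h
  have h3 := h d (List.mem_range.2 (by omega))
  rw [Nat.mod_eq_zero_of_dvd h2] at h3
  exact absurd h3 (by decide)

/-- the table: for all `(r, k)` with `r ≠ 2, 3` some `q` of the list does not divide `|GL_d(r)|` for `d ≤ k` -/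
def tab (l : List (ℕ × ℕ)) (qs : List ℕ) : Bool :=
  l.all fun x => Nat.beq x.1 2 || (Nat.beq x.1 3 || qs.any fun q => Nat.beq (Nat.gcd q x.1) 1 && noGL q x.1 x.2)

theorem no_aut {l : List (ℕ × ℕ)} {N n : ℕ} {qs : List ℕ} (hv : OrdDiv.valid l N = true) (hq : ∀ q ∈ qs, q ∣ n)
    (h : tab l qs = true) {r k : ℕ} (hr : r.Prime) (h2 : r ≠ 2) (h3 : r ≠ 3) (hk : 1 ≤ k) (hd : r ^ k ∣ N) {d M : ℕ}
    (hdk : d ≤ k) : ¬ n ∣ r ^ M * ∏ i : Fin d, (r ^ d - r ^ (i : ℕ)) := by
  obtain ⟨e, he, hke⟩ := OrdDiv.exists_pair hv hr hk hd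
  unfold tab at h
  rw [List.all_eq_true] at h
  have h1 := h _ he
  rw [Bool.or_eq_true, Bool.or_eq_true, List.any_eq_true] at h1
  rcases h1 with h1 | h1 | ⟨q, hqm, h1⟩
  · exact absurd (Nat.eq_of_beq_eq_true h1) h2
  · exact absurd (Nat.eq_of_beq_eq_true h1) h3
  · rw [Bool.and_eq_true] at h1
    intro h4
    exact not_dvd_of_noGL h1.2 (Nat.eq_of_beq_eq_true h1.1) (hdk.trans hke) ((hq q hqm).trans h4)

section

variable {D : Type u} [Group D] [Finite D] {z : D}

/-- **The homomorphism of `D` onto the simple quotient of `C_D(z)`.** -/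
theorem exists_hom (FT : ∀ (K : Type u) [Group K] [Finite K], Odd (Nat.card K) → Group.IsSolvable K)
    (hz : orderOf z = 2) (hiso : ∀ d : D, (d * z * d⁻¹) * z = z * (d * z * d⁻¹) → d * z * d⁻¹ = z)
    {S : Type v} [Group S] (hS : IsSimpleGroup S) (hev : Even (Nat.card S)) (f : ↥(centralizer ({z} : Set D)) →* S)
    (hf : Function.Surjective f) (hk : Group.IsSolvable ↥f.ker) :
    ∃ (N : Subgroup D) (F : D →* S), N.Normal ∧ Odd (Nat.card ↥N) ∧ N ⊔ centralizer ({z} : Set D) = ⊤ ∧ N ≤ F.ker ∧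
      (∀ c : ↥(centralizer ({z} : Set D)), F c = f c) ∧ Function.Surjective F ∧ Group.IsSolvable ↥F.ker := by
  obtain ⟨N, hN, hNo, hsup⟩ := LThreeMB.ZStar.exists_core hz hiso
  let α : ↥(centralizer ({z} : Set D)) →* D ⧸ N := (QuotientGroup.mk' N).comp (centralizer ({z} : Set D)).subtype
  have hα : Function.Surjective α := by
    intro y
    obtain ⟨g, rfl⟩ := QuotientGroup.mk'_surjective N y
    have hg : g ∈ N ⊔ centralizer ({z} : Set D) := by rw [hsup]; trivial
    obtain ⟨n, hn, c, hc, rfl⟩ := mem_sup_of_normal_left.1 hg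
    refine ⟨⟨c, hc⟩, ?_⟩
    show QuotientGroup.mk' N c = QuotientGroup.mk' N (n * c)
    rw [map_mul, show QuotientGroup.mk' N n = 1 from (QuotientGroup.eq_one_iff _).2 hn, one_mul]
  have hαk : α.ker = N.subgroupOf (centralizer ({z} : Set D)) := by
    ext x
    rw [MonoidHom.mem_ker, mem_subgroupOf]
    exact QuotientGroup.eq_one_iff _
  have hSf : Finite S := Finite.of_surjective f hf
  have h2 : Fact (Nat.Prime 2) := ⟨Nat.prime_two⟩
  have hle : α.ker ≤ f.ker := by
    rw [hαk]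
    refine core_le_ker hS (even_iff_two_dvd.1 hev) f hf inferInstance ?_
    have h3 : Nat.card ↥(N.subgroupOf (centralizer ({z} : Set D))) =
        Nat.card ↥((N.subgroupOf (centralizer ({z} : Set D))).map (centralizer ({z} : Set D)).subtype) :=
      (card_map_of_injective (Subgroup.subtype_injective _)).symm
    rw [h3, subgroupOf_map_subtype]
    exact (Nat.coprime_two_right.2 hNo).coprime_dvd_left (card_dvd_of_le inf_le_left)
  obtain ⟨ρ, hρ⟩ := LThreeMB.exists_fac α hα f (fun _ ha => hle ha)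
  have hρs : Function.Surjective ρ := by
    intro s
    obtain ⟨c, rfl⟩ := hf s
    exact ⟨α c, hρ c⟩
  let F : D →* S := ρ.comp (QuotientGroup.mk' N)
  have hF : Function.Surjective F := hρs.comp (QuotientGroup.mk'_surjective N)
  refine ⟨N, F, hN, hNo, hsup, ?_, fun c => hρ c, hF, ?_⟩
  · intro n hn
    rw [MonoidHom.mem_ker]
    show ρ (QuotientGroup.mk' N n) = 1
    rw [show QuotientGroup.mk' N n = 1 from (QuotientGroup.eq_one_iff _).2 hn, map_one]
  -- the kernel
  let β : ↥F.ker →* ↥ρ.ker := ((QuotientGroup.mk' N).comp F.ker.subtype).codRestrict ρ.ker (fun g => g.2)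
  have hβk : Group.IsSolvable ↥β.ker := by
    let γ : ↥β.ker →* ↥N := (F.ker.subtype.comp β.ker.subtype).codRestrict N (fun g => by
      have h1 : β (g : ↥F.ker) = 1 := g.2
      exact (QuotientGroup.eq_one_iff _).1 (congrArg Subtype.val h1))
    have hγ : Function.Injective γ := by
      intro a b hab
      have h1 : ((a : ↥F.ker) : D) = ((b : ↥F.ker) : D) := congrArg (fun n : ↥N => (n : D)) hab
      exact Subtype.ext (Subtype.ext h1)
    have hNs : Group.IsSolvable ↥N := FT ↥N hNo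
    exact Group.isSolvable_of_isSolvable_injective hγ
  have hρk : Group.IsSolvable ↥ρ.ker := by
    let γ : ↥f.ker →* ↥ρ.ker := (α.comp f.ker.subtype).codRestrict ρ.ker (fun g => by
      rw [MonoidHom.mem_ker]
      show ρ (α g) = 1
      rw [hρ]; exact g.2)
    have hγ : Function.Surjective γ := by
      rintro ⟨y, hy⟩
      obtain ⟨c, rfl⟩ := hα y
      exact ⟨⟨c, by rw [MonoidHom.mem_ker, ← hρ]; exact hy⟩, rfl⟩
    exact Group.isSolvable_of_surjective hγ
  rw [Group.isSolvable_iff_subgroup_quotient β.ker]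
  refine ⟨hβk, ?_⟩
  have h1 : Group.IsSolvable ↥β.range := inferInstance
  exact Group.isSolvable_of_isSolvable_injective (f := (QuotientGroup.quotientKerEquivRange β).toMonoidHom)
    (QuotientGroup.quotientKerEquivRange β).injective

variable {X : Type v} [Group X] {φ : ↥(centralizer ({z} : Set D)) →* X}

omit [Finite D] in
theorem ker_solvable (hK : Ker φ) : Group.IsSolvable ↥φ.ker :=
  Group.isSolvable_of_comm fun _ b => Subtype.ext (hK.cen _ b.2 _)

omit [Finite D] in
/-- **A normal subgroup of `C_D(z)` without `z` is in the kernel.** -/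
theorem le_ker (hφ : Function.Surjective φ) (hK : Ker φ) (hz2 : z * z = 1) (e : X ≃* Spor.Suz)
    (h7 : ∀ t g : ↥(centralizer ({z} : Set D)), t * t = 1 → φ t ≠ 1 → g ^ 7 = 1 → g * t = t * g → g = 1)
    {J : Subgroup ↥(centralizer ({z} : Set D))} (hJ : J.Normal) (hzJ : zA ∉ J) : J ≤ φ.ker := by
  have hs : IsSimpleGroup X := (MulEquiv.isSimpleGroup_congr e).2 Cfsg.Agent.S1694.result.1
  rcases (hJ.map φ hφ).eq_bot_or_eq_top with h | h
  · exact (Subgroup.map_eq_bot_iff _).1 h
  · exfalso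
    have h1 : e.symm KFacts.SuzLFour.e0 ∈ J.map φ := h ▸ mem_top _
    obtain ⟨g, hgJ, hg⟩ := h1
    have he0 : KFacts.SuzLFour.e0 * KFacts.SuzLFour.e0 = 1 := KFacts.SuzLFour.e0_sq
    have he1 : KFacts.SuzLFour.e0 ≠ 1 := KFacts.SuzLFour.e0_ne
    have hg2 : g * g ∈ φ.ker := by
      rw [MonoidHom.mem_ker, map_mul, hg, ← map_mul, he0, map_one]
    -- `(g ^ 2) ^ 3 = 1`
    have h6 := hK.six _ hg2
    have h3 : ((g * g) ^ 3) * ((g * g) ^ 3) = 1 := by rw [← pow_add]; exact h6
    have hJ3 : (g * g) ^ 3 ∈ J := J.pow_mem (J.mul_mem hgJ hgJ) 3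
    have h4 : (g * g) ^ 3 = 1 := by
      rcases hK.two _ (Subgroup.pow_mem _ hg2 3) h3 with h5 | h5
      · exact h5
      · exact absurd (h5 ▸ hJ3) hzJ
    have h5 : g ^ 3 * g ^ 3 = 1 := by
      rw [← h4, ← pow_two, ← pow_two, ← pow_mul, ← pow_mul]
    have h8 : φ (g ^ 3) = e.symm KFacts.SuzLFour.e0 := by
      rw [map_pow, hg, ← map_pow, pow_succ, pow_two, he0, one_mul]
    have hne : φ (g ^ 3) ≠ 1 := by
      rw [h8]
      intro h9
      apply he1
      rw [← e.apply_symm_apply KFacts.SuzLFour.e0, h9, map_one]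
    refine LThreeBX.Abs.not_e0 φ hφ hK hz2 e h5 (fun k hk hkt => h7 (g ^ 3) k h5 hne hk hkt) ?_
    rw [h8, MulEquiv.apply_symm_apply]

/-- **`O_{3'}(N) = 1`.** -/
theorem core_inf_eq_bot (hz2 : z * z = 1) (hφ : Function.Surjective φ) (hK : Ker φ) (e : X ≃* Spor.Suz)
    (h7 : ∀ t g : ↥(centralizer ({z} : Set D)), t * t = 1 → φ t ≠ 1 → g ^ 7 = 1 → g * t = t * g → g = 1)
    {N : Subgroup D} (hN : N.Normal) (hNo : Odd (Nat.card ↥N)) {l : List (ℕ × ℕ)} {N0 : ℕ}
    (hv : OrdDiv.valid l N0 = true) (hD : Nat.card D ∣ N0) (hl : tab l [3 ^ 7, 11, 13] = true) :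
    pPrimeCore 3 D ⊓ N = ⊥ := by
  have h3F : Fact (Nat.Prime 3) := ⟨Nat.prime_three⟩
  have hs : IsSimpleGroup X := (MulEquiv.isSimpleGroup_congr e).2 Cfsg.Agent.S1694.result.1
  have hcX : Nat.card X = 448345497600 := (Nat.card_congr e.toEquiv).trans Cfsg.Agent.S1694.result.2
  have hOn := Cores.pPrimeCore_normal (G := D) 3
  have hOc := Cores.pPrimeCore_coprime (G := D) 3
  set W := pPrimeCore 3 D ⊓ N with hW
  have hWn : W.Normal := inferInstance
  have hWc : (Nat.card ↥W).Coprime 3 := hOc.coprime_dvd_left (card_dvd_of_le inf_le_left)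
  have hWo : Odd (Nat.card ↥W) := hNo.of_dvd_nat (card_dvd_of_le inf_le_right)
  have hWC : W ⊓ centralizer ({z} : Set D) = ⊥ := by
    rw [eq_bot_iff]
    rintro w ⟨hwW, hwC⟩
    have h1 : W.subgroupOf (centralizer ({z} : Set D)) ≤ φ.ker := by
      refine core_le_ker (p := 3) hs (by rw [hcX]; norm_num) φ hφ inferInstance ?_
      have h3 : Nat.card ↥(W.subgroupOf (centralizer ({z} : Set D))) =
          Nat.card ↥((W.subgroupOf (centralizer ({z} : Set D))).map (centralizer ({z} : Set D)).subtype) :=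
        (card_map_of_injective (Subgroup.subtype_injective _)).symm
      rw [h3, subgroupOf_map_subtype]
      exact hWc.coprime_dvd_left (card_dvd_of_le inf_le_left)
    have h2 : (⟨w, hwC⟩ : ↥(centralizer ({z} : Set D))) ∈ φ.ker := h1 (mem_subgroupOf.2 hwW)
    have h3 : w ^ 6 = 1 := congrArg Subtype.val (hK.six _ h2)
    have h4 : w ^ Nat.card ↥W = 1 := by
      have h5 : (⟨w, hwW⟩ : ↥W) ^ Nat.card ↥W = 1 := pow_card_eq_one'
      exact congrArg Subtype.val h5
    have h5 : Nat.Coprime 6 (Nat.card ↥W) :=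
      Nat.Coprime.mul_left (m := 2) (n := 3) (Nat.coprime_two_right.2 hWo).symm hWc.symm
    have h6 : w ^ Nat.gcd 6 (Nat.card ↥W) = 1 := pow_gcd_eq_one.2 ⟨h3, h4⟩
    rw [h5, pow_one] at h6
    exact h6
  obtain ⟨hinv, hcomm⟩ := inv_of_free hz2 hWC
  by_contra hne
  have hcard : Nat.card ↥W ≠ 1 := fun h => hne (card_eq_one.1 h)
  set r := (Nat.card ↥W).minFac with hr
  have hrp : r.Prime := Nat.minFac_prime hcard
  have hrF : Fact r.Prime := ⟨hrp⟩
  have hrd : r ∣ Nat.card ↥W := Nat.minFac_dvd _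
  have hr2 : r ≠ 2 := by
    intro h
    rw [h] at hrd
    exact (Nat.not_even_iff_odd.2 hWo) (even_iff_two_dvd.2 hrd)
  have hr3 : r ≠ 3 := by
    intro h
    rw [h] at hrd
    exact (Nat.Prime.coprime_iff_not_dvd Nat.prime_three).1 hWc.symm hrd
  let R : Subgroup D :=
    { carrier := {w | w ∈ W ∧ w ^ r = 1}
      mul_mem' := fun {a b} ha hb => ⟨W.mul_mem ha.1 hb.1, by
        rw [(show Commute a b from hcomm a ha.1 b hb.1).mul_pow, ha.2, hb.2, one_mul]⟩
      one_mem' := ⟨W.one_mem, one_pow _⟩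
      inv_mem' := fun {a} ha => ⟨W.inv_mem ha.1, by rw [inv_pow, ha.2, inv_one]⟩ }
  have hRn : R.Normal := by
    constructor
    intro w hw g
    exact ⟨hWn.conj_mem w hw.1 g, by rw [conj_pow, hw.2, mul_one, mul_inv_cancel]⟩
  have hRp : IsPGroup r ↥R := fun w => ⟨1, Subtype.ext (by rw [pow_one]; exact w.2.2)⟩
  obtain ⟨⟨w, hwW⟩, hw⟩ := exists_prime_orderOf_dvd_card' r hrd
  rw [Subgroup.orderOf_mk] at hw
  have hwR : w ∈ R := ⟨hwW, by rw [← hw, pow_orderOf_eq_one]⟩
  obtain ⟨k, hk⟩ := hRp.exists_card_eq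
  have hk1 : 1 ≤ k := by
    by_contra h
    have h0 : k = 0 := by omega
    rw [h0, pow_zero] at hk
    have h1 : R = ⊥ := card_eq_one.1 hk
    rw [h1, mem_bot] at hwR
    rw [hwR, orderOf_one] at hw
    exact hrp.one_lt.ne hw
  -- `z` does not centralize `R`
  let J : Subgroup ↥(centralizer ({z} : Set D)) := (centralizer (R : Set D)).subgroupOf (centralizer ({z} : Set D))
  have hzJ : zA ∉ J := by
    intro h
    have h1 : z ∈ centralizer (R : Set D) := mem_subgroupOf.1 h
    have h2 := mem_centralizer_iff.1 h1 w hwR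
    have h3 := hinv w hwW
    rw [← h2, mul_inv_cancel_right] at h3
    have h4 : w ^ 2 = 1 := by
      rw [pow_two]
      nth_rewrite 2 [h3]
      exact mul_inv_cancel w
    have h5 := orderOf_dvd_of_pow_eq_one h4
    rw [hw] at h5
    exact hr2 ((Nat.prime_dvd_prime_iff_eq hrp Nat.prime_two).1 h5)
  have hJ : J ≤ φ.ker := le_ker hφ hK hz2 e h7 inferInstance hzJ
  let α : ↥(centralizer ({z} : Set D)) →* MulAut ↥R := MulAut.conjNormal.comp (centralizer ({z} : Set D)).subtype
  have hα : α.ker ≤ φ.ker := by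
    refine le_trans ?_ hJ
    intro c hc
    rw [mem_subgroupOf, mem_centralizer_iff]
    intro x hx
    have h1 : α c ⟨x, hx⟩ = ⟨x, hx⟩ := by rw [MonoidHom.mem_ker.1 hc]; rfl
    have h2 : (c : D) * x * (c : D)⁻¹ = x := by
      have := congrArg Subtype.val h1
      rwa [MonoidHom.comp_apply, MulAut.conjNormal_apply] at this
    exact (mul_inv_eq_iff_eq_mul.1 h2).symm
  have h1 : Nat.card X ∣ Nat.card (MulAut ↥R) := by
    have h2 : Nat.card X = φ.ker.index := by
      rw [index_ker, MonoidHom.range_eq_top.2 hφ, card_top]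
    rw [h2]
    refine (index_dvd_of_le hα).trans ?_
    rw [index_ker]
    exact card_subgroup_dvd_card _
  obtain ⟨d, M, hdk, -, hM⟩ := card_mulAut_dvd hRp hk
  refine no_aut hv (n := Nat.card X) (qs := [3 ^ 7, 11, 13]) ?_ hl hrp hr2 hr3 hk1 ?_ hdk (h1.trans hM)
  · rw [hcX]
    intro q hq
    simp only [List.mem_cons, List.not_mem_nil, or_false] at hq
    rcases hq with rfl | rfl | rfl <;> norm_num
  · rw [← hk]
    exact (card_subgroup_dvd_card R).trans hD

/-- **`O_{3'}(D) ≤ Z(D)`.** -/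
theorem core_le_center (hz2 : z * z = 1) (hφ : Function.Surjective φ) (hK : Ker φ) (e : X ≃* Spor.Suz)
    (h7 : ∀ t g : ↥(centralizer ({z} : Set D)), t * t = 1 → φ t ≠ 1 → g ^ 7 = 1 → g * t = t * g → g = 1)
    {N : Subgroup D} (hN : N.Normal) (hNo : Odd (Nat.card ↥N)) (hsup : N ⊔ centralizer ({z} : Set D) = ⊤)
    {l : List (ℕ × ℕ)} {N0 : ℕ}
    (hv : OrdDiv.valid l N0 = true) (hD : Nat.card D ∣ N0) (hl : tab l [3 ^ 7, 11, 13] = true) :
    pPrimeCore 3 D ≤ center D := by
  have h3F : Fact (Nat.Prime 3) := ⟨Nat.prime_three⟩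
  have hs : IsSimpleGroup X := (MulEquiv.isSimpleGroup_congr e).2 Cfsg.Agent.S1694.result.1
  have hcX : Nat.card X = 448345497600 := (Nat.card_congr e.toEquiv).trans Cfsg.Agent.S1694.result.2
  have hOn := Cores.pPrimeCore_normal (G := D) 3
  have hOc := Cores.pPrimeCore_coprime (G := D) 3
  have h0 := core_inf_eq_bot hz2 hφ hK e h7 hN hNo hv hD hl
  -- `[d, z] ∈ N`
  have hzN : ∀ d : D, d * z * d⁻¹ * z⁻¹ ∈ N := by
    intro d
    have hd : d ∈ N ⊔ centralizer ({z} : Set D) := by rw [hsup]; trivial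
    obtain ⟨n, hn, c, hc, rfl⟩ := mem_sup_of_normal_left.1 hd
    have h1 : c * z = z * c := mem_centralizer_singleton_iff.1 hc
    have h2 : n * c * z * (n * c)⁻¹ * z⁻¹ = n * (z * n⁻¹ * z⁻¹) := by
      calc n * c * z * (n * c)⁻¹ * z⁻¹ = n * (c * z) * c⁻¹ * n⁻¹ * z⁻¹ := by group
        _ = n * (z * c) * c⁻¹ * n⁻¹ * z⁻¹ := by rw [h1]
        _ = _ := by group
    rw [h2]
    exact N.mul_mem hn (hN.conj_mem _ (N.inv_mem hn) z)
  have hWC : pPrimeCore 3 D ≤ centralizer ({z} : Set D) := by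
    intro w hw
    have h1 : w * z * w⁻¹ * z⁻¹ ∈ pPrimeCore 3 D ⊓ N := by
      refine ⟨?_, hzN w⟩
      have h2 : w * z * w⁻¹ * z⁻¹ = w * (z * w⁻¹ * z⁻¹) := by group
      rw [h2]
      exact (pPrimeCore 3 D).mul_mem hw (hOn.conj_mem _ ((pPrimeCore 3 D).inv_mem hw) z)
    rw [h0, mem_bot] at h1
    exact mem_centralizer_singleton_iff.2 (mul_inv_eq_iff_eq_mul.1 (mul_inv_eq_one.1 h1))
  have hWk : (pPrimeCore 3 D).subgroupOf (centralizer ({z} : Set D)) ≤ φ.ker := by
    refine core_le_ker (p := 3) hs (by rw [hcX]; norm_num) φ hφ inferInstance ?_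
    rw [Nat.card_congr (subgroupOfEquivOfLe hWC).toEquiv]
    exact hOc
  intro w hw
  rw [mem_center_iff]
  intro d
  have hd : d ∈ N ⊔ centralizer ({z} : Set D) := by rw [hsup]; trivial
  obtain ⟨n, hn, c, hc, rfl⟩ := mem_sup_of_normal_left.1 hd
  have h1 : n * w * n⁻¹ * w⁻¹ ∈ pPrimeCore 3 D ⊓ N := by
    refine ⟨(pPrimeCore 3 D).mul_mem (hOn.conj_mem _ hw n) ((pPrimeCore 3 D).inv_mem hw), ?_⟩
    have h2 : n * w * n⁻¹ * w⁻¹ = n * (w * n⁻¹ * w⁻¹) := by group
    rw [h2]
    exact N.mul_mem hn (hN.conj_mem _ (N.inv_mem hn) w)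
  rw [h0, mem_bot] at h1
  have h2 : n * w = w * n := mul_inv_eq_iff_eq_mul.1 (mul_inv_eq_one.1 h1)
  have h3 : c * w = w * c := by
    have h4 : (⟨w, hWC hw⟩ : ↥(centralizer ({z} : Set D))) ∈ φ.ker := hWk (mem_subgroupOf.2 hw)
    exact congrArg Subtype.val (hK.cen _ h4 ⟨c, hc⟩)
  rw [mul_assoc, h3, ← mul_assoc, h2, mul_assoc]

end

/-- a central core -/
theorem good_of_core_le_center {H : Type u} [Group H] {p : ℕ} (h : pPrimeCore p H ≤ center H) : Good p H := by
  unfold Good
  rw [commutator_eq_bot_iff_le_centralizer]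
  intro x _
  rw [mem_centralizer_iff]
  intro y hy
  exact (mem_center_iff.1 (h hy) x).symm

end Cfsg.Agent.BpSpor.MThree

end

-- merged: Cfsg.Agent.BpSpor.MThreeDat
section

/-!
# `C_M(x)`, `x` of order 3 and fixed rank 0: the data (helper23)

`Dat z φ` : `z` is an isolated involution of `D`, `φ` maps `C_D(z)` onto `Suz` with central kernel of order dividing 6.
-/

set_option autoImplicit false

namespace Cfsg.Agent.BpSpor.MThree

open Cfsg Cfsg.Agent.MonsterU Cfsg.Agent.LThree Cfsg.Agent.LThreeMB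
open Cfsg.Agent.MonsterU.Ch
open Cfsg.Agent.MonsterU.Lam2 (L2)
open Cfsg.Spor (Co1)
open Cfsg.Agent.MonsterX.KSide Cfsg.Agent.MonsterX.KLift
open Subgroup (centralizer zpowers mem_centralizer_singleton_iff)
open Cfsg.Agent.LThreeBX.Abs (Ker zA)

universe u v

/-- an isolated involution with quotient `Suz` -/
structure Dat {D : Type u} [Group D] {z : D} {X : Type v} [Group X] (φ : ↥(centralizer ({z} : Set D)) →* X) :
    Prop where
  ord : orderOf z = 2
  iso : ∀ d : D, (d * z * d⁻¹) * z = z * (d * z * d⁻¹) → d * z * d⁻¹ = z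
  surj : Function.Surjective φ
  ker : Ker φ
  suz : Nonempty (X ≃* Spor.Suz)
  no7 : ∀ t g : ↥(centralizer ({z} : Set D)), t * t = 1 → φ t ≠ 1 → g ^ 7 = 1 → g * t = t * g → g = 1

/-- the factorization of the order of the Monster -/
def lM : List (ℕ × ℕ) := [(2, 46), (3, 20), (5, 9), (7, 6), (11, 2), (13, 3), (17, 1), (19, 1), (23, 1), (29, 1),
  (31, 1), (41, 1), (47, 1), (59, 1), (71, 1)]

/-- the order of the Monster -/
def nM : ℕ := 808017424794512875886459904961710757005754368000000000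

theorem valid_lM : OrdDiv.valid lM nM = true := by decide +kernel

theorem tab_lM : tab lM [3 ^ 7, 11, 13] = true := by decide +kernel

section

variable {D : Type u} [Group D] [Finite D] {z : D} {X : Type v} [Group X] {φ : ↥(centralizer ({z} : Set D)) →* X}

omit [Finite D] in
theorem Dat.z2 (h : Dat φ) : z * z = 1 := by
  rw [← pow_two, ← h.ord, pow_orderOf_eq_one]

omit [Finite D] in
theorem Dat.simple (h : Dat φ) : IsSimpleGroup X := by
  obtain ⟨e⟩ := h.suz
  exact (MulEquiv.isSimpleGroup_congr e).2 Cfsg.Agent.S1694.result.1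

omit [Finite D] in
theorem Dat.card (h : Dat φ) : Nat.card X = 448345497600 := by
  obtain ⟨e⟩ := h.suz
  exact (Nat.card_congr e.toEquiv).trans Cfsg.Agent.S1694.result.2

/-- **`Good 3 D`.** -/
theorem Dat.good (h : Dat φ) (hD : Nat.card D ∣ nM) : BpTab.Good 3 D := by
  obtain ⟨e⟩ := h.suz
  obtain ⟨N, hN, hNo, hsup⟩ := LThreeMB.ZStar.exists_core h.ord h.iso
  exact good_of_core_le_center (core_le_center h.z2 h.surj h.ker e h.no7 hN hNo hsup valid_lM hD tab_lM)

end

variable {G : Type u} {V P W : Type*} [Group G] [AddCommGroup V] [Module ℚ V]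
  [DistribMulAction G V] [SMulCommClass G ℚ V] [Group P] [AddCommGroup W] [Module ℚ W]
  {M : KS G V P W} {θ : leechLattice → P}

/-- **Fixed rank 0.** -/
theorem dat_zero [Finite G] (L : Lift M θ) (hc : KChart.Cent M) (ht : TrNe M.z (KChart.pi hc))
    {x : centralizer ({M.z} : Set G)} (hx : orderOf x = 3) (hfr : fr (KChart.pi hc x) = 1)
    (hS : Spor.IsoSuz (XX (KChart.pi hc x))) : Dat (toXX (KChart.pi hc) x) := by
  have h := KChart.chart L hc
  have hx3 : x ^ 3 = 1 := by rw [← hx, pow_orderOf_eq_one]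
  refine ⟨?_, ?_, toXX_surj h hx3, LThreeBX.Main.ker h hx3 hfr, hS, ?_⟩
  · rw [← Subgroup.orderOf_coe]
    exact LargeExtra.Base.orderOf_z h.large
  · intro d hd
    exact Subtype.ext (isolated h ht hx hfr d (mem_centralizer_singleton_iff.1 d.2) (congrArg Subtype.val hd))
  · intro t g htt ht1 hg hgt
    -- `t`, `g` in `C(z)`
    have hmem : ∀ k : ↥(centralizer ({zD x} : Set ↥(centralizer ({(x : G)} : Set G)))),
        ((k : ↥(centralizer ({(x : G)} : Set G))) : G) ∈ centralizer ({M.z} : Set G) := fun k =>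
      mem_centralizer_singleton_iff.2 (congrArg Subtype.val (mem_centralizer_singleton_iff.1 k.2))
    have h1 : (⟨_, hmem g⟩ : centralizer ({M.z} : Set G)) = 1 := by
      refine LThreeBX.NoSeven.no_seven L hc hx3 hfr (t := ⟨_, hmem t⟩) (g := ⟨_, hmem g⟩) ?_ ?_ ?_ ?_ ?_ ?_
      · exact Subtype.ext (congrArg (fun g : ↥(centralizer ({zD x} : Set ↥(centralizer ({(x : G)} : Set G)))) =>
          ((g : ↥(centralizer ({(x : G)} : Set G))) : G)) htt)
      · intro h2
        apply ht1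
        refine (QuotientGroup.eq_one_iff _).2 ?_
        have h3 : be (KChart.pi hc) x (toCC x t) = 1 := Subtype.ext h2
        show be (KChart.pi hc) x (toCC x t) ∈ Zx (KChart.pi hc x)
        rw [h3]
        exact Subgroup.one_mem _
      · exact Subtype.ext (congrArg (fun g : ↥(centralizer ({zD x} : Set ↥(centralizer ({(x : G)} : Set G)))) =>
          ((g : ↥(centralizer ({(x : G)} : Set G))) : G)) hg)
      · exact Subtype.ext (mem_centralizer_singleton_iff.1 t.1.2).symm
      · exact Subtype.ext (congrArg (fun g : ↥(centralizer ({zD x} : Set ↥(centralizer ({(x : G)} : Set G)))) =>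
          ((g : ↥(centralizer ({(x : G)} : Set G))) : G)) hgt)
      · exact Subtype.ext (mem_centralizer_singleton_iff.1 g.1.2).symm
    exact Subtype.ext (Subtype.ext (congrArg (fun q : centralizer ({M.z} : Set G) => (q : G)) h1))

end Cfsg.Agent.BpSpor.MThree

end

-- merged: Cfsg.Agent.BpSpor.BThreeNe
section

/-!
# `z` is not central in `C_M(x)`, `x` of order 3 and fixed rank 0 (helper23)

* `not_dvd` : `3 ^ 6` does not divide the order of the centralizer in `C_D(z)` of an involution outside the kernel;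
* `exists_not_comm` : `u = g z g⁻¹ ≠ z` commuting with `x` and `z`, `x' = g⁻¹ x g` of fixed rank 6: an element of `C(x)` does not
  commute with `z` (`3 ^ 6` divides `|C(x) ∩ C(u)|`).
-/

set_option autoImplicit false

namespace Cfsg.Agent.BpSpor.BThree

open Cfsg Cfsg.Agent.MonsterU Cfsg.Agent.LThree Cfsg.Agent.LThreeMB
open Cfsg.Agent.MonsterU.Ch
open Cfsg.Agent.MonsterU.Lam2 (L2)
open Cfsg.Spor (Co1)
open Subgroup (centralizer zpowers mem_centralizer_singleton_iff mem_centralizer_iff)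
open Cfsg.Agent.LThreeBX.Abs (Ker zA)

universe u v

section abs

variable {D : Type u} [Group D] [Finite D] {z : D} {X : Type v} [Group X] {φ : ↥(centralizer ({z} : Set D)) →* X}

omit [Finite D] in
/-- The centralizer of an involution outside the kernel. -/
theorem not_dvd (h : MThree.Dat φ) (h9 : ¬ 9 ∣ Nat.card ↥φ.ker) {t : ↥(centralizer ({z} : Set D))} (htt : t * t = 1)
    (ht1 : φ t ≠ 1) : ¬ 3 ^ 6 ∣ Nat.card ↥(centralizer ({t} : Set ↥(centralizer ({z} : Set D)))) := by
  intro h6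
  obtain ⟨e⟩ := h.suz
  rcases CTwoTab.Suz.classes (t := e (φ t)) (by rw [← map_mul, ← map_mul, htt, map_one, map_one])
    (fun h => ht1 (e.injective (by rw [h, map_one]))) with hc | hc
  · obtain ⟨c, hc⟩ := isConj_iff.1 hc
    let F : ↥(centralizer ({t} : Set ↥(centralizer ({z} : Set D)))) →* ↥SuzThree.CentA.C1 :=
      (((e.trans (MulAut.conj c⁻¹)).toMonoidHom.comp φ).comp (Subgroup.subtype _)).codRestrict SuzThree.CentA.C1 (by
        intro g
        rw [SuzThree.CentA.mem_C1]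
        have h1 : (g : ↥(centralizer ({z} : Set D))) * t = t * g := mem_centralizer_singleton_iff.1 g.2
        have h2 : (e.trans (MulAut.conj c⁻¹)) (φ t) = SuzThree.CentA.z0 := by
          show c⁻¹ * e (φ t) * c⁻¹⁻¹ = _
          rw [← hc]
          group
        show (e.trans (MulAut.conj c⁻¹)) (φ g) * _ = _ * (e.trans (MulAut.conj c⁻¹)) (φ g)
        rw [← h2, ← map_mul, ← map_mul, ← map_mul, ← map_mul, h1])
    have hk : Nat.card ↥F.ker ∣ Nat.card ↥φ.ker := by
      let j : ↥F.ker →* ↥φ.ker := ((Subgroup.subtype _).comp F.ker.subtype).codRestrict φ.ker (by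
        intro g
        exact (e.trans (MulAut.conj c⁻¹)).map_eq_one_iff.1 (congrArg Subtype.val (MonoidHom.mem_ker.1 g.2)))
      have hj : Function.Injective j := by
        intro a b hab
        exact Subtype.ext (Subtype.ext (congrArg (fun y : ↥φ.ker => (y : ↥(centralizer ({z} : Set D)))) hab))
      rw [← Nat.card_range_of_injective hj]
      exact Subgroup.card_subgroup_dvd_card j.range
    have hr : Nat.card ↥F.range ∣ 3317760 := by
      rw [← KFacts.SuzCent.card_C1]
      exact Subgroup.card_subgroup_dvd_card F.range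
    have h1 : Nat.card ↥(centralizer ({t} : Set ↥(centralizer ({z} : Set D)))) = Nat.card ↥F.range * Nat.card ↥F.ker := by
      rw [Subgroup.card_eq_card_quotient_mul_card_subgroup F.ker,
        Nat.card_congr (QuotientGroup.quotientKerEquivRange F).toEquiv]
    rw [h1] at h6
    have h2 : 3 ^ 6 ∣ 3317760 * Nat.card ↥F.ker := h6.trans (Nat.mul_dvd_mul_right hr _)
    have h3 : 9 ∣ 40960 * Nat.card ↥F.ker := by
      obtain ⟨k, hk⟩ := h2
      exact ⟨k, by omega⟩
    have h4 : 9 ∣ Nat.card ↥F.ker := Nat.Coprime.dvd_of_dvd_mul_left (by norm_num) h3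
    exact h9 (h4.trans hk)
  · exact LThreeBX.Abs.not_e0 φ h.surj h.ker h.z2 e htt (fun g hg hgt => h.no7 t g htt ht1 hg hgt) hc

end abs

variable {G : Type u} [Group G] {Q : Subgroup G} {z : G} {eta : G → L2}
  {pi : Subgroup.centralizer ({z} : Set G) →* Co1}

/-- the order of the kernel -/
theorem not_nine [Finite G] (h : Chart Q z eta pi) {x : centralizer ({z} : Set G)} (hx : orderOf x = 3)
    (hfr : fr (pi x) = 1) : ¬ 9 ∣ Nat.card ↥(toXX pi x).ker := by
  intro h9
  have : Fact (Nat.Prime 3) := ⟨Nat.prime_three⟩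
  have hx3 : x ^ 3 = 1 := by rw [← hx, pow_orderOf_eq_one]
  have hxG : (x : G) ^ 3 = 1 := congrArg Subtype.val hx3
  have hxz : Commute (x : G) z := mem_centralizer_singleton_iff.1 x.2
  have hz2 : z * z = 1 := h.large.z_sq
  obtain ⟨P, hP⟩ := Sylow.exists_subgroup_card_pow_prime (G := ↥(toXX pi x).ker) 3 (n := 2) (by norm_num; exact h9)
  have hmem : ∀ k : ↥P, (((k : ↥(toXX pi x).ker) : ↥(centralizer ({zD x} : Set ↥(centralizer ({(x : G)} : Set G))))) :
      ↥(centralizer ({(x : G)} : Set G))) ∈ Zx (x : G) := by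
    intro k
    obtain ⟨i, hi | hi⟩ := LThreeBX.Main.ker_form h hx3 hfr (k : ↥(toXX pi x).ker).2
    · exact Subgroup.mem_zpowers_iff.2 ⟨i, Subtype.ext hi.symm⟩
    · exfalso
      have h1 : k ^ 9 = 1 := by
        rw [show (9 : ℕ) = Nat.card ↥P by rw [hP]; norm_num]
        exact pow_card_eq_one'
      have h2 : ((((k : ↥(toXX pi x).ker) : ↥(centralizer ({zD x} : Set ↥(centralizer ({(x : G)} : Set G))))) :
        ↥(centralizer ({(x : G)} : Set G))) : G) ^ 9 = 1 := by
        have h3 := congrArg (fun k : ↥P => ((((k : ↥(toXX pi x).ker) :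
          ↥(centralizer ({zD x} : Set ↥(centralizer ({(x : G)} : Set G))))) : ↥(centralizer ({(x : G)} : Set G))) : G)) h1
        exact h3
      have h3 : ((x : G) ^ i) ^ 9 = 1 := by
        rw [← zpow_natCast, ← zpow_mul, mul_comm, zpow_mul, zpow_natCast, show (9 : ℕ) = 3 * 3 by norm_num, pow_mul, hxG,
          one_pow, one_zpow]
      rw [hi, (hxz.zpow_left i).mul_pow, h3, one_mul] at h2
      apply h.large.z_ne
      rw [show (9 : ℕ) = 2 * 4 + 1 by norm_num, pow_succ, pow_mul, pow_two, hz2, one_pow, one_mul] at h2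
      exact h2
  let f : ↥P →* ↥(Zx (x : G)) := (((Subgroup.subtype _).comp (Subgroup.subtype _)).comp P.subtype).codRestrict _ hmem
  have hf : Function.Injective f := by
    intro a b hab
    have h2 := congrArg (fun y : ↥(Zx (x : G)) => (y : ↥(centralizer ({(x : G)} : Set G)))) hab
    exact Subtype.ext (Subtype.ext (Subtype.ext h2))
  have h1 : Nat.card ↥P ∣ Nat.card ↥(Zx (x : G)) := by
    rw [← Nat.card_range_of_injective hf]
    exact Subgroup.card_subgroup_dvd_card f.range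
  have h2 : Nat.card ↥(Zx (x : G)) = 3 := by
    rw [Zx, Nat.card_zpowers, self, Subgroup.orderOf_mk, Subgroup.orderOf_coe, hx]
  rw [hP, h2] at h1
  norm_num at h1

/-- **`z` is not central in `C(x)`.** -/
theorem exists_not_comm [Finite G] (h : Chart Q z eta pi) {x : centralizer ({z} : Set G)} (hD : MThree.Dat (toXX pi x))
    (hx : orderOf x = 3) (hfr : fr (pi x) = 1) {x' : centralizer ({z} : Set G)} (hx' : orderOf x' = 3)
    (hfr' : fr (pi x') = 2 ^ 6) {u g : G} (hg : g * z * g⁻¹ = u) (hgx' : g * (x' : G) * g⁻¹ = x) (hne : u ≠ z)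
    (huz : u * z = z * u) (hux : u * (x : G) = x * u) : ∃ d : G, d * (x : G) = x * d ∧ d * z ≠ z * d := by
  by_contra hcon
  push Not at hcon
  have hx3' : x' ^ 3 = 1 := by rw [← hx', pow_orderOf_eq_one]
  have hz2 : z * z = 1 := h.large.z_sq
  have hu2 : u * u = 1 := by
    rw [← hg]
    calc g * z * g⁻¹ * (g * z * g⁻¹) = g * (z * z) * g⁻¹ := by group
      _ = 1 := by rw [hz2]; group
  have hu1 : u ≠ 1 := by
    intro h1
    apply h.large.z_ne
    calc z = g⁻¹ * (g * z * g⁻¹) * g := by group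
      _ = 1 := by rw [hg, h1]; group
  -- `u` in `C_D(z)`
  let t : ↥(centralizer ({zD x} : Set ↥(centralizer ({(x : G)} : Set G)))) :=
    ⟨⟨u, mem_centralizer_singleton_iff.2 hux⟩, mem_centralizer_singleton_iff.2 (Subtype.ext huz)⟩
  have htt : t * t = 1 := Subtype.ext (Subtype.ext hu2)
  have ht1 : toXX pi x t ≠ 1 := by
    intro h1
    rcases hD.ker.two t h1 htt with h2 | h2
    · exact hu1 (congrArg (fun g : ↥(centralizer ({zD x} : Set ↥(centralizer ({(x : G)} : Set G)))) =>
        ((g : ↥(centralizer ({(x : G)} : Set G))) : G)) h2)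
    · exact hne (congrArg (fun g : ↥(centralizer ({zD x} : Set ↥(centralizer ({(x : G)} : Set G)))) =>
        ((g : ↥(centralizer ({(x : G)} : Set G))) : G)) h2)
  refine not_dvd hD (not_nine h hx hfr) htt ht1 ?_
  -- `C(z) ∩ C(x') → C_D(z) ∩ C(u)`
  have hd : 3 ^ 6 ∣ Nat.card (CC z (x' : G)) :=
    (Co.card_dvd (orderOf_pi h hx') hfr').trans (Subgroup.card_dvd_of_surjective (be pi x') (be_surj h hx3'))
  refine hd.trans ?_
  have e1 : ∀ c : G, c * (x' : G) = x' * c → (g * c * g⁻¹) * (x : G) = x * (g * c * g⁻¹) := by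
    intro c hc
    rw [← hgx']
    calc g * c * g⁻¹ * (g * x' * g⁻¹) = g * (c * x') * g⁻¹ := by group
      _ = g * (x' * c) * g⁻¹ := by rw [hc]
      _ = _ := by group
  have e2 : ∀ c : G, c * z = z * c → (g * c * g⁻¹) * u = u * (g * c * g⁻¹) := by
    intro c hc
    rw [← hg]
    calc g * c * g⁻¹ * (g * z * g⁻¹) = g * (c * z) * g⁻¹ := by group
      _ = g * (z * c) * g⁻¹ := by rw [hc]
      _ = _ := by group
  let j : CC z (x' : G) →* ↥(centralizer ({t} : Set ↥(centralizer ({zD x} : Set ↥(centralizer ({(x : G)} : Set G)))))) :=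
    { toFun := fun c => ⟨⟨⟨g * (c : G) * g⁻¹, mem_centralizer_singleton_iff.2 (e1 _ (CC_x c))⟩,
        mem_centralizer_singleton_iff.2 (Subtype.ext (hcon _ (e1 _ (CC_x c))))⟩,
        mem_centralizer_singleton_iff.2 (Subtype.ext (Subtype.ext (e2 _ (CC_z c))))⟩
      map_one' := Subtype.ext (Subtype.ext (Subtype.ext (by
        show g * 1 * g⁻¹ = 1
        group)))
      map_mul' := fun a b => Subtype.ext (Subtype.ext (Subtype.ext (by
        show g * ((a : G) * (b : G)) * g⁻¹ = g * (a : G) * g⁻¹ * (g * (b : G) * g⁻¹)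
        group))) }
  have hj : Function.Injective j := by
    intro a b hab
    have h1 : g * (a : G) * g⁻¹ = g * (b : G) * g⁻¹ := congrArg (fun c : ↥(centralizer ({t} :
      Set ↥(centralizer ({zD x} : Set ↥(centralizer ({(x : G)} : Set G)))))) =>
        (((c : ↥(centralizer ({zD x} : Set ↥(centralizer ({(x : G)} : Set G))))) :
          ↥(centralizer ({(x : G)} : Set G))) : G)) hab
    exact Subtype.ext (mul_left_cancel (mul_right_cancel h1))
  rw [← Nat.card_range_of_injective hj]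
  exact Subgroup.card_subgroup_dvd_card j.range

end Cfsg.Agent.BpSpor.BThree

end

-- merged: Cfsg.Agent.BpSpor.BThreeZero
section

/-!
# `C_M(x) ∩ C_M(t)`, `x` of order 3 and fixed rank 0, `t` of class 2A (helper46)

`good_zero` : `Good 3 (C_M(x) ∩ C_M(t))` if `t` is not conjugate to `z`.
-/

set_option autoImplicit false

namespace Cfsg.Agent.BpSpor.BThree

open Cfsg Cfsg.Agent.MonsterU Cfsg.Agent.LThree Cfsg.Agent.LThreeMB Cfsg.Agent.LThreeB
open Cfsg.Agent.MonsterU.Ch
open Cfsg.Agent.MonsterU.Lam2 (L2 bf bf_smul1 bf_add_right)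
open Cfsg.Spor (Co1)
open Cfsg.Agent.MonsterX.KSide Cfsg.Agent.MonsterX.KLift Cfsg.Agent.MonsterU.TwoQ
open Subgroup (centralizer zpowers mem_centralizer_singleton_iff mem_centralizer_iff)
open Cfsg.Agent.LThreeBX.Abs (Ker zA)
open Cfsg.Agent.SporadicA.Co0Mono (signCo0)
open Cfsg.Agent.SporadicA.Co1Simple (allOne)

universe u v

section

variable {G : Type u} [Group G] {Q : Subgroup G} {z : G} {eta : G → L2}
  {pi : Subgroup.centralizer ({z} : Set G) →* Co1}

theorem good_conj [Finite G] {x t x' t' g : G} (hx : g * x * g⁻¹ = x') (ht : g * t * g⁻¹ = t')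
    (h : BpTab.Good 3 ↥(XT x t)) : BpTab.Good 3 ↥(XT x' t') := by
  have : Fact (Nat.Prime 3) := ⟨Nat.prime_three⟩
  subst hx
  subst ht
  exact h.congr (conjXT g x t)

/-- a conjugate of `z` commuting with `z` and `x` -/
theorem exists_pair (h : Chart Q z eta pi) (hp : HasPair z pi) {x : centralizer ({z} : Set G)} (hx : orderOf x = 3)
    (hfr : fr (pi x) = 1) : ∃ u g : G, u * z = z * u ∧ (x : G) * u = u * x ∧ u ≠ z ∧ g * z * g⁻¹ = u := by
  obtain ⟨x₀, u, g, hx₀, hfr₀, huz, hux, hne, hg⟩ := hp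
  obtain ⟨s, hs⟩ := LThreeCo1.Ranks.zero (pi x) (pi x₀) (orderOf_pi h hx) (orderOf_pi h hx₀) hfr hfr₀
  obtain ⟨c, hc⟩ := exists_conj_of_conj h (by rw [← hx, pow_orderOf_eq_one]) (by rw [← hx₀, pow_orderOf_eq_one]) hs
  have hcG : (c : G) * x * (c : G)⁻¹ = x₀ := congrArg Subtype.val hc
  have hcz : (c : G) * z = z * c := mem_centralizer_singleton_iff.1 c.2
  have hzc : (c : G) * z * (c : G)⁻¹ = z := mul_inv_eq_iff_eq_mul.2 hcz
  refine ⟨(c : G)⁻¹ * u * c, (c : G)⁻¹ * g, ?_, ?_, ?_, ?_⟩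
  · calc (c : G)⁻¹ * u * c * z = (c : G)⁻¹ * (u * ((c : G) * z * (c : G)⁻¹)) * c := by group
      _ = (c : G)⁻¹ * (((c : G) * z * (c : G)⁻¹) * u) * c := by rw [hzc, huz]
      _ = z * ((c : G)⁻¹ * u * c) := by group
  · calc (x : G) * ((c : G)⁻¹ * u * c) = (c : G)⁻¹ * (((c : G) * x * (c : G)⁻¹) * u) * c := by group
      _ = (c : G)⁻¹ * (u * ((c : G) * x * (c : G)⁻¹)) * c := by rw [hcG, hux]
      _ = (c : G)⁻¹ * u * c * x := by group
  · intro h1
    apply hne
    calc u = (c : G) * ((c : G)⁻¹ * u * c) * (c : G)⁻¹ := by group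
      _ = z := by rw [h1, hzc]
  · rw [← hg]
    group

end

variable {G : Type u} {V P W : Type*} [Group G] [AddCommGroup V] [Module ℚ V]
  [DistribMulAction G V] [SMulCommClass G ℚ V] [Group P] [AddCommGroup W] [Module ℚ W]
  {M : KS G V P W} {θ : leechLattice → P}

/-- `z` is a square in `C(x) ∩ C(z)`. -/
theorem exists_root (L : Lift M θ) (hc : KChart.Cent M) {x : centralizer ({M.z} : Set G)} (hx : orderOf x = 3)
    (hfr : fr (KChart.pi hc x) = 1) : ∃ k : G, k * x = x * k ∧ k * k = M.z := by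
  have h := KChart.chart L hc
  have hx3 : x ^ 3 = 1 := by rw [← hx, pow_orderOf_eq_one]
  obtain ⟨A, hA2, hAs⟩ := NegRoot.exists_root LThreeCo1.Ranks.zero (orderOf_pi h hx) hfr
  obtain ⟨c, hcx, hcA⟩ := exists_lift h hx3 hAs
  have hcK : (c : G) ∈ M.K := hc c (mem_centralizer_singleton_iff.1 c.2)
  obtain ⟨B, hB⟩ := ind_exists hcK
  have hB' : (QuotientGroup.mk A : Co1) = QuotientGroup.mk B := by
    rw [← hcA]
    exact KChart.pi_eq hc hB
  have hcomm : ∀ a : Co0, signCo0 allOne * a = a * signCo0 allOne := LThreeBX.NoSeven.n_comm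
  have hnn : signCo0 allOne * signCo0 allOne = (1 : Co0) := LThreeBX.NoSeven.nn
  have hB2 : B * B = signCo0 allOne := by
    rcases (Cfsg.Agent.CoOneType.ClosingFacts.mk_eq B A).1 hB'.symm with e | e
    · rw [e, hA2]
    · rw [e, mul_assoc, ← mul_assoc (signCo0 allOne) A, hcomm A, mul_assoc A, hnn, mul_one, hA2]
  have hne : (c : G) * c ≠ 1 := Cfsg.Agent.MonsterU.TwoB0.two_b0 L hcK hB hB2
  refine ⟨c, congrArg Subtype.val hcx, ?_⟩
  have h1 : KChart.pi hc (c * c) = 1 := by
    rw [map_mul, hcA, ← QuotientGroup.mk_mul, hA2]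
    exact (Cfsg.Agent.CoOneType.ClosingFacts.mk_eq_one _).2 (Or.inr rfl)
  have hq : ((c * c : centralizer ({M.z} : Set G)) : G) ∈ M.ι.range := (h.pi_eq_one _).1 h1
  have hq2 : (x : G) * ((c * c : centralizer ({M.z} : Set G)) : G) = ((c * c : centralizer ({M.z} : Set G)) : G) * x := by
    have h2 : Commute x c := hcx.symm
    exact congrArg Subtype.val (h2.mul_right h2).eq
  have h3 := KPair.eq_zero_of_fr hfr ((comm_iff_fix h hx3 hq).1 hq2)
  rcases (h.eta_zero _ hq).1 h3 with h4 | h4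
  · exact absurd h4 hne
  · exact h4

/-- **Fixed rank 0.** -/
theorem good_zero (FT : ∀ (K : Type u) [Group K] [Finite K], Odd (Nat.card K) → Group.IsSolvable K) [Finite G]
    [IsSimpleGroup G] (L : Lift M θ) (hc : KChart.Cent M) (I : CoOne) (ht : TrNe M.z (KChart.pi hc))
    (hp : HasPair M.z (KChart.pi hc)) {x : centralizer ({M.z} : Set G)} (hx : orderOf x = 3)
    (hfr : fr (KChart.pi hc x) = 1) {t : G} (hto : orderOf t = 2) (htx : t * (x : G) = x * t)
    (hn : ∀ g, g * t * g⁻¹ ≠ M.z) : BpTab.Good 3 ↥(XT (x : G) t) := by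
  have : Fact (Nat.Prime 3) := ⟨Nat.prime_three⟩
  have h := KChart.chart L hc
  have hx3 : x ^ 3 = 1 := by rw [← hx, pow_orderOf_eq_one]
  have hS := I.suz _ (orderOf_pi h hx) hfr
  have H := zer h ht hx hfr hS (exists_root L hc hx hfr)
  obtain ⟨e⟩ := hS
  have hDat := MThree.dat_zero L hc ht hx hfr ⟨e⟩
  have h7 := hDat.no7
  have htt : t * t = 1 := by rw [← pow_two, ← hto, pow_orderOf_eq_one]
  have ht1 : t ≠ 1 := by
    rintro rfl
    rw [orderOf_one] at hto
    norm_num at hto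
  let tD : ↥(centralizer ({(x : G)} : Set G)) := ⟨t, mem_centralizer_singleton_iff.2 htx⟩
  obtain ⟨d, hd⟩ := LThreeBX.Abs.exists_conj_comm H.two H.iso (t := tD) (by rw [← Subgroup.orderOf_coe]; exact hto)
  obtain ⟨τ, hτ⟩ : ∃ τ : ↥(centralizer ({zD x} : Set ↥(centralizer ({(x : G)} : Set G)))),
    (τ : ↥(centralizer ({(x : G)} : Set G))) = d * tD * d⁻¹ := ⟨⟨_, mem_centralizer_singleton_iff.2 hd⟩, rfl⟩
  have hτ' : τ.1.1 = (d : G) * t * (d : G)⁻¹ := congrArg Subtype.val hτ
  have hττ : τ * τ = 1 := by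
    apply Subtype.ext
    apply Subtype.ext
    show τ.1.1 * τ.1.1 = 1
    rw [hτ']
    calc (d : G) * t * (d : G)⁻¹ * ((d : G) * t * (d : G)⁻¹) = (d : G) * (t * t) * (d : G)⁻¹ := by group
      _ = 1 := by rw [htt]; group
  have hφτ : toXX (KChart.pi hc) x τ ≠ 1 := by
    intro h1
    rcases H.ker.two τ h1 hττ with h2 | h2
    · apply ht1
      have h3 : (d : G) * t * (d : G)⁻¹ = 1 := by rw [← hτ', h2]; rfl
      calc t = (d : G)⁻¹ * ((d : G) * t * (d : G)⁻¹) * d := by group
        _ = 1 := by rw [h3]; group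
    · apply hn d
      rw [← hτ', h2]
      rfl
  obtain ⟨u, g, huz, hxu, hne, hg⟩ := exists_pair h hp hx hfr
  have huu : u * u = 1 := by
    rw [← hg]
    calc g * M.z * g⁻¹ * (g * M.z * g⁻¹) = g * (M.z * M.z) * g⁻¹ := by group
      _ = 1 := by rw [h.large.z_sq]; group
  have hu1 : u ≠ 1 := by
    intro h1
    apply h.large.z_ne
    calc M.z = g⁻¹ * (g * M.z * g⁻¹) * g := by group
      _ = 1 := by rw [hg, h1]; group
  let uD : ↥(centralizer ({(x : G)} : Set G)) := ⟨u, mem_centralizer_singleton_iff.2 hxu.symm⟩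
  let υ : ↥(centralizer ({zD x} : Set ↥(centralizer ({(x : G)} : Set G)))) :=
    ⟨uD, mem_centralizer_singleton_iff.2 (Subtype.ext huz)⟩
  have hυυ : υ * υ = 1 := Subtype.ext (Subtype.ext huu)
  have hφυ : toXX (KChart.pi hc) x υ ≠ 1 := by
    intro h1
    rcases H.ker.two υ h1 hυυ with h2 | h2
    · exact hu1 (congrArg (fun q : ↥(centralizer ({zD x} : Set ↥(centralizer ({(x : G)} : Set G)))) => q.1.1) h2)
    · exact hne (congrArg (fun q : ↥(centralizer ({zD x} : Set ↥(centralizer ({(x : G)} : Set G)))) => q.1.1) h2)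
  -- both are over `z0`
  have hz0 : ∀ y : ↥(centralizer ({zD x} : Set ↥(centralizer ({(x : G)} : Set G)))), y * y = 1 →
      toXX (KChart.pi hc) x y ≠ 1 → IsConj SuzThree.CentA.z0 (e (toXX (KChart.pi hc) x y)) := by
    intro y hyy hy1
    rcases CTwoTab.Suz.classes (t := e (toXX (KChart.pi hc) x y)) (by rw [← map_mul, ← map_mul, hyy, map_one, map_one])
      (fun h1 => hy1 (e.map_eq_one_iff.1 h1)) with h1 | h1
    · exact h1
    · exact (LThreeBX.Abs.not_e0 (toXX (KChart.pi hc) x) H.surj H.ker H.sq e hyy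
        (fun g hg hgt => h7 y g hyy hy1 hg hgt) h1).elim
  obtain ⟨c, hcc⟩ := isConj_iff.1 ((hz0 τ hττ hφτ).symm.trans (hz0 υ hυυ hφυ))
  obtain ⟨b, hb⟩ := H.surj (e.symm c)
  have hbt : toXX (KChart.pi hc) x (b * τ * b⁻¹) = toXX (KChart.pi hc) x υ := by
    apply e.injective
    rw [map_mul, map_mul, map_inv, map_mul, map_mul, map_inv, hb, e.apply_symm_apply, hcc]
  have hυi : υ⁻¹ = υ := inv_eq_of_mul_eq_one_left hυυ
  obtain ⟨k, hk⟩ : ∃ k, k = b * τ * b⁻¹ * υ := ⟨_, rfl⟩
  have hkk : k ∈ (toXX (KChart.pi hc) x).ker := by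
    rw [MonoidHom.mem_ker, hk, map_mul, hbt, ← map_mul, hυυ, map_one]
  have hbk : b * τ * b⁻¹ = k * υ := by rw [hk, mul_assoc _ υ υ, hυυ, mul_one]
  have hk2 : k * k = 1 := by
    have h1 : (b * τ * b⁻¹) * (b * τ * b⁻¹) = 1 := by
      calc (b * τ * b⁻¹) * (b * τ * b⁻¹) = b * (τ * τ) * b⁻¹ := by group
        _ = 1 := by rw [hττ]; group
    have h2 : υ * k = k * υ := H.ker.cen k hkk υ
    calc k * k = k * k * (υ * υ) := by rw [hυυ, mul_one]
      _ = k * (k * υ) * υ := by group
      _ = k * (υ * k) * υ := by rw [h2]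
      _ = (k * υ) * (k * υ) := by group
      _ = 1 := by rw [← hbk, h1]
  have hkz : k = zA := by
    rcases H.ker.two k hkk hk2 with h1 | h1
    · exfalso
      rw [h1, one_mul] at hbk
      have h2 : b.1.1 * ((d : G) * t * (d : G)⁻¹) *
          b.1.1⁻¹ = u := by
        rw [← hτ']
        exact congrArg (fun q : ↥(centralizer ({zD x} : Set ↥(centralizer ({(x : G)} : Set G)))) => q.1.1) hbk
      apply hn (g⁻¹ * b.1.1 * d)
      calc g⁻¹ * b.1.1 * d * t *
            (g⁻¹ * b.1.1 * d)⁻¹ =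
          g⁻¹ * (b.1.1 * ((d : G) * t * (d : G)⁻¹) *
            b.1.1⁻¹) * g := by group
        _ = M.z := by rw [h2, ← hg]; group
    · exact h1
  -- `t₂`
  obtain ⟨t₂, ht₂⟩ : ∃ t₂, t₂ = b * τ * b⁻¹ := ⟨_, rfl⟩
  have hzz : (zA : ↥(centralizer ({zD x} : Set ↥(centralizer ({(x : G)} : Set G))))) * zA = 1 := Subtype.ext H.sq
  have hυt : υ = zA * t₂ := by
    rw [ht₂, hbk, hkz, ← mul_assoc, hzz, one_mul]
  have huD : uD = zD x * (t₂ : ↥(centralizer ({(x : G)} : Set G))) := congrArg Subtype.val hυt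
  have ht₂t₂ : t₂ * t₂ = 1 := by
    rw [ht₂]
    calc (b * τ * b⁻¹) * (b * τ * b⁻¹) = b * (τ * τ) * b⁻¹ := by group
      _ = 1 := by rw [hττ]; group
  have htz₂ : (t₂ : ↥(centralizer ({(x : G)} : Set G))) * zD x = zD x * t₂ := mem_centralizer_singleton_iff.1 t₂.2
  have htt₂ : (t₂ : ↥(centralizer ({(x : G)} : Set G))) * t₂ = 1 := congrArg Subtype.val ht₂t₂
  have hφ₂ : toXX (KChart.pi hc) x ⟨(t₂ : ↥(centralizer ({(x : G)} : Set G))),
      mem_centralizer_singleton_iff.2 htz₂⟩ ≠ 1 := by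
    have h1 : toXX (KChart.pi hc) x t₂ ≠ 1 := by rw [ht₂, hbt]; exact hφυ
    exact h1
  -- the transported element
  have hx'z : g⁻¹ * (x : G) * g ∈ centralizer ({M.z} : Set G) := by
    rw [mem_centralizer_singleton_iff]
    calc g⁻¹ * (x : G) * g * M.z = g⁻¹ * (x * (g * M.z * g⁻¹)) * g := by group
      _ = g⁻¹ * ((g * M.z * g⁻¹) * x) * g := by rw [hg, hxu]
      _ = M.z * (g⁻¹ * x * g) := by group
  let x' : centralizer ({M.z} : Set G) := ⟨g⁻¹ * (x : G) * g, hx'z⟩
  have hgx' : g * (x' : G) * g⁻¹ = x := by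
    show g * (g⁻¹ * (x : G) * g) * g⁻¹ = x
    group
  obtain ⟨hx'o, hx'f⟩ := fr_six h ht I.ranks (fun x hx h2 => ⟨(good_of_inputs.{u} h I hx h2).simple,
    (good_of_inputs.{u} h I hx h2).nc⟩) hx hfr huz hxu hne hg (x' := x') hgx'
  have hgu : g * M.z * g⁻¹ = (uD : G) := hg
  have hPP := two h ht hx hfr (u := uD) hgu huz
  have h5 := up_five h (x := x) hx'o hx'f hgx' (u := uD) hgu
  have hUP := up_solvable h (x := x) hx'o hx'f hgx' (u := uD) hgu
  rw [huD] at hPP h5 hUP
  have hneD : ∃ d : ↥(centralizer ({(x : G)} : Set G)), d * zD x ≠ zD x * d := by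
    obtain ⟨d, hdx, hdz⟩ := exists_not_comm h hDat hx hfr hx'o hx'f hg hgx' hne huz hxu.symm
    exact ⟨⟨d, mem_centralizer_singleton_iff.2 hdx⟩, fun h1 => hdz (congrArg Subtype.val h1)⟩
  obtain ⟨A, hA, hA3, hAz⟩ := H.exists_pgroup FT htz₂ htt₂ hφ₂ hPP (isPGroup_PP h g x) h5 hneD
  have hgood : BpTab.Good 3 ↥(centralizer ({(t₂ : ↥(centralizer ({(x : G)} : Set G)))} :
      Set ↥(centralizer ({(x : G)} : Set G)))) :=
    BpTab.good_of_none (H.no_comp_t FT (by norm_num) hA hA3 hAz htz₂ htt₂ hφ₂ hPP hUP)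
  have hgood2 := hgood.congr (centXT' (t₂ : ↥(centralizer ({(x : G)} : Set G))))
  refine good_conj (g := (b.1.1 * d)⁻¹) ?_ ?_ hgood2
  · have h1 : b.1.1 * (x : G) = x * b :=
      mem_centralizer_singleton_iff.1 (b : ↥(centralizer ({(x : G)} : Set G))).2
    have h2 : (d : G) * (x : G) = x * d := mem_centralizer_singleton_iff.1 d.2
    have h3 : (b.1.1 * d) * x =
        x * (b.1.1 * d) := by
      rw [mul_assoc, h2, ← mul_assoc, h1, mul_assoc]
    rw [mul_assoc, inv_inv, ← h3]
    group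
  · have h1 : t₂.1.1 = b.1.1 *
        ((d : G) * t * (d : G)⁻¹) * b.1.1⁻¹ := by
      rw [ht₂, ← hτ']
      rfl
    rw [h1]
    group

end Cfsg.Agent.BpSpor.BThree

end
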