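import Cfsg.Agent.BpSpor.RowTool
import Cfsg.Agent.BpSpor.Inv
import Cfsg.Agent.BpSpor.Cen
import Cfsg.Agent.S0205

/-!
# The row `BpS p X` from the orders of `C(t) ∩ C(x)`, `t` an involution (helper22)
-/

set_option autoImplicit false

namespace Cfsg.Agent.BpSpor.BdRow

open Subgroup Cfsg Cfsg.Agent.BpTab

theorem good_of_bd {X : Type*} [Group X] [Finite X] {p : ℕ} [hp : Fact p.Prime] (hp2 : p ≠ 2)
    (h : ∀ t : X, orderOf t = 2 → Cen.Bd p t) {g : X} (hg : orderOf g = p) :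
    Good p ↥(centralizer ({g} : Set X)) := by
  refine Inv.good_of_inv (fun K _ _ hK => Cfsg.Agent.S0205.result hK) (Cen.not_dvd_of_bd hp.out hp2 hg h)
    fun t ht q hq hqd => ?_
  have h1 : orderOf (t : X) = 2 := by rw [Subgroup.orderOf_coe]; exact ht
  have h2 : g * (t : X) = t * g := (mem_centralizer_singleton_iff.1 t.2).symm
  obtain ⟨n, hn⟩ := h _ h1 g hg h2
  rw [Cen.card_cent_sub] at hqd
  have h3 : q ∣ 2 ^ 5 * p ^ n := hqd.trans hn
  rcases hq.dvd_mul.1 h3 with h4 | h4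
  · exact Or.inl ((Nat.prime_dvd_prime_iff_eq hq Nat.prime_two).1 (hq.dvd_of_dvd_pow h4))
  · exact Or.inr ((Nat.prime_dvd_prime_iff_eq hq hp.out).1 (hq.dvd_of_dvd_pow h4))

theorem bps_of_bd {X : Type*} [Group X] [Finite X] {p : ℕ} [hp : Fact p.Prime] (hp2 : p ≠ 2) (hc : center X = ⊥)
    (hi : CpAut.AutInner p X) (h : ∀ t : X, orderOf t = 2 → Cen.Bd p t) : BpS p X :=
  RowTool.bps_of_inner hc hi fun _ hg => good_of_bd hp2 h hg

end Cfsg.Agent.BpSpor.BdRow
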