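import Cfsg.Agent.CpAutBig.TwoPrimes
import Cfsg.Prelude.Def_CaseTheorems
import Mathlib
import Cfsg.Agent.S0016
import Cfsg.Agent.S0029
import Cfsg.Agent.Schreier.TwoGen
import Cfsg.Agent.BpSpor.Arith
import Cfsg.Agent.BpSpor.Transfer
import Cfsg.Agent.CpAutBig.CoOneSeven
import Cfsg.Agent.S0496
import Cfsg.Agent.S0640

-- merged: Cfsg.Agent.BpSpor.RankBound
section

/-!
# Commuting elements of orders `p` and `q` on a rational space (helper18)

* `le_finrank`, `le_finrank_sub`, `split` : an endomorphism `X` of prime order `p` without fixed vectors, `Y ≠ 1` of prime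
  order `q` commuting with it: `(q - 1) (p - 1) ≤ dim`;
* `exists_fix_three` : two commuting endomorphisms of order three;
* `card_le_nine` : an elementary abelian 3-group commuting with an element of order 7 without fixed vectors on
  `ℚ^24` has order at most 9.
-/

set_option autoImplicit false

namespace Cfsg.Agent.BpSpor.RankBound

open Polynomial Module
open Cfsg.Agent.CpAutBig.TwoPrimes

section Lin

variable {V : Type*} [AddCommGroup V] [Module ℚ V]

theorem eq_of_coprime {T : Module.End ℚ V} {a b : ℕ} (hab : a.Coprime b) (hT : T ^ b = 1) {v : V} (hv : (T ^ a) v = v) :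
    T v = v := by
  have hpow : ∀ k, (T ^ (a * k)) v = v := by
    intro k
    induction k with
    | zero => rw [mul_zero, pow_zero]; rfl
    | succ k ih => rw [mul_add, mul_one, pow_add, Module.End.mul_apply, hv, ih]
  by_cases hb : b = 1
  · rw [hb, pow_one] at hT
    rw [hT]; rfl
  by_cases hb0 : b = 0
  · rw [hb0, Nat.coprime_zero_right] at hab
    rw [hab, pow_one] at hv
    exact hv
  obtain ⟨m, hm⟩ := Nat.exists_mul_mod_eq_one_of_coprime hab (by omega)
  have h1 : T ^ (a * m) = T := by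
    conv_rhs => rw [← pow_one T]
    rw [← Nat.div_add_mod (a * m) b, hm.2, pow_add, pow_mul, hT, one_pow, one_mul]
  rw [← h1]
  exact hpow m

/-- Two commuting endomorphisms of prime orders `p ≠ q`, the first one without fixed vectors. -/
theorem le_finrank [FiniteDimensional ℚ V] {p q : ℕ} (hp : p.Prime) (hq : q.Prime) (hpq : p ≠ q) {X' Y' : Module.End ℚ V}
    (hcomm : Commute X' Y') (hX : X' ^ p = 1) (hY : Y' ^ q = 1) (hXf : ∀ v, X' v = v → v = 0) {w : V} (hw : Y' w ≠ w) :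
    (q - 1) * (p - 1) ≤ finrank ℚ V := by
  obtain ⟨g, hg⟩ : ∃ g, g = X' * Y' := ⟨_, rfl⟩
  have hgn : ∀ n, g ^ n = X' ^ n * Y' ^ n := fun n => by rw [hg, hcomm.mul_pow]
  have hgq : g ^ q = X' ^ q := by rw [hgn, hY, mul_one]
  have hgp : g ^ p = Y' ^ p := by rw [hgn, hX, one_mul]
  have hgpq : g ^ (q * p) = 1 := by rw [pow_mul, hgq, ← pow_mul, mul_comm, pow_mul, hX, one_pow]
  have hgY : Commute g Y' := by
    rw [hg]
    exact hcomm.mul_left (Commute.refl _)
  have hcop : Nat.Coprime q p := (Nat.coprime_primes hq hp).2 (Ne.symm hpq)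
  let u := Y' w - w
  have hu : u ≠ 0 := sub_ne_zero.2 hw
  have hpol : (X ^ q - 1) * ((X ^ p - 1) * cyclotomic (q * p) ℚ) = (X - 1) * (X ^ (q * p) - 1) := by
    rw [mul_comm (X - 1), ← cyclotomic_mul hp hq hpq]
    ring
  have key := congrArg (fun P : ℚ[X] => aeval g P u) hpol
  simp only [map_mul, map_sub, map_pow, aeval_X, map_one] at key
  rw [hgpq, sub_self, mul_zero, hgq, hgp] at key
  obtain ⟨u', hu'⟩ : ∃ u', u' = aeval g (cyclotomic (q * p) ℚ) u := ⟨_, rfl⟩
  have key2 : (X' ^ q - 1) ((Y' ^ p - 1) u') = 0 := by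
    rw [hu']
    exact key
  have h1 : (Y' ^ p - 1) u' = 0 := by
    obtain ⟨t, ht⟩ : ∃ t, t = (Y' ^ p - 1) u' := ⟨_, rfl⟩
    rw [← ht] at key2 ⊢
    have h2 : (X' ^ q) t - t = 0 := key2
    exact hXf t (eq_of_coprime hcop hX (sub_eq_zero.1 h2))
  have h2 : Y' u' = u' := by
    have h3 : (Y' ^ p) u' - u' = 0 := h1
    exact eq_of_coprime hcop.symm hY (sub_eq_zero.1 h3)
  have h3 : u' = Y' (aeval g (cyclotomic (q * p) ℚ) w) - aeval g (cyclotomic (q * p) ℚ) w := by
    have hc : Commute (aeval g (cyclotomic (q * p) ℚ)) Y' := by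
      have := Polynomial.aeval_eq_sum_range (p := cyclotomic (q * p) ℚ) g
      rw [this]
      apply Commute.sum_left
      intro i _
      exact (hgY.pow_left i).smul_left _
    have h4 : aeval g (cyclotomic (q * p) ℚ) (Y' w) = Y' (aeval g (cyclotomic (q * p) ℚ) w) := by
      rw [← Module.End.mul_apply, ← Module.End.mul_apply, hc]
    rw [hu', ← h4]
    exact map_sub _ _ _
  have h4 := eq_zero_of_range Y' hq.pos hY h2 h3
  have h5 := totient_le g (Nat.mul_pos hq.pos hp.pos) hu (hu'.symm.trans h4)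
  rwa [Nat.totient_mul hcop, Nat.totient_prime hq, Nat.totient_prime hp] at h5

theorem restrict_pow {U : Submodule ℚ V} {X' : Module.End ℚ V} (hU : ∀ v ∈ U, X' v ∈ U) (n : ℕ) (hX : X' ^ n = 1) :
    (X'.restrict hU : Module.End ℚ U) ^ n = 1 := by
  rw [Module.End.pow_restrict n hU]
  ext v
  rw [LinearMap.restrict_apply]
  change (X' ^ n) v = v
  rw [hX]; rfl

theorem le_finrank_sub [FiniteDimensional ℚ V] {p q : ℕ} (hp : p.Prime) (hq : q.Prime) (hpq : p ≠ q)
    {X' Y' : Module.End ℚ V} (hcomm : Commute X' Y') (hX : X' ^ p = 1) (hY : Y' ^ q = 1) (hXf : ∀ v, X' v = v → v = 0)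
    {U : Submodule ℚ V} (hUX : ∀ v ∈ U, X' v ∈ U) (hUY : ∀ v ∈ U, Y' v ∈ U) {w : V} (hwU : w ∈ U) (hw : Y' w ≠ w) :
    (q - 1) * (p - 1) ≤ finrank ℚ U := by
  refine le_finrank (X' := X'.restrict hUX) (Y' := Y'.restrict hUY) (w := ⟨w, hwU⟩) hp hq hpq ?_ (restrict_pow hUX p hX)
    (restrict_pow hUY q hY) ?_ ?_
  · change _ * _ = _ * _
    ext v
    exact LinearMap.congr_fun hcomm (v : V)
  · intro v hv
    apply Subtype.ext
    exact hXf v (congrArg Subtype.val hv)
  · intro h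
    exact hw (congrArg Subtype.val h)

theorem finrank_add (U : Submodule ℚ V) [FiniteDimensional ℚ V] (f : Module.End ℚ V) :
    finrank ℚ ↥(U.map f) + finrank ℚ ↥(U ⊓ LinearMap.ker f) = finrank ℚ U := by
  have h1 := LinearMap.finrank_range_add_finrank_ker (f.domRestrict U)
  rw [LinearMap.range_domRestrict, LinearMap.ker_domRestrict] at h1
  have h2 : finrank ℚ ↥((LinearMap.ker f).comap U.subtype) = finrank ℚ ↥(U ⊓ LinearMap.ker f) := by
    rw [← Submodule.map_comap_subtype]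
    exact (Submodule.finrank_map_subtype_eq _ _).symm
  rw [← h2]
  exact h1

/-- The part of an invariant subspace moved by `Y'` is large. -/
theorem split [FiniteDimensional ℚ V] {p q : ℕ} (hp : p.Prime) (hq : q.Prime) (hpq : p ≠ q)
    {X' Y' : Module.End ℚ V} (hcomm : Commute X' Y') (hX : X' ^ p = 1) (hY : Y' ^ q = 1) (hXf : ∀ v, X' v = v → v = 0)
    {U : Submodule ℚ V} (hUX : ∀ v ∈ U, X' v ∈ U) (hUY : ∀ v ∈ U, Y' v ∈ U) {w : V} (hwU : w ∈ U) (hw : Y' w ≠ w) :
    (q - 1) * (p - 1) + finrank ℚ ↥(U ⊓ LinearMap.ker (Y' - 1)) ≤ finrank ℚ U := by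
  rw [← finrank_add U (Y' - 1)]
  apply Nat.add_le_add_right
  refine le_finrank_sub hp hq hpq hcomm hX hY hXf ?_ ?_ (w := Y' w - w) ⟨w, hwU, rfl⟩ ?_
  · rintro _ ⟨v, hv, rfl⟩
    refine ⟨X' v, hUX v hv, ?_⟩
    change Y' (X' v) - X' v = X' (Y' v - v)
    rw [map_sub]
    congr 1
    exact (LinearMap.congr_fun hcomm v).symm
  · rintro _ ⟨v, hv, rfl⟩
    refine ⟨Y' v, hUY v hv, ?_⟩
    change Y' (Y' v) - Y' v = Y' (Y' v - v)
    rw [map_sub]
  · intro h
    exact hw (sub_eq_zero.1 (eq_zero_of_range Y' hq.pos hY h rfl))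

/-- Two commuting endomorphisms of order three. -/
theorem exists_fix_three {Y Z : Module.End ℚ V} (hc : Commute Y Z) (hY : Y ^ 3 = 1) (hZ : Z ^ 3 = 1)
    {U : Submodule ℚ V} (hU : U ≠ ⊥) (hUY : ∀ v ∈ U, Y v ∈ U) (hUZ : ∀ v ∈ U, Z v ∈ U) :
    ∃ v ∈ U, v ≠ 0 ∧ (Y v = v ∨ Z v = v ∨ (Y * Z) v = v ∨ (Y * Y * Z) v = v) := by
  obtain ⟨v, hvU, hv0⟩ := (Submodule.ne_bot_iff U).1 hU
  have hsum : ∀ (T : Module.End ℚ V), T ^ 3 = 1 → ∀ w, T (w + T w + T (T w)) = w + T w + T (T w) := by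
    intro T hT w
    have h1 : T (T (T w)) = w := by
      have := LinearMap.congr_fun hT w
      rwa [pow_succ, pow_two] at this
    rw [map_add, map_add, h1]
    abel
  by_cases hy : v + Y v + Y (Y v) = 0
  swap
  · exact ⟨_, U.add_mem (U.add_mem hvU (hUY v hvU)) (hUY _ (hUY v hvU)), hy, Or.inl (hsum Y hY v)⟩
  by_cases hz : v + Z v + Z (Z v) = 0
  swap
  · exact ⟨_, U.add_mem (U.add_mem hvU (hUZ v hvU)) (hUZ _ (hUZ v hvU)), hz, Or.inr (Or.inl (hsum Z hZ v))⟩
  have hcv : ∀ w, Y (Z w) = Z (Y w) := fun w => LinearMap.congr_fun hc w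
  have hY3 : ∀ w, Y (Y (Y w)) = w := fun w => by
    have := LinearMap.congr_fun hY w
    rwa [pow_succ, pow_two] at this
  -- `t = (Z - Y²) v`
  by_cases ht : Z v - Y (Y v) = 0
  · refine ⟨v, hvU, hv0, Or.inr (Or.inr (Or.inl ?_))⟩
    change Y (Z v) = v
    rw [sub_eq_zero.1 ht, hY3]
  · refine ⟨_, U.sub_mem (hUZ v hvU) (hUY _ (hUY v hvU)), ht, Or.inr (Or.inr (Or.inr ?_))⟩
    have h1 : Z (Z v - Y (Y v)) = Y (Z v - Y (Y v)) := by
      rw [map_sub, map_sub, hY3, ← hcv, ← hcv]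
      have h2 : Z (Z v) = -(v + Z v) := by
        rw [eq_neg_iff_add_eq_zero]
        rw [← hz]; abel
      have h3 : Y (Y (Z v)) = -(Z v + Y (Z v)) := by
        have h4 := congrArg Z hy
        rw [map_add, map_add, map_zero, ← hcv, ← hcv, ← hcv] at h4
        rw [eq_neg_iff_add_eq_zero]
        rw [← h4]; abel
      rw [h2, h3]
      abel
    change Y (Y (Z (Z v - Y (Y v)))) = _
    rw [h1, hY3]

end Lin

section Main

variable {V : Type*} [AddCommGroup V] [Module ℚ V] [FiniteDimensional ℚ V] {G : Type*} [Group G]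

/-- **Elementary abelian 3-groups commuting with a fixed point free element of order seven on `ℚ^24`.** -/
theorem card_le_nine (ρ : G →* Module.End ℚ V) (hρ : Function.Injective ρ) (hV : finrank ℚ V = 24) {x : G}
    (hx : x ^ 7 = 1) (hfree : ∀ v, ρ x v = v → v = 0) (A : Subgroup G) (hA : ∀ a ∈ A, ∀ b ∈ A, a * b = b * a)
    (h3 : ∀ a ∈ A, a ^ 3 = 1) (hAx : ∀ a ∈ A, x * a = a * x) [Finite A] : Nat.card A ≤ 9 := by
  by_contra hcon
  push Not at hcon
  have hp7 : Nat.Prime 7 := by norm_num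
  have hp3 : Nat.Prime 3 := by norm_num
  have hX : ρ x ^ 7 = 1 := by rw [← map_pow, hx, map_one]
  have hcx : ∀ a ∈ A, Commute (ρ x) (ρ a) := fun a ha => by
    change ρ x * ρ a = ρ a * ρ x
    rw [← map_mul, ← map_mul, hAx a ha]
  have hca : ∀ a ∈ A, ∀ b ∈ A, Commute (ρ a) (ρ b) := fun a ha b hb => by
    change ρ a * ρ b = ρ b * ρ a
    rw [← map_mul, ← map_mul, hA a ha b hb]
  have hp : ∀ a ∈ A, ρ a ^ 3 = 1 := fun a ha => by rw [← map_pow, h3 a ha, map_one]
  -- invariant subspaces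
  have hkerinv : ∀ a ∈ A, ∀ g, Commute (ρ g) (ρ a) → ∀ v ∈ LinearMap.ker (ρ a - 1), ρ g v ∈ LinearMap.ker (ρ a - 1) := by
    intro a _ g hg v hv
    rw [LinearMap.mem_ker] at hv ⊢
    change ρ a (ρ g v) - ρ g v = 0
    have h1 : ρ a v - v = 0 := hv
    have h2 : ρ a (ρ g v) = ρ g (ρ a v) := (LinearMap.congr_fun hg v).symm
    rw [h2, sub_eq_zero.1 h1, sub_self]
  have hrninv : ∀ a ∈ A, ∀ g, Commute (ρ g) (ρ a) → ∀ v ∈ LinearMap.range (ρ a - 1), ρ g v ∈ LinearMap.range (ρ a - 1) := by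
    rintro a _ g hg _ ⟨v, rfl⟩
    refine ⟨ρ g v, ?_⟩
    change ρ a (ρ g v) - ρ g v = ρ g (ρ a v - v)
    have h2 : ρ a (ρ g v) = ρ g (ρ a v) := (LinearMap.congr_fun hg v).symm
    rw [h2, map_sub]
  have hmove : ∀ a, a ≠ 1 → ∃ w, ρ a w ≠ w := by
    intro a ha
    by_contra hc
    push Not at hc
    apply ha
    apply hρ
    rw [map_one]
    exact LinearMap.ext hc
  -- small subgroups of `A`
  have hsmall : ∀ (a b : G), a ∈ A → b ∈ A → ∃ c ∈ A, ∀ i j : ℕ, c ≠ a ^ i * b ^ j := by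
    intro a b ha hb
    by_contra hc
    push Not at hc
    have hle : Nat.card A ≤ Nat.card (Fin 3 × Fin 3) := by
      refine Nat.card_le_card_of_surjective (fun ij : Fin 3 × Fin 3 => (⟨a ^ (ij.1 : ℕ) * b ^ (ij.2 : ℕ),
        mul_mem (pow_mem ha _) (pow_mem hb _)⟩ : A)) ?_
      rintro ⟨c, hcA⟩
      obtain ⟨i, j, rfl⟩ := hc c hcA
      refine ⟨(⟨i % 3, Nat.mod_lt _ (by norm_num)⟩, ⟨j % 3, Nat.mod_lt _ (by norm_num)⟩), Subtype.ext ?_⟩
      change a ^ (i % 3) * b ^ (j % 3) = a ^ i * b ^ j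
      rw [← pow_eq_pow_mod i (h3 a ha), ← pow_eq_pow_mod j (h3 b hb)]
    have h9 : Nat.card (Fin 3 × Fin 3) = 9 := by simp
    omega
  -- an element with fixed vectors
  obtain ⟨a, haA, ha1, v, hv0, hav⟩ : ∃ a ∈ A, a ≠ 1 ∧ ∃ v, v ≠ 0 ∧ ρ a v = v := by
    obtain ⟨y, hyA, hy⟩ := hsmall 1 1 (one_mem A) (one_mem A)
    obtain ⟨z, hzA, hz⟩ := hsmall y 1 hyA (one_mem A)
    have hV0 : (⊤ : Submodule ℚ V) ≠ ⊥ := by
      intro h
      have h1 : finrank ℚ ↥(⊤ : Submodule ℚ V) = 0 := by rw [h]; exact finrank_bot ℚ V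
      rw [finrank_top] at h1
      omega
    obtain ⟨v, -, hv0, h⟩ := exists_fix_three (hca y hyA z hzA) (hp y hyA) (hp z hzA) hV0 (fun _ _ => Submodule.mem_top)
      (fun _ _ => Submodule.mem_top)
    have hy1 : y ≠ 1 := fun h0 => hy 0 0 (by rw [h0]; simp)
    have hz1 : z ≠ 1 := fun h0 => hz 0 0 (by rw [h0]; simp)
    rcases h with h | h | h | h
    · exact ⟨y, hyA, hy1, v, hv0, h⟩
    · exact ⟨z, hzA, hz1, v, hv0, h⟩
    · refine ⟨y * z, mul_mem hyA hzA, ?_, v, hv0, by rw [map_mul]; exact h⟩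
      intro h0
      apply hz 2 0
      rw [pow_zero, mul_one, eq_comm]
      calc y ^ 2 = y ^ 2 * (y * z) := by rw [h0, mul_one]
        _ = y ^ 3 * z := by group
        _ = z := by rw [h3 y hyA, one_mul]
    · refine ⟨y * y * z, mul_mem (mul_mem hyA hyA) hzA, ?_, v, hv0, by rw [map_mul, map_mul]; exact h⟩
      intro h0
      apply hz 1 0
      rw [pow_zero, mul_one, pow_one, eq_comm]
      calc y = y * (y * y * z) := by rw [h0, mul_one]
        _ = y ^ 3 * z := by simp only [pow_succ, pow_zero, one_mul, mul_assoc]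
        _ = z := by rw [h3 y hyA, one_mul]
  -- dimensions
  obtain ⟨W', hW'⟩ : ∃ W', W' = LinearMap.ker (ρ a - 1) := ⟨_, rfl⟩
  obtain ⟨W, hW⟩ : ∃ W, W = LinearMap.range (ρ a - 1) := ⟨_, rfl⟩
  have hWinv : ∀ g, Commute (ρ g) (ρ a) → ∀ v ∈ W, ρ g v ∈ W := by rw [hW]; exact hrninv a haA
  have hW'inv : ∀ g, Commute (ρ g) (ρ a) → ∀ v ∈ W', ρ g v ∈ W' := by rw [hW']; exact hkerinv a haA
  have hdim : finrank ℚ W + finrank ℚ W' = 24 := by
    rw [hW, hW', LinearMap.finrank_range_add_finrank_ker, hV]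
  have hpos : 0 < finrank ℚ W' := by
    have : Nontrivial ↥W' := by
      refine ⟨⟨⟨v, ?_⟩, 0, ?_⟩⟩
      · rw [hW', LinearMap.mem_ker]
        exact sub_eq_zero.2 hav
      · intro h
        exact hv0 (congrArg Subtype.val h)
    exact finrank_pos
  have hW'le : finrank ℚ W' ≤ 12 := by
    obtain ⟨w, hw⟩ := hmove a ha1
    have h1 := split hp7 hp3 (by norm_num) (hcx a haA) hX (hp a haA) hfree (U := ⊤) (fun _ _ => Submodule.mem_top)
      (fun _ _ => Submodule.mem_top) (Submodule.mem_top (x := w)) hw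
    rw [top_inf_eq, ← hW', finrank_top, hV] at h1
    omega
  have hfixW : ∀ v ∈ W, ρ a v = v → v = 0 := by
    rw [hW]
    rintro _ ⟨w, rfl⟩ hv
    exact eq_zero_of_range (ρ a) (by norm_num) (hp a haA) hv rfl
  -- an element trivial on `W'` is free on `W`
  have key : ∀ d ∈ A, d ≠ 1 → (∀ v ∈ W', ρ d v = v) → ∀ v ∈ W, ρ d v = v → v = 0 := by
    intro d hdA hd1 hd v hv hdv
    by_contra hv0
    -- `d` is nontrivial on `W`
    obtain ⟨w, hwW, hw⟩ : ∃ w ∈ W, ρ d w ≠ w := by
      by_contra hc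
      push Not at hc
      obtain ⟨u, hu⟩ := hmove d hd1
      apply hu
      have h3a : ρ a (ρ a (ρ a u)) = u := by
        have := LinearMap.congr_fun (hp a haA) u
        rwa [pow_succ, pow_two] at this
      have hw' : u + ρ a u + ρ a (ρ a u) ∈ W' := by
        rw [hW', LinearMap.mem_ker]
        change ρ a (u + ρ a u + ρ a (ρ a u)) - (u + ρ a u + ρ a (ρ a u)) = 0
        rw [map_add, map_add, h3a]
        abel
      have hw : (3 : ℕ) • u - (u + ρ a u + ρ a (ρ a u)) ∈ W := by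
        rw [hW]
        refine ⟨-(u + u + ρ a u), ?_⟩
        change ρ a (-(u + u + ρ a u)) - (-(u + u + ρ a u)) = _
        rw [map_neg, map_add, map_add]
        abel
      have h1 := hc _ hw
      have h2 := hd _ hw'
      rw [map_sub, h2, sub_left_inj, map_nsmul] at h1
      have h4 : (3 : ℚ) • ρ d u = (3 : ℚ) • u := by
        have : ((3 : ℕ) : ℚ) • ρ d u = ((3 : ℕ) : ℚ) • u := by
          rw [Nat.cast_smul_eq_nsmul, Nat.cast_smul_eq_nsmul, h1]
        exact_mod_cast this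
      exact smul_right_injective V (by norm_num : (3 : ℚ) ≠ 0) h4
    have h1 := split hp7 hp3 (by norm_num) (hcx d hdA) hX (hp d hdA) hfree (U := W) (hWinv x (hcx a haA))
      (hWinv d (hca d hdA a haA)) hwW hw
    -- the fixed points of `d` in `W`
    have h2 : (3 - 1) * (7 - 1) ≤ finrank ℚ ↥(W ⊓ LinearMap.ker (ρ d - 1)) := by
      refine le_finrank_sub hp7 hp3 (by norm_num) (hcx a haA) hX (hp a haA) hfree ?_ ?_ (w := v) ⟨hv, ?_⟩ ?_
      · rintro u ⟨hu1, hu2⟩
        exact ⟨hWinv x (hcx a haA) u hu1, hkerinv d hdA x (hcx d hdA) u hu2⟩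
      · rintro u ⟨hu1, hu2⟩
        exact ⟨hWinv a (Commute.refl _) u hu1, hkerinv d hdA a (hca a haA d hdA) u hu2⟩
      · exact sub_eq_zero.2 hdv
      · intro h
        exact hv0 (hfixW v hv h)
    omega
  -- an element outside of `⟨a⟩` trivial on `W'`
  obtain ⟨b, hbA, hba, hbW⟩ : ∃ b ∈ A, (∀ i : ℕ, b ≠ a ^ i) ∧ ∀ v ∈ W', ρ b v = v := by
    obtain ⟨y, hyA, hy⟩ := hsmall a 1 haA (one_mem A)
    obtain ⟨z, hzA, hz⟩ := hsmall a y haA hyA
    have hW'0 : W' ≠ ⊥ := by
      intro h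
      rw [h, finrank_bot] at hpos
      exact lt_irrefl _ hpos
    obtain ⟨v, hvW, hv0, h⟩ := exists_fix_three (hca y hyA z hzA) (hp y hyA) (hp z hzA) hW'0
      (hW'inv y (hca y hyA a haA)) (hW'inv z (hca z hzA a haA))
    have fin : ∀ b ∈ A, ρ b v = v → ∀ v ∈ W', ρ b v = v := by
      intro b hbA hbv
      by_contra hc
      push Not at hc
      obtain ⟨w, hwW, hw⟩ := hc
      have h1 := split hp7 hp3 (by norm_num) (hcx b hbA) hX (hp b hbA) hfree (U := W') (hW'inv x (hcx a haA))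
        (hW'inv b (hca b hbA a haA)) hwW hw
      have h2 : 0 < finrank ℚ ↥(W' ⊓ LinearMap.ker (ρ b - 1)) := by
        have : Nontrivial ↥(W' ⊓ LinearMap.ker (ρ b - 1)) := by
          refine ⟨⟨⟨v, hvW, ?_⟩, 0, ?_⟩⟩
          · exact sub_eq_zero.2 hbv
          · intro h
            exact hv0 (congrArg Subtype.val h)
        exact finrank_pos
      omega
    have hy' : ∀ i : ℕ, y ≠ a ^ i := fun i h0 => hy i 0 (by rw [h0]; simp)
    rcases h with h | h | h | h
    · exact ⟨y, hyA, hy', fin y hyA h⟩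
    · exact ⟨z, hzA, fun i h0 => hz i 0 (by rw [h0]; simp), fin z hzA h⟩
    · refine ⟨y * z, mul_mem hyA hzA, ?_, fin _ (mul_mem hyA hzA) (by rw [map_mul]; exact h)⟩
      intro i h0
      apply hz i 2
      rw [← h0, hA (y * z) (mul_mem hyA hzA) (y ^ 2) (pow_mem hyA 2)]
      calc z = y ^ 3 * z := by rw [h3 y hyA, one_mul]
        _ = y ^ 2 * (y * z) := by group
    · refine ⟨y * y * z, mul_mem (mul_mem hyA hyA) hzA, ?_, fin _ (mul_mem (mul_mem hyA hyA) hzA)
        (by rw [map_mul, map_mul]; exact h)⟩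
      intro i h0
      apply hz i 1
      rw [← h0, pow_one, hA (y * y * z) (mul_mem (mul_mem hyA hyA) hzA) y hyA]
      calc z = y ^ 3 * z := by rw [h3 y hyA, one_mul]
        _ = y * (y * y * z) := by simp only [pow_succ, pow_zero, one_mul, mul_assoc]
  have haW : ∀ v ∈ W', ρ a v = v := by
    intro v hv
    rw [hW', LinearMap.mem_ker] at hv
    exact sub_eq_zero.1 hv
  have hb1 : b ≠ 1 := fun h0 => hba 0 (by rw [h0, pow_zero])
  have hW0 : W ≠ ⊥ := by
    intro h
    rw [h, finrank_bot] at hdim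
    omega
  obtain ⟨v, hvW, hv0, h⟩ := exists_fix_three (hca a haA b hbA) (hp a haA) (hp b hbA) hW0
    (hWinv a (Commute.refl _)) (hWinv b (hca b hbA a haA))
  apply hv0
  rcases h with h | h | h | h
  · exact hfixW v hvW h
  · exact key b hbA hb1 hbW v hvW h
  · refine key (a * b) (mul_mem haA hbA) ?_ ?_ v hvW (by rw [map_mul]; exact h)
    · intro h0
      apply hba 2
      calc b = a ^ 3 * b := by rw [h3 a haA, one_mul]
        _ = a ^ 2 * (a * b) := by group
        _ = a ^ 2 := by rw [h0, mul_one]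
    · intro u hu
      rw [map_mul]
      change ρ a (ρ b u) = u
      rw [hbW u hu, haW u hu]
  · refine key (a * a * b) (mul_mem (mul_mem haA haA) hbA) ?_ ?_ v hvW (by rw [map_mul, map_mul]; exact h)
    · intro h0
      apply hba 1
      calc b = a ^ 3 * b := by rw [h3 a haA, one_mul]
        _ = a * (a * a * b) := by simp only [pow_succ, pow_zero, one_mul, mul_assoc]
        _ = a ^ 1 := by rw [h0, mul_one, pow_one]
    · intro u hu
      rw [map_mul, map_mul]
      change ρ a (ρ a (ρ b u)) = u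
      rw [hbW u hu, haW u hu, haW u hu]

end Main

end Cfsg.Agent.BpSpor.RankBound

end

-- merged: Cfsg.Agent.BpSpor.UniqTwo
section

/-!
# `p`-elements (`p ≥ 5`) normalizing a 2-group with one involution (helper18; after helper4's `SigB/UniqInv`)

`centralizes` : an element `b`, `b ^ p ^ m = 1`, `p ≥ 5` prime, normalizing a 2-group with at most one involution
centralizes it.
-/

set_option autoImplicit false

namespace Cfsg.Agent.BpSpor.UniqTwo

open Subgroup Cfsg

/-- a permutation of `p`-power order of at most 4 points -/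
theorem perm_eq_one {α : Type*} [Finite α] (h : Nat.card α ≤ 4) (s : Equiv.Perm α) {p m : ℕ} (hp : p.Prime) (h5 : 5 ≤ p)
    (hs : s ^ p ^ m = 1) : s = 1 := by
  have h1 : orderOf s ∣ p ^ m := orderOf_dvd_of_pow_eq_one hs
  have h2 : orderOf s ∣ Nat.card (Equiv.Perm α) := orderOf_dvd_natCard s
  rw [Nat.card_perm] at h2
  have h3 : (Nat.factorial (Nat.card α)).Coprime (p ^ m) := by
    apply Nat.Coprime.pow_right
    rw [Nat.coprime_comm, Nat.Prime.coprime_iff_not_dvd hp, hp.dvd_factorial]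
    omega
  rw [← orderOf_eq_one_iff]
  exact Nat.dvd_one.1 (h3 ▸ Nat.dvd_gcd h2 h1)

/-- a 2-generated 2-group -/
theorem of_two_gen {G : Type*} [Group G] [Finite G] {K : Subgroup G} (hK : IsPGroup 2 ↥K) {a c : G} (ha : a ∈ K)
    (hc : c ∈ K) (hg : K ≤ closure {a, c}) {b : G} {p m : ℕ} (hp : p.Prime) (hp5 : 5 ≤ p) (hb : b ^ p ^ m = 1)
    (hbK : b ∈ normalizer (K : Set G)) : ∀ k ∈ K, b * k = k * b := by
  have hP := fun x (hx : x ∈ K) => (mem_normalizer_iff.1 hbK x).1 hx
  set Q : Subgroup ↥K := (Schreier.TwoGen.sqs K).subgroupOf K with hQ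
  have hQn : Q.Normal := ⟨fun x hx g => by
    rw [hQ, mem_subgroupOf] at hx ⊢
    exact Schreier.TwoGen.conj_sqs (fun t ht => mul_mem (mul_mem g.2 ht) (inv_mem g.2)) hx⟩
  -- the cosets
  have hcard : Nat.card (↥K ⧸ Q) ≤ 4 := by
    have hle : Nat.card (↥K ⧸ Q) ≤ Nat.card (Bool × Bool) := by
      let f : Bool × Bool → ↥K ⧸ Q := fun p =>
        (((if p.1 then ⟨a, ha⟩ else 1) * (if p.2 then ⟨c, hc⟩ else 1) : ↥K) : ↥K ⧸ Q)
      refine Nat.card_le_card_of_surjective f ?_
      intro x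
      induction x using QuotientGroup.induction_on with
      | H x =>
        rcases Schreier.TwoGen.cases_of_two_gen ha hc (hg.trans le_sup_left) x.2 with h1 | h1 | h1 | h1
        · refine ⟨(false, false), ?_⟩
          apply QuotientGroup.eq.2
          rw [hQ, mem_subgroupOf]
          simpa using h1
        · refine ⟨(true, false), ?_⟩
          apply QuotientGroup.eq.2
          rw [hQ, mem_subgroupOf]
          simpa using h1
        · refine ⟨(false, true), ?_⟩
          apply QuotientGroup.eq.2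
          rw [hQ, mem_subgroupOf]
          simpa using h1
        · refine ⟨(true, true), ?_⟩
          apply QuotientGroup.eq.2
          rw [hQ, mem_subgroupOf]
          simpa using h1
    have h2 : Nat.card (Bool × Bool) = 4 := by simp
    rwa [h2] at hle
  have hbi : b⁻¹ ∈ normalizer (K : Set G) := inv_mem hbK
  have hPi := fun x (hx : x ∈ K) => (mem_normalizer_iff.1 hbi x).1 hx
  let φ : ↥K ≃* ↥K :=
    { toFun := fun x => ⟨b * x * b⁻¹, hP x x.2⟩
      invFun := fun x => ⟨b⁻¹ * x * b⁻¹⁻¹, hPi x x.2⟩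
      left_inv := fun x => Subtype.ext (by simp [mul_assoc])
      right_inv := fun x => Subtype.ext (by simp [mul_assoc])
      map_mul' := fun x y => Subtype.ext (by simp [mul_assoc]) }
  have hφ : Q.map (φ : ↥K →* ↥K) = Q := by
    have hle : ∀ x ∈ Q, φ x ∈ Q := fun x hx => Schreier.TwoGen.conj_sqs hP hx
    apply le_antisymm
    · rintro _ ⟨x, hx, rfl⟩
      exact hle x hx
    · intro x hx
      refine ⟨φ.symm x, ?_, φ.apply_symm_apply x⟩
      exact Schreier.TwoGen.conj_sqs hPi hx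
  let s : Equiv.Perm (↥K ⧸ Q) := (QuotientGroup.congr Q Q φ hφ).toEquiv
  have hs : ∀ x : ↥K, s (x : ↥K ⧸ Q) = ((φ x : ↥K) : ↥K ⧸ Q) := fun x => rfl
  have hsn : ∀ (n : ℕ) (x : ↥K), (s ^ n) (x : ↥K ⧸ Q) = (((φ : MulAut ↥K) ^ n) x : ↥K ⧸ Q) := by
    intro n
    induction n with
    | zero => intro x; rfl
    | succ n ih =>
      intro x
      rw [pow_succ, pow_succ, Equiv.Perm.mul_apply, hs, ih, MulAut.mul_apply]
  have hφn : ∀ (n : ℕ) (x : ↥K), ((((φ : MulAut ↥K) ^ n) x : ↥K) : G) = b ^ n * x * (b ^ n)⁻¹ := by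
    intro n
    induction n with
    | zero => intro x; simp
    | succ n ih =>
      intro x
      rw [pow_succ, MulAut.mul_apply, ih]
      change b ^ n * (b * x * b⁻¹) * (b ^ n)⁻¹ = _
      rw [pow_succ]
      group
  have hs5 : s ^ p ^ m = 1 := by
    ext x
    induction x using QuotientGroup.induction_on with
    | H x =>
      rw [hsn, Equiv.Perm.one_apply]
      congr 1
      apply Subtype.ext
      rw [hφn, hb]
      simp
  have hs1 := perm_eq_one hcard s hp hp5 hs5
  intro k hk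
  have hA : zpowers b ≤ centralizer (K : Set G) := by
    refine S0029.result (zpowers b) K (by rwa [zpowers_le]) ?_ ?_
    · have h1 : Nat.card ↥(zpowers b) ∣ p ^ m := by
        rw [Nat.card_zpowers]
        exact orderOf_dvd_of_pow_eq_one hb
      have h2 : IsPGroup 2 ↥(frattini ↥K) := hK.to_subgroup _
      obtain ⟨n, hn⟩ := IsPGroup.iff_card.1 h2
      rw [hn]
      exact Nat.Coprime.coprime_dvd_left h1 (Nat.Coprime.pow _ _ ((Nat.coprime_primes hp Nat.prime_two).2 (by omega)))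
    · have key : ∀ n : ℕ, ∀ k ∈ K, b ^ n * k * (b ^ n)⁻¹ * k⁻¹ ∈ Schreier.TwoGen.sqs K := by
        intro n k hk
        have h1 : (s ^ n) ((⟨k, hk⟩ : ↥K) : ↥K ⧸ Q) = ((⟨k, hk⟩ : ↥K) : ↥K ⧸ Q) := by
          rw [hs1, one_pow, Equiv.Perm.one_apply]
        rw [hsn] at h1
        have h2 := QuotientGroup.eq.1 h1.symm
        rw [hQ, mem_subgroupOf] at h2
        have h3 : k⁻¹ * (b ^ n * k * (b ^ n)⁻¹) ∈ Schreier.TwoGen.sqs K := by
          have h4 : ((((⟨k, hk⟩ : ↥K))⁻¹ * ((φ : MulAut ↥K) ^ n) ⟨k, hk⟩ : ↥K) : G) =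
              k⁻¹ * (b ^ n * k * (b ^ n)⁻¹) := by
            rw [Subgroup.coe_mul, hφn]
            rfl
          rwa [h4] at h2
        have h5 := Schreier.TwoGen.conj_sqs (T := K) (g := k) (fun t ht => mul_mem (mul_mem hk ht) (inv_mem hk)) h3
        have h6 : k * (k⁻¹ * (b ^ n * k * (b ^ n)⁻¹)) * k⁻¹ = b ^ n * k * (b ^ n)⁻¹ * k⁻¹ := by group
        rwa [h6] at h5
      intro x hx y hy
      obtain ⟨n, rfl⟩ := (isOfFinOrder_of_finite b).mem_powers_iff_mem_zpowers.2 hx
      exact Schreier.TwoGen.sqs_le_frattini hK (key n y hy)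
  exact (mem_centralizer_iff.1 (hA (mem_zpowers b)) k hk).symm

/-- **A 2-group with at most one involution** -/
theorem centralizes {G : Type*} [Group G] [Finite G] {K : Subgroup G} (hK : IsPGroup 2 ↥K)
    (hu : ∀ x ∈ K, ∀ y ∈ K, orderOf x = 2 → orderOf y = 2 → x = y) {b : G} {p m : ℕ} (hp : p.Prime)
    (hp5 : 5 ≤ p) (hb : b ^ p ^ m = 1) (hbK : b ∈ normalizer (K : Set G)) : ∀ k ∈ K, b * k = k * b := by
  have : Fact (Nat.Prime 2) := ⟨Nat.prime_two⟩
  have h2 : ∀ H : Subgroup ↥K, Nat.card H = 2 → ∃ x : ↥K, orderOf x = 2 ∧ H = zpowers x := by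
    intro H hH
    obtain ⟨x, hx⟩ := exists_prime_orderOf_dvd_card' (G := ↥H) 2 (by rw [hH])
    refine ⟨x, by rw [Subgroup.orderOf_coe, hx], ?_⟩
    symm
    apply eq_of_le_of_card_ge
    · rw [zpowers_le]; exact x.2
    · rw [Nat.card_zpowers, Subgroup.orderOf_coe, hx, hH]
  have huniq : ∀ H L : Subgroup ↥K, Nat.card H = 2 → Nat.card L = 2 → H = L := by
    intro H L hH hL
    obtain ⟨x, hx, rfl⟩ := h2 H hH
    obtain ⟨y, hy, rfl⟩ := h2 L hL
    have := hu x x.2 y y.2 (by rwa [Subgroup.orderOf_coe]) (by rwa [Subgroup.orderOf_coe])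
    rw [Subtype.ext this]
  obtain ⟨a, c, h⟩ : ∃ a c : ↥K, closure {a, c} = ⊤ := by
    rcases S0016.result 2 hK huniq with ⟨⟨g, hg⟩⟩ | ⟨-, n, ⟨e⟩⟩
    · refine ⟨g, g, ?_⟩
      rw [eq_top_iff]
      intro x _
      rw [Set.pair_eq_singleton, ← zpowers_eq_closure]
      exact hg x
    · have h1 : closure {QuaternionGroup.a 1, QuaternionGroup.xa 0} = (⊤ : Subgroup (QuaternionGroup (2 ^ n))) := by
        rw [eq_top_iff]
        have ha : ∀ i : ZMod (2 * 2 ^ n), QuaternionGroup.a i ∈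
            closure {QuaternionGroup.a (1 : ZMod (2 * 2 ^ n)), QuaternionGroup.xa 0} := by
          intro i
          have : NeZero (2 * 2 ^ n) := ⟨by positivity⟩
          have h3 : (QuaternionGroup.a (1 : ZMod (2 * 2 ^ n))) ^ i.val = QuaternionGroup.a i := by
            rw [QuaternionGroup.a_one_pow, ZMod.natCast_zmod_val]
          rw [← h3]
          exact pow_mem (subset_closure (Set.mem_insert _ _)) _
        rintro (i | i) -
        · exact ha i
        · have h3 : (QuaternionGroup.xa i : QuaternionGroup (2 ^ n)) = QuaternionGroup.xa 0 * QuaternionGroup.a i := by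
            rw [QuaternionGroup.xa_mul_a, zero_add]
          rw [h3]
          exact mul_mem (subset_closure (Set.mem_insert_of_mem _ rfl)) (ha i)
      refine ⟨e.symm (QuaternionGroup.a 1), e.symm (QuaternionGroup.xa 0), ?_⟩
      have h2 := congrArg (Subgroup.map e.symm.toMonoidHom) h1
      rw [MonoidHom.map_closure, Set.image_pair, Subgroup.map_top_of_surjective _ e.symm.surjective] at h2
      exact h2
  refine of_two_gen hK a.2 c.2 ?_ hp hp5 hb hbK
  intro x hx
  have h1 : (⟨x, hx⟩ : ↥K) ∈ closure {a, c} := by rw [h]; exact mem_top _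
  have h2 := mem_map_of_mem K.subtype h1
  rw [MonoidHom.map_closure, Set.image_pair] at h2
  exact h2

end Cfsg.Agent.BpSpor.UniqTwo

end

-- merged: Cfsg.Agent.BpSpor.CoOneSeven
section

/-!
# S1332: the row `Co1`, `p = 7` (helper18)

* `good_fix` : `x ∈ Co0` of order 7 with a fixed vector: `|C(x)| ≤ 4704`;
* `good_free` : `x ∈ Co0` of order 7 without fixed vectors: the 7-elements of `C(x)` centralize every `7'`-subgroup of
  prime power order which they normalize (one involution; 3-rank at most 2);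
* `bps_seven : BpS 7 Co1`.
-/

set_option autoImplicit false

namespace Cfsg.Agent.BpSpor.Co1

open Subgroup Cfsg Cfsg.Agent.BpTab Cfsg.Agent.BpSpor.Arith Cfsg.Agent.SporadicStructure.Co0Base
open Cfsg.Agent.CpAutBig

/-- an odd `q`-group of rank at most two normalized by a `p`-element, `p ∤ q ^ 2 - 1` -/
theorem cent_of_rank {H : Type*} [Group H] [Finite H] {p q : ℕ} (hp : p.Prime) (hq : q.Prime) (hqp : q ≠ p) (hq2 : q ≠ 2)
    (hd : ¬ p ∣ q ^ 2 - 1) {S : Subgroup H} (hS : IsPGroup q ↥S) (hrk : PRankLE q 2 ↥S) {y : H} {n : ℕ}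
    (hy : y ^ p ^ n = 1) (hyS : y ∈ normalizer (S : Set H)) : S ≤ centralizer ({y} : Set H) := by
  have : Fact q.Prime := ⟨hq⟩
  by_contra hne
  apply hd
  refine (S0640.result hq2 hS hrk p hp hqp.symm ?_).1
  let f := S.normalizerMonoidHom
  have h1 : f ⟨y, hyS⟩ ^ p ^ n = 1 := by
    rw [← map_pow]
    have h2 : (⟨y, hyS⟩ : ↥(normalizer (S : Set H))) ^ p ^ n = 1 := Subtype.ext hy
    rw [h2, map_one]
  have h2 : f ⟨y, hyS⟩ ≠ 1 := by
    intro h
    apply hne
    intro s hs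
    rw [mem_centralizer_singleton_iff]
    have h3 : ((f ⟨y, hyS⟩) ⟨s, hs⟩ : ↥S) = ⟨s, hs⟩ := by rw [h]; rfl
    have h4 : y * s * y⁻¹ = s := congrArg Subtype.val h3
    rw [mul_inv_eq_iff_eq_mul] at h4
    exact h4.symm
  obtain ⟨k, -, hk⟩ := (Nat.dvd_prime_pow hp).1 (orderOf_dvd_of_pow_eq_one h1)
  have hk0 : k ≠ 0 := by
    rintro rfl
    rw [pow_zero, orderOf_eq_one_iff] at hk
    exact h2 hk
  exact (dvd_pow_self p hk0).trans (hk ▸ orderOf_dvd_natCard _)

theorem good_fix {x : Co0} (hx : orderOf x = 7) {v : leechLattice} (hv : v ≠ 0) (hxv : x • v = v) :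
    Good 7 ↥(centralizer ({x} : Set Co0)) := by
  have hfin := CoZero.finite_co0
  have hp : Nat.Prime 7 := by norm_num
  have : Fact (Nat.Prime 7) := ⟨hp⟩
  obtain ⟨g, hg⟩ := SevenFix.conj_seven hx hv hxv
  have hcard : Nat.card (centralizer ({x} : Set Co0)) ≤ 4704 := by
    rw [CoZero.card_centralizer_of_conj hp hx SevenFix.orderOf_r7 hg]
    exact SevenFix.card_le_r7
  have hxm : x ∈ centralizer ({x} : Set Co0) := mem_centralizer_singleton_iff.2 rfl
  refine good_of_card (x := ⟨x, hxm⟩) ((Subgroup.orderOf_mk x hxm).trans hx) ?_ ?_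
  · rw [mem_center_iff]
    rintro ⟨g, hg⟩
    exact Subtype.ext (mem_centralizer_singleton_iff.1 hg)
  · intro S _ _ hS hn h7 d _ hd
    have hS168 : 168 ≤ Nat.card S := by
      by_contra hlt
      push Not at hlt
      rcases S0496.result hn (by omega) with h | h | h | h | h | h <;> rw [h] at h7 hlt <;> omega
    have h1 : d * (7 * Nat.card S) ≤ 4704 := (Nat.le_of_dvd Nat.card_pos hd).trans hcard
    have h2 : d ≤ 4 := by
      by_contra hlt
      push Not at hlt
      have h3 : 5 * (7 * 168) ≤ d * (7 * Nat.card S) := Nat.mul_le_mul hlt (by omega)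
      omega
    intro q m hq hq7 hm hqm h7q
    have hd0 : 0 < d := by
      rcases Nat.eq_zero_or_pos d with h0 | h0
      · rw [h0, zero_mul] at hd
        exact absurd (Nat.eq_zero_of_zero_dvd hd) Nat.card_pos.ne'
      · exact h0
    have h3 : q ^ m ≤ 4 := (Nat.le_of_dvd hd0 hqm).trans h2
    have h4 : 2 ≤ q ^ m := by
      calc 2 ≤ q := hq.two_le
        _ = q ^ 1 := (pow_one q).symm
        _ ≤ q ^ m := Nat.pow_le_pow_right hq.pos hm
    have h5 := Nat.le_of_dvd (by omega) h7q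
    omega

/-- arithmetic of `|Co0|` -/
theorem no_act {q m : ℕ} (hq : q.Prime) (hq2 : q ≠ 2) (hq3 : q ≠ 3) (hq7 : q ≠ 7) (hm : 1 ≤ m)
    (hd : q ^ m ∣ 8315553613086720000) : ¬ 7 ∣ q ^ m - 1 := by
  have h1 : q ∣ 2 ^ 22 * 3 ^ 9 * 5 ^ 4 * 7 ^ 2 * 11 * 13 * 23 := by
    have h2 : 2 ^ 22 * 3 ^ 9 * 5 ^ 4 * 7 ^ 2 * 11 * 13 * 23 = 8315553613086720000 := by norm_num
    rw [h2]
    exact (dvd_pow_self q (by omega)).trans hd
  have hcases : q = 5 ∨ q = 11 ∨ q = 13 ∨ q = 23 := by
    rcases hq.dvd_mul.1 h1 with h | h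
    · rcases hq.dvd_mul.1 h with h | h
      · rcases hq.dvd_mul.1 h with h | h
        · rcases hq.dvd_mul.1 h with h | h
          · rcases hq.dvd_mul.1 h with h | h
            · rcases hq.dvd_mul.1 h with h | h
              · exact absurd ((Nat.prime_dvd_prime_iff_eq hq Nat.prime_two).1 (hq.dvd_of_dvd_pow h)) hq2
              · exact absurd ((Nat.prime_dvd_prime_iff_eq hq Nat.prime_three).1 (hq.dvd_of_dvd_pow h)) hq3
            · exact Or.inl ((Nat.prime_dvd_prime_iff_eq hq Nat.prime_five).1 (hq.dvd_of_dvd_pow h))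
          · exact absurd ((Nat.prime_dvd_prime_iff_eq hq (by norm_num)).1 (hq.dvd_of_dvd_pow h)) hq7
        · exact Or.inr (Or.inl ((Nat.prime_dvd_prime_iff_eq hq (by norm_num)).1 h))
      · exact Or.inr (Or.inr (Or.inl ((Nat.prime_dvd_prime_iff_eq hq (by norm_num)).1 h)))
    · exact Or.inr (Or.inr (Or.inr ((Nat.prime_dvd_prime_iff_eq hq (by norm_num)).1 h)))
  have hsmall : ∀ k, ¬ q ^ k ∣ 8315553613086720000 → m < k := by
    intro k hk
    by_contra hc
    push Not at hc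
    exact hk ((pow_dvd_pow q hc).trans hd)
  rcases hcases with rfl | rfl | rfl | rfl
  · have := hsmall 5 (by norm_num)
    interval_cases m <;> norm_num
  · have := hsmall 2 (by norm_num)
    interval_cases m
    norm_num
  · have := hsmall 2 (by norm_num)
    interval_cases m
    norm_num
  · have := hsmall 2 (by norm_num)
    interval_cases m
    norm_num

theorem good_free {x : Co0} (hx : orderOf x = 7) (hfree : ∀ v : leechLattice, x • v = v → v = 0) :
    Good 7 ↥(centralizer ({x} : Set Co0)) := by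
  have hfin := CoZero.finite_co0
  have hp : Nat.Prime 7 := by norm_num
  have : Fact (Nat.Prime 7) := ⟨hp⟩
  have hx7 : x ^ 7 = 1 := by rw [← hx, pow_orderOf_eq_one]
  refine good_of_triv ?_
  rintro y ⟨n, hy⟩ q hq hq7 S hS hSq hyS
  by_cases hq2 : q = 2
  · subst hq2
    intro s hs
    rw [mem_centralizer_singleton_iff]
    refine (UniqTwo.centralizes hSq ?_ hp (by norm_num) hy hyS s hs).symm
    have key : ∀ t : ↥(centralizer ({x} : Set Co0)), orderOf t = 2 → (t : Co0) = SporadicA.Co0Basic.negCo0 := by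
      intro t ht
      have ht' : orderOf (t : Co0) = 2 := by rw [Subgroup.orderOf_coe, ht]
      refine FreeInv.eq_neg_of_free hp (by norm_num) (by norm_num) hx7 hfree ?_ ?_ ?_
      · rw [← pow_two, ← ht', pow_orderOf_eq_one]
      · intro h0
        rw [h0, orderOf_one] at ht'
        omega
      · exact (mem_centralizer_singleton_iff.1 t.2).symm
    intro a _ b _ ha hb
    exact Subtype.ext ((key a ha).trans (key b hb).symm)
  by_cases hq3 : q = 3
  · subst hq3
    refine cent_of_rank hp hq hq7 hq2 (by norm_num) hSq ?_ hy hyS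
    intro A hA hA3
    have h1 : Nat.card ↥((A.map S.subtype).map (centralizer ({x} : Set Co0)).subtype) = Nat.card A := by
      rw [card_map_of_injective (Subgroup.subtype_injective _), card_map_of_injective S.subtype_injective]
    have hV : Module.finrank ℚ SigZeroCo2.Lin.Sp = 24 := by
      rw [Module.finrank_fintype_fun_eq_card]
      rfl
    rw [← h1]
    refine RankBound.card_le_nine SigZeroCo2.Lin.rep SigZeroCo2.Lin.rep_injective hV hx7
      (fun v hv => TwoPrimes.free_rep hfree hv) _ ?_ ?_ ?_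
    · rintro _ ⟨_, ⟨a, ha, rfl⟩, rfl⟩ _ ⟨_, ⟨b, hb, rfl⟩, rfl⟩
      have h2 : a * b = b * a := by
        have := hA.is_comm.comm (⟨a, ha⟩ : ↥A) ⟨b, hb⟩
        exact congrArg Subtype.val this
      exact congrArg (fun t : ↥S => ((t : ↥(centralizer ({x} : Set Co0))) : Co0)) h2
    · rintro _ ⟨_, ⟨a, ha, rfl⟩, rfl⟩
      exact congrArg (fun t : ↥S => ((t : ↥(centralizer ({x} : Set Co0))) : Co0)) (hA3 a ha)
    · rintro _ ⟨a, -, rfl⟩
      exact (mem_centralizer_singleton_iff.1 a.2).symm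
  · refine cent_of_index hp hy hq hq7 hSq hyS ?_
    intro m hm hmd _
    refine no_act hq hq2 hq3 hq7 hm (hmd.trans ?_)
    have h1 : Nat.card ↥S ∣ Nat.card Co0 := (card_subgroup_dvd_card S).trans (card_subgroup_dvd_card _)
    rwa [S0397.result] at h1

theorem good_seven {x : Co0} (hx : orderOf x = 7) : Good 7 ↥(centralizer ({x} : Set Co0)) := by
  by_cases hfree : ∀ v : leechLattice, x • v = v → v = 0
  · exact good_free hx hfree
  · push Not at hfree
    obtain ⟨v, hv, hv0⟩ := hfree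
    exact good_fix hx hv0 hv

/-- **Row `Co1`, `p = 7`.** -/
theorem bps_seven : BpS 7 Spor.Co1 := by
  have hfin := CoZero.finite_co0
  have hc : Nat.card ↥(center Co0) = 2 := Cfsg.Agent.S0398.result
  refine Transfer.bps_of_inner CoOneSeven.center_co1 (CoOneSeven.autInner 7) fun g hg => ?_
  exact Transfer.good_all (by norm_num) (center Co0) (by rw [hc]; norm_num) le_rfl (fun x hx => good_seven hx) g hg

end Cfsg.Agent.BpSpor.Co1

end
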