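import Mathlib
import Cfsg.Agent.BpSpor.Cen
import Cfsg.Agent.SigZero.CoThree

-- merged: Cfsg.Agent.BpSpor.SympTwo
section

/-!
# 2-groups centralizing an element of order three of `Sp₆(2)` (helper25)

`card_le` : `V` of order 64 with a nondegenerate alternating form over the field of two elements, `s` of order three,
`T` a 2-group of isometries commuting with `s`: `|T| ≤ 16`.
-/

set_option autoImplicit false

namespace Cfsg.Agent.BpSpor.SympTwo

open MulAction

variable {V : Type*} [AddCommGroup V] {G : Type*} [Group G] [DistribMulAction G V]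

/-- the form -/
structure Form (om : V → V → ZMod 2) (G : Type*) [Group G] [DistribMulAction G V] : Prop where
  add : ∀ x y z, om (x + y) z = om x z + om y z
  symm : ∀ x y, om x y = om y x
  self : ∀ x, om x x = 0
  nd : ∀ x, (∀ y, om x y = 0) → x = 0
  inv : ∀ (g : G) (x y : V), om (g • x) (g • y) = om x y
  two : ∀ x : V, x + x = 0

theorem z2 (a : ZMod 2) : a = 0 ∨ a = 1 := by revert a; decide

/-- nondegenerate subgroup -/
def ND (om : V → V → ZMod 2) (X : AddSubgroup V) : Prop := ∀ p ∈ X, p ≠ 0 → ∃ q ∈ X, om p q = 1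

namespace Form

variable {om : V → V → ZMod 2} (F : Form om G)
include F

theorem addr (x y z : V) : om x (y + z) = om x y + om x z := by rw [F.symm, F.add, F.symm y, F.symm z]

theorem zero_r (x : V) : om x 0 = 0 := by
  have h := F.addr x 0 0
  rw [add_zero] at h
  exact left_eq_add.1 h

theorem neg_eq (x : V) : -x = x := neg_eq_of_add_eq_zero_left (F.two x)

theorem sub_eq (x y : V) : x - y = x + y := by rw [sub_eq_add_neg, F.neg_eq]

/-- cut an additive subgroup by a linear form -/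
def cut (X : AddSubgroup V) (z : V) : AddSubgroup V where
  carrier := {x | x ∈ X ∧ om z x = 0}
  add_mem' := fun {a b} ha hb => ⟨X.add_mem ha.1 hb.1, by rw [F.addr, ha.2, hb.2, add_zero]⟩
  zero_mem' := ⟨X.zero_mem, F.zero_r z⟩
  neg_mem' := fun {a} ha => ⟨X.neg_mem ha.1, by rw [F.neg_eq]; exact ha.2⟩

theorem mem_cut {X : AddSubgroup V} {z x : V} : x ∈ F.cut X z ↔ x ∈ X ∧ om z x = 0 := Iff.rfl

theorem card_cut {X : AddSubgroup V} {z y : V} (hy : y ∈ X) (h1 : om z y = 1) :
    Nat.card ↥(F.cut X z) * 2 = Nat.card ↥X := by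
  let φ : ↥X →+ ZMod 2 := AddMonoidHom.mk' (fun x => om z x) (fun a b => F.addr z a b)
  have hsurj : Function.Surjective φ := by
    intro a
    rcases z2 a with rfl | rfl
    · exact ⟨0, map_zero φ⟩
    · exact ⟨⟨y, hy⟩, h1⟩
  have h2 : Nat.card ↥φ.ker * φ.ker.index = Nat.card ↥X := AddSubgroup.card_mul_index _
  have h3 : φ.ker.index = 2 := by
    rw [AddSubgroup.index_ker, AddMonoidHom.range_eq_top.2 hsurj]
    rw [AddSubgroup.card_top, Nat.card_zmod]
  rw [h3] at h2
  rw [← h2]
  congr 1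
  refine Nat.card_congr
    { toFun := fun x => ⟨⟨x, x.2.1⟩, x.2.2⟩
      invFun := fun x => ⟨x, x.1.2, x.2⟩
      left_inv := fun _ => rfl
      right_inv := fun _ => rfl }

theorem nd_top : ND om ⊤ := by
  intro p _ hp
  by_contra hcon
  push Not at hcon
  apply hp
  apply F.nd
  intro y
  rcases z2 (om p y) with h | h
  · exact h
  · exact absurd h (hcon y trivial)

theorem nd_cut {X : AddSubgroup V} (hX : ND om X) {a b : V} (ha : a ∈ X) (hb : b ∈ X) (hab : om a b = 1) :
    ND om (F.cut (F.cut X a) b) := by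
  intro p hp hp0
  obtain ⟨y, hy, hpy⟩ := hX p hp.1.1 hp0
  have hpa : om p a = 0 := by rw [F.symm]; exact hp.1.2
  have hpb : om p b = 0 := by rw [F.symm]; exact hp.2
  have hba : om b a = 1 := by rw [F.symm]; exact hab
  have two : (1 : ZMod 2) + 1 = 0 := by decide
  rcases z2 (om a y) with h1 | h1 <;> rcases z2 (om b y) with h2 | h2
  · exact ⟨y, ⟨⟨hy, h1⟩, h2⟩, hpy⟩
  · refine ⟨y + a, ⟨⟨X.add_mem hy ha, ?_⟩, ?_⟩, ?_⟩
    · rw [F.addr, h1, F.self, add_zero]
    · rw [F.addr, h2, hba, two]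
    · rw [F.addr, hpy, hpa, add_zero]
  · refine ⟨y + b, ⟨⟨X.add_mem hy hb, ?_⟩, ?_⟩, ?_⟩
    · rw [F.addr, h1, hab, two]
    · rw [F.addr, h2, F.self, add_zero]
    · rw [F.addr, hpy, hpb, add_zero]
  · refine ⟨y + a + b, ⟨⟨X.add_mem (X.add_mem hy ha) hb, ?_⟩, ?_⟩, ?_⟩
    · rw [F.addr, F.addr, h1, F.self, hab, add_zero, two]
    · rw [F.addr, F.addr, h2, hba, F.self, two, add_zero]
    · rw [F.addr, F.addr, hpy, hpa, hpb, add_zero, add_zero]

theorem card_cut_two {X : AddSubgroup V} {a b : V} (ha : a ∈ X) (hb : b ∈ X) (hab : om a b = 1) :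
    Nat.card ↥(F.cut (F.cut X a) b) * 4 = Nat.card ↥X := by
  have h1 := F.card_cut hb hab
  have h2 := F.card_cut (X := F.cut X a) (z := b) (y := a) ⟨ha, F.self a⟩ (by rw [F.symm]; exact hab)
  rw [← h1, ← h2]
  ring

omit F in
/-- the orbit bound -/
theorem card_le_mul {T : Subgroup G} [Finite ↥T] (v : V) (K : AddSubgroup V) [Finite ↥K]
    (h : ∀ t ∈ T, t • v - v ∈ K) : Nat.card ↥T ≤ Nat.card ↥K * Nat.card ↥(T ⊓ stabilizer G v) := by
  have h1 : (stabilizer ↥T v).index ≤ Nat.card ↥K := by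
    rw [index_stabilizer]
    have h2 : orbit ↥T v ⊆ (fun k : V => k + v) '' (K : Set V) := by
      rintro _ ⟨t, rfl⟩
      exact ⟨(t : G) • v - v, h t t.2, sub_add_cancel _ _⟩
    refine (Set.ncard_le_ncard h2 (Set.toFinite _)).trans ((Set.ncard_image_le (Set.toFinite _)).trans ?_)
    rw [← Nat.card_coe_set_eq]
    rfl
  have h3 : Nat.card ↥(stabilizer ↥T v) = Nat.card ↥(T ⊓ stabilizer G v) := by
    refine Nat.card_congr
      { toFun := fun x => ⟨x, x.1.2, x.2⟩
        invFun := fun x => ⟨⟨x, x.2.1⟩, x.2.2⟩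
        left_inv := fun _ => rfl
        right_inv := fun _ => rfl }
  rw [← (stabilizer ↥T v).card_mul_index, h3, mul_comm]
  exact Nat.mul_le_mul_right _ h1

omit F in
/-- a fixed vector of a 2-group -/
theorem exists_fixed {T : Subgroup G} (hT : IsPGroup 2 ↥T) {X : AddSubgroup V} [Finite ↥X]
    (hX : ∀ t ∈ T, ∀ x ∈ X, t • x ∈ X) (h2 : 2 ∣ Nat.card ↥X) : ∃ x ∈ X, x ≠ 0 ∧ ∀ t ∈ T, t • x = x := by
  have : Fact (Nat.Prime 2) := ⟨Nat.prime_two⟩
  let _ : MulAction ↥T ↥X :=
    { smul := fun t x => ⟨(t : G) • (x : V), hX t t.2 x x.2⟩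
      one_smul := fun x => Subtype.ext (one_smul G (x : V))
      mul_smul := fun a b x => Subtype.ext (mul_smul (a : G) (b : G) (x : V)) }
  have hsm : ∀ (t : ↥T) (x : ↥X), ((t • x : ↥X) : V) = (t : G) • (x : V) := fun _ _ => rfl
  have h0 : (0 : ↥X) ∈ fixedPoints ↥T ↥X := by
    intro t
    apply Subtype.ext
    rw [hsm]
    exact smul_zero (t : G)
  obtain ⟨b, hb, hb0⟩ := hT.exists_fixed_point_of_prime_dvd_card_of_fixed_point ↥X h2 h0
  refine ⟨b, b.2, fun h => hb0 (Subtype.ext h.symm), fun t ht => ?_⟩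
  exact congrArg Subtype.val (hb ⟨t, ht⟩)

/-- the last step: a nondegenerate subgroup of order 4 -/
theorem last [Finite V] {X : AddSubgroup V} (hX : ND om X) (h4 : Nat.card ↥X = 4) {T : Subgroup G} [Finite ↥T]
    (hT : IsPGroup 2 ↥T) (hTX : ∀ t ∈ T, ∀ x ∈ X, t • x ∈ X) :
    ∃ p ∈ X, p ≠ 0 ∧ (∀ t ∈ T, t • p = p) ∧ Nat.card ↥(F.cut X p) = 2 ∧ ∃ q ∈ X, om p q = 1 ∧
      Nat.card ↥T ≤ 2 * Nat.card ↥(T ⊓ stabilizer G q) := by
  obtain ⟨p, hp, hp0, hpT⟩ := exists_fixed hT hTX (by rw [h4]; norm_num)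
  obtain ⟨q, hq, hpq⟩ := hX p hp hp0
  have h2 : Nat.card ↥(F.cut X p) = 2 := by
    have := F.card_cut hq hpq
    omega
  refine ⟨p, hp, hp0, hpT, h2, q, hq, hpq, ?_⟩
  have h1 := card_le_mul (T := T) q (F.cut X p) (fun t ht => ⟨X.sub_mem (hTX t ht q hq) hq, by
    rw [F.sub_eq, F.addr, hpq]
    have h3 := F.inv t p q
    rw [hpT t ht, hpq] at h3
    rw [h3]
    decide⟩)
  rwa [h2] at h1

theorem eq_zero_of_perp {X : AddSubgroup V} {p q x : V} (h2 : Nat.card ↥(F.cut X p) = 2) (hp : p ∈ X) (hpq : om p q = 1)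
    (hx : x ∈ X) (h3 : om p x = 0) (h4 : om q x = 0) : x = 0 := by
  have hc := F.card_cut (X := F.cut X p) (z := q) (y := p) ⟨hp, F.self p⟩ (by rw [F.symm]; exact hpq)
  rw [h2] at hc
  have h5 : Nat.card ↥(F.cut (F.cut X p) q) = 1 := by omega
  have h6 := (Nat.card_eq_one_iff_unique.1 h5).1
  exact congrArg Subtype.val (h6.elim (⟨x, ⟨hx, h3⟩, h4⟩ : ↥(F.cut (F.cut X p) q)) 0)

/-- the stabilizer of two pairs -/
theorem perp_smul_sub {t : G} {a x : V} (ha : t • a = a) : om a (t • x - x) = 0 := by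
  rw [F.sub_eq, F.addr]
  have h := F.inv t a x
  rw [ha] at h
  rw [h]
  generalize om a x = c
  revert c
  decide

variable [Finite V] (hV : Nat.card V = 64) (hf : ∀ g : G, (∀ v : V, g • v = v) → g = 1)
include hV hf

/-- two hyperbolic pairs fixed by `T` -/
theorem fixed_four {a b c d : V} (hab : om a b = 1) (hac : om a c = 0) (had : om a d = 0) (hbc : om b c = 0)
    (hbd : om b d = 0) (hcd : om c d = 1) {T : Subgroup G} [Finite ↥T] (hT : IsPGroup 2 ↥T) (ta : ∀ t ∈ T, t • a = a)
    (tb : ∀ t ∈ T, t • b = b) (tc : ∀ t ∈ T, t • c = c) (td : ∀ t ∈ T, t • d = d) :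
    Nat.card ↥T ≤ 2 ∧ ∀ s : G, (∀ t ∈ T, t * s = s * t) →
      (∀ x, x ∈ F.cut (F.cut (F.cut (F.cut ⊤ a) b) c) d → s • x ∈ F.cut (F.cut (F.cut (F.cut ⊤ a) b) c) d) →
      (∀ x : V, s • x = x → x = 0) → Nat.card ↥T = 1 := by
  set X := F.cut (F.cut (F.cut (F.cut ⊤ a) b) c) d with hX
  have h1 : ND om (F.cut (F.cut ⊤ a) b) := F.nd_cut F.nd_top trivial trivial hab
  have hcX : c ∈ F.cut (F.cut ⊤ a) b := ⟨⟨trivial, hac⟩, hbc⟩
  have hdX : d ∈ F.cut (F.cut ⊤ a) b := ⟨⟨trivial, had⟩, hbd⟩
  have h2 : ND om X := F.nd_cut h1 hcX hdX hcd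
  have h3 : Nat.card ↥X = 4 := by
    have e1 := F.card_cut_two (X := ⊤) (a := a) (b := b) trivial trivial hab
    have e2 : Nat.card ↥X * 4 = Nat.card ↥(F.cut (F.cut ⊤ a) b) := F.card_cut_two hcX hdX hcd
    rw [AddSubgroup.card_top, hV, ← e2] at e1
    omega
  have hTX : ∀ t ∈ T, ∀ x ∈ X, t • x ∈ X := by
    intro t ht x hx
    have key : ∀ z, t • z = z → om z x = 0 → om z (t • x) = 0 := by
      intro z hz h
      rw [← F.inv t z x, hz] at h
      exact h
    exact ⟨⟨⟨⟨trivial, key a (ta t ht) hx.1.1.1.2⟩, key b (tb t ht) hx.1.1.2⟩, key c (tc t ht) hx.1.2⟩,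
      key d (td t ht) hx.2⟩
  obtain ⟨p, hp, hp0, hpT, hc2, q, hq, hpq, hle⟩ := F.last h2 h3 hT hTX
  -- the stabilizer of all is trivial
  have key : ∀ t : G, t ∈ T → ∀ q' : V, om p q' = 1 → t • q' = q' → t = 1 := by
    intro t ht q' hpq' htq
    apply hf
    intro x
    have hx : t • x - x ∈ X := ⟨⟨⟨⟨trivial, F.perp_smul_sub (ta t ht)⟩, F.perp_smul_sub (tb t ht)⟩,
      F.perp_smul_sub (tc t ht)⟩, F.perp_smul_sub (td t ht)⟩
    exact sub_eq_zero.1 (F.eq_zero_of_perp hc2 hp hpq' hx (F.perp_smul_sub (hpT t ht)) (F.perp_smul_sub htq))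
  constructor
  · have h5 : Nat.card ↥(T ⊓ stabilizer G q) = 1 := by
      rw [Subgroup.card_eq_one, eq_bot_iff]
      rintro t ⟨ht, htq⟩
      rw [Subgroup.mem_bot]
      exact key t ht q hpq htq
    omega
  · intro s hs hsX hs0
    rw [Subgroup.card_eq_one, eq_bot_iff]
    intro t ht
    rw [Subgroup.mem_bot]
    have h6 : om p (s • p) = 1 := by
      rcases z2 (om p (s • p)) with h7 | h7
      · exfalso
        -- `s p` is in the cut, which has two elements `0`, `p`
        have h8 : s • p ∈ F.cut X p := ⟨hsX p hp, h7⟩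
        have h9 : p ∈ F.cut X p := ⟨hp, F.self p⟩
        have h10 : s • p ≠ 0 := by
          intro h
          apply hp0
          have := congrArg (fun x => s⁻¹ • x) h
          simpa using this
        have h11 : s • p ≠ p := fun h => hp0 (hs0 p h)
        have h12 : ({0, p, s • p} : Set V) ⊆ (F.cut X p : Set V) := by
          rintro x (rfl | rfl | rfl)
          · exact (F.cut X p).zero_mem
          · exact h9
          · exact h8
        have h13 := Set.ncard_le_ncard h12 (Set.toFinite _)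
        have h14 : ({0, p, s • p} : Set V).ncard = 3 :=
          Set.ncard_eq_three.2 ⟨0, p, s • p, hp0.symm, h10.symm, h11.symm, rfl⟩
        rw [h14, ← Nat.card_coe_set_eq] at h13
        change 3 ≤ Nat.card ↥(F.cut X p) at h13
        omega
      · exact h7
    refine key t ht (s • p) h6 ?_
    rw [← mul_smul, hs t ht, mul_smul, hpT t ht]

/-- **The bound.** -/
theorem card_le {s : G} (hs3 : s * s * s = 1) (hs1 : s ≠ 1) {T : Subgroup G} [Finite ↥T] (hT : IsPGroup 2 ↥T)
    (hc : ∀ t ∈ T, t * s = s * t) : Nat.card ↥T ≤ 16 := by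
  have two : (1 : ZMod 2) + 1 = 0 := by decide
  have s3 : ∀ x : V, s • s • s • x = x := fun x => by rw [← mul_smul, ← mul_smul, hs3, one_smul]
  have tcomm : ∀ t ∈ T, ∀ x : V, t • s • x = s • t • x := fun t ht x => by rw [← mul_smul, hc t ht, mul_smul]
  -- the moved part
  let W : AddSubgroup V :=
    { carrier := {v | v + s • v + s • s • v = 0}
      add_mem' := by
        intro a b ha hb
        change a + b + s • (a + b) + s • s • (a + b) = 0
        have h : a + b + s • (a + b) + s • s • (a + b) = (a + s • a + s • s • a) + (b + s • b + s • s • b) := by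
          rw [smul_add, smul_add]
          abel
        rw [h, show a + s • a + s • s • a = 0 from ha, show b + s • b + s • s • b = 0 from hb, add_zero]
      zero_mem' := by
        change (0 : V) + s • (0 : V) + s • s • (0 : V) = 0
        simp
      neg_mem' := by
        intro a ha
        rw [F.neg_eq]
        exact ha }
  have hW : ∀ v, v ∈ W ↔ v + s • v + s • s • v = 0 := fun _ => Iff.rfl
  have ss : ∀ v ∈ W, s • s • v = v + s • v := by
    intro v hv
    have h := (hW v).1 hv
    have h2 : s • s • v = -(v + s • v) := (neg_eq_of_add_eq_zero_right h).symm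
    rw [h2, F.neg_eq]
  have sW : ∀ v ∈ W, s • v ∈ W := by
    intro v hv
    rw [hW, s3]
    have h := (hW v).1 hv
    rw [← h]
    abel
  have tW : ∀ t ∈ T, ∀ v ∈ W, t • v ∈ W := by
    intro t ht v hv
    rw [hW, ← tcomm t ht, ← tcomm t ht, ← smul_add, ← smul_add, (hW v).1 hv, smul_zero]
  -- `W ≠ 0`
  have eqz : ∀ x y : V, x + y = 0 → x = y := fun x y h => by
    rw [← F.sub_eq] at h
    exact sub_eq_zero.1 h
  obtain ⟨v0, hv0⟩ : ∃ v : V, s • v ≠ v := by
    by_contra hcon
    push Not at hcon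
    exact hs1 (hf s hcon)
  have hw0 : s • v0 + v0 ∈ W := by
    rw [hW, smul_add, smul_add, s3]
    have h : s • v0 + v0 + (s • s • v0 + s • v0) + (v0 + s • s • v0) = (s • v0 + s • v0) + (v0 + v0) +
        (s • s • v0 + s • s • v0) := by abel
    rw [h]
    simp only [F.two, add_zero]
  have hW2 : 2 ∣ Nat.card ↥W := by
    have h1 : (⟨s • v0 + v0, hw0⟩ : ↥W) ≠ 0 := fun h => hv0 (eqz _ _ (congrArg Subtype.val h))
    have h2 : addOrderOf (⟨s • v0 + v0, hw0⟩ : ↥W) = 2 := by
      have : Fact (Nat.Prime 2) := ⟨Nat.prime_two⟩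
      refine addOrderOf_eq_prime ?_ h1
      rw [two_nsmul]
      exact Subtype.ext (F.two _)
    rw [← h2]
    exact addOrderOf_dvd_natCard _
  obtain ⟨w, hw, hw0, hwT⟩ := exists_fixed hT tW hW2
  have hswT : ∀ t ∈ T, t • s • w = s • w := fun t ht => by rw [tcomm t ht, hwT t ht]
  have inv2 : ∀ x y : V, om (s • x) y = om x (s • s • y) := fun x y => by
    rw [← F.inv s x (s • s • y), s3]
  rcases z2 (om w (s • w)) with ha | ha
  · -- isotropic
    -- `v ∈ W` with `om w v = 1`, `om (s w) v = 0`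
    obtain ⟨v, hv, hwv, hswv⟩ : ∃ v ∈ W, om w v = 1 ∧ om (s • w) v = 0 := by
      obtain ⟨y, -, hy⟩ := F.nd_top w trivial hw0
      have hy' : s • y + s • s • y ∈ W := by
        rw [hW]
        simp only [smul_add, s3]
        have h : s • y + s • s • y + (s • s • y + y) + (y + s • y) = (s • y + s • y) + (y + y) +
            (s • s • y + s • s • y) := by abel
        rw [h]
        simp only [F.two, add_zero]
      have hwy : om w (s • y + s • s • y) = 1 := by
        rw [F.addr, ← inv2, ← hy]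
        have h1 : om w (s • y) = om (s • s • w) y := by rw [inv2, inv2, s3]
        rw [h1, ← F.add]
        congr 1
        rw [ss w hw]
        rw [add_assoc, F.two, add_zero]
      rcases z2 (om (s • w) (s • y + s • s • y)) with h | h
      · exact ⟨_, hy', hwy, h⟩
      · refine ⟨s • s • (s • y + s • s • y), sW _ (sW _ hy'), ?_, ?_⟩
        · rw [← inv2]; exact h
        · rw [inv2, s3]
          have h1 : om w (s • (s • y + s • s • y)) = om (s • s • w) (s • y + s • s • y) := by rw [inv2, inv2, s3]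
          rw [h1, ss w hw, F.add, hwy, h, two]
    have hwsv : om w (s • v) = 1 := by
      have h1 : om w (s • v) = om (s • s • w) v := by rw [inv2, inv2, s3]
      rw [h1, ss w hw, F.add, hwv, hswv, add_zero]
    have hswsv : om (s • w) (s • v) = 1 := by rw [F.inv, hwv]
    set e := om v (s • v) with he
    -- the second pair
    have hsvT : ∀ t ∈ T ⊓ stabilizer G v, t • s • v = s • v := fun t ht => by rw [tcomm t ht.1, ht.2]
    obtain ⟨d, hd1, hd2, hd3, hd4, hdW⟩ : ∃ d : V, om w d = 0 ∧ om v d = 0 ∧ om (s • w) d = 1 ∧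
        (∀ t ∈ T ⊓ stabilizer G v, t • d = d) ∧
        ∀ x : V, om v x = 0 → om w x = 0 → (om d x = 0 ↔ om (s • v) x = 0) := by
      have hsww : om (s • w) w = 0 := by rw [F.symm]; exact ha
      have hvw : om v w = 1 := by rw [F.symm]; exact hwv
      rcases z2 e with h | h
      · refine ⟨s • v + v, ?_, ?_, ?_, ?_, ?_⟩
        · rw [F.addr, hwsv, hwv, two]
        · rw [F.addr, ← he, h, F.self, add_zero]
        · rw [F.addr, hswsv, hswv, add_zero]
        · intro t ht
          rw [smul_add, hsvT t ht, ht.2]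
        · intro x h1 _
          rw [F.add, h1, add_zero]
      · refine ⟨s • v + v + w, ?_, ?_, ?_, ?_, ?_⟩
        · rw [F.addr, F.addr, hwsv, hwv, two, F.self, add_zero]
        · rw [F.addr, F.addr, ← he, h, F.self, hvw, add_zero, two]
        · rw [F.addr, F.addr, hswsv, hswv, hsww, add_zero, add_zero]
        · intro t ht
          rw [smul_add, smul_add, hsvT t ht, ht.2, hwT t ht.1]
        · intro x h1 h2
          rw [F.add, F.add, h1, h2, add_zero, add_zero]
    have hT1 : IsPGroup 2 ↥(T ⊓ stabilizer G v) := hT.to_le inf_le_left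
    have hfin1 : Finite ↥(T ⊓ stabilizer G v) := Finite.of_injective (Subgroup.inclusion inf_le_left)
      (Subgroup.inclusion_injective _)
    have hvsw : om v (s • w) = 0 := by rw [F.symm]; exact hswv
    obtain ⟨hle, hone⟩ := F.fixed_four hV hf (a := w) (b := v) (c := s • w) (d := d) hwv ha hd1 hvsw hd2 hd3
      hT1 (fun t ht => hwT t ht.1) (fun t ht => ht.2) (fun t ht => hswT t ht.1) hd4
    -- the orbit of `v`
    have hK := card_le_mul (T := T) v (F.cut (F.cut W w) (s • w)) (fun t ht => ⟨⟨W.sub_mem (tW t ht v hv) hv,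
      F.perp_smul_sub (hwT t ht)⟩, F.perp_smul_sub (hswT t ht)⟩)
    have k1 := F.card_cut hv hwv
    have k2 := F.card_cut (X := F.cut W w) (z := s • w) (y := s • v + v)
      ⟨W.add_mem (sW v hv) hv, by rw [F.addr, hwsv, hwv, two]⟩ (by rw [F.addr, hswsv, hswv, add_zero])
    have hWd : Nat.card ↥W ∣ 64 := by
      rw [← hV]
      exact AddSubgroup.card_addSubgroup_dvd_card W
    by_cases hW64 : Nat.card ↥W = 64
    · have hWtop : W = ⊤ := by
        apply AddSubgroup.eq_top_of_card_eq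
        rw [hW64, hV]
      have h1 : Nat.card ↥(T ⊓ stabilizer G v) = 1 := by
        refine hone s (fun t ht => hc t ht.1) ?_ ?_
        · intro x hx
          obtain ⟨⟨⟨⟨-, x1⟩, x2⟩, x3⟩, x4⟩ := hx
          -- `s x ⊥ y` iff `x ⊥ s² y = y + s y`
          have xsv : om (s • v) x = 0 := (hdW x x2 x1).1 x4
          have q1 : om w (s • x) = 0 := by
            have h1 : om w (s • x) = om (s • s • w) x := by rw [inv2, inv2, s3]
            rw [h1, ss w hw, F.add, x1, x3, add_zero]
          have q2 : om v (s • x) = 0 := by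
            have h1 : om v (s • x) = om (s • s • v) x := by rw [inv2, inv2, s3]
            rw [h1, ss v hv, F.add, x2, xsv, add_zero]
          have q3 : om (s • w) (s • x) = 0 := by rw [F.inv, x1]
          exact ⟨⟨⟨⟨trivial, q1⟩, q2⟩, q3⟩, (hdW _ q2 q1).2 (by rw [F.inv, x2])⟩
        · intro x hx
          have h2 : x ∈ W := by rw [hWtop]; trivial
          rw [hW, hx, hx, F.two, zero_add] at h2
          exact h2
      rw [h1] at hK
      omega
    · have hW32 : Nat.card ↥W ≤ 32 := by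
        obtain ⟨k, hk⟩ := hWd
        have k1 : k ≠ 1 := by rintro rfl; omega
        have k0 : k ≠ 0 := by rintro rfl; omega
        have k2 : 2 ≤ k := by omega
        have := Nat.mul_le_mul_left (Nat.card ↥W) k2
        omega
      have : Nat.card ↥(F.cut (F.cut W w) (s • w)) ≤ 8 := by omega
      calc Nat.card ↥T ≤ _ := hK
        _ ≤ 8 * 2 := Nat.mul_le_mul this hle
        _ = 16 := rfl
  · -- nondegenerate
    have h1 : ND om (F.cut (F.cut ⊤ w) (s • w)) := F.nd_cut F.nd_top trivial trivial ha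
    have e1 := F.card_cut_two (X := ⊤) (a := w) (b := s • w) trivial trivial ha
    rw [AddSubgroup.card_top, hV] at e1
    obtain ⟨u, hu, hu0, huT⟩ := exists_fixed (X := F.cut (F.cut ⊤ w) (s • w)) hT (by
      intro t ht x hx
      have key : ∀ z, t • z = z → om z x = 0 → om z (t • x) = 0 := by
        intro z hz h
        rw [← F.inv t z x, hz] at h
        exact h
      exact ⟨⟨trivial, key w (hwT t ht) hx.1.2⟩, key (s • w) (hswT t ht) hx.2⟩) (by
      have h2 : Nat.card ↥(F.cut (F.cut ⊤ w) (s • w)) = 16 := by omega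
      rw [h2]; norm_num)
    obtain ⟨v, hv, huv⟩ := h1 u hu hu0
    have k1 := F.card_cut hv huv
    have hK := card_le_mul (T := T) v (F.cut (F.cut (F.cut ⊤ w) (s • w)) u) (fun t ht => ⟨⟨⟨trivial,
      F.perp_smul_sub (hwT t ht)⟩, F.perp_smul_sub (hswT t ht)⟩, F.perp_smul_sub (huT t ht)⟩)
    have hT1 : IsPGroup 2 ↥(T ⊓ stabilizer G v) := hT.to_le inf_le_left
    have hfin1 : Finite ↥(T ⊓ stabilizer G v) := Finite.of_injective (Subgroup.inclusion inf_le_left)
      (Subgroup.inclusion_injective _)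
    obtain ⟨hle, -⟩ := F.fixed_four hV hf (a := w) (b := s • w) (c := u) (d := v) ha hu.1.2 hv.1.2 hu.2 hv.2 huv
      hT1 (fun t ht => hwT t ht.1) (fun t ht => hswT t ht.1) (fun t ht => huT t ht.1) (fun t ht => ht.2)
    have : Nat.card ↥(F.cut (F.cut (F.cut ⊤ w) (s • w)) u) = 8 := by omega
    calc Nat.card ↥T ≤ _ := hK
      _ ≤ 8 * 2 := Nat.mul_le_mul this.le hle
      _ = 16 := rfl

end Form

end Cfsg.Agent.BpSpor.SympTwo

end

-- merged: Cfsg.Agent.BpSpor.CoThreeCent
section

/-!
# S1332: Co3, `p = 3` : the 2-part of the centralizers (helper25)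

* `not_dvd_sp` : `32 ∤ |C(s)|`, `s` of order three of `Sp₆(2)`;
* `not_dvd_m12` : `32 ∤ |C(x)|`, `x` of order three of `M₁₂`;
* `not_sixty_four` : `64 ∤ |C(x)|`, `x` of order three of `Co₃`.
-/

set_option autoImplicit false

namespace Cfsg.Agent.BpSpor.CoThree

open Cfsg Cfsg.Agent.SporRec.Co3.Chain Cfsg.Agent.SporRec.Co3.Ident
open Cfsg.Agent.SporRec.TwoSp6.Sp Cfsg.Agent.SporRec.TwoSp6.Main Cfsg.Agent.SporRec.TwoSp6.Invol
open Cfsg.Agent.SporRec.TwoSp6.CInvol (NS)
open Cfsg.Agent.SporRec.Co3.Fusion (tC mem_cent t_sq t_ne)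
open Cfsg.Agent.SigZero
open Cfsg.Agent.SigZero.CoThreeA (card_V)
open Subgroup Cfsg.Agent.BpSpor.Cen

/-! ### `Sp₆(2)` -/

/-- the action on the natural module -/
@[reducible] def dma : DistribMulAction S V where
  smul g v := act g v
  one_smul := act_one
  mul_smul := act_mul
  smul_zero := act_zero
  smul_add := act_add

theorem form : letI := dma; SympTwo.Form (V := V) om S := by
  let _ := dma
  exact
    { add := fun x y z => by rw [om_symm, om_add, om_symm z x, om_symm z y]
      symm := om_symm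
      self := om_self
      nd := fun x h => by
        by_contra hx
        obtain ⟨a, ha⟩ := exists_om_one hx
        rw [h a] at ha
        exact zero_ne_one ha
      inv := fun g x y => act_om g x y
      two := add_self }

theorem exists_two_group {X : Type*} [Group X] [Finite X] {s : X} (h : 32 ∣ Nat.card ↥(centralizer ({s} : Set X))) :
    ∃ T : Subgroup X, Nat.card ↥T = 32 ∧ ∀ t ∈ T, t * s = s * t := by
  have : Fact (Nat.Prime 2) := ⟨Nat.prime_two⟩
  obtain ⟨P, hP⟩ := Sylow.exists_subgroup_card_pow_prime 2 (n := 5) (G := ↥(centralizer ({s} : Set X)))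
    (by norm_num; exact h)
  refine ⟨P.map (centralizer ({s} : Set X)).subtype, ?_, ?_⟩
  · rw [card_map_of_injective (subtype_injective _), hP]
    norm_num
  · rintro _ ⟨t, -, rfl⟩
    exact mem_centralizer_singleton_iff.1 t.2

theorem not_dvd_sp {s : S} (hs : orderOf s = 3) : ¬ 32 ∣ Nat.card ↥(centralizer ({s} : Set S)) := by
  intro h
  obtain ⟨T, hT, hc⟩ := exists_two_group h
  let _ := dma
  have h3 : s * s * s = 1 := by
    have h4 := pow_orderOf_eq_one s
    rw [hs, pow_succ, pow_two] at h4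
    exact h4
  have h1 : s ≠ 1 := by
    rintro rfl
    rw [orderOf_one] at hs
    norm_num at hs
  have h2 := form.card_le card_V (fun g hg => act_ext fun x => (hg x).trans (act_one x).symm) h3 h1
    (IsPGroup.of_card (n := 5) (by rw [hT]; norm_num)) hc
  omega

/-! ### `M₁₂` -/

theorem pow_cases {x : Spor.M12} (hx : x ^ 3 = 1) (n : ℕ) : x ^ 2 ^ n = x ∨ x ^ 2 ^ n = x ^ 2 := by
  induction n with
  | zero => left; rw [pow_zero, pow_one]
  | succ n ih =>
    rw [pow_succ, pow_mul]
    rcases ih with h | h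
    · right; rw [h]
    · left
      rw [h, ← pow_mul, show 2 * 2 = 3 + 1 from rfl, pow_add, hx, one_mul, pow_one]

/-- the orbits -/
theorem orbit_le {x : Spor.M12} (hx : x ^ 3 = 1) {T : Subgroup Spor.M12} (hT : IsPGroup 2 ↥T)
    (hc : ∀ t ∈ T, t * x = x * t) {d : GolayPt} (hd : d ∈ CoThreeB.D) (hxd : (x : Equiv.Perm GolayPt) d ≠ d) :
    (MulAction.orbit ↥T d).ncard ≤ 4 := by
  have hcp : ∀ t ∈ T, ∀ p : GolayPt, (t : Equiv.Perm GolayPt) ((x : Equiv.Perm GolayPt) p) =
      (x : Equiv.Perm GolayPt) ((t : Equiv.Perm GolayPt) p) := fun t ht p =>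
    congrArg (fun y : Spor.M12 => (y : Equiv.Perm GolayPt) p) (hc t ht)
  have hx3 : ∀ p : GolayPt, (x : Equiv.Perm GolayPt) ((x : Equiv.Perm GolayPt) ((x : Equiv.Perm GolayPt) p)) = p := by
    intro p
    have h1 := congrArg (fun y : Spor.M12 => (y : Equiv.Perm GolayPt) p) hx
    rw [pow_succ, pow_two] at h1
    exact h1
  -- an element of `T` mapping `d` into its cycle fixes `d`
  have key : ∀ t ∈ T, (t : Equiv.Perm GolayPt) d ≠ (x : Equiv.Perm GolayPt) d := by
    intro t ht h
    obtain ⟨n, hn⟩ := hT ⟨t, ht⟩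
    have hn' : t ^ 2 ^ n = 1 := congrArg Subtype.val hn
    have h1 : ∀ k : ℕ, ((t ^ k : Spor.M12) : Equiv.Perm GolayPt) d = ((x ^ k : Spor.M12) : Equiv.Perm GolayPt) d := by
      intro k
      induction k with
      | zero => rw [pow_zero, pow_zero]
      | succ k ih =>
        rw [pow_succ, pow_succ']
        change ((t ^ k : Spor.M12) : Equiv.Perm GolayPt) ((t : Equiv.Perm GolayPt) d) =
          (x : Equiv.Perm GolayPt) (((x ^ k : Spor.M12) : Equiv.Perm GolayPt) d)
        rw [h, hcp _ (T.pow_mem ht k), ih]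
    have h2 := h1 (2 ^ n)
    rw [hn'] at h2
    have h3 : d = ((x ^ 2 ^ n : Spor.M12) : Equiv.Perm GolayPt) d := h2
    rcases pow_cases hx n with h4 | h4 <;> rw [h4] at h3
    · exact hxd h3.symm
    · apply hxd
      have h5 : d = (x : Equiv.Perm GolayPt) ((x : Equiv.Perm GolayPt) d) := by
        rw [pow_two] at h3
        exact h3
      have h6 := congrArg (x : Equiv.Perm GolayPt) h5
      rw [hx3] at h6
      exact h6
  set O := MulAction.orbit ↥T d with hO
  have hOD : O ⊆ (CoThreeB.D : Set GolayPt) := by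
    rintro _ ⟨t, rfl⟩
    exact CoThreeM12.map_D (t : Spor.M12) hd
  have hxD : ∀ p ∈ (CoThreeB.D : Set GolayPt), (x : Equiv.Perm GolayPt) p ∈ (CoThreeB.D : Set GolayPt) := fun p hp =>
    CoThreeM12.map_D x hp
  -- disjoint translates
  have d1 : ∀ p ∈ O, (x : Equiv.Perm GolayPt) p ∉ O := by
    rintro _ ⟨t, rfl⟩ ⟨u, hu⟩
    have h1 : ((u : Spor.M12) : Equiv.Perm GolayPt) d = (x : Equiv.Perm GolayPt) (((t : Spor.M12) : Equiv.Perm GolayPt) d) := hu
    apply key ((t : Spor.M12)⁻¹ * u) (T.mul_mem (T.inv_mem t.2) u.2)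
    change (((t : Spor.M12)⁻¹ : Spor.M12) : Equiv.Perm GolayPt) (((u : Spor.M12) : Equiv.Perm GolayPt) d) = _
    rw [h1, ← hcp _ t.2]
    exact Equiv.symm_apply_apply ((t : Spor.M12) : Equiv.Perm GolayPt) _
  have hinj : Function.Injective (x : Equiv.Perm GolayPt) := (x : Equiv.Perm GolayPt).injective
  have e1 : Disjoint O ((x : Equiv.Perm GolayPt) '' O) := by
    rw [Set.disjoint_left]
    rintro _ hp ⟨q, hq, rfl⟩
    exact d1 q hq hp
  have e2 : Disjoint (O ∪ (x : Equiv.Perm GolayPt) '' O) ((x : Equiv.Perm GolayPt) '' ((x : Equiv.Perm GolayPt) '' O)) := by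
    rw [Set.disjoint_left]
    rintro p hp ⟨_, ⟨q, hq, rfl⟩, h1⟩
    rcases hp with hp | ⟨r, hr, h2⟩
    · apply d1 p hp
      rw [← h1, hx3]
      exact hq
    · apply d1 q hq
      rw [hinj (h1.trans h2.symm)]
      exact hr
  have hfin : ∀ A : Set GolayPt, A.Finite := fun A => Set.toFinite A
  have h1 : (O ∪ (x : Equiv.Perm GolayPt) '' O ∪ (x : Equiv.Perm GolayPt) '' ((x : Equiv.Perm GolayPt) '' O)).ncard =
      O.ncard + O.ncard + O.ncard := by
    rw [Set.ncard_union_eq e2 (hfin _) (hfin _), Set.ncard_union_eq e1 (hfin _) (hfin _),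
      Set.ncard_image_of_injective _ hinj, Set.ncard_image_of_injective _ hinj,
      Set.ncard_image_of_injective _ hinj]
  have h2 : O ∪ (x : Equiv.Perm GolayPt) '' O ∪ (x : Equiv.Perm GolayPt) '' ((x : Equiv.Perm GolayPt) '' O) ⊆
      (CoThreeB.D : Set GolayPt) := by
    rintro p ((hp | ⟨q, hq, rfl⟩) | ⟨_, ⟨q, hq, rfl⟩, rfl⟩)
    · exact hOD hp
    · exact hxD _ (hOD hq)
    · exact hxD _ (hxD _ (hOD hq))
  have h3 := Set.ncard_le_ncard h2 (hfin _)
  rw [h1, Set.ncard_coe_finset, CoThreeB.card_D] at h3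
  omega

theorem card_le_orbit {T : Subgroup Spor.M12} (d : GolayPt) :
    Nat.card ↥T = (MulAction.orbit ↥T d).ncard * Nat.card ↥(T ⊓ MulAction.stabilizer Spor.M12 d) := by
  rw [← (MulAction.stabilizer ↥T d).card_mul_index, MulAction.index_stabilizer, mul_comm]
  congr 1
  refine Nat.card_congr
    { toFun := fun x => ⟨x, x.1.2, x.2⟩
      invFun := fun x => ⟨⟨x, x.2.1⟩, x.2.2⟩
      left_inv := fun _ => rfl
      right_inv := fun _ => rfl }

theorem not_dvd_m12 {x : Spor.M12} (hx : orderOf x = 3) : ¬ 32 ∣ Nat.card ↥(centralizer ({x} : Set Spor.M12)) := by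
  intro h
  obtain ⟨T, hT, hc⟩ := exists_two_group h
  have hTp : IsPGroup 2 ↥T := IsPGroup.of_card (n := 5) (by rw [hT]; norm_num)
  have hx3 : x ^ 3 = 1 := by rw [← hx, pow_orderOf_eq_one]
  have hx1 : x ≠ 1 := by
    rintro rfl
    rw [orderOf_one] at hx
    norm_num at hx
  have h4 := CoThreeM12.fix_le hx1
  have hcp : ∀ t ∈ T, ∀ p : GolayPt, (t : Equiv.Perm GolayPt) ((x : Equiv.Perm GolayPt) p) =
      (x : Equiv.Perm GolayPt) ((t : Equiv.Perm GolayPt) p) := fun t ht p =>
    congrArg (fun y : Spor.M12 => (y : Equiv.Perm GolayPt) p) (hc t ht)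
  -- the moved points
  set M := CoThreeB.D.filter (fun p => ¬ (x : Equiv.Perm GolayPt) p = p) with hM
  have hMc : 8 ≤ M.card := by
    have h5 := Finset.card_filter_add_card_filter_not (s := CoThreeB.D) (fun p => (x : Equiv.Perm GolayPt) p = p)
    rw [CoThreeB.card_D, ← hM] at h5
    omega
  obtain ⟨d, hd⟩ : M.Nonempty := Finset.card_pos.1 (by omega)
  have hdD := (Finset.mem_filter.1 hd).1
  have hdx := (Finset.mem_filter.1 hd).2
  have hinj : Function.Injective (x : Equiv.Perm GolayPt) := (x : Equiv.Perm GolayPt).injective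
  set y : GolayPt → GolayPt := fun p => (x : Equiv.Perm GolayPt) p with hy
  obtain ⟨e, he⟩ : (M \ {d, y d, y (y d)}).Nonempty := by
    rw [← Finset.card_pos]
    have h5 := Finset.le_card_sdiff ({d, y d, y (y d)} : Finset GolayPt) M
    have h6 : ({d, y d, y (y d)} : Finset GolayPt).card ≤ 3 := Finset.card_le_three
    omega
  rw [Finset.mem_sdiff] at he
  have heD := (Finset.mem_filter.1 he.1).1
  have hex := (Finset.mem_filter.1 he.1).2
  have hne := he.2
  simp only [Finset.mem_insert, Finset.mem_singleton, not_or] at hne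
  have hx3' : ∀ p : GolayPt, y (y (y p)) = p := by
    intro p
    have h1 := congrArg (fun z : Spor.M12 => (z : Equiv.Perm GolayPt) p) hx3
    rw [pow_succ, pow_two] at h1
    exact h1
  have o1 := orbit_le hx3 hTp hc hdD hdx
  have o2 := orbit_le hx3 (hTp.to_le (inf_le_left : T ⊓ MulAction.stabilizer Spor.M12 d ≤ T))
    (fun t ht => hc t ht.1) heD hex
  have o3 : Nat.card ↥(T ⊓ MulAction.stabilizer Spor.M12 d ⊓ MulAction.stabilizer Spor.M12 e : Subgroup Spor.M12) = 1 := by
    rw [Subgroup.card_eq_one, eq_bot_iff]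
    rintro t ⟨⟨ht, htd⟩, hte⟩
    rw [Subgroup.mem_bot]
    by_contra ht1
    have h5 := CoThreeM12.fix_le ht1
    have fd : (t : Equiv.Perm GolayPt) d = d := htd
    have fe : (t : Equiv.Perm GolayPt) e = e := hte
    have fy : ∀ p, (t : Equiv.Perm GolayPt) p = p → (t : Equiv.Perm GolayPt) (y p) = y p := by
      intro p hp
      have h6 := hcp t ht p
      rw [hp] at h6
      exact h6
    have yD : ∀ p ∈ CoThreeB.D, y p ∈ CoThreeB.D := fun p hp => CoThreeM12.map_D x hp
    have h6 : ({d, y d, y (y d), e, y e} : Finset GolayPt) ⊆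
        CoThreeB.D.filter (fun p => (t : Equiv.Perm GolayPt) p = p) := by
      intro p hp
      simp only [Finset.mem_insert, Finset.mem_singleton] at hp
      rw [Finset.mem_filter]
      rcases hp with rfl | rfl | rfl | rfl | rfl
      · exact ⟨hdD, fd⟩
      · exact ⟨yD _ hdD, fy _ fd⟩
      · exact ⟨yD _ (yD _ hdD), fy _ (fy _ fd)⟩
      · exact ⟨heD, fe⟩
      · exact ⟨yD _ heD, fy _ fe⟩
    have n1 : y d ≠ d := hdx
    have n2 : y (y d) ≠ d := by
      intro h
      apply n1
      have := congrArg y h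
      rw [hx3'] at this
      exact this.symm
    have n3 : y (y d) ≠ y d := fun h => n1 (hinj h)
    have n4 : y e ≠ e := hex
    have n5 : y e ≠ d := by
      intro h
      apply hne.2.2
      rw [← h, hx3']
    have n6 : y e ≠ y d := fun h => hne.1 (hinj h)
    have n7 : y e ≠ y (y d) := fun h => hne.2.1 (hinj h)
    have h7 : ({d, y d, y (y d), e, y e} : Finset GolayPt).card = 5 := by
      rw [Finset.card_insert_of_notMem, Finset.card_insert_of_notMem, Finset.card_insert_of_notMem,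
        Finset.card_insert_of_notMem, Finset.card_singleton]
      · simpa using n4.symm
      · simp only [Finset.mem_insert, Finset.mem_singleton, not_or]
        exact ⟨fun h => hne.2.2 h.symm, n7.symm⟩
      · simp only [Finset.mem_insert, Finset.mem_singleton, not_or]
        exact ⟨n3.symm, fun h => hne.2.1 h.symm, n6.symm⟩
      · simp only [Finset.mem_insert, Finset.mem_singleton, not_or]
        exact ⟨n1.symm, n2.symm, fun h => hne.1 h.symm, n5.symm⟩
    have h8 := Finset.card_le_card h6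
    rw [h7] at h8
    omega
  have c1 := card_le_orbit (T := T) d
  have c2 := card_le_orbit (T := T ⊓ MulAction.stabilizer Spor.M12 d) e
  rw [o3, mul_one] at c2
  rw [hT, c2] at c1
  have := Nat.mul_le_mul o1 o2
  omega

/-! ### `Co₃` -/

theorem not_dvd_of {m n : ℕ} (h : m ∣ 2 * n) (hn : ¬ 32 ∣ n) : ¬ 64 ∣ m := by
  intro h1
  have h2 : 2 * 32 ∣ 2 * n := h1.trans h
  exact hn (Nat.dvd_of_mul_dvd_mul_left (by norm_num) h2)

/-- a group with an involution `t` and a homomorphism of `C(t)` with kernel `⟨t⟩` -/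
theorem bd2_of {X : Type*} [Group X] [Finite X] {Y : Type*} [Group Y] [Finite Y] {t : X} (ht2 : t * t = 1)
    (ρ : ↥(centralizer ({t} : Set X)) →* Y) (hker : ∀ c, ρ c = 1 → (c : X) = 1 ∨ (c : X) = t)
    (hY : ∀ y : Y, orderOf y = 3 → ¬ 32 ∣ Nat.card ↥(centralizer ({y} : Set Y))) : Bd2 3 t := by
  intro x hx hxt
  let x' : ↥(centralizer ({t} : Set X)) := ⟨x, mem_centralizer_singleton_iff.2 hxt⟩
  have h1 := card_inf_dvd (C := centralizer ({t} : Set X)) (N := zpowers t) ρ (fun c hc => by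
    rcases hker c hc with h | h <;> rw [h]
    · exact one_mem _
    · exact mem_zpowers t) x'
  have h2 : Nat.card ↥(zpowers t ⊓ centralizer ({x} : Set X)) ∣ 2 := by
    refine (card_dvd_of_le inf_le_left).trans ?_
    rw [Nat.card_zpowers]
    exact orderOf_dvd_of_pow_eq_one (by rw [pow_two]; exact ht2)
  have h3 : orderOf (ρ x') = 3 := by
    have : Fact (Nat.Prime 3) := ⟨Nat.prime_three⟩
    have hx3 : x ^ 3 = 1 := by rw [← hx, pow_orderOf_eq_one]
    apply orderOf_eq_prime
    · rw [← map_pow]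
      have : x' ^ 3 = 1 := Subtype.ext hx3
      rw [this, map_one]
    · intro h
      rcases hker x' h with h | h
      · have h4 : x = 1 := h
        rw [h4, orderOf_one] at hx
        norm_num at hx
      · have h4 : x = t := h
        have h5 : orderOf x ∣ 2 := orderOf_dvd_of_pow_eq_one (by rw [pow_two, h4]; exact ht2)
        rw [hx] at h5
        norm_num at h5
  exact not_dvd_of (h1.trans (Nat.mul_dvd_mul_right h2 _)) (hY _ h3)

/-- transport -/
theorem bd2_congr {X Y : Type*} [Group X] [Group Y] (e : X ≃* Y) {t : X} (h : Bd2 3 t) : Bd2 3 (e t) := by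
  intro y hy hyt
  have h1 : orderOf (e.symm y) = 3 := by rw [MulEquiv.orderOf_eq, hy]
  have h2 := h (e.symm y) h1 (by
    apply e.injective
    rw [map_mul, map_mul, e.apply_symm_apply, hyt])
  have h3 : (centralizer ({t} : Set X) ⊓ centralizer ({e.symm y} : Set X)).map e.toMonoidHom =
      centralizer ({e t} : Set Y) ⊓ centralizer ({y} : Set Y) := by
    ext z
    rw [mem_inf, mem_centralizer_singleton_iff, mem_centralizer_singleton_iff]
    constructor
    · rintro ⟨a, ⟨ha0, hb0⟩, rfl⟩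
      have ha : a * t = t * a := mem_centralizer_singleton_iff.1 ha0
      have hb : a * e.symm y = e.symm y * a := mem_centralizer_singleton_iff.1 hb0
      constructor
      · change e a * e t = e t * e a
        rw [← map_mul, ha, map_mul]
      · change e a * y = y * e a
        have h4 := congrArg e hb
        rwa [map_mul, map_mul, e.apply_symm_apply] at h4
    · rintro ⟨ha, hb⟩
      refine ⟨e.symm z, ⟨mem_centralizer_singleton_iff.2 ?_, mem_centralizer_singleton_iff.2 ?_⟩, e.apply_symm_apply z⟩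
      · apply e.injective
        rw [map_mul, map_mul, e.apply_symm_apply, ha]
      · rw [← map_mul, hb, map_mul]
  rw [← h3, card_map_of_injective (f := e.toMonoidHom) e.injective]
  exact h2

theorem finite_G3 : Finite G3 := Nat.finite_of_card_ne_zero (by rw [isCo3_G3.2]; norm_num)

/-- `2.Sp₆(2)` -/
theorem bd2_Z : Bd2 3 (Z : G3) := by
  have := finite_G3
  obtain ⟨π, N⟩ := KFacts.Co3D4.exists_NS_G3
  refine bd2_of (t_sq N) π (fun c hc => ?_) (fun y hy => not_dvd_sp hy)
  rcases N.ker c hc with h | h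
  · exact Or.inl (congrArg Subtype.val h)
  · exact Or.inr (congrArg Subtype.val h)

/-- `2 × M₁₂` -/
theorem exists_bd2 : ∃ w : G3, w * w = 1 ∧ w ≠ 1 ∧ Nat.card (Subgroup.centralizer ({w} : Set G3)) ≤ 2 * 95040 ∧
    Bd2 3 w := by
  have := finite_G3
  obtain ⟨e⟩ := SigZero.CoThree.exists_equiv
  have hf : Finite CoThreeB.K := Finite.of_equiv _ e.symm.toEquiv
  refine ⟨e CoThreeB.wK, ?_, ?_, ?_, ?_⟩
  · rw [← map_mul, CoThreeB.wK_sq, map_one]
  · intro h
    exact CoThreeB.wK_ne ((map_eq_one_iff e e.injective).1 h)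
  · refine le_trans (le_of_eq ?_) SigZero.CoThree.card_C_le
    have h3 : (centralizer ({CoThreeB.wK} : Set CoThreeB.K)).map e.toMonoidHom =
        centralizer ({e CoThreeB.wK} : Set G3) := by
      ext z
      rw [mem_centralizer_singleton_iff]
      constructor
      · rintro ⟨a, ha, rfl⟩
        rw [SetLike.mem_coe, mem_centralizer_singleton_iff] at ha
        change e a * e _ = e _ * e a
        rw [← map_mul, ha, map_mul]
      · intro ha
        refine ⟨e.symm z, mem_centralizer_singleton_iff.2 ?_, e.apply_symm_apply z⟩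
        apply e.injective
        rw [map_mul, map_mul, e.apply_symm_apply, ha]
    rw [← h3, card_map_of_injective (f := e.toMonoidHom) e.injective]
  · refine bd2_congr e (bd2_of CoThreeB.wK_sq CoThreeB.proj (fun c hc => ?_) (fun y hy => not_dvd_m12 hy))
    rcases CoThreeB.ker_proj hc with h | h
    · exact Or.inl (congrArg Subtype.val h)
    · exact Or.inr h

/-- **`64 ∤ |C(x)|`** -/
theorem not_sixty_four {x : G3} (hx : orderOf x = 3) : ¬ 64 ∣ Nat.card ↥(centralizer ({x} : Set G3)) := by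
  have := finite_G3
  obtain ⟨w, hw2, hw1, hwc, hwb⟩ := exists_bd2
  refine not_dvd_of_inv (k := 6) (by norm_num) fun t ht hxt => ?_
  have ht2 : t * t = 1 := by rw [← pow_two, ← ht, pow_orderOf_eq_one]
  have ht1 : t ≠ 1 := by
    rintro rfl
    rw [orderOf_one] at ht
    norm_num at ht
  have hb : Bd2 3 t := by
    rcases SigZero.CoThree.classes hw2 hw1 hwc ht2 ht1 with ⟨g, hg⟩ | ⟨g, hg⟩
    · exact bd2_Z.conj (isConj_iff.2 ⟨g, hg⟩)
    · exact hwb.conj (isConj_iff.2 ⟨g, hg⟩)
  exact hb x hx hxt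

end Cfsg.Agent.BpSpor.CoThree

end
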