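import Mathlib
import Cfsg.Agent.SporRec.TwoSp6.Sp
import Cfsg.Agent.BpSpor.Sec
import Cfsg.Agent.OrdDiv.Main
import Cfsg.Agent.SigZero.CoThree
import Cfsg.Agent.BpAlt.Row
import Cfsg.Agent.CpAut.SmallP.Tools
import Cfsg.Agent.CpAut.SmallP.Inn
import Cfsg.Agent.KFacts.Co3.Out
import Cfsg.Agent.BpSpor.Cen
import Cfsg.Agent.BpSpor.NoComp
import Cfsg.Agent.CpAutCoFive.Comps
import Cfsg.Agent.PreUniqCo.Facts

-- merged: Cfsg.Agent.BpSpor.SpFive
section

/-!
# 2-subgroups of `Sp₆(2)` centralizing an element of order five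

* `two_group_le` : `V` an additive group of order 64, `y` an automorphism of order 5, `P` a 2-group of automorphisms
  commuting with `y`: `|P| ≤ 24`;
* `sp_two_group` : the same in `Sp₆(2)`.
-/

set_option autoImplicit false

namespace Cfsg.Agent.BpSpor.SpFive

open Subgroup

/-- the group of additive automorphisms -/
abbrev Au (V : Type*) [AddCommGroup V] := V ≃ₗ[ℤ] V

section

variable {V : Type*} [AddCommGroup V]

/-- the sum over the powers of `y` -/
def av (y : Au V) : V →+ V where
  toFun v := v + y v + y (y v) + y (y (y v)) + y (y (y (y v)))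
  map_zero' := by simp
  map_add' a b := by simp only [map_add]; abel

theorem av_apply (y : Au V) (v : V) : av y v = v + y v + y (y v) + y (y (y v)) + y (y (y (y v))) := rfl

theorem y_five {y : Au V} (hy : orderOf y = 5) (v : V) : y (y (y (y (y v)))) = v := by
  have h : y ^ 5 = 1 := by rw [← hy, pow_orderOf_eq_one]
  have h1 : (y ^ 5) v = v := by rw [h]; rfl
  exact h1

/-- the fixed points -/
def fx (y : Au V) : AddSubgroup V where
  carrier := {v | y v = v}
  zero_mem' := map_zero y
  add_mem' {a b} ha hb := by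
    change y (a + b) = a + b
    rw [map_add, ha, hb]
  neg_mem' {a} ha := by
    change y (-a) = -a
    rw [map_neg, ha]

theorem mem_fx {y : Au V} {v : V} : v ∈ fx y ↔ y v = v := Iff.rfl

theorem av_mem {y : Au V} (hy : orderOf y = 5) (v : V) : av y v ∈ fx y := by
  rw [mem_fx, av_apply]
  simp only [map_add]
  rw [y_five hy]
  abel

theorem av_fx {y : Au V} {v : V} (h : v ∈ fx y) : av y v = 5 • v := by
  rw [mem_fx] at h
  rw [av_apply, h, h, h, h]
  abel

theorem sub_mem_ker {y : Au V} (hy : orderOf y = 5) (v : V) : y v - v ∈ (av y).ker := by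
  rw [AddMonoidHom.mem_ker, av_apply]
  simp only [map_sub]
  rw [y_five hy]
  abel

theorem five_sub_mem_ker {y : Au V} (hy : orderOf y = 5) (v : V) : 5 • v - av y v ∈ (av y).ker := by
  rw [AddMonoidHom.mem_ker, map_sub, map_nsmul, av_fx (av_mem hy v), sub_self]

variable [Finite V]

theorem five_inj (hV : Nat.card V = 64) {v : V} (h : 5 • v = 0) : v = 0 := by
  have h1 : 64 • v = 0 := by
    rw [← hV]
    exact card_nsmul_eq_zero'
  have h2 : 13 • (5 • v) = v + 64 • v := by
    rw [smul_smul, show 13 * 5 = 1 + 64 by norm_num, add_smul, one_smul]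
  rw [h, h1, smul_zero, add_zero] at h2
  exact h2.symm

theorem dvd_pow_two {n k : ℕ} (h : n ∣ 2 ^ k) : ∃ j ≤ k, n = 2 ^ j := (Nat.dvd_prime_pow Nat.prime_two).1 h

theorem card_fx (hV : Nat.card V = 64) {y : Au V} (hy : orderOf y = 5) : Nat.card ↥(fx y) = 4 := by
  classical
  have := Fintype.ofFinite V
  have hp : Fact (Nat.Prime 5) := ⟨by norm_num⟩
  let f : Function.End V := fun v => y v
  have hf : f ^ 5 ^ 1 = 1 := by
    funext v
    exact y_five hy v
  have h1 := Equiv.Perm.card_fixedPoints_modEq hf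
  have h2 : Fintype.card ↥(Function.fixedPoints f) = Nat.card ↥(fx y) := by
    rw [← Nat.card_eq_fintype_card]
    rfl
  rw [h2, ← Nat.card_eq_fintype_card, hV] at h1
  have h3 : Nat.card ↥(fx y) ∣ 2 ^ 6 := by
    have := (fx y).card_addSubgroup_dvd_card
    rw [hV] at this
    exact this
  obtain ⟨j, hj, h4⟩ := dvd_pow_two h3
  rw [h4] at h1 ⊢
  have h5 : j ≠ 6 := by
    rintro rfl
    have h6 : fx y = ⊤ := AddSubgroup.eq_top_of_card_eq _ (by rw [h4, hV]; norm_num)
    have h7 : y = 1 := by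
      ext v
      have : v ∈ fx y := by rw [h6]; trivial
      exact this
    rw [h7, orderOf_one] at hy
    norm_num at hy
  interval_cases j <;> revert h1 <;> first | decide | (intro _; rfl) | (exact absurd rfl h5)

theorem card_ker (hV : Nat.card V = 64) {y : Au V} (hy : orderOf y = 5) : Nat.card ↥(av y).ker = 16 := by
  have h1 : (av y).range = fx y := by
    apply le_antisymm
    · rintro _ ⟨v, rfl⟩
      exact av_mem hy v
    · -- injective on `fx y`, so surjective
      let f : ↥(fx y) → ↥(fx y) := fun v => ⟨av y v, av_mem hy v⟩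
      have h2 : Function.Injective f := by
        intro a b hab
        have h3 : av y a = av y b := congrArg Subtype.val hab
        rw [av_fx a.2, av_fx b.2] at h3
        have h4 : 5 • ((a : V) - b) = 0 := by rw [smul_sub, h3, sub_self]
        exact Subtype.ext (sub_eq_zero.1 (five_inj hV h4))
      intro b hb
      obtain ⟨a, h⟩ := (Finite.injective_iff_surjective.1 h2) ⟨b, hb⟩
      exact ⟨a, congrArg Subtype.val h⟩
  have h2 : Nat.card V = Nat.card ↥(av y).ker * Nat.card ↥(av y).range := by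
    rw [← (av y).ker.card_mul_index, AddSubgroup.index_ker]
  rw [h1, card_fx hV hy, hV] at h2
  omega

/-- **2-groups of automorphisms commuting with an automorphism of order five** -/
theorem two_group_le (hV : Nat.card V = 64) {y : Au V} (hy : orderOf y = 5) (P : Subgroup (Au V))
    (hP : IsPGroup 2 ↥P) (hc : ∀ g ∈ P, g * y = y * g) : Nat.card ↥P ≤ 24 := by
  classical
  have := Fintype.ofFinite V
  have hp2 : Fact (Nat.Prime 2) := ⟨Nat.prime_two⟩
  have hp5 : Fact (Nat.Prime 5) := ⟨by norm_num⟩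
  have hcv : ∀ g ∈ P, ∀ v, g (y v) = y (g v) := fun g hg v => DFunLike.congr_fun (hc g hg) v
  set A : AddSubgroup V := (av y).ker with hA
  have hAg : ∀ g ∈ P, ∀ a ∈ A, g a ∈ A := by
    intro g hg a ha
    rw [hA, AddMonoidHom.mem_ker, av_apply] at ha ⊢
    rw [← hcv g hg, ← hcv g hg, ← hcv g hg, ← hcv g hg, ← map_add, ← map_add, ← map_add, ← map_add, ha, map_zero]
  -- the points of `A` fixed by `P`
  let A' : AddSubgroup V :=
    { carrier := {a | a ∈ A ∧ ∀ g ∈ P, g a = a}
      zero_mem' := ⟨A.zero_mem, fun g _ => map_zero g⟩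
      add_mem' := fun {a b} ha hb => ⟨A.add_mem ha.1 hb.1, fun g hg => by rw [map_add, ha.2 g hg, hb.2 g hg]⟩
      neg_mem' := fun {a} ha => ⟨A.neg_mem ha.1, fun g hg => by rw [map_neg, ha.2 g hg]⟩ }
  have hA'le : A' ≤ A := fun a ha => ha.1
  have hcardA : Nat.card ↥A = 16 := card_ker hV hy
  -- even
  have h2 : 2 ∣ Nat.card ↥A' := by
    let act : MulAction ↥P ↥A :=
      { smul := fun g a => ⟨(g : Au V) (a : V), hAg g g.2 a a.2⟩
        one_smul := fun a => rfl
        mul_smul := fun g h a => rfl }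
    have h3 := hP.card_modEq_card_fixedPoints ↥A
    rw [hcardA] at h3
    have h4 : Nat.card ↥(MulAction.fixedPoints ↥P ↥A) = Nat.card ↥A' := by
      refine Nat.card_congr ⟨fun a => ⟨(a : ↥A), (a : ↥A).2, fun g hg => congrArg Subtype.val (a.2 ⟨g, hg⟩)⟩,
        fun a => ⟨⟨a, a.2.1⟩, fun g => Subtype.ext (a.2.2 g g.2)⟩, fun a => rfl, fun a => rfl⟩
    rw [h4] at h3
    exact (Nat.modEq_zero_iff_dvd).1 (h3.symm.trans (by decide))
  -- one modulo five
  have h5 : Nat.card ↥A' ≡ 1 [MOD 5] := by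
    have hyA : ∀ a ∈ A', y a ∈ A' := by
      intro a ha
      refine ⟨?_, fun g hg => by rw [hcv g hg, ha.2 g hg]⟩
      have h6 := sub_mem_ker hy a
      have h7 := A.add_mem h6 ha.1
      rwa [sub_add_cancel] at h7
    let f : Function.End ↥A' := fun a => ⟨y a, hyA a a.2⟩
    have hf : f ^ 5 ^ 1 = 1 := by
      funext a
      exact Subtype.ext (y_five hy a)
    have h6 := Equiv.Perm.card_fixedPoints_modEq hf
    have h7 : Fintype.card ↥(Function.fixedPoints f) = 1 := by
      rw [Fintype.card_eq_one_iff]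
      refine ⟨⟨0, Subtype.ext (map_zero y)⟩, ?_⟩
      rintro ⟨⟨a, ha⟩, hfa⟩
      apply Subtype.ext
      apply Subtype.ext
      have h8 : a ∈ fx y := congrArg Subtype.val hfa
      have h9 : av y a = 0 := ha.1
      rw [av_fx h8] at h9
      exact five_inj hV h9
    rw [h7, ← Nat.card_eq_fintype_card] at h6
    exact h6
  have hA' : A' = A := by
    apply AddSubgroup.eq_of_le_of_card_ge hA'le
    rw [hcardA]
    have h6 : Nat.card ↥A' ∣ 2 ^ 4 := by
      have h7 : Nat.card ↥A' ∣ Nat.card ↥A := AddSubgroup.card_dvd_of_le hA'le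
      rw [hcardA] at h7
      exact h7
    obtain ⟨j, hj, h7⟩ := dvd_pow_two h6
    rw [h7] at h2 h5 ⊢
    interval_cases j <;> revert h2 h5 <;> decide
  -- the action on the fixed points
  let act : MulAction ↥P ↥(fx y) :=
    { smul := fun g a => ⟨(g : Au V) (a : V), by
        have h6 : y (a : V) = a := a.2
        rw [mem_fx, ← hcv g g.2, h6]⟩
      one_smul := fun a => rfl
      mul_smul := fun g h a => rfl }
  let φ : ↥P →* Equiv.Perm ↥(fx y) := MulAction.toPermHom ↥P ↥(fx y)
  have hφ : Function.Injective φ := by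
    rw [injective_iff_map_eq_one]
    rintro ⟨g, hg⟩ h6
    apply Subtype.ext
    ext v
    change g v = v
    have h7 : ∀ b ∈ fx y, g b = b := fun b hb =>
      congrArg Subtype.val (Equiv.Perm.congr_fun h6 (⟨b, hb⟩ : ↥(fx y)))
    have h8 : ∀ a ∈ A, g a = a := by
      intro a ha
      rw [← hA'] at ha
      exact ha.2 g hg
    have h9 : g (5 • v) = 5 • v := by
      have h10 : 5 • v = (5 • v - av y v) + av y v := by abel
      rw [h10, map_add, h8 _ (five_sub_mem_ker hy v), h7 _ (av_mem hy v)]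
    rw [map_nsmul] at h9
    have h10 : 5 • (g v - v) = 0 := by rw [smul_sub, h9, sub_self]
    exact sub_eq_zero.1 (five_inj hV h10)
  have h6 : Nat.card ↥P ≤ Nat.card (Equiv.Perm ↥(fx y)) := Nat.card_le_card_of_injective φ hφ
  rw [Nat.card_perm, card_fx hV hy] at h6
  exact h6

end

open Cfsg.Agent.SporRec.TwoSp6.Sp (S act act_one act_mul act_ext act_add)

/-- the automorphism of the natural module -/
def toAut : S →* Au Cfsg.Agent.SporRec.TwoSp6.Sp.V where
  toFun g := AddEquiv.toIntLinearEquiv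
    { toFun := act g
      invFun := act g⁻¹
      left_inv := fun v => by rw [← act_mul, inv_mul_cancel, act_one]
      right_inv := fun v => by rw [← act_mul, mul_inv_cancel, act_one]
      map_add' := act_add g }
  map_one' := LinearEquiv.ext fun v => act_one v
  map_mul' g h := LinearEquiv.ext fun v => act_mul g h v

theorem toAut_apply (g : S) (v : Cfsg.Agent.SporRec.TwoSp6.Sp.V) : toAut g v = act g v := rfl

theorem toAut_injective : Function.Injective toAut := fun g h hgh =>
  act_ext fun x => by rw [← toAut_apply, hgh, toAut_apply]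

/-- **2-subgroups of `Sp₆(2)` centralizing an element of order five** -/
theorem sp_two_group {y : S} (hy : orderOf y = 5) (P : Subgroup S) (hP : IsPGroup 2 ↥P) (hc : ∀ g ∈ P, g * y = y * g) :
    Nat.card ↥P ≤ 24 := by
  have h1 : Nat.card ↥(P.map toAut) = Nat.card ↥P := card_map_of_injective toAut_injective
  rw [← h1]
  refine two_group_le (y := toAut y) ?_ ?_ (P.map toAut) (hP.map toAut) ?_
  · rw [Nat.card_eq_fintype_card]
    simp [Fintype.card_pi, ZMod.card]
  · rw [orderOf_injective toAut toAut_injective, hy]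
  · rintro _ ⟨g, hg, rfl⟩
    rw [← map_mul, ← map_mul, hc g hg]

end Cfsg.Agent.BpSpor.SpFive

end

-- merged: Cfsg.Agent.BpSpor.Order
section

/-!
# S1332, sporadic rows: the order criterion (helper5)

`good_of_card` : a decidable sufficient condition for `Good p H` from `|H| ∣ N` (and a central `p`-subgroup of order
divisible by `c`), for groups whose simple sections are known.
-/

set_option autoImplicit false

namespace Cfsg.Agent.BpSpor

open Subgroup Cfsg Cfsg.Agent.Lib Cfsg.Agent.SignalizersComponents Cfsg.Agent.BpTab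
open Cfsg.Agent.Intrinsic.Charac
open Cfsg.Agent.OrdDiv (OrderTable Real Grp cands ordN valid glN)

universe u

/-- the check for one simple group of order `s`: no prime `r ≠ p` and `d ≥ 2` with `r ^ d * (c * s) ∣ N` and
`s ∣ r ^ e * |GL_d(r)|` -/
def chkOne (p c : ℕ) (l : List (ℕ × ℕ)) (N s : ℕ) : Bool :=
  s % p != 0 || (N % (c * s) != 0) || l.all fun x => Nat.beq x.1 p ||
    (List.range (x.2 + 1)).all fun d => Nat.blt d 2 || N % (x.1 ^ d * (c * s)) != 0 ||
      (x.1 ^ x.2 * glN d x.1) % s != 0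

/-- the check -/
def chk (p c : ℕ) (l : List (ℕ × ℕ)) (N : ℕ) : Bool := (cands l N).all fun g => chkOne p c l N (ordN g)

theorem prod_fin_eq (d r : ℕ) : ∏ i : Fin d, (r ^ d - r ^ (i : ℕ)) = glN d r := by
  rw [glN, OrdDiv.prod_list, Fin.prod_univ_eq_prod_range (fun i => r ^ d - r ^ i) d]

theorem dvd_pow_mul {r M e c s N : ℕ} (hr : r.Prime) (hN : s ∣ N) (he : ¬ r ^ (e + 1) ∣ N) (h : s ∣ r ^ M * c) :
    s ∣ r ^ e * c := by
  rcases Nat.eq_zero_or_pos s with h0 | hpos
  · exfalso
    rw [h0, Nat.zero_dvd] at hN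
    exact he (hN ▸ dvd_zero _)
  obtain ⟨a, m, hm, hs⟩ := Nat.exists_eq_pow_mul_and_not_dvd (n := s) hpos.ne' r hr.ne_one
  subst hs
  have h1 : a ≤ e := by
    by_contra hlt
    exact he ((pow_dvd_pow r (by omega)).trans ((Dvd.intro _ rfl).trans hN))
  have h2 : m ∣ c := by
    have h3 : m.Coprime (r ^ M) := (((Nat.Prime.coprime_iff_not_dvd hr).2 hm).symm).pow_right M
    exact h3.dvd_of_dvd_mul_left ((Dvd.intro_left _ rfl).trans h)
  exact mul_dvd_mul (pow_dvd_pow r h1) h2

theorem chkOne_false {p c : ℕ} {l : List (ℕ × ℕ)} {N s r d M : ℕ} (hv : valid l N = true)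
    (hc : chkOne p c l N s = true) (hps : p ∣ s) (hr : r.Prime) (hrp : r ≠ p) (hd : 2 ≤ d)
    (h1 : r ^ d * (c * s) ∣ N) (h2 : s ∣ r ^ M * ∏ i : Fin d, (r ^ d - r ^ (i : ℕ))) : False := by
  obtain ⟨e, he, hde⟩ := OrdDiv.exists_pair hv hr (show 1 ≤ d by omega) ((Dvd.intro _ rfl).trans h1)
  have hex := OrdDiv.valid_exact hv _ he
  unfold chkOne at hc
  rw [Bool.or_eq_true, Bool.or_eq_true, List.all_eq_true] at hc
  rcases hc with (hc | hc) | hc
  · rw [Nat.mod_eq_zero_of_dvd hps] at hc
    exact absurd hc (by decide)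
  · rw [Nat.mod_eq_zero_of_dvd ((Dvd.intro_left _ rfl).trans h1)] at hc
    exact absurd hc (by decide)
  · have h3 := hc _ he
    rw [Bool.or_eq_true, List.all_eq_true] at h3
    rcases h3 with h3 | h3
    · exact hrp (Nat.beq_eq ▸ h3)
    · have h4 := h3 d (List.mem_range.2 (by simp only; omega))
      rw [Bool.or_eq_true, Bool.or_eq_true] at h4
      rcases h4 with (h4 | h4) | h4
      · rw [Nat.blt_eq] at h4
        omega
      · rw [Nat.mod_eq_zero_of_dvd h1] at h4
        exact absurd h4 (by decide)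
      · rw [prod_fin_eq] at h2
        have h5 : s ∣ N := (Dvd.intro_left _ rfl).trans ((Dvd.intro_left _ rfl).trans h1)
        rw [Nat.mod_eq_zero_of_dvd (dvd_pow_mul hr h5 hex h2)] at h4
        exact absurd h4 (by decide)

/-- **The order criterion** (with a central `p`-subgroup `Z` of order divisible by `c`). -/
theorem good_of_card_center (T : OrderTable.{u}) (hcl : ∀ (S : Type u) [Group S] [Finite S], IsSimpleGroup S →
    IsKnownSimple' S) {H : Type u} [Group H] [Finite H] {p : ℕ} (hp : p.Prime) (Z : Subgroup H) (hZ : Z ≤ center H)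
    (hZp : IsPGroup p ↥Z) {c N : ℕ} (hcZ : c ∣ Nat.card ↥Z) {l : List (ℕ × ℕ)} (hN : Nat.card H ∣ N)
    (hv : valid l N = true) (hc : chk p c l N = true) : Good p H := by
  have : Fact p.Prime := ⟨hp⟩
  by_contra hG
  obtain ⟨K, -, r, k, d, M, hs, hna, hpS, hr, hrp, hd, hdk, hdvd, hS⟩ := witness hG Z hZ hZp
  have h1 : r ^ d * (c * Nat.card (↥K ⧸ center ↥K)) ∣ N :=
    (mul_dvd_mul (pow_dvd_pow r hdk) (mul_dvd_mul_right hcZ _)).trans (hdvd.trans hN)
  have h2 : Nat.card (↥K ⧸ center ↥K) ∣ N := (Dvd.intro_left _ rfl).trans ((Dvd.intro_left _ rfl).trans h1)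
  obtain ⟨g, hg, -, hgo⟩ := OrdDiv.exists_good T (hcl _ hs) hna hv h2
  unfold chk at hc
  rw [List.all_eq_true] at hc
  have h3 := hc g hg
  rw [← hgo] at h3
  exact chkOne_false hv h3 hpS hr hrp hd h1 hS

/-- **The order criterion.** -/
theorem good_of_card (T : OrderTable.{u}) (hcl : ∀ (S : Type u) [Group S] [Finite S], IsSimpleGroup S →
    IsKnownSimple' S) {H : Type u} [Group H] [Finite H] {p : ℕ} (hp : p.Prime) {N : ℕ} {l : List (ℕ × ℕ)}
    (hN : Nat.card H ∣ N) (hv : valid l N = true) (hc : chk p 1 l N = true) : Good p H :=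
  good_of_card_center T hcl hp ⊥ bot_le (fun a => ⟨0, by rw [pow_zero, pow_one]; exact Subsingleton.elim _ _⟩)
    (one_dvd _) hN hv hc

/-- **The order criterion for the centralizer of an element of order `p`.** -/
theorem good_centralizer (T : OrderTable.{u}) (hcl : ∀ (S : Type u) [Group S] [Finite S], IsSimpleGroup S →
    IsKnownSimple' S) {G : Type u} [Group G] [Finite G] {p : ℕ} (hp : p.Prime) {x : G} (hx : orderOf x = p)
    {N : ℕ} {l : List (ℕ × ℕ)} (hN : Nat.card ↥(centralizer ({x} : Set G)) ∣ N) (hv : valid l N = true)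
    (hc : chk p p l N = true) : Good p ↥(centralizer ({x} : Set G)) := by
  have hxm : x ∈ centralizer ({x} : Set G) := by
    rw [mem_centralizer_singleton_iff]
  let z : ↥(centralizer ({x} : Set G)) := ⟨x, hxm⟩
  have hz : orderOf z = p := by rw [← hx, ← Subgroup.orderOf_coe]
  refine good_of_card_center T hcl hp (zpowers z) ?_ ?_ (c := p) ?_ hN hv hc
  · rw [zpowers_le, mem_center_iff]
    intro y
    exact Subtype.ext (mem_centralizer_singleton_iff.1 y.2)
  · exact IsPGroup.of_card (n := 1) (by rw [Nat.card_zpowers, hz, pow_one])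
  · rw [Nat.card_zpowers, hz]

end Cfsg.Agent.BpSpor

end

-- merged: Cfsg.Agent.CpAutCoThreeFive.Lin
section

/-!
# An automorphism of order five of an elementary abelian group of order 64

`V` an elementary abelian group of order 64, `g` an endomorphism of `V` with `g⁵ = 1`, `g ≠ 1`.

* `card_fix` : `g` has 4 fixed points;
* `exists_fix_two` : a nontrivial subgroup of order 4 or 8 stable under `g` has two different nonzero fixed points;
* `eq_of_fix` : a `g`-invariant linear form vanishes on at most one nonzero fixed point;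
* `card_comm_le` : there are at most 256 endomorphisms `c` in a set of automorphisms commuting with `g`.
-/

set_option autoImplicit false
set_option linter.unusedSectionVars false

namespace Cfsg.Agent.CpAutCoThreeFive

/-- fixed points of a map with `f⁵ = 1` -/
theorem card_modEq {α : Type*} [Finite α] {f : α → α} (hf : ∀ a, f (f (f (f (f a)))) = a) :
    Nat.card α ≡ Nat.card {a // f a = a} [MOD 5] := by
  classical
  let _ : Fintype α := Fintype.ofFinite α
  have : Fact (Nat.Prime 5) := ⟨by norm_num⟩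
  let F : Function.End α := f
  have h1 : F ^ 5 ^ 1 = 1 := by
    funext a
    exact hf a
  have h2 := Equiv.Perm.card_fixedPoints_modEq h1
  rw [← Nat.card_eq_fintype_card, ← Nat.card_eq_fintype_card] at h2
  exact h2

section

variable {V : Type*} [AddCommGroup V] [Finite V]

/-- the fixed points -/
def Fx (g : V →+ V) : AddSubgroup V where
  carrier := {v | g v = v}
  zero_mem' := map_zero g
  add_mem' {a b} ha hb := by
    change g (a + b) = a + b
    rw [map_add, show g a = a from ha, show g b = b from hb]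
  neg_mem' {a} ha := by
    change g (-a) = -a
    rw [map_neg, show g a = a from ha]

theorem mem_Fx {g : V →+ V} {v : V} : v ∈ Fx g ↔ g v = v := Iff.rfl

variable {g : V →+ V} (h5 : ∀ v, g (g (g (g (g v)))) = v)

include h5 in
theorem card_inf (P : AddSubgroup V) (hP : ∀ v ∈ P, g v ∈ P) :
    Nat.card P ≡ Nat.card (P ⊓ Fx g : AddSubgroup V) [MOD 5] := by
  have h1 := card_modEq (α := P) (f := fun v => ⟨g v, hP v v.2⟩) (fun a => Subtype.ext (h5 a))
  have h2 : Nat.card {a : P // (⟨g a, hP a a.2⟩ : P) = a} = Nat.card (P ⊓ Fx g : AddSubgroup V) := by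
    refine Nat.card_congr ⟨fun a => ⟨a.1, a.1.2, congrArg Subtype.val a.2⟩,
      fun a => ⟨⟨a.1, a.2.1⟩, Subtype.ext a.2.2⟩, fun a => rfl, fun a => rfl⟩
  rwa [h2] at h1

theorem card_pow (hV : Nat.card V = 64) (P : AddSubgroup V) :
    Nat.card P = 1 ∨ Nat.card P = 2 ∨ Nat.card P = 4 ∨ Nat.card P = 8 ∨ Nat.card P = 16 ∨ Nat.card P = 32 ∨
      Nat.card P = 64 := by
  have h1 : Nat.card P ∣ 2 ^ 6 := by
    have h2 := P.card_addSubgroup_dvd_card
    rw [hV] at h2
    exact h2
  obtain ⟨k, hk, h3⟩ := (Nat.dvd_prime_pow Nat.prime_two).1 h1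
  rw [h3]
  interval_cases k <;> norm_num

theorem eq_top (hV : Nat.card V = 64) {P : AddSubgroup V} (h : Nat.card P = 64) (v : V) : v ∈ P := by
  have h1 : P = ⊤ := by
    rw [← AddSubgroup.card_eq_iff_eq_top, h, hV]
  rw [h1]
  trivial

include h5 in
/-- **Four fixed points.** -/
theorem card_fix (hV : Nat.card V = 64) (hne : ∃ v, g v ≠ v) : Nat.card (Fx g) = 4 := by
  have h1 := card_inf h5 ⊤ (fun v _ => trivial)
  rw [top_inf_eq, AddSubgroup.card_top, hV] at h1
  have h2 : Nat.card (Fx g) ≠ 64 := by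
    intro h
    obtain ⟨v, hv⟩ := hne
    exact hv (eq_top hV h v)
  have h3 : 64 % 5 = Nat.card (Fx g) % 5 := h1
  rcases card_pow hV (Fx g) with h | h | h | h | h | h | h <;> rw [h] at h2 h3 <;> omega

include h5 in
/-- two different nonzero fixed points -/
theorem exists_fix_two (P : AddSubgroup V) (hP : ∀ v ∈ P, g v ∈ P) (h48 : Nat.card P = 4 ∨ Nat.card P = 8) :
    ∃ a ∈ P, ∃ b ∈ P, a ≠ 0 ∧ b ≠ 0 ∧ a ≠ b ∧ g a = a ∧ g b = b := by
  classical
  have h1 := card_inf h5 P hP
  have h2 : 2 < Nat.card (P ⊓ Fx g : AddSubgroup V) := by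
    have h3 : Nat.card P % 5 = Nat.card (P ⊓ Fx g : AddSubgroup V) % 5 := h1
    rcases h48 with h | h <;> rw [h] at h3 <;> omega
  have h4 : 2 < ((P ⊓ Fx g : AddSubgroup V) : Set V).ncard := by
    rwa [← Nat.card_coe_set_eq]
  obtain ⟨a, b, c, ha, hb, hc, hab, hac, hbc⟩ := (Set.two_lt_ncard_iff (Set.toFinite _)).1 h4
  by_cases ha0 : a = 0
  · subst ha0
    exact ⟨b, hb.1, c, hc.1, Ne.symm hab, Ne.symm hac, hbc, hb.2, hc.2⟩
  · by_cases hb0 : b = 0
    · subst hb0
      exact ⟨a, ha.1, c, hc.1, ha0, Ne.symm hbc, hac, ha.2, hc.2⟩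
    · exact ⟨a, ha.1, b, hb.1, ha0, hb0, hab, ha.2, hb.2⟩

include h5 in
/-- a `g`-invariant nonzero linear form vanishes on at most one nonzero fixed point -/
theorem eq_of_fix (hV : Nat.card V = 64) (hne : ∃ v, g v ≠ v) (φ : V →+ ZMod 2) (hφ : ∀ v, φ (g v) = φ v)
    (hs : ∃ v, φ v = 1) {a b : V} (ha : g a = a) (hb : g b = b) (ha0 : a ≠ 0) (hb0 : b ≠ 0)
    (hφa : φ a = 0) (hφb : φ b = 0) : a = b := by
  classical
  by_contra hab
  have hsurj : φ.range = ⊤ := by
    rw [AddMonoidHom.range_eq_top]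
    intro c
    obtain ⟨v, hv⟩ := hs
    have hc : c = 0 ∨ c = 1 := by
      revert c; decide
    rcases hc with rfl | rfl
    · exact ⟨0, map_zero φ⟩
    · exact ⟨v, hv⟩
  have hk : Nat.card φ.ker = 32 := by
    have h1 := φ.ker.card_mul_index
    rw [AddSubgroup.index_ker, hsurj, AddSubgroup.card_top, Nat.card_zmod, hV] at h1
    omega
  have h1 := card_inf h5 φ.ker (fun v hv => by
    rw [AddMonoidHom.mem_ker] at hv ⊢
    rw [hφ, hv])
  rw [hk] at h1
  have h2 : 32 % 5 = Nat.card (φ.ker ⊓ Fx g : AddSubgroup V) % 5 := h1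
  have h3 : Nat.card (φ.ker ⊓ Fx g : AddSubgroup V) ≤ 4 := by
    rw [← card_fix h5 hV hne]
    exact AddSubgroup.card_le_of_le inf_le_right
  have h4 : 2 < ((φ.ker ⊓ Fx g : AddSubgroup V) : Set V).ncard := by
    rw [Set.two_lt_ncard_iff (Set.toFinite _)]
    exact ⟨0, a, b, AddSubgroup.zero_mem _, ⟨hφa, ha⟩, ⟨hφb, hb⟩, ha0.symm, hb0.symm, hab⟩
  rw [← Nat.card_coe_set_eq] at h4
  have h5 : Nat.card ((φ.ker ⊓ Fx g : AddSubgroup V) : Set V) = Nat.card (φ.ker ⊓ Fx g : AddSubgroup V) := rfl
  omega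

/-- the norm `1 + g + g² + g³ + g⁴` -/
def Nm (g : V →+ V) : V →+ V :=
  AddMonoidHom.mk' (fun v => v + g v + g (g v) + g (g (g v)) + g (g (g (g v)))) (fun a b => by
    simp only [map_add]
    abel)

theorem Nm_apply (v : V) : Nm g v = v + g v + g (g v) + g (g (g v)) + g (g (g (g v))) := rfl

include h5 in
theorem g_Nm (v : V) : g (Nm g v) = Nm g v := by
  rw [Nm_apply]
  simp only [map_add]
  rw [h5]
  abel

include h5 in
theorem Nm_g (v : V) : Nm g (g v) = Nm g v := by
  rw [Nm_apply, Nm_apply, h5]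
  abel

theorem Nm_fix (h2 : ∀ v : V, v + v = 0) {v : V} (hv : g v = v) : Nm g v = v := by
  rw [Nm_apply, hv, hv, hv, hv, h2, zero_add, h2, zero_add]

include h5 in
theorem card_ker_Nm (h2 : ∀ v : V, v + v = 0) (hV : Nat.card V = 64) (hne : ∃ v, g v ≠ v) :
    Nat.card (Nm g).ker = 16 := by
  have h1 := (Nm g).ker.card_mul_index
  have h3 : (Nm g).range = Fx g := by
    ext v
    constructor
    · rintro ⟨w, rfl⟩
      exact g_Nm h5 w
    · intro hv
      exact ⟨v, Nm_fix h2 hv⟩
  rw [AddSubgroup.index_ker, h3, card_fix h5 hV hne, hV] at h1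
  omega

theorem ker_inf (h2 : ∀ v : V, v + v = 0) {v : V} (h1 : v ∈ (Nm g).ker) (hv : g v = v) : v = 0 := by
  rw [AddMonoidHom.mem_ker, Nm_fix h2 hv] at h1
  exact h1

include h5 in
/-- an automorphism commuting with `g` is determined by three values -/
theorem ext_three (h2 : ∀ v : V, v + v = 0) (hV : Nat.card V = 64) (hne : ∃ v, g v ≠ v) {v0 a b : V}
    (hv0 : v0 ∈ (Nm g).ker) (hv0' : v0 ≠ 0) (ha : g a = a) (hb : g b = b) (ha0 : a ≠ 0) (hb0 : b ≠ 0) (hab : a ≠ b)
    {c d : V →+ V} (hc : ∀ v, c (g v) = g (c v)) (hd : ∀ v, d (g v) = g (d v))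
    (e0 : c v0 = d v0) (e1 : c a = d a) (e2 : c b = d b) (v : V) : c v = d v := by
  classical
  let P : AddSubgroup V := (c - d).ker
  have hP : ∀ v, v ∈ P ↔ c v = d v := by
    intro v
    rw [AddMonoidHom.mem_ker, AddMonoidHom.sub_apply, sub_eq_zero]
  have hPg : ∀ v ∈ P, g v ∈ P := by
    intro v hv
    rw [hP] at hv ⊢
    rw [hc, hd, hv]
  -- the fixed points
  have hF : Fx g ≤ P := by
    have h3 : Nat.card (Fx g) = 4 := card_fix h5 hV hne
    have h4 : Nat.card (P ⊓ Fx g : AddSubgroup V) = 4 := by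
      have h5' : Nat.card (P ⊓ Fx g : AddSubgroup V) ≤ 4 := by
        rw [← h3]
        exact AddSubgroup.card_le_of_le inf_le_right
      have h6 : 2 < ((P ⊓ Fx g : AddSubgroup V) : Set V).ncard := by
        rw [Set.two_lt_ncard_iff (Set.toFinite _)]
        exact ⟨0, a, b, AddSubgroup.zero_mem _, ⟨(hP a).2 e1, ha⟩, ⟨(hP b).2 e2, hb⟩, ha0.symm, hb0.symm, hab⟩
      rw [← Nat.card_coe_set_eq] at h6
      have h7 : Nat.card ((P ⊓ Fx g : AddSubgroup V) : Set V) = Nat.card (P ⊓ Fx g : AddSubgroup V) := rfl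
      rcases card_pow hV (P ⊓ Fx g) with h | h | h | h | h | h | h <;> omega
    have h8 : P ⊓ Fx g = Fx g := by
      apply AddSubgroup.eq_of_le_of_card_ge inf_le_right
      rw [h3, h4]
    exact inf_eq_right.1 h8
  -- the kernel of the norm
  have hK : (Nm g).ker ≤ P := by
    have h3 := card_ker_Nm h5 h2 hV hne
    have h4 : Nat.card (P ⊓ (Nm g).ker : AddSubgroup V) ≡
        Nat.card (P ⊓ (Nm g).ker ⊓ Fx g : AddSubgroup V) [MOD 5] := by
      refine card_inf h5 _ ?_
      intro v hv
      have h9 : v ∈ (Nm g).ker := hv.2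
      refine ⟨hPg v hv.1, (?_ : g v ∈ (Nm g).ker)⟩
      rw [AddMonoidHom.mem_ker] at h9 ⊢
      rw [Nm_g h5, h9]
    have h6 : (P ⊓ (Nm g).ker ⊓ Fx g : AddSubgroup V) = ⊥ := by
      rw [eq_bot_iff]
      intro v hv
      exact ker_inf h2 hv.1.2 hv.2
    rw [h6, AddSubgroup.card_bot] at h4
    have h7 : Nat.card (P ⊓ (Nm g).ker : AddSubgroup V) ≤ 16 := by
      rw [← h3]
      exact AddSubgroup.card_le_of_le inf_le_right
    have h8 : 1 < Nat.card (P ⊓ (Nm g).ker : AddSubgroup V) := by
      rw [AddSubgroup.one_lt_card_iff_ne_bot]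
      intro h
      have : v0 ∈ (P ⊓ (Nm g).ker : AddSubgroup V) := ⟨(hP v0).2 e0, hv0⟩
      rw [h] at this
      exact hv0' this
    have h9 : Nat.card (P ⊓ (Nm g).ker : AddSubgroup V) % 5 = 1 % 5 := h4
    have h10 : Nat.card (P ⊓ (Nm g).ker : AddSubgroup V) = 16 := by
      rcases card_pow hV (P ⊓ (Nm g).ker) with h | h | h | h | h | h | h <;> omega
    have h11 : P ⊓ (Nm g).ker = (Nm g).ker := by
      apply AddSubgroup.eq_of_le_of_card_ge inf_le_right
      rw [h3, h10]
    exact inf_eq_right.1 h11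
  rw [← hP]
  have h3 : v = Nm g v + (v + Nm g v) := by
    rw [add_comm v, ← add_assoc, h2, zero_add]
  rw [h3]
  refine P.add_mem (hF (g_Nm h5 v)) (hK ?_)
  rw [AddMonoidHom.mem_ker, map_add, Nm_fix h2 (g_Nm h5 v), h2]

include h5 in
/-- **At most 256 automorphisms commute with `g`.** -/
theorem card_comm_le (h2 : ∀ v : V, v + v = 0) (hV : Nat.card V = 64) (hne : ∃ v, g v ≠ v) {C : Type*}
    (ρ : C → V →+ V) (hρ : ∀ c d, (∀ v, ρ c v = ρ d v) → c = d) (hc : ∀ c v, ρ c (g v) = g (ρ c v)) :
    Nat.card C ≤ 256 := by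
  obtain ⟨v0, hv0, hv0'⟩ : ∃ v0 ∈ (Nm g).ker, v0 ≠ 0 := by
    have h3 := card_ker_Nm h5 h2 hV hne
    have h4 : (Nm g).ker ≠ ⊥ := by
      rw [← AddSubgroup.one_lt_card_iff_ne_bot, h3]
      norm_num
    obtain ⟨v, hv⟩ := AddSubgroup.ne_bot_iff_exists_ne_zero.1 h4
    exact ⟨v, v.2, fun h => hv (Subtype.ext h)⟩
  have h3 := card_fix h5 hV hne
  obtain ⟨a, b, ha, hb, ha0, hb0, hab⟩ : ∃ a b, g a = a ∧ g b = b ∧ a ≠ 0 ∧ b ≠ 0 ∧ a ≠ b := by
    obtain ⟨a, ha, b, hb, ha0, hb0, hab, -, -⟩ := exists_fix_two h5 (Fx g) (fun v hv => by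
      rw [mem_Fx] at hv ⊢
      rw [hv, hv]) (Or.inl h3)
    exact ⟨a, b, ha, hb, ha0, hb0, hab⟩
  have hk : ∀ c, ∀ v ∈ (Nm g).ker, ρ c v ∈ (Nm g).ker := by
    intro c v hv
    rw [AddMonoidHom.mem_ker, Nm_apply] at hv ⊢
    rw [← hc, ← hc, ← hc, ← hc, ← map_add, ← map_add, ← map_add, ← map_add, hv, map_zero]
  have hf : ∀ c, ∀ v ∈ Fx g, ρ c v ∈ Fx g := by
    intro c v hv
    rw [mem_Fx] at hv ⊢
    rw [← hc, hv]
  let F : C → (Nm g).ker × Fx g × Fx g := fun c => (⟨ρ c v0, hk c v0 hv0⟩, ⟨ρ c a, hf c a ha⟩, ⟨ρ c b, hf c b hb⟩)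
  have hF : Function.Injective F := by
    intro c d h
    apply hρ
    have e0 : ρ c v0 = ρ d v0 := congrArg (fun x => (x.1 : V)) h
    have e1 : ρ c a = ρ d a := congrArg (fun x => (x.2.1 : V)) h
    have e2 : ρ c b = ρ d b := congrArg (fun x => (x.2.2 : V)) h
    exact ext_three h5 h2 hV hne hv0 hv0' ha hb ha0 hb0 hab (hc c) (hc d) e0 e1 e2
  have h4 := Nat.card_le_card_of_injective F hF
  rw [Nat.card_prod, Nat.card_prod, card_ker_Nm h5 h2 hV hne, h3] at h4
  exact h4

end

end Cfsg.Agent.CpAutCoThreeFive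

end

-- merged: Cfsg.Agent.CpAutCoThreeFive.Sp
section

/-!
# Elements of order five of `2.Sp₆(2)`

`G` a group, `t ∈ G`, `C(t)` the non-split double cover of `Sp₆(2)` (`N : NS (tC t) π`), `x ∈ C(t)` of order 5.
Then `t` is the only involution of `C(t) ∩ C(x)`, and `C(t) ∩ C(x)` is solvable.
-/

set_option autoImplicit false

namespace Cfsg.Agent.CpAutCoThreeFive

open Cfsg.Agent.SporRec.TwoSp6.Cox Cfsg.Agent.SporRec.TwoSp6.Sp Cfsg.Agent.SporRec.TwoSp6.Lift
  Cfsg.Agent.SporRec.TwoSp6.Main Cfsg.Agent.SporRec.TwoSp6.Invol Cfsg.Agent.SporRec.TwoSp6.CInvol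
open Cfsg.Agent.SporRec.Co3.Fusion (tC mem_cent t_sq t_ne)
open Cfsg.Agent.SigZero.CoThreeA (card_V)

/-- the natural representation -/
def na (g : S) : V →+ V := AddMonoidHom.mk' (act g) (act_add g)

theorem na_apply (g : S) (v : V) : na g v = act g v := rfl

theorem na_five {g : S} (hg : g ^ 5 = 1) (v : V) : na g (na g (na g (na g (na g v)))) = v := by
  have h1 : g * g * g * g * g = 1 := by
    rw [← hg]
    simp only [pow_succ, pow_zero, one_mul]
  rw [na_apply, na_apply, na_apply, na_apply, na_apply, ← act_mul, ← act_mul, ← act_mul, ← act_mul, h1, act_one]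

theorem na_ne {g : S} (hg : g ≠ 1) : ∃ v, na g v ≠ v := by
  by_contra hcon
  push Not at hcon
  exact hg (act_ext fun v => by rw [act_one]; exact hcon v)

/-- two different nonzero fixed vectors of an element of order 5 are not orthogonal -/
theorem om_fixed {g : S} (hg : g ^ 5 = 1) (hg1 : g ≠ 1) {a b : V} (ha : act g a = a) (hb : act g b = b) (ha0 : a ≠ 0)
    (hb0 : b ≠ 0) (hab : a ≠ b) : om a b ≠ 0 := by
  intro h
  apply hab
  refine eq_of_fix (na_five hg) card_V (na_ne hg1) (AddMonoidHom.mk' (fun v => om a v) (om_add a)) ?_ ?_ ha hb ha0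
    hb0 (om_self a) h
  · intro v
    change om a (act g v) = om a v
    conv_lhs => rw [← ha]
    exact act_om g a v
  · exact exists_om_one ha0

/-- `v ↦ v + h v` -/
def del (h : S) : V →+ V := AddMonoidHom.id V + na h

theorem del_apply (h : S) (v : V) : del h v = v + act h v := rfl

theorem add_self' (v : V) : v + v = 0 := add_self v

/-- the range of `1 + h` for an involution `h` -/
theorem card_range_le {h : S} (hh : h * h = 1) : Nat.card (del h).range ≤ 8 := by
  have h1 := (del h).ker.card_mul_index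
  rw [AddSubgroup.index_ker, card_V] at h1
  have h2 : (del h).range ≤ (del h).ker := by
    rintro _ ⟨v, rfl⟩
    rw [AddMonoidHom.mem_ker]
    change del h (v + act h v) = 0
    rw [del_apply, act_add, ← act_mul, hh, act_one, add_comm (act h v) v]
    exact add_self' _
  have h3 := AddSubgroup.card_le_of_le h2
  by_contra hcon
  have h4 : 9 ≤ Nat.card (del h).range := by omega
  have h5 := Nat.mul_le_mul (h4.trans h3) h4
  omega

/-- **No involution of type A or B of `Sp₆(2)` commutes with an element of order 5.** -/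
theorem not_comm {g h : S} (hg : g ^ 5 = 1) (hg1 : g ≠ 1) (hh : h * h = 1) (hc : g * h = h * g) {u w : V}
    (hu : u ∈ (del h).range) (hw : w ∈ (del h).range) (hu0 : u ≠ 0) (hw0 : w ≠ 0) (huw : w ≠ u) : False := by
  have h1 : Nat.card (del h).range = 4 ∨ Nat.card (del h).range = 8 := by
    have h2 := card_range_le hh
    have h3 : 2 < (((del h).range : AddSubgroup V) : Set V).ncard := by
      rw [Set.two_lt_ncard_iff (Set.toFinite _)]
      exact ⟨0, u, w, AddSubgroup.zero_mem _, hu, hw, hu0.symm, hw0.symm, huw.symm⟩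
    rw [← Nat.card_coe_set_eq] at h3
    have h4 : Nat.card (((del h).range : AddSubgroup V) : Set V) = Nat.card (del h).range := rfl
    rcases card_pow card_V (del h).range with h | h | h | h | h | h | h <;> omega
  obtain ⟨a, ⟨a', ha'⟩, b, ⟨b', hb'⟩, ha0, hb0, hab, ha, hb⟩ :=
    exists_fix_two (na_five hg) (del h).range (fun v hv => by
      obtain ⟨w, rfl⟩ := hv
      refine ⟨act g w, ?_⟩
      rw [del_apply, del_apply, na_apply, act_add, ← act_mul, ← act_mul, hc]) h1
  refine om_fixed hg hg1 ha hb ha0 hb0 hab ?_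
  rw [← hb', del_apply]
  refine om_fix hh ?_ b'
  rw [← ha', del_apply]
  exact fix_add hh a'

theorem isA_mem {h : S} {u w : V} (hu : u ≠ 0) (hw : w ≠ 0) (hne : w ≠ u) (ho : om u w = 0)
    (e : h = tr u * tr w * tr (u + w)) : u ∈ (del h).range ∧ w ∈ (del h).range := by
  have key : ∀ a, del h a = om a w • u + om a u • w := by
    intro a
    rw [del_apply, e, tr3_apply ho, ← add_assoc, add_self', zero_add]
  constructor
  · obtain ⟨a, ha, hau⟩ := exists_om_one_zero hw hne
    refine ⟨a, ?_⟩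
    rw [key, om_symm a w, ha, om_symm a u, hau, one_smul, zero_smul, add_zero]
  · obtain ⟨a, ha, haw⟩ := exists_om_one_zero hu hne.symm
    refine ⟨a, ?_⟩
    rw [key, om_symm a u, ha, om_symm a w, haw, one_smul, zero_smul, zero_add]

theorem isB_mem {h : S} {u w t : V} (hi : Ind u w t) (ho : Orth u w t) (e : h = tr u * tr w * tr t) :
    u ∈ (del h).range ∧ w ∈ (del h).range := by
  obtain ⟨o1, o2, o3⟩ := ho
  have key : ∀ a, del h a = om a t • t + om a w • w + om a u • u := by
    intro a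
    have e1 : act (tr t) a = a + om a t • t := act_tr _ _
    have e2 : ∀ b, act (tr w) b = b + om b w • w := fun b => act_tr _ _
    have e3 : ∀ b, act (tr u) b = b + om b u • u := fun b => act_tr _ _
    have f1 : om (a + om a t • t) w = om a w := by
      rw [om_add', om_smul', om_symm t w, o3, mul_zero, add_zero]
    have f2 : om (a + om a t • t + om a w • w) u = om a u := by
      rw [om_add', om_add', om_smul', om_smul', om_symm t u, om_symm w u, o1, o2, mul_zero, mul_zero, add_zero,
        add_zero]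
    rw [del_apply, e, act_mul, act_mul, e1, e2, f1, e3, f2]
    have e4 : a + (a + om a t • t + om a w • w + om a u • u) = (a + a) + (om a t • t + om a w • w + om a u • u) := by
      abel
    rw [e4, add_self', zero_add]
  have hi' := hi
  obtain ⟨i1, i2, i3, i4, i5, i6, i7⟩ := hi'
  constructor
  · -- the triple `w, t, u`
    have hi2 : Ind w t u := ⟨i2, i4, i6, i1, i3.symm, i5.symm, fun h => i7 (by
      rw [h]
      have : w + t + w = (w + w) + t := by abel
      rw [this, add_self', zero_add])⟩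
    obtain ⟨a, ha, haw, hat⟩ := exists_om_triple hi2
    refine ⟨a, ?_⟩
    rw [key, om_symm a t, hat, om_symm a w, haw, om_symm a u, ha, zero_smul, zero_smul, one_smul, zero_add, zero_add]
  · have hi2 : Ind u t w := ⟨i1, i4, i5, i2, i3, i6.symm, fun h => i7 (by
      rw [h]
      have : u + (u + t) = (u + u) + t := by abel
      rw [this, add_self', zero_add])⟩
    obtain ⟨a, ha, hau, hat⟩ := exists_om_triple hi2
    refine ⟨a, ?_⟩
    rw [key, om_symm a t, hat, om_symm a u, hau, om_symm a w, ha, zero_smul, zero_smul, one_smul, zero_add, add_zero]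

/-- **The centralizer of an element of order 5 of `Sp₆(2)` has order at most 256.** -/
theorem card_cent_le {g : S} (hg : g ^ 5 = 1) (hg1 : g ≠ 1) :
    Nat.card (Subgroup.centralizer ({g} : Set S)) ≤ 256 := by
  refine card_comm_le (na_five hg) add_self' card_V (na_ne hg1)
    (fun c : Subgroup.centralizer ({g} : Set S) => na (c : S)) ?_ ?_
  · intro c d h
    exact Subtype.ext (act_ext h)
  · intro c v
    rw [na_apply, na_apply, na_apply, na_apply, ← act_mul, ← act_mul,
      Subgroup.mem_centralizer_singleton_iff.1 c.2]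

theorem solvable_cent {g : S} (hg : g ^ 5 = 1) (hg1 : g ≠ 1) :
    Group.IsSolvable (Subgroup.centralizer ({g} : Set S)) := by
  have : Fact (Nat.Prime 5) := ⟨by norm_num⟩
  let g' : Subgroup.centralizer ({g} : Set S) := ⟨g, Subgroup.mem_centralizer_singleton_iff.2 rfl⟩
  have ho : orderOf g' = 5 := by
    rw [← Subgroup.orderOf_coe]
    exact orderOf_eq_prime hg hg1
  have hz : g' ∈ Subgroup.center (Subgroup.centralizer ({g} : Set S)) := by
    rw [Subgroup.mem_center_iff]
    intro c
    exact Subtype.ext (Subgroup.mem_centralizer_singleton_iff.1 c.2)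
  have hX : Subgroup.zpowers g' ≤ Subgroup.center _ := Subgroup.zpowers_le.2 hz
  have hn : (Subgroup.zpowers g').Normal := ⟨fun y hy c => by
    rw [Subgroup.mem_center_iff.1 (hX hy) c, mul_inv_cancel_right]; exact hy⟩
  rw [Group.isSolvable_iff_subgroup_quotient (Subgroup.zpowers g')]
  refine ⟨Group.isSolvable_of_comm fun a b => Subtype.ext (Subgroup.mem_center_iff.1 (hX b.2) a), ?_⟩
  refine BpAlt.solvable_of_lt _ _ rfl ?_
  have h1 := Subgroup.card_eq_card_quotient_mul_card_subgroup (Subgroup.zpowers g')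
  rw [Nat.card_zpowers, ho] at h1
  have h2 := card_cent_le hg hg1
  omega

section

variable {G : Type*} [Group G] {t : G} {π : Subgroup.centralizer ({t} : Set G) →* S} (N : NS (tC t) π) {x : G}
  (hx : orderOf x = 5) (hxt : x * t = t * x)

include N hx hxt

theorem map_x : π ⟨x, mem_cent.2 hxt⟩ ^ 5 = 1 ∧ π ⟨x, mem_cent.2 hxt⟩ ≠ 1 := by
  constructor
  · rw [← map_pow]
    have : (⟨x, mem_cent.2 hxt⟩ : Subgroup.centralizer ({t} : Set G)) ^ 5 = 1 := by
      apply Subtype.ext
      change x ^ 5 = 1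
      rw [← hx, pow_orderOf_eq_one]
    rw [this, map_one]
  · intro h
    rcases N.ker _ h with h1 | h1
    · have h2 : x = 1 := congrArg Subtype.val h1
      rw [h2, orderOf_one] at hx
      omega
    · have h2 : x = t := congrArg Subtype.val h1
      have h3 : x ^ 2 = 1 := by rw [pow_two, h2]; exact t_sq N
      have h4 := orderOf_dvd_of_pow_eq_one h3
      rw [hx] at h4
      omega

/-- **`t` is the only involution of `C(t) ∩ C(x)`.** -/
theorem invol_unique {y : G} (hy : y * y = 1) (hy1 : y ≠ 1) (hyt : y * t = t * y) (hyx : y * x = x * y) : y = t := by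
  by_contra hne
  obtain ⟨h5, h1⟩ := map_x N hx hxt
  set y' : Subgroup.centralizer ({t} : Set G) := ⟨y, mem_cent.2 hyt⟩ with hy'
  have e1 : y' * y' = 1 := Subtype.ext hy
  have e2 : y' ≠ 1 := fun h => hy1 (congrArg Subtype.val h)
  have e3 : y' ≠ tC t := fun h => hne (congrArg Subtype.val h)
  have hh : π y' * π y' = 1 := by rw [← map_mul, e1, map_one]
  have hc : π ⟨x, mem_cent.2 hxt⟩ * π y' = π y' * π ⟨x, mem_cent.2 hxt⟩ := by
    rw [← map_mul, ← map_mul]
    congr 1
    exact Subtype.ext hyx.symm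
  rcases N.invol e1 e2 e3 with ⟨u, w, hu, hw, hne', ho, e⟩ | ⟨u, w, s, hi, ho, e⟩
  · obtain ⟨m1, m2⟩ := isA_mem hu hw hne' ho e
    exact not_comm h5 h1 hh hc m1 m2 hu hw hne'
  · obtain ⟨m1, m2⟩ := isB_mem hi ho e
    exact not_comm h5 h1 hh hc m1 m2 hi.1 hi.2.1 hi.2.2.1

/-- **`C(t) ∩ C(x)` is solvable.** -/
theorem solvable_inf :
    Group.IsSolvable (Subgroup.centralizer ({t} : Set G) ⊓ Subgroup.centralizer ({x} : Set G) : Subgroup G) := by
  obtain ⟨h5, h1⟩ := map_x N hx hxt
  have hs := solvable_cent h5 h1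
  let D : Subgroup G := Subgroup.centralizer ({t} : Set G) ⊓ Subgroup.centralizer ({x} : Set G)
  let ι : D →* Subgroup.centralizer ({t} : Set G) := Subgroup.inclusion inf_le_left
  let f : D →* Subgroup.centralizer ({π ⟨x, mem_cent.2 hxt⟩} : Set S) := (π.comp ι).codRestrict _ (by
    intro d
    rw [Subgroup.mem_centralizer_singleton_iff]
    change π (ι d) * _ = _ * π (ι d)
    rw [← map_mul, ← map_mul]
    congr 1
    exact Subtype.ext (Subgroup.mem_centralizer_singleton_iff.1 d.2.2))
  have hk : ∀ d : D, f d = 1 → (d : G) = 1 ∨ (d : G) = t := by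
    intro d hd
    have h2 : π (ι d) = 1 := congrArg Subtype.val hd
    rcases N.ker _ h2 with h | h
    · exact Or.inl (congrArg Subtype.val h)
    · exact Or.inr (congrArg Subtype.val h)
  have hkc : f.ker ≤ Subgroup.center D := by
    intro d hd
    rw [Subgroup.mem_center_iff]
    intro c
    apply Subtype.ext
    change (c : G) * d = d * c
    rcases hk d hd with h | h
    · rw [h, one_mul, mul_one]
    · rw [h]
      exact Subgroup.mem_centralizer_singleton_iff.1 c.2.1
  have : Group.IsSolvable f.ker :=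
    Group.isSolvable_of_comm fun a b => Subtype.ext (Subgroup.mem_center_iff.1 (hkc b.2) a)
  exact Group.isSolvable_of_ker_le_range f.ker.subtype f (by rw [Subgroup.range_subtype])

end

end Cfsg.Agent.CpAutCoThreeFive

end

-- merged: Cfsg.Agent.CpAutCoThreeFive.MTw
section

/-!
# Elements of order five of `M₁₂` and of `2 × M₁₂`

The centralizer of an element of order five of `M12` has order dividing 10.
-/

set_option autoImplicit false

namespace Cfsg.Agent.CpAutCoThreeFive

open Cfsg
open Cfsg.Agent.SigZero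

/-- a finite invariant set on which a finite group acts freely has size divisible by the order -/
theorem card_dvd_of_free {H X : Type*} [Group H] [Finite H] [MulAction H X] (U : Finset X)
    (hU : ∀ h : H, ∀ x ∈ U, h • x ∈ U) (hfree : ∀ h : H, ∀ x ∈ U, h • x = x → h = 1) :
    Nat.card H ∣ U.card := by
  classical
  have := Fintype.ofFinite H
  induction hn : U.card using Nat.strong_induction_on generalizing U with
  | _ n ih =>
    subst hn
    rcases U.eq_empty_or_nonempty with rfl | ⟨x, hx⟩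
    · simp
    · set O : Finset X := Finset.univ.image (fun h : H => h • x) with hO
      have hOU : O ⊆ U := by
        intro y hy
        obtain ⟨h, -, rfl⟩ := Finset.mem_image.1 hy
        exact hU h x hx
      have hinj : Function.Injective (fun h : H => h • x) := by
        intro h k hhk
        have h1 : (k⁻¹ * h) • x = x := by
          rw [mul_smul]
          simp only at hhk
          rw [hhk, inv_smul_smul]
        have h2 := hfree _ x hx h1
        exact (inv_mul_eq_one.1 h2).symm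
      have hcardO : O.card = Nat.card H := by
        rw [hO, Finset.card_image_of_injective _ hinj, Finset.card_univ, Nat.card_eq_fintype_card]
      have hmemO : ∀ y, y ∈ O ↔ ∃ h : H, h • x = y := by
        intro y; simp [hO]
      have hxO : x ∈ O := (hmemO x).2 ⟨1, one_smul _ _⟩
      have h1 := ih (U \ O).card
        (Finset.card_lt_card (Finset.sdiff_ssubset hOU ⟨x, hxO⟩))
        (U \ O)
        (by
          intro h y hy
          rw [Finset.mem_sdiff] at hy ⊢
          refine ⟨hU h y hy.1, fun hh => hy.2 ?_⟩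
          obtain ⟨k, hk⟩ := (hmemO _).1 hh
          refine (hmemO _).2 ⟨h⁻¹ * k, ?_⟩
          rw [mul_smul, hk, inv_smul_smul])
        (fun h y hy => hfree h y (Finset.mem_sdiff.1 hy).1) rfl
      have h2 := Finset.card_sdiff_add_card_eq_card hOU
      rw [← h2, hcardO]
      exact Nat.dvd_add h1 dvd_rfl

/-- the points of the dodecad moved by `y` -/
noncomputable def Mv (y : Spor.M12) : Finset GolayPt := by
  classical
  exact CoThreeB.D.filter (fun p => (y : Equiv.Perm GolayPt) p ≠ p)

theorem mem_Mv {y : Spor.M12} {p : GolayPt} : p ∈ Mv y ↔ p ∈ CoThreeB.D ∧ (y : Equiv.Perm GolayPt) p ≠ p := by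
  classical
  exact Finset.mem_filter

theorem card_Mv {y : Spor.M12} (hy : y ≠ 1) : 8 ≤ (Mv y).card ∧ (Mv y).card ≤ 12 := by
  classical
  have h1 := Finset.card_filter_add_card_filter_not (s := CoThreeB.D) (fun p => (y : Equiv.Perm GolayPt) p = p)
  have h2 := CoThreeM12.fix_le hy
  have h3 : (Mv y).card = (CoThreeB.D.filter (fun p => ¬ (y : Equiv.Perm GolayPt) p = p)).card := by
    congr 1
  rw [CoThreeB.card_D] at h1
  rw [h3]
  constructor
  · have h4 : (CoThreeB.D.filter (fun p => (y : Equiv.Perm GolayPt) p = p)).card ≤ 4 := by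
      convert h2
    omega
  · omega

section

variable {y : Spor.M12} (hy : orderOf y = 5)

include hy

theorem y_ne : y ≠ 1 := by
  rintro rfl
  rw [orderOf_one] at hy
  omega

/-- the powers of `y` act freely -/
theorem free_zpowers {h : Spor.M12} (hh : h ∈ Subgroup.zpowers y) {p : GolayPt} (hp : p ∈ Mv y)
    (hf : (h : Equiv.Perm GolayPt) p = p) : h = 1 := by
  by_contra h1
  have h5 : Nat.Prime 5 := by norm_num
  have h2 : orderOf h = 5 := by
    have h3 : orderOf h ∣ 5 := by
      rw [← hy, ← Nat.card_zpowers y]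
      exact Subgroup.orderOf_dvd_natCard _ hh
    rcases (Nat.dvd_prime h5).1 h3 with h4 | h4
    · exact absurd (orderOf_eq_one_iff.1 h4) h1
    · exact h4
  have h6 : Subgroup.zpowers h = Subgroup.zpowers y := by
    apply Subgroup.eq_of_le_of_card_ge (Subgroup.zpowers_le.2 hh)
    rw [Nat.card_zpowers, Nat.card_zpowers, h2, hy]
  have h7 : y ∈ Subgroup.zpowers h := by
    rw [h6]
    exact Subgroup.mem_zpowers y
  apply (mem_Mv.1 hp).2
  let St : Subgroup Spor.M12 := (MulAction.stabilizer (Equiv.Perm GolayPt) p).comap Spor.M12.subtype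
  have h8 : Subgroup.zpowers h ≤ St := Subgroup.zpowers_le.2 hf
  exact h8 h7

theorem card_Mv_eq : (Mv y).card = 10 := by
  classical
  obtain ⟨h1, h2⟩ := card_Mv (y_ne hy)
  let _ : MulAction (Subgroup.zpowers y) GolayPt :=
    MulAction.compHom GolayPt ((Spor.M12.subtype).comp (Subgroup.zpowers y).subtype)
  have h3 := card_dvd_of_free (H := Subgroup.zpowers y) (Mv y) (fun h p hp => ?_) (fun h p hp hf => ?_)
  · rw [Nat.card_zpowers, hy] at h3
    omega
  · obtain ⟨m1, m2⟩ := mem_Mv.1 hp
    refine mem_Mv.2 ⟨CoThreeM12.map_D (h : Spor.M12) m1, ?_⟩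
    intro h4
    apply m2
    apply ((h : Spor.M12) : Equiv.Perm GolayPt).injective
    have h5 : (h : Spor.M12) * y = y * h := by
      obtain ⟨k, hk⟩ := h.2
      rw [← hk]
      exact (Commute.refl y).zpow_left k
    have h6 : ((h : Spor.M12) : Equiv.Perm GolayPt) ((y : Equiv.Perm GolayPt) p) =
        (y : Equiv.Perm GolayPt) (((h : Spor.M12) : Equiv.Perm GolayPt) p) := by
      rw [← Equiv.Perm.mul_apply, ← Equiv.Perm.mul_apply, ← Subgroup.coe_mul, ← Subgroup.coe_mul, h5]
    rw [h6]
    exact h4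
  · exact Subtype.ext (free_zpowers hy h.2 hp hf)

/-- **`|C(y)|` divides 10 for `y` of order 5 in `M₁₂`.** -/
theorem card_cent_dvd : Nat.card (Subgroup.centralizer ({y} : Set Spor.M12)) ∣ 10 := by
  classical
  rw [← card_Mv_eq hy]
  let C := Subgroup.centralizer ({y} : Set Spor.M12)
  let _ : MulAction C GolayPt := MulAction.compHom GolayPt ((Spor.M12.subtype).comp C.subtype)
  have hcomm : ∀ (h : C) (p : GolayPt), ((h : Spor.M12) : Equiv.Perm GolayPt) ((y : Equiv.Perm GolayPt) p) =
      (y : Equiv.Perm GolayPt) (((h : Spor.M12) : Equiv.Perm GolayPt) p) := by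
    intro h p
    rw [← Equiv.Perm.mul_apply, ← Equiv.Perm.mul_apply, ← Subgroup.coe_mul, ← Subgroup.coe_mul,
      Subgroup.mem_centralizer_singleton_iff.1 h.2]
  refine card_dvd_of_free (H := C) (Mv y) (fun h p hp => ?_) (fun h p hp hf => ?_)
  · obtain ⟨m1, m2⟩ := mem_Mv.1 hp
    refine mem_Mv.2 ⟨CoThreeM12.map_D (h : Spor.M12) m1, ?_⟩
    intro h4
    apply m2
    apply ((h : Spor.M12) : Equiv.Perm GolayPt).injective
    rw [hcomm]
    exact h4
  · by_contra h1
    have h2 : (h : Spor.M12) ≠ 1 := fun h3 => h1 (Subtype.ext h3)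
    have h3 := CoThreeM12.fix_le h2
    have : Finite (Subgroup.zpowers y) := Nat.finite_of_card_ne_zero (by rw [Nat.card_zpowers, hy]; norm_num)
    have := Fintype.ofFinite (Subgroup.zpowers y)
    let F : Subgroup.zpowers y → GolayPt := fun k => ((k : Spor.M12) : Equiv.Perm GolayPt) p
    have hF : Function.Injective F := by
      intro k l hkl
      have e1 : ((l⁻¹ * k : Subgroup.zpowers y) : Spor.M12) = 1 := by
        apply free_zpowers hy (l⁻¹ * k).2 hp
        have e2 : (((l⁻¹ * k : Subgroup.zpowers y) : Spor.M12) : Equiv.Perm GolayPt) p =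
            (((l : Spor.M12) : Equiv.Perm GolayPt))⁻¹ (((k : Spor.M12) : Equiv.Perm GolayPt) p) := rfl
        rw [e2]
        have e3 : ((k : Spor.M12) : Equiv.Perm GolayPt) p = ((l : Spor.M12) : Equiv.Perm GolayPt) p := hkl
        rw [e3]
        exact Equiv.symm_apply_apply _ _
      exact (inv_mul_eq_one.1 (Subtype.ext e1)).symm
    have h4 : Finset.univ.image F ⊆ CoThreeB.D.filter (fun p => ((h : Spor.M12) : Equiv.Perm GolayPt) p = p) := by
      intro q hq
      obtain ⟨k, -, rfl⟩ := Finset.mem_image.1 hq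
      refine Finset.mem_filter.2 ⟨CoThreeM12.map_D _ (mem_Mv.1 hp).1, ?_⟩
      have e1 : (h : Spor.M12) * k = k * h := by
        obtain ⟨n, hn⟩ := k.2
        rw [← hn]
        exact (show Commute (h : Spor.M12) y from Subgroup.mem_centralizer_singleton_iff.1 h.2).zpow_right n
      have e2 : ((h : Spor.M12) : Equiv.Perm GolayPt) (((k : Spor.M12) : Equiv.Perm GolayPt) p) =
          ((k : Spor.M12) : Equiv.Perm GolayPt) (((h : Spor.M12) : Equiv.Perm GolayPt) p) := by
        rw [← Equiv.Perm.mul_apply, ← Equiv.Perm.mul_apply, ← Subgroup.coe_mul, ← Subgroup.coe_mul, e1]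
      change ((h : Spor.M12) : Equiv.Perm GolayPt) (((k : Spor.M12) : Equiv.Perm GolayPt) p) =
        ((k : Spor.M12) : Equiv.Perm GolayPt) p
      rw [e2]
      congr 1
    have h5 := Finset.card_le_card h4
    rw [Finset.card_image_of_injective _ hF, Finset.card_univ, ← Nat.card_eq_fintype_card, Nat.card_zpowers, hy] at h5
    have h6 : (CoThreeB.D.filter (fun p => ((h : Spor.M12) : Equiv.Perm GolayPt) p = p)).card ≤ 4 := by
      convert h3
    omega

end

end Cfsg.Agent.CpAutCoThreeFive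

end

-- merged: Cfsg.Agent.CpAutCoThreeFive.Row
section

/-!
# S1814, the row of the third Conway group at `p = 5` (helper69)

`x` of order 5 in `Co₃`, `t` an involution commuting with `x`.  Either `C(t) = 2.Sp₆(2)`, and `t` is the only involution
of the solvable group `C(t) ∩ C(x)`, or `C(t)` is a central extension of `M₁₂` by `⟨t⟩`, and `|C(t) ∩ C(x)|` divides 20.
The main lemma of `CpAut.SmallP` gives the components of `C(x) / O_{5'}(C(x))`.
-/

set_option autoImplicit false

namespace Cfsg.Agent.CpAutCoThreeFive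

open Subgroup Cfsg
open Cfsg.Agent.SporRec.Co3.Chain (G3 isCo3_G3)
open Cfsg.Agent.SporRec.Co3.Ident (Z)
open Cfsg.Agent.SporRec.Co3.Fusion (tC mem_cent)
open Cfsg.Agent.CpAut.SmallP (DD mem_DD Ok ok_of_isConj card_DD_dvd main_ok)
open Cfsg.Agent.SigZero

theorem finite_G3 : Finite G3 := Nat.finite_of_card_ne_zero (by rw [isCo3_G3.2]; norm_num)

/-- `w` with a homomorphism `C(w) → M12` with kernel `⟨w⟩` -/
theorem exists_w : ∃ w : G3, w * w = 1 ∧ w ≠ 1 ∧ Nat.card (Subgroup.centralizer ({w} : Set G3)) ≤ 2 * 95040 ∧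
    ∃ f : Subgroup.centralizer ({w} : Set G3) →* Spor.M12, ∀ g, f g = 1 → g = 1 ∨ (g : G3) = w := by
  obtain ⟨e⟩ := CoThree.exists_equiv
  have hm : ∀ g ∈ Subgroup.centralizer ({e CoThreeB.wK} : Set G3), e.symm g ∈ CoThreeB.C := by
    intro g hg
    rw [CoThreeB.mem_C]
    apply e.injective
    rw [map_mul, map_mul, e.apply_symm_apply]
    exact Subgroup.mem_centralizer_singleton_iff.1 hg
  let k : Subgroup.centralizer ({e CoThreeB.wK} : Set G3) →* CoThreeB.C :=
    (e.symm.toMonoidHom.comp (Subgroup.subtype _)).codRestrict _ (fun g => hm g g.2)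
  refine ⟨e CoThreeB.wK, ?_, ?_, ?_, CoThreeB.proj.comp k, ?_⟩
  · rw [← map_mul, CoThreeB.wK_sq, map_one]
  · intro h
    exact CoThreeB.wK_ne ((map_eq_one_iff e e.injective).1 h)
  · refine le_trans (le_of_eq ?_) CoThree.card_C_le
    refine Nat.card_congr (Equiv.symm ?_)
    refine ⟨fun g => ⟨e g, ?_⟩, fun g => ⟨e.symm g, ?_⟩, fun g => ?_, fun g => ?_⟩
    · have := CoThreeB.mem_C.1 g.2
      rw [Subgroup.mem_centralizer_singleton_iff, ← map_mul, ← map_mul, this]
    · exact hm g g.2
    · exact Subtype.ext (e.symm_apply_apply _)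
    · exact Subtype.ext (e.apply_symm_apply _)
  · intro g hg
    rcases CoThreeB.ker_proj (g := k g) hg with h | h
    · left
      have h1 : e.symm (g : G3) = 1 := congrArg Subtype.val h
      apply Subtype.ext
      rw [← e.apply_symm_apply (g : G3), h1, map_one]
      rfl
    · right
      have h1 : e.symm (g : G3) = CoThreeB.wK := h
      exact (e.symm_apply_eq.1 h1)

section

variable {G : Type*} [Group G] [Finite G]

/-- **The class of `M₁₂` type.** -/
theorem card_dvd_twenty {w : G} (hw : w * w = 1) (f : Subgroup.centralizer ({w} : Set G) →* Spor.M12)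
    (hf : ∀ g, f g = 1 → g = 1 ∨ (g : G) = w) {x : G} (hx : orderOf x = 5) (hxw : w * x = x * w) :
    Nat.card ↥(DD x w) ∣ 4 * 5 := by
  have hxm : x ∈ Subgroup.centralizer ({w} : Set G) := Subgroup.mem_centralizer_singleton_iff.2 hxw.symm
  have : Finite Spor.M12 := inferInstance
  have h1 := card_DD_dvd (Y := Spor.M12) hxm f ⊤ le_top
  have ho : orderOf (f ⟨x, hxm⟩) = 5 := by
    have h5 : Nat.Prime 5 := by norm_num
    have : Fact (Nat.Prime 5) := ⟨h5⟩
    apply orderOf_eq_prime
    · rw [← map_pow]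
      have : (⟨x, hxm⟩ : Subgroup.centralizer ({w} : Set G)) ^ 5 = 1 := by
        apply Subtype.ext
        change x ^ 5 = 1
        rw [← hx, pow_orderOf_eq_one]
      rw [this, map_one]
    · intro h
      rcases hf _ h with h2 | h2
      · have h3 : x = 1 := congrArg Subtype.val h2
        rw [h3, orderOf_one] at hx
        omega
      · have h2' : x = w := h2
        have h3 : x ^ 2 = 1 := by rw [pow_two, h2', hw]
        have h4 := orderOf_dvd_of_pow_eq_one h3
        rw [hx] at h4
        omega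
  have h2 : Nat.card ↥(centralizer ({f ⟨x, hxm⟩} : Set Spor.M12) ⊓ ⊤ : Subgroup Spor.M12) ∣ 10 := by
    rw [inf_top_eq]
    exact card_cent_dvd ho
  have h3 : Nat.card ↥(f.ker ⊓ centralizer ({(⟨x, hxm⟩ : ↥(centralizer ({w} : Set G)))} : Set _)) ∣ 2 := by
    have h4 : f.ker ⊓ centralizer ({(⟨x, hxm⟩ : ↥(centralizer ({w} : Set G)))} : Set _) ≤
        zpowers (⟨w, Subgroup.mem_centralizer_singleton_iff.2 rfl⟩ : ↥(centralizer ({w} : Set G))) := by
      intro g hg
      rcases hf g hg.1 with h | h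
      · rw [h]
        exact one_mem _
      · have : g = ⟨w, Subgroup.mem_centralizer_singleton_iff.2 rfl⟩ := Subtype.ext h
        rw [this]
        exact mem_zpowers _
    refine (Subgroup.card_dvd_of_le h4).trans ?_
    rw [Nat.card_zpowers]
    apply orderOf_dvd_of_pow_eq_one
    apply Subtype.ext
    change w ^ 2 = 1
    rw [pow_two, hw]
  exact h1.trans ((Nat.mul_dvd_mul h3 h2).trans (by norm_num))

end

/-- the condition of the main lemma -/
theorem ok (t : G3) (ht : t * t = 1) (ht1 : t ≠ 1) (x : G3) (hx : orderOf x = 5) (htx : t * x = x * t) : Ok 5 x t := by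
  have hfin := finite_G3
  obtain ⟨w, hw2, hw1, hwc, f, hf⟩ := exists_w
  obtain ⟨π, N⟩ := KFacts.Co3D4.exists_NS_G3
  rcases CoThree.classes hw2 hw1 hwc ht ht1 with h | h
  · refine ok_of_isConj (t := Z) (isConj_iff.2 h) (fun y hy hZy => ?_) hx htx
    left
    refine ⟨?_, ?_⟩
    · exact solvable_inf N hy hZy.symm
    · intro s hs hs2 hs1
      obtain ⟨h1, h2⟩ := mem_DD.1 hs
      exact invol_unique N hy hZy.symm hs2 hs1 h1 h2
  · refine ok_of_isConj (t := w) (isConj_iff.2 h) (fun y hy hwy => ?_) hx htx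
    right; left
    exact card_dvd_twenty hw2 f hf hy hwy

/-- **Components of the centralizers of the elements of order 5 of `Co₃`.** -/
theorem comps (x : G3) (hx : orderOf x = 5) : LThree.Comps 5 ↥(centralizer ({x} : Set G3)) := by
  have hfin := finite_G3
  exact main_ok (by norm_num) (by norm_num) ok x hx

/-- all automorphisms are inner -/
theorem autInner (p : ℕ) : CpAut.AutInner p G3 := by
  intro α _
  obtain ⟨g, hg⟩ := KFacts.Co3.Out.range_conj.ge (mem_top α)
  exact ⟨g, hg.symm⟩

theorem autInner_co3 (p : ℕ) : CpAut.AutInner p Spor.Co3 := (autInner p).congr SporRec.Co3.Model.equivCo3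

/-- the row in the model -/
theorem row_G3 : CpAut.AutC 5 G3 := by
  have hs : IsSimpleGroup G3 := isCo3_G3.1
  exact CpAut.SmallP.autC_simple (by norm_num) (autInner 5) comps

/-- **The row.** -/
theorem row : CpAut.AutC 5 Spor.Co3 := row_G3.congr SporRec.Co3.Model.equivCo3

end Cfsg.Agent.CpAutCoThreeFive

end

-- merged: Cfsg.Agent.BpSpor.CoThreeFive
section

/-!
# S1332: the row `Co3`, `p = 5`

`x` of order 5: `|C(x)|` divides `2^10 * 3 * 5^3` (`CpAutCoFive.card_dvd`), and `64` does not divide `|C(x)|`: for an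
involution `t` commuting with `x`, `|C(t) ∩ C(x)|` divides 20 (`M₁₂`), or `C(t) = 2.Sp₆(2)` and the 2-subgroups of
`C(t) ∩ C(x)` have order at most 48 (`SpFive`).
-/

set_option autoImplicit false

namespace Cfsg.Agent.BpSpor.CoThreeFive

open Subgroup Cfsg
open Cfsg.Agent.SporRec.TwoSp6.Sp (S)
open Cfsg.Agent.SporRec.TwoSp6.CInvol (NS)
open Cfsg.Agent.SporRec.Co3.Fusion (tC mem_cent)
open Cfsg.Agent.SporRec.Co3.Chain (G3 isCo3_G3)
open Cfsg.Agent.SporRec.Co3.Ident (Z)
open Cfsg.Agent.CpAutCoThreeFive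
open Cfsg.Agent.BpTab Cfsg.Agent.CpAut

section

variable {G : Type*} [Group G] [Finite G]

/-- the 2-part of `C(t) ∩ C(x)` when `C(t) = 2.Sp₆(2)` -/
theorem not_dvd_sp {t : G} {π : centralizer ({t} : Set G) →* S} (N : NS (tC t) π) {x : G} (hx : orderOf x = 5)
    (hxt : x * t = t * x) : ¬ 64 ∣ Nat.card ↥(centralizer ({t} : Set G) ⊓ centralizer ({x} : Set G)) := by
  intro hd
  have hp2 : Fact (Nat.Prime 2) := ⟨Nat.prime_two⟩
  have hp5 : Fact (Nat.Prime 5) := ⟨by norm_num⟩
  have hxm : x ∈ centralizer ({t} : Set G) := mem_centralizer_singleton_iff.2 hxt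
  obtain ⟨h5, h1⟩ := map_x N hx hxt
  have hoy : orderOf (π ⟨x, hxm⟩) = 5 := orderOf_eq_prime h5 h1
  obtain ⟨P⟩ : Nonempty (Sylow 2 ↥(centralizer ({t} : Set G) ⊓ centralizer ({x} : Set G))) := inferInstance
  have hP : 2 ^ 6 ∣ Nat.card ↥(P : Subgroup ↥(centralizer ({t} : Set G) ⊓ centralizer ({x} : Set G))) :=
    P.pow_dvd_card_of_pow_dvd_card hd
  let ρ : ↥(centralizer ({t} : Set G) ⊓ centralizer ({x} : Set G)) →* S := π.comp (Subgroup.inclusion inf_le_left)
  let g : ↥(P : Subgroup ↥(centralizer ({t} : Set G) ⊓ centralizer ({x} : Set G))) →* S :=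
    ρ.comp (Subgroup.subtype _)
  have h2 : Nat.card ↥g.range ≤ 24 := by
    refine SpFive.sp_two_group hoy g.range (P.isPGroup'.of_surjective g.rangeRestrict g.rangeRestrict_surjective) ?_
    rintro _ ⟨k, rfl⟩
    change π _ * π _ = π _ * π _
    rw [← map_mul, ← map_mul]
    congr 1
    apply Subtype.ext
    exact mem_centralizer_singleton_iff.1 k.1.2.2
  have h3 : Nat.card ↥g.ker ≤ 2 := by
    classical
    let j : ↥g.ker → ({1, t} : Set G) := fun k => ⟨((k : ↥(P : Subgroup ↥(centralizer ({t} : Set G) ⊓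
      centralizer ({x} : Set G)))) : G), by
        rcases N.ker _ (MonoidHom.mem_ker.1 k.2 : π _ = 1) with h | h
        · left
          exact congrArg Subtype.val h
        · right
          exact congrArg Subtype.val h⟩
    have hj : Function.Injective j := by
      intro a b hab
      have h4 := congrArg Subtype.val hab
      exact Subtype.ext (Subtype.ext (Subtype.ext h4))
    refine (Nat.card_le_card_of_injective j hj).trans ?_
    rw [Nat.card_coe_set_eq]
    exact (Set.ncard_insert_le 1 {t}).trans (by rw [Set.ncard_singleton])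
  have h4 : Nat.card ↥(P : Subgroup ↥(centralizer ({t} : Set G) ⊓ centralizer ({x} : Set G))) =
      Nat.card ↥g.ker * Nat.card ↥g.range := by
    rw [← g.ker.card_mul_index, index_ker]
  have h5 := Nat.le_of_dvd Nat.card_pos hP
  rw [h4] at h5
  have h6 := Nat.mul_le_mul h3 h2
  omega

end

/-- `64` does not divide `|C(x)|` -/
theorem not_dvd {x : G3} (hx : orderOf x = 5) : ¬ 64 ∣ Nat.card ↥(centralizer ({x} : Set G3)) := by
  have hfin := finite_G3
  obtain ⟨w, hw2, hw1, hwc, f, hf⟩ := exists_w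
  obtain ⟨π, N⟩ := KFacts.Co3D4.exists_NS_G3
  have hZ : Cen.Bd2 5 Z := fun y hy hyZ => not_dvd_sp N hy hyZ
  have hw : Cen.Bd2 5 w := by
    intro y hy hyw hd
    have h1 := card_dvd_twenty hw2 f hf hy hyw.symm
    have h2 : centralizer ({w} : Set G3) ⊓ centralizer ({y} : Set G3) = SmallP.DD y w := by
      ext a
      rw [mem_inf, mem_centralizer_singleton_iff, mem_centralizer_singleton_iff, SmallP.mem_DD]
    rw [h2] at hd
    have := Nat.le_of_dvd (by norm_num) (hd.trans h1)
    omega
  refine Cen.not_dvd_of_inv (k := 6) (by norm_num) fun t ht hxt => ?_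
  have ht2 : t * t = 1 := by rw [← pow_two, ← ht, pow_orderOf_eq_one]
  have ht1 : t ≠ 1 := by
    rintro rfl
    rw [orderOf_one] at ht
    omega
  rcases SigZero.CoThree.classes hw2 hw1 hwc ht2 ht1 with h | h
  · exact hZ.conj (isConj_iff.2 h) x hx hxt
  · exact hw.conj (isConj_iff.2 h) x hx hxt

theorem not_dvd_co3 {x : Spor.Co3} (hx : orderOf x = 5) : ¬ 64 ∣ Nat.card ↥(centralizer ({x} : Set Spor.Co3)) := by
  intro hd
  let e := SporRec.Co3.Model.equivCo3.symm
  have h1 : orderOf (e x) = 5 := (e.orderOf_eq x).trans hx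
  apply not_dvd h1
  have h2 : (centralizer ({x} : Set Spor.Co3)).map e.toMonoidHom = centralizer ({e x} : Set G3) := by
    ext y
    constructor
    · rintro ⟨a, ha, rfl⟩
      rw [mem_centralizer_singleton_iff]
      change e a * e x = e x * e a
      rw [← map_mul, ← map_mul, mem_centralizer_singleton_iff.1 ha]
    · intro hy
      refine ⟨e.symm y, ?_, e.apply_symm_apply y⟩
      rw [SetLike.mem_coe, mem_centralizer_singleton_iff]
      apply e.injective
      rw [map_mul, map_mul, e.apply_symm_apply]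
      exact mem_centralizer_singleton_iff.1 hy
  rw [← h2, card_map_of_injective e.injective]
  exact hd

theorem card_dvd {x : Spor.Co3} (hx : orderOf x = 5) :
    Nat.card ↥(centralizer ({x} : Set Spor.Co3)) ∣ 2 ^ 5 * 3 * 5 ^ 3 := by
  have hfin := CpAutCoFive.finite_co3
  let φ : Spor.Co3 →* Co0 := Subgroup.inclusion (inf_le_left : Spor.Co3 ≤ Co0)
  have hφ : Function.Injective φ := Subgroup.inclusion_injective _
  have hmem : x ∈ centralizer ({x} : Set Spor.Co3) := mem_centralizer_singleton_iff.2 rfl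
  obtain ⟨y, hy⟩ : ∃ y : ↥(centralizer ({x} : Set Spor.Co3)), (y : Spor.Co3) = x := ⟨⟨x, hmem⟩, rfl⟩
  have hoy : orderOf y = 5 := by rw [← Subgroup.orderOf_coe, hy, hx]
  have hc : ∀ g : ↥(centralizer ({x} : Set Spor.Co3)), g * y = y * g := fun g => by
    apply Subtype.ext
    rw [coe_mul, coe_mul, hy]
    exact mem_centralizer_singleton_iff.1 g.2
  have h0 : Nat.card Spor.Co3 = 495766656000 := by
    rw [← Nat.card_congr SporRec.Co3.Model.equivCo3.toEquiv, isCo3_G3.2]
  have h1 : Nat.card ↥(centralizer ({x} : Set Spor.Co3)) ∣ 2 ^ 10 * 3 * 5 ^ 3 :=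
    CpAutCoFive.card_dvd PreUniqCo.Facts.facts (φ := φ.comp (centralizer ({x} : Set Spor.Co3)).subtype)
      (hφ.comp Subtype.val_injective) PreUniqCo.Rows.leechV_ne (fun h => h.1.2.2) hoy hc (b := 7)
      ((card_subgroup_dvd_card _).trans (dvd_of_eq (by rw [h0]; norm_num)))
  have h2 := not_dvd_co3 hx
  generalize Nat.card ↥(centralizer ({x} : Set Spor.Co3)) = n at h1 h2
  have hn0 : n ≠ 0 := by
    rintro rfl
    rw [zero_dvd_iff] at h1
    norm_num at h1
  obtain ⟨k, m, hm, rfl⟩ := Nat.exists_eq_pow_mul_and_not_dvd hn0 2 (by norm_num)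
  have hk : k < 6 := by
    by_contra hcon
    apply h2
    calc 64 = 2 ^ 6 := by norm_num
      _ ∣ 2 ^ k := pow_dvd_pow 2 (by omega)
      _ ∣ 2 ^ k * m := dvd_mul_right _ _
  have h3 : m ∣ 3 * 5 ^ 3 := by
    have h4 : m ∣ 3 * 5 ^ 3 * 2 ^ 10 := by
      refine ((dvd_mul_left m (2 ^ k)).trans h1).trans (dvd_of_eq ?_)
      ring
    refine Nat.Coprime.dvd_of_dvd_mul_right ?_ h4
    exact (((Nat.Prime.coprime_iff_not_dvd Nat.prime_two).2 hm).symm).pow_right 10
  calc 2 ^ k * m ∣ 2 ^ 5 * (3 * 5 ^ 3) := mul_dvd_mul (pow_dvd_pow 2 (by omega)) h3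
    _ = 2 ^ 5 * 3 * 5 ^ 3 := by ring

end Cfsg.Agent.BpSpor.CoThreeFive

namespace Cfsg.Agent.BpSpor.Co3

open Cfsg Subgroup

/-- **the row `Co3`, `p = 5` of S1332** -/
theorem bps_five (T : OrdDiv.OrderTable.{0}) (hcl : ∀ (S : Type) [Group S] [Finite S], IsSimpleGroup S →
    IsKnownSimple' S) : BpTab.BpS 5 Spor.Co3 := by
  have hfin := CpAutCoFive.finite_co3
  have hs : IsSimpleGroup Spor.Co3 := by
    have := SporRec.Co3.Chain.isCo3_G3.1
    exact SporRec.Co3.Model.equivCo3.symm.isSimpleGroup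
  have hc : center Spor.Co3 = ⊥ := by
    refine CpAut.center_eq_bot_of_simple ?_
    intro hc
    have h1 : Nat.card Spor.Co3 = 495766656000 := by
      rw [← Nat.card_congr SporRec.Co3.Model.equivCo3.toEquiv, SporRec.Co3.Chain.isCo3_G3.2]
    let _ : CommGroup Spor.Co3 := { (inferInstance : Group Spor.Co3) with mul_comm := hc.is_comm.comm }
    have h2 : (Nat.card Spor.Co3).Prime := IsSimpleGroup.prime_card
    rw [h1] at h2
    exact absurd h2 (by norm_num)
  refine bpS_of_inner hc (CpAutCoThreeFive.autInner_co3 5) fun x hx => ?_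
  exact good_centralizer T hcl (by norm_num) hx (l := [(2, 5), (3, 1), (5, 3)]) (CoThreeFive.card_dvd hx)
    (by decide +kernel) (by decide +kernel)

end Cfsg.Agent.BpSpor.Co3

end
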