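import Cfsg.Agent.CpAutCoFive.Core
import Cfsg.Agent.PreUniqCo.FiveCo
import Cfsg.Agent.PreUniqCo.Facts

/-!
# Groups of automorphisms of the Leech lattice fixing a vector, with a central element of order three (helper25)

`not_dvd` : the order is not divisible by 25.
-/

set_option autoImplicit false

namespace Cfsg.Agent.BpSpor.CoThreeTF

open Cfsg Subgroup Module
open Cfsg.Agent.SigZeroCo2.Rank (fix mem_fix)
open Cfsg.Agent.SigZeroCo2.Lin (rep Sp rep_injective)
open Cfsg.Agent.PreUniqCo.FixBound Cfsg.Agent.PreUniqCo.LatCo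
open Cfsg.Agent.PreUniqCo.FivePair (Dims Pr U movr_comm)
open Cfsg.Agent.PreUniqCo.FiveCo (dims_five exists_gens_five)
open Cfsg.Agent.CpAutCoFive

variable {V : Type*} [AddCommGroup V] [Module ℚ V] [FiniteDimensional ℚ V]

/-- an element of order three commuting with an element of order 25 -/
theorem le_fix_twentyfive (hV : finrank ℚ V = 24) {y u : Module.End ℚ V} (hy : y ^ 25 = 1) (hu : u ^ 3 = 1)
    (hyu : Commute y u) {e : V} (he : e ≠ 0) (hye : y e = e) : mv (y ^ 5) 5 ≤ fix u := by
  have hye5 : (y ^ 5) e = e := pow_fix hye 5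
  refine mv_le_fix hV (n := 75) (q := 3) (f := y * u) (x := y ^ 5) (by norm_num) ?_ (by norm_num) ?_ hu
    (((Commute.refl y).pow_right 5).mul_left (hyu.symm.pow_right 5)) (hyu.mul_left (Commute.refl u))
    (hyu.symm.pow_right 5) ?_ he hye5
  · decide
  · rw [hyu.mul_pow, show (75 : ℕ) = 25 * 3 from rfl, pow_mul, hy, one_pow, one_mul, mul_comm 25 3, pow_mul, hu,
      one_pow]
  · intro p hp hpn v hv
    have h35 : p = 3 ∨ p = 5 := by
      have h1 : p ∣ 5 ^ 2 * 3 := by simpa using hpn
      rcases (hp.dvd_mul).1 h1 with h2 | h2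
      · exact Or.inr ((Nat.prime_dvd_prime_iff_eq hp (by norm_num)).1 (hp.dvd_of_dvd_pow h2))
      · exact Or.inl ((Nat.prime_dvd_prime_iff_eq hp Nat.prime_three).1 h2)
    rcases h35 with rfl | rfl
    · right
      rw [hyu.mul_pow, show 75 / 3 = 25 from rfl, hy, one_mul, show 25 = 3 * 8 + 1 from rfl, pow_succ, pow_mul, hu,
        one_pow, one_mul] at hv
      exact hv
    · left
      rw [hyu.mul_pow, show 75 / 5 = 5 * 3 from rfl, mul_comm 5 3, pow_mul u, hu, one_pow, mul_one, mul_comm 3 5,
        pow_mul] at hv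
      refine fix_of_coprime (a := 3) (b := 5) (by norm_num) (by norm_num) hv ?_
      rw [← pow_mul, hy]
      rfl

/-- an element of order three on a small space with an element of order five without fixed points -/
theorem small {W : Submodule ℚ V} (hW : finrank ℚ W ≤ 4) {f u : Module.End ℚ V} (hf : f ^ 5 = 1) (hu : u ^ 3 = 1)
    (hfu : Commute f u) (fW : ∀ w ∈ W, f w ∈ W) (uW : ∀ w ∈ W, u w ∈ W) (h0 : ∀ w ∈ W, f w = w → w = 0) :
    W ≤ fix u := by
  have h1 : finrank ℚ (W ⊓ mv u 3 : Submodule ℚ V) = 0 := by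
    have h2 : (15 : ℕ).totient ∣ finrank ℚ (W ⊓ mv u 3 : Submodule ℚ V) := by
      refine dvd_finrank_sub (n := 15) (by norm_num) (f := f * u) ?_ ?_ ?_
      · rw [hfu.mul_pow, show (15 : ℕ) = 5 * 3 from rfl, pow_mul, hf, one_pow, one_mul, mul_comm 5 3, pow_mul, hu,
          one_pow]
      · intro w hw
        exact ⟨fW _ (uW _ hw.1), mv_inv (hfu.mul_left (Commute.refl u)) hw.2⟩
      · intro p hp hpn v hv hv'
        have h35 : p = 3 ∨ p = 5 := by
          have h1 : p ∣ 5 * 3 := by simpa using hpn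
          rcases (hp.dvd_mul).1 h1 with h2 | h2
          · exact Or.inr ((Nat.prime_dvd_prime_iff_eq hp (by norm_num)).1 h2)
          · exact Or.inl ((Nat.prime_dvd_prime_iff_eq hp Nat.prime_three).1 h2)
        rcases h35 with rfl | rfl
        · rw [hfu.mul_pow, show 15 / 3 = 5 from rfl, hf, one_mul, show 5 = 3 + 2 from rfl, pow_add, hu, one_mul] at hv'
          exact eq_zero_of_fix (by norm_num) (fix_of_coprime (a := 2) (b := 3) (by norm_num) (by norm_num) hv'
            (by rw [hu]; rfl)) hv.2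
        · rw [hfu.mul_pow, show 15 / 5 = 3 from rfl, hu, mul_one] at hv'
          exact h0 v hv.1 (fix_of_coprime (a := 3) (b := 5) (by norm_num) (by norm_num) hv' (by rw [hf]; rfl))
    have h3 : finrank ℚ (W ⊓ mv u 3 : Submodule ℚ V) ≤ 4 := (Submodule.finrank_mono inf_le_left).trans hW
    have h4 : (15 : ℕ).totient = 8 := by decide
    rw [h4] at h2
    by_contra h5
    have := Nat.le_of_dvd (Nat.pos_of_ne_zero h5) h2
    omega
  refine le_fix_of (by norm_num) hu uW fun w hw hw' => ?_
  have h2 : w ∈ (W ⊓ mv u 3 : Submodule ℚ V) := ⟨hw, hw'⟩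
  rw [Submodule.finrank_eq_zero.1 h1, Submodule.mem_bot] at h2
  exact h2

variable {H : Type*} [Group H] [Finite H] {φ : H →* Co0} {v : leechLattice} {x : H}

/-- **`25` does not divide the order.** -/
theorem not_dvd (F : Facts) (hφ : Function.Injective φ) (hv : v ≠ 0) (hfix : ∀ h, φ h • v = v)
    (hx : orderOf x = 3) (hc : ∀ g, g * x = x * g) : ¬ 25 ∣ Nat.card H := by
  intro hd
  have h5 : Fact (Nat.Prime 5) := ⟨Nat.prime_five⟩
  obtain ⟨P, hP⟩ := Sylow.exists_subgroup_card_pow_prime 5 (n := 2) (G := H) hd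
  have ord : ∀ y, orderOf (φ y) = orderOf y := fun y => orderOf_injective φ hφ y
  have ox : orderOf (φ x) = 3 := (ord x).trans hx
  have hcm : ∀ y : H, Commute (rep (φ y)) (rep (φ x)) := by
    intro y
    have h1 : Commute y x := hc y
    exact (h1.map φ).map rep
  have he : tau v ≠ 0 := fun h => hv (tau_injective (by rw [h, map_zero]))
  have hye : ∀ y : H, rep (φ y) (tau v) = tau v := fun y => mem_fix.1 (mem_fix_tau.2 (hfix y))
  have hdim := F.dims _ ox
  by_cases h25 : ∃ y ∈ P, orderOf y = 25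
  · obtain ⟨y, -, hy⟩ := h25
    have oy : orderOf (φ y) = 25 := (ord y).trans hy
    have h1 : mv (rep (φ y) ^ 5) 5 ≤ fix (rep (φ x)) :=
      le_fix_twentyfive finrank_Sp (rep_pow_one oy) (rep_pow_one ox) (hcm y) he (hye y)
    have h2 := Submodule.finrank_mono h1
    have oy5 : orderOf (φ y ^ 5) = 5 := by
      rw [orderOf_pow_of_dvd (by norm_num) (by rw [oy]; norm_num), oy]
    have h4 := sixteen_le oy5
    rw [map_pow] at h4
    omega
  · push Not at h25
    have hel : IsElementaryAbelian 5 P := by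
      refine ⟨⟨⟨fun a b => ?_⟩⟩, fun a ha => ?_⟩
      · let _ := IsPGroup.commGroupOfCardEqPrimeSq hP
        exact mul_comm a b
      · have h1 : orderOf a ∣ 5 ^ 2 := by
          rw [← hP]
          exact Subgroup.orderOf_dvd_natCard P ha
        obtain ⟨k, hk, hk'⟩ := (Nat.dvd_prime_pow Nat.prime_five).1 h1
        have hk2 : k ≠ 2 := by
          rintro rfl
          exact h25 a ha hk'
        apply orderOf_dvd_iff_pow_eq_one.1
        rw [hk']
        calc 5 ^ k ∣ 5 ^ 1 := pow_dvd_pow 5 (by omega)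
          _ = 5 := pow_one 5
    obtain ⟨a, -, b, -, ob, oab, hab⟩ := exists_gens_five hel (by rw [hP]; norm_num)
    have oa : orderOf a = 5 := by
      have := oab 0
      rwa [pow_zero, mul_one] at this
    have hpos : ∀ y : H, finrank ℚ (fix (rep (φ y))) ≠ 0 := fun y => finrank_fix_ne_zero hv (hfix y)
    have pa : rep (φ a) ^ 5 = 1 := rep_pow_one ((ord a).trans oa)
    have pb : rep (φ b) ^ 5 = 1 := rep_pow_one ((ord b).trans ob)
    have hab' : Commute (rep (φ a)) (rep (φ b)) := (hab.map φ).map rep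
    have D : Dims (rep (φ a)) (rep (φ b)) :=
      { dV := finrank_Sp
        db := dims_five ((ord b).trans ob) (hpos b)
        dm := fun m _ => by
          rw [← map_pow, ← map_pow, ← map_mul, ← map_mul]
          exact dims_five ((ord _).trans (oab m)) (hpos _) }
    have h20 : 20 ≤ finrank ℚ (fix (rep (φ x))) := by
      refine D.le_finrank_fix pa pb hab' fun X f h u hu => ?_
      have h1 := small ((D.le pa pb hab').2 X f h) (h.pow pa pb) (rep_pow_one ox)
        (h.comm_right (hcm a) (hcm b)) (PreUniqCo.FivePair.U_inv (h.comm hab') (Commute.refl f))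
        (PreUniqCo.FivePair.U_inv (h.comm_left (hcm a) (hcm b)) (h.comm_right (hcm a) (hcm b)))
        (fun w hw hfw => eq_zero_of_fix (by norm_num) hfw hw.2)
      exact mem_fix.1 (h1 hu)
    omega

end Cfsg.Agent.BpSpor.CoThreeTF
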