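import Cfsg.Agent.CpAutCoTwo.CaseA
import Cfsg.Agent.Lib.Cores
import Cfsg.Agent.CpAutCoTwo.Lp
import Cfsg.Agent.BpSpor.Tools
import Cfsg.Agent.BpSpor.NoComp
import Cfsg.Agent.KFacts.CoTwo.Main

-- merged: Cfsg.Agent.BpSpor.CoTwoUnit
section

/-!
# `O_{3'}(C(x)) = 1` for the elements `x` of order three of `U_n(2)`

`X ∈ SU_n(2)`, `X³ = 1`, `x` its image in `PSU_n(2)`. Let `e` be an eigenvector of `X` with `(e,e) = 1`, `r` the unitary
reflection `v ↦ v + (w+1)(v,e)e` (`w² + w + 1 = 0`); it commutes with `X`, so it normalises `O = O_{3'}(C(x))`. For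
`y ∈ C(X)` with image in `O` and `u = y e` the commutator `c = y r y⁻¹ r⁻¹` has image in `O`, and
* if `(u,e) = 0`, then `c³ = 1`, `c` not a scalar;
* if `(u,e) = h ≠ 0` and `s = e + h²u ≠ 0`, then `c²` is the transvection `v ↦ v + (v,s)s`; this contradicts the first
  statement for a vector of an orthonormal basis of eigenvectors which is not orthogonal to `s`.

Hence `y` is diagonal and `y³ = 1`.
-/

set_option autoImplicit false
set_option linter.unusedSectionVars false

namespace Cfsg.Agent.BpSpor.Co2.Unit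

open Cfsg Cfsg.Agent.LieClassical.HermBasic Cfsg.Agent.LieClassical.HermSiegel
  Cfsg.Agent.LieClassical.HermGen Cfsg.Agent.ClassicalGeometry.HermOrtho Matrix Module Subgroup
open Cfsg.Agent.LThreeU7 (two_eq_zero cube_of_ne ne_zero_of_cube exists_omega)
open Cfsg.Agent.LThreeAll.Unit (Iso3)
open Cfsg.Agent.ClassicalGeometry.PSUAutCount (gm gm_mul gm_one gm_mul_inv gm_inv_mul gm_mulVec_inv gm_inv_mulVec
  herm_gm semiConj toAut toAut_pr)
open Cfsg.Agent.ClassicalGeometry.UnitAutBasic (pr pr_surjective)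
open Cfsg.Agent.ClassicalGeometry.PSUAutBasic (pr_eq_one_iff pr_eq_iff exists_scalar_of_mem_center)
open Cfsg.Agent.Schreier.PSU (act_semiConj_one)

/-! ### Automorphisms fixing `x` -/

/-- the image of `O_{p'}(C(x))` in `G` -/
def OO {G : Type*} [Group G] (p : ℕ) (x : G) : Subgroup G :=
  (pPrimeCore p ↥(centralizer ({x} : Set G))).map (centralizer ({x} : Set G)).subtype

theorem map_OO {G : Type*} [Group G] [Finite G] (p : ℕ) {x : G} {φ : MulAut G} (h : φ x = x) {g : G}
    (hg : g ∈ OO p x) : φ g ∈ OO p x := by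
  have hC : (centralizer ({x} : Set G)).map φ.toMonoidHom = centralizer {x} := by
    apply Subgroup.eq_of_le_of_card_ge
    · rintro _ ⟨c, hc, rfl⟩
      rw [SetLike.mem_coe, mem_centralizer_singleton_iff] at hc
      rw [mem_centralizer_singleton_iff]
      have h1 := congrArg φ hc
      rw [map_mul, map_mul, h] at h1
      exact h1
    · rw [Nat.card_congr ((centralizer ({x} : Set G)).equivMapOfInjective φ.toMonoidHom φ.injective).toEquiv]
  let e : ↥(centralizer ({x} : Set G)) ≃* ↥(centralizer ({x} : Set G)) :=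
    ((centralizer ({x} : Set G)).equivMapOfInjective φ.toMonoidHom φ.injective).trans (MulEquiv.subgroupCongr hC)
  obtain ⟨c, hc, rfl⟩ := hg
  have h2 := (Lib.Cores.pPrimeCore_characteristic (G := ↥(centralizer ({x} : Set G))) p).fixed e
  have h3 : e c ∈ pPrimeCore p ↥(centralizer ({x} : Set G)) := by
    have h4 : c ∈ (pPrimeCore p ↥(centralizer ({x} : Set G))).comap e.toMonoidHom := by
      rw [h2]
      exact hc
    exact h4
  exact ⟨e c, h3, rfl⟩

theorem eq_one_of_pow {G : Type*} [Group G] [Finite G] {p : ℕ} {x g : G} (hg : g ∈ OO p x) (h : g ^ p = 1) :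
    g = 1 := by
  obtain ⟨c, hc, rfl⟩ := hg
  have h1 := Lib.Cores.pPrimeCore_coprime (G := ↥(centralizer ({x} : Set G))) p
  have h2 : (⟨c, hc⟩ : ↥(pPrimeCore p ↥(centralizer ({x} : Set G)))) ^ p = 1 := by
    apply Subtype.ext
    apply Subtype.ext
    exact h
  have h3 : (⟨c, hc⟩ : ↥(pPrimeCore p ↥(centralizer ({x} : Set G)))) ^
      Nat.card ↥(pPrimeCore p ↥(centralizer ({x} : Set G))) = 1 := pow_card_eq_one'
  have h4 := pow_gcd_eq_one.mpr ⟨h3, h2⟩
  rw [h1, pow_one] at h4
  have h5 := congrArg Subtype.val h4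
  change c = 1 at h5
  rw [h5]
  rfl

/-! ### The reflection -/

variable {F : Type} [Field F] [Fintype F] {n : ℕ}

/-- the reflection `v ↦ v + (w+1)(v,e)e` -/
def rf (w : F) (e : Fin n → F) : (Fin n → F) →ₗ[F] (Fin n → F) where
  toFun v := v + ((w + 1) * hermForm n F 2 v e) • e
  map_add' u v := by
    rw [herm_add_left, mul_add, add_smul]
    abel
  map_smul' c v := by
    rw [herm_smul_left, RingHom.id_apply, smul_add, smul_smul]
    congr 2
    ring

theorem rf_apply (w : F) (e v : Fin n → F) : rf w e v = v + ((w + 1) * hermForm n F 2 v e) • e := rfl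

theorem herm_rf (hF : Fintype.card F = 2 ^ 2) {w : F} (hw : w ^ 2 + w + 1 = 0) {e : Fin n → F}
    (he : hermForm n F 2 e e = 1) (u v : Fin n → F) :
    hermForm n F 2 (rf w e u) (rf w e v) = hermForm n F 2 u v := by
  have h2 := two_eq_zero hF
  rw [rf_apply, rf_apply, herm_add_left, herm_add_right hF, herm_add_right hF, herm_smul_left, herm_smul_left,
    herm_smul_right, herm_smul_right, he, herm_swap hF v e]
  linear_combination (hermForm n F 2 u e * hermForm n F 2 v e ^ 2) * (w + 1) * hw +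
    (hermForm n F 2 u e * hermForm n F 2 v e ^ 2) * (w + 1) ^ 2 * h2

/-- the reflection as an element of `GU_n(2)` -/
theorem exists_GU_rf (hF : Fintype.card F = 2 ^ 2) {w : F} (hw : w ^ 2 + w + 1 = 0) {e : Fin n → F}
    (he : hermForm n F 2 e e = 1) : ∃ A : GU n F 2, ∀ v, gm A *ᵥ v = rf w e v := by
  obtain ⟨g, hg, hgM⟩ := exists_GU_of_isometry hF (M := LinearMap.toMatrix' (rf w e)) (by
    intro u v
    have h1 : ∀ z, (LinearMap.toMatrix' (rf w e)).mulVec z = rf w e z := fun z => LinearMap.toMatrix'_mulVec _ z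
    rw [h1, h1, herm_rf hF hw he])
  refine ⟨⟨g, hg⟩, fun v => ?_⟩
  change ((g : Matrix.GeneralLinearGroup (Fin n) F) : Matrix (Fin n) (Fin n) F) *ᵥ v = _
  rw [hgM]
  exact LinearMap.toMatrix'_mulVec _ v

/-- `(Xv, e) = a (v, e)` for an eigenvector `e` of the isometry `X` -/
theorem herm_eig (_hF : Fintype.card F = 2 ^ 2) {X : SU n F 2} {e : Fin n → F} {a : F} (ha : a ^ 3 = 1)
    (he : act X e = a • e) (v : Fin n → F) : hermForm n F 2 (act X v) e = a * hermForm n F 2 v e := by
  have h1 := herm_act X v e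
  rw [he, herm_smul_right] at h1
  linear_combination (-(hermForm n F 2 (act X v) e)) * ha + a * h1

/-- the reflection commutes with `X` -/
theorem rf_comm (hF : Fintype.card F = 2 ^ 2) {X : SU n F 2} {e : Fin n → F} {a : F} (ha : a ^ 3 = 1)
    (he : act X e = a • e) (w : F) (v : Fin n → F) : rf w e (act X v) = act X (rf w e v) := by
  rw [rf_apply, rf_apply, herm_eig hF ha he, act_add, act_smul, he, smul_smul]
  congr 2
  ring

/-! ### The commutator -/

/-- The commutator `c = y r y⁻¹ r⁻¹`. -/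
theorem exists_comm (hF : Fintype.card F = 2 ^ 2) {w : F} (hw : w ^ 2 + w + 1 = 0) {X : SU n F 2} {e : Fin n → F}
    (he : hermForm n F 2 e e = 1) {a : F} (ha : a ^ 3 = 1) (hXe : act X e = a • e) {y : SU n F 2}
    (hy : y * X = X * y) (hyO : pr n F 2 y ∈ OO 3 (pr n F 2 X)) :
    ∃ c : SU n F 2, c * X = X * c ∧ pr n F 2 c ∈ OO 3 (pr n F 2 X) ∧
      ∀ v, act c v = v + (w * hermForm n F 2 v e) • e +
        ((w + 1) * (hermForm n F 2 v (act y e) + w * hermForm n F 2 v e * hermForm n F 2 e (act y e))) • act y e := by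
  obtain ⟨A, hA⟩ := exists_GU_rf hF hw he
  have h2 := two_eq_zero hF
  -- `semiConj A 1` fixes `X`
  have hX : semiConj A 1 X = X := by
    apply ext_act
    intro v
    obtain ⟨u, rfl⟩ : ∃ u, gm A *ᵥ u = v := ⟨gm A⁻¹ *ᵥ v, gm_mulVec_inv A v⟩
    rw [act_semiConj_one, hA, hA, rf_comm hF ha hXe]
  set z := semiConj A 1 y with hz
  have hzX : z * X = X * z := by
    have h1 := congrArg (semiConj A 1) hy
    rwa [map_mul, map_mul, hX] at h1
  have hzO : pr n F 2 z ∈ OO 3 (pr n F 2 X) := by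
    have h1 : toAut A 1 (pr n F 2 X) = pr n F 2 X := by rw [toAut_pr, hX]
    have h3 := map_OO 3 h1 hyO
    rwa [toAut_pr] at h3
  refine ⟨y * z⁻¹, ?_, ?_, fun v => ?_⟩
  · have h1 : z⁻¹ * X = X * z⁻¹ := by
      rw [inv_mul_eq_iff_eq_mul, ← mul_assoc, hzX, mul_assoc, mul_inv_cancel, mul_one]
    rw [mul_assoc, h1, ← mul_assoc, hy, mul_assoc]
  · rw [map_mul, map_inv]
    exact mul_mem hyO (inv_mem hzO)
  · -- `v = r u`
    obtain ⟨u, hu⟩ : ∃ u, u = v + (w * hermForm n F 2 v e) • e := ⟨_, rfl⟩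
    have hru : gm A *ᵥ u = v := by
      rw [hA, rf_apply, hu, herm_add_left, herm_smul_left, he]
      have : (w * hermForm n F 2 v e) + (w + 1) * (hermForm n F 2 v e + w * hermForm n F 2 v e * 1) = 0 := by
        linear_combination (hermForm n F 2 v e) * hw + (hermForm n F 2 v e) * w * h2
      rw [add_assoc, ← add_smul, this, zero_smul, add_zero]
    have hzi : act z⁻¹ v = gm A *ᵥ (act y⁻¹ u) := by
      have h3 : v = act z (gm A *ᵥ (act y⁻¹ u)) := by
        rw [hz, act_semiConj_one, act_act_inv, hru]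
      nth_rw 1 [h3]
      rw [act_inv_act]
    have h5 : hermForm n F 2 (act y⁻¹ u) e = hermForm n F 2 u (act y e) := by
      rw [← herm_act y (act y⁻¹ u) e, act_act_inv]
    rw [act_mul, hzi, hA, rf_apply, act_add, act_act_inv, act_smul, h5, hu, herm_add_left, herm_smul_left]

/-- `(y e, e) ≠ 0` -/
theorem herm_ne_zero (hF : Fintype.card F = 2 ^ 2) (hn : 3 ≤ n) {w : F} (hw : w ^ 2 + w + 1 = 0) {X : SU n F 2}
    {e : Fin n → F} (he : hermForm n F 2 e e = 1) {a : F} (ha : a ^ 3 = 1) (hXe : act X e = a • e) {y : SU n F 2}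
    (hy : y * X = X * y) (hyO : pr n F 2 y ∈ OO 3 (pr n F 2 X)) : hermForm n F 2 (act y e) e ≠ 0 := by
  intro h0
  obtain ⟨c, hcX, hcO, hc⟩ := exists_comm hF hw he ha hXe hy hyO
  have h2 := two_eq_zero hF
  set u := act y e with hu
  have heu : hermForm n F 2 e u = 0 := herm_eq_zero_swap hF h0
  have huu : hermForm n F 2 u u = 1 := by rw [hu, herm_act, he]
  have hc' : ∀ v, act c v = v + (w * hermForm n F 2 v e) • e + ((w + 1) * hermForm n F 2 v u) • u := by
    intro v
    rw [hc, heu, mul_zero, add_zero]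
  have hce : ∀ v, hermForm n F 2 (act c v) e = (w + 1) * hermForm n F 2 v e := by
    intro v
    rw [hc', herm_add_left, herm_add_left, herm_smul_left, herm_smul_left, he, h0]
    ring
  have hcu : ∀ v, hermForm n F 2 (act c v) u = w * hermForm n F 2 v u := by
    intro v
    rw [hc', herm_add_left, herm_add_left, herm_smul_left, herm_smul_left, heu, huu]
    linear_combination (hermForm n F 2 v u) * h2
  have hc3 : c ^ 3 = 1 := by
    apply ext_act
    intro v
    rw [pow_succ, pow_two, act_mul, act_mul, act_one, hc' (act c (act c v)), hce, hce, hcu, hcu, hc' (act c v), hce,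
      hcu, hc' v]
    have e1 : w * hermForm n F 2 v e + w * ((w + 1) * hermForm n F 2 v e) +
        w * ((w + 1) * ((w + 1) * hermForm n F 2 v e)) = 0 := by
      linear_combination (w * hermForm n F 2 v e) * hw + (w * hermForm n F 2 v e) * (w + 1) * h2
    have e2 : (w + 1) * hermForm n F 2 v u + (w + 1) * (w * hermForm n F 2 v u) +
        (w + 1) * (w * (w * hermForm n F 2 v u)) = 0 := by
      linear_combination ((w + 1) * hermForm n F 2 v u) * hw
    calc _ = v + (w * hermForm n F 2 v e + w * ((w + 1) * hermForm n F 2 v e) +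
        w * ((w + 1) * ((w + 1) * hermForm n F 2 v e))) • e + ((w + 1) * hermForm n F 2 v u +
        (w + 1) * (w * hermForm n F 2 v u) + (w + 1) * (w * (w * hermForm n F 2 v u))) • u := by module
      _ = v := by rw [e1, e2, zero_smul, zero_smul, add_zero, add_zero]
  have hc1 : pr n F 2 c = 1 := eq_one_of_pow hcO (by rw [← map_pow, hc3, map_one])
  obtain ⟨l, -, -, hl⟩ := exists_scalar_of_mem_center hF hn (pr_eq_one_iff.1 hc1)
  have l1 : l = w + 1 := by
    have h3 := hce e
    rw [hl, herm_smul_left, he, mul_one, mul_one] at h3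
    exact h3
  have l2 : l = w := by
    have h3 := hcu u
    rw [hl, herm_smul_left, huu, mul_one, mul_one] at h3
    exact h3
  rw [l2] at l1
  have h3 : (1 : F) = 0 := by linear_combination -l1
  exact one_ne_zero h3

/-- the square of the commutator -/
theorem exists_transv (hF : Fintype.card F = 2 ^ 2) {w : F} (hw : w ^ 2 + w + 1 = 0) {X : SU n F 2}
    {e : Fin n → F} (he : hermForm n F 2 e e = 1) {a : F} (ha : a ^ 3 = 1) (hXe : act X e = a • e) {y : SU n F 2}
    (hy : y * X = X * y) (hyO : pr n F 2 y ∈ OO 3 (pr n F 2 X)) {h : F} (hh : hermForm n F 2 (act y e) e = h)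
    (h3 : h ^ 3 = 1) :
    ∃ s : Fin n → F, act y e = h • (e + s) ∧ ∃ t : SU n F 2, t * X = X * t ∧ pr n F 2 t ∈ OO 3 (pr n F 2 X) ∧
      ∀ v, act t v = v + hermForm n F 2 v s • s := by
  obtain ⟨c, hcX, hcO, hc⟩ := exists_comm hF hw he ha hXe hy hyO
  have h2 := two_eq_zero hF
  set u := act y e with hu
  have heu : hermForm n F 2 e u = h ^ 2 := by rw [herm_swap hF, hh]
  have huu : hermForm n F 2 u u = 1 := by rw [hu, herm_act, he]
  obtain ⟨s, hs⟩ : ∃ s, s = e + h ^ 2 • u := ⟨_, rfl⟩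
  have hus : u = h • (e + s) := by
    have e1 : h • (e + s) = (2 * h) • e + h ^ 3 • u := by
      rw [hs]
      module
    rw [e1, h3, one_smul, h2, zero_mul, zero_smul, zero_add]
  have hvs : ∀ v, hermForm n F 2 v s = hermForm n F 2 v e + h * hermForm n F 2 v u := by
    intro v
    rw [hs, herm_add_right hF, herm_smul_right]
    linear_combination (h * hermForm n F 2 v u) * h3
  have hvu : ∀ v, hermForm n F 2 v u = h ^ 2 * (hermForm n F 2 v s + hermForm n F 2 v e) := by
    intro v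
    rw [hvs]
    linear_combination (-(hermForm n F 2 v u)) * h3 - (h ^ 2 * hermForm n F 2 v e) * h2
  have hes : hermForm n F 2 e s = 0 := by
    rw [hvs, he, heu]
    linear_combination h3 + h2
  have hse : hermForm n F 2 s e = 0 := herm_eq_zero_swap hF hes
  have hss : hermForm n F 2 s s = 0 := by
    rw [hvs, hse, hs, herm_add_left, herm_smul_left, heu, huu]
    linear_combination (h ^ 3) * h2
  have hc' : ∀ v, act c v = v + ((w + 1) * hermForm n F 2 v s) • e +
      ((w + 1) ^ 2 * hermForm n F 2 v e + (w + 1) * hermForm n F 2 v s) • s := by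
    intro v
    rw [hc, heu, hvu]
    obtain ⟨S, hS⟩ : ∃ S, S = hermForm n F 2 v s := ⟨_, rfl⟩
    obtain ⟨E, hE⟩ : ∃ E, E = hermForm n F 2 v e := ⟨_, rfl⟩
    rw [← hS, ← hE]
    rw [hus]
    have e1 : (w + 1) * (h ^ 2 * (S + E) + w * E * h ^ 2) * h = (w + 1) ^ 2 * E + (w + 1) * S := by
      linear_combination ((w + 1) * (S + E + w * E)) * h3
    have e2 : w * E + ((w + 1) ^ 2 * E + (w + 1) * S) = (w + 1) * S := by
      linear_combination E * hw + (w * E) * h2
    rw [smul_smul, e1]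
    calc _ = v + (w * E + ((w + 1) ^ 2 * E + (w + 1) * S)) • e + ((w + 1) ^ 2 * E + (w + 1) * S) • s := by module
      _ = _ := by rw [e2]
  refine ⟨s, hus, c * c, ?_, ?_, fun v => ?_⟩
  · rw [mul_assoc, hcX, ← mul_assoc, hcX, mul_assoc]
  · rw [map_mul]
    exact mul_mem hcO hcO
  · have k1 : hermForm n F 2 (act c v) s = hermForm n F 2 v s := by
      rw [hc', herm_add_left, herm_add_left, herm_smul_left, herm_smul_left, hes, hss, mul_zero, mul_zero, add_zero,
        add_zero]
    have k2 : hermForm n F 2 (act c v) e = hermForm n F 2 v e + (w + 1) * hermForm n F 2 v s := by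
      rw [hc', herm_add_left, herm_add_left, herm_smul_left, herm_smul_left, he, hse, mul_zero, mul_one, add_zero]
    rw [act_mul, hc' (act c v), k1, k2, hc' v]
    obtain ⟨S, hS⟩ : ∃ S, S = hermForm n F 2 v s := ⟨_, rfl⟩
    obtain ⟨E, hE⟩ : ∃ E, E = hermForm n F 2 v e := ⟨_, rfl⟩
    rw [← hS, ← hE]
    have e1 : (w + 1) * S + (w + 1) * S = 0 := by linear_combination ((w + 1) * S) * h2
    have e2 : (w + 1) ^ 2 * E + (w + 1) * S + ((w + 1) ^ 2 * (E + (w + 1) * S) + (w + 1) * S) = S := by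
      linear_combination ((w + 1) ^ 2 * E + (w + 1) * S + w * (w + 1) * S) * h2 + w * S * hw
    calc _ = v + ((w + 1) * S + (w + 1) * S) • e + ((w + 1) ^ 2 * E + (w + 1) * S + ((w + 1) ^ 2 * (E + (w + 1) * S) +
        (w + 1) * S)) • s := by module
      _ = _ := by rw [e1, e2, zero_smul, add_zero]

/-- `y` is diagonal -/
theorem eig_of_mem (hF : Fintype.card F = 2 ^ 2) (hn : 3 ≤ n) {X : SU n F 2} {b : Fin n → (Fin n → F)}
    (hb : ∀ i j, hermForm n F 2 (b i) (b j) = if i = j then 1 else 0)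
    (hXb : ∀ i, ∃ a : F, a ^ 3 = 1 ∧ act X (b i) = a • b i) {y : SU n F 2}
    (hy : y * X = X * y) (hyO : pr n F 2 y ∈ OO 3 (pr n F 2 X)) (i : Fin n) :
    ∃ h : F, h ^ 3 = 1 ∧ act y (b i) = h • b i := by
  obtain ⟨w, -, -, hw⟩ := exists_omega hF
  have hbb : ∀ j, hermForm n F 2 (b j) (b j) = 1 := fun j => by rw [hb, if_pos rfl]
  obtain ⟨a, ha, hXa⟩ := hXb i
  have hne := herm_ne_zero hF hn hw (hbb i) ha hXa hy hyO
  have h3 := cube_of_ne hF hne
  obtain ⟨s, hs, t, htX, htO, ht⟩ := exists_transv hF hw (hbb i) ha hXa hy hyO rfl h3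
  refine ⟨_, h3, ?_⟩
  have hperp : ∀ j, hermForm n F 2 (b j) s = 0 := by
    intro j
    by_contra hcon
    obtain ⟨a', ha', hXa'⟩ := hXb j
    apply herm_ne_zero hF hn hw (hbb j) ha' hXa' htX htO
    rw [ht, herm_add_left, herm_smul_left, hbb, herm_swap hF (b j) s, ← pow_succ', cube_of_ne hF hcon]
    linear_combination two_eq_zero hF
  have hs0 : s = 0 := by
    apply herm_nondeg hF
    intro v
    apply herm_eq_zero_swap hF
    obtain ⟨g, hg, hgb⟩ := exists_GU_of_orthonormal hF hb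
    let P : GU n F 2 := ⟨g, hg⟩
    obtain ⟨u, rfl⟩ : ∃ u, gm P *ᵥ u = v := ⟨gm P⁻¹ *ᵥ v, gm_mulVec_inv P v⟩
    have hP : gm P *ᵥ u = ∑ i, u i • b i := hgb u
    rw [hP, herm_sum_left]
    refine Finset.sum_eq_zero fun j _ => ?_
    rw [herm_smul_left, hperp, mul_zero]
  rw [hs0, add_zero] at hs
  exact hs

/-- an element of `O_{3'}(C(x))` has a preimage commuting with `X` -/
theorem exists_lift (hF : Fintype.card F = 2 ^ 2) (hn : 3 ≤ n) {X : SU n F 2} {g : PSU n F 2}
    (hg : g ∈ OO 3 (pr n F 2 X)) : ∃ y : SU n F 2, y * X = X * y ∧ pr n F 2 y = g := by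
  have hgX : g * pr n F 2 X = pr n F 2 X * g := by
    obtain ⟨c, -, rfl⟩ := hg
    exact mem_centralizer_singleton_iff.1 c.2
  have hcop : Nat.Coprime 3 (orderOf g) := by
    rw [Nat.coprime_comm, Nat.coprime_comm, Nat.Prime.coprime_iff_not_dvd Nat.prime_three]
    rintro ⟨k, hk⟩
    have h1 : (g ^ k) ^ 3 = 1 := by
      rw [← pow_mul, mul_comm k 3, ← hk, pow_orderOf_eq_one]
    have h2 := eq_one_of_pow (pow_mem hg k) h1
    have h3 := orderOf_dvd_of_pow_eq_one h2
    have h4 : 0 < orderOf g := orderOf_pos g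
    have h5 : 0 < k := by
      rcases Nat.eq_zero_or_pos k with h | h
      · rw [h, mul_zero] at hk
        omega
      · exact h
    have h6 := Nat.le_of_dvd h5 h3
    omega
  obtain ⟨a, ha⟩ : ∃ a : ℕ, g ^ (a * 3) = g := by
    obtain ⟨a, ha⟩ := exists_pow_eq_self_of_coprime hcop
    exact ⟨a, by rw [mul_comm, pow_mul]; exact ha⟩
  obtain ⟨g0, rfl⟩ := pr_surjective (n := n) (F := F) (q := 2) g
  set k := g0 ^ a with hk
  have hkX : pr n F 2 (k * X) = pr n F 2 (X * k) := by
    rw [map_mul, map_mul, hk, map_pow]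
    exact ((Commute.pow_left (a := pr n F 2 g0) (b := pr n F 2 X) hgX a))
  obtain ⟨z, hz, hz2⟩ := ClassicalGeometry.PSUAutBasic.exists_center_mul hkX
  obtain ⟨l, -, hl, hlv⟩ := exists_scalar_of_mem_center hF hn hz
  have hz3 : z ^ 3 = 1 := by
    apply ext_act
    intro v
    rw [pow_succ, pow_two, act_mul, act_mul, act_one, hlv, hlv, hlv, smul_smul, smul_smul]
    have : l * l * l = 1 := by rw [← hl]; ring
    rw [this, one_smul]
  have hzc : ∀ v : SU n F 2, v * z = z * v := fun v => mem_center_iff.1 hz v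
  refine ⟨k ^ 3, ?_, ?_⟩
  · -- `X k = k X z`
    have e0 : X * k = k * X * z := hz2
    have e1 : X * k ^ 3 = k ^ 3 * X * z ^ 3 := by
      have s1 : X * k ^ 2 = k ^ 2 * X * z ^ 2 := by
        calc X * k ^ 2 = X * k * k := by rw [pow_two, mul_assoc]
          _ = k * X * z * k := by rw [e0]
          _ = k * (X * k) * z := by rw [mul_assoc (k * X), ← hzc, mul_assoc, mul_assoc, mul_assoc]
          _ = k ^ 2 * X * z ^ 2 := by rw [e0, pow_two, pow_two]; simp only [mul_assoc]
      calc X * k ^ 3 = X * k ^ 2 * k := by rw [pow_succ, mul_assoc]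
        _ = k ^ 2 * X * z ^ 2 * k := by rw [s1]
        _ = k ^ 2 * (X * k) * z ^ 2 := by
            have : z ^ 2 * k = k * z ^ 2 := by
              rw [pow_two, mul_assoc, ← hzc, ← mul_assoc, ← hzc, mul_assoc]
            rw [mul_assoc (k ^ 2 * X), this]
            simp only [mul_assoc]
        _ = k ^ 3 * X * z ^ 3 := by rw [e0, pow_succ k 2, pow_succ z 2, ← pow_succ z 2, pow_succ' z 2]; simp only [mul_assoc]
    rw [hz3, mul_one] at e1
    exact e1.symm
  · rw [map_pow, hk, map_pow, ← pow_mul]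
    exact ha

/-- **`O_{3'}(C(x)) = 1`.** -/
theorem OO_eq_bot (hF : Fintype.card F = 2 ^ 2) (hn : 3 ≤ n) {X : SU n F 2} (hX : ∀ v, act X (act X (act X v)) = v) :
    OO 3 (pr n F 2 X) = ⊥ := by
  rw [eq_bot_iff_forall]
  intro g hg
  obtain ⟨y, hy, rfl⟩ := exists_lift hF hn hg
  let T : (Fin n → F) →ₗ[F] (Fin n → F) := Matrix.mulVecLin (mat X)
  have hT : Iso3 T := ⟨fun u v => herm_act X u v, hX⟩
  obtain ⟨b, hb, hbe⟩ := CpAutCoTwo.Unit.exists_eigenbasis hF hT
  have hbe' : ∀ i, ∃ a : F, a ^ 3 = 1 ∧ act X (b i) = a • b i := by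
    intro i
    obtain ⟨a, ha⟩ := hbe i
    have ha' : act X (b i) = a • b i := ha
    refine ⟨a, ?_, ha'⟩
    have h1 := herm_act X (b i) (b i)
    rw [ha', herm_smul_left, herm_smul_right, hb, if_pos rfl, mul_one] at h1
    rw [← h1]
    ring
  have hdiag := eig_of_mem hF hn hb hbe' hy hg
  have hy3 : y ^ 3 = 1 := by
    apply ext_act
    intro v
    obtain ⟨g, hg, hgb⟩ := exists_GU_of_orthonormal hF hb
    let P : GU n F 2 := ⟨g, hg⟩
    obtain ⟨u, rfl⟩ : ∃ u, gm P *ᵥ u = v := ⟨gm P⁻¹ *ᵥ v, gm_mulVec_inv P v⟩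
    have hP : gm P *ᵥ u = ∑ i, u i • b i := hgb u
    rw [hP, act_sum, act_sum]
    refine Finset.sum_congr rfl fun j _ => ?_
    obtain ⟨h, h3, hj⟩ := hdiag j
    have e1 : act (y ^ 3) (b j) = b j := by
      rw [pow_succ, pow_two, act_mul, act_mul, hj, act_smul, act_smul, hj, act_smul, hj, smul_smul, smul_smul]
      have : h * h * h = 1 := by rw [← h3]; ring
      rw [this, one_smul]
    rw [act_smul, act_smul, act_one, e1]
  exact eq_one_of_pow hg (by rw [← map_pow, hy3, map_one])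

theorem core_eq_bot_of_OO {G : Type*} [Group G] {p : ℕ} {x : G} (h : OO p x = ⊥) :
    pPrimeCore p ↥(centralizer ({x} : Set G)) = ⊥ := by
  rw [OO, Subgroup.map_eq_bot_iff_of_injective _ (subtype_injective _)] at h
  exact h

/-- **`O_{3'}(C(x)) = 1` for the elements of order three of `U₆(2)`.** -/
theorem core_six (hF : Fintype.card F = 2 ^ 2) {x : PSU 6 F 2} (hx : x ^ 3 = 1) :
    pPrimeCore 3 ↥(centralizer ({x} : Set (PSU 6 F 2))) = ⊥ := by
  apply core_eq_bot_of_OO
  obtain ⟨X, rfl⟩ := pr_surjective (n := 6) (F := F) (q := 2) x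
  rw [← map_pow] at hx
  have h1 : X ^ 3 ∈ Subgroup.center (SU 6 F 2) := pr_eq_one_iff.1 hx
  obtain ⟨c, -, hc, hcv⟩ := exists_scalar_of_mem_center hF (by norm_num) h1
  have hc3 : c ^ 3 = 1 := by rw [← hc]; ring
  have hX3 : ∀ v, act X (act X (act X v)) = c • v := by
    intro v
    rw [← hcv, pow_succ, pow_two, act_mul, act_mul]
  have hc1 := CpAutCoTwo.Unit.cube_eq_one hF hc3 hX3
  exact OO_eq_bot hF (by norm_num) fun v => by rw [hX3, hc1, one_smul]

end Cfsg.Agent.BpSpor.Co2.Unit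

end

-- merged: Cfsg.Agent.BpSpor.CoTwoThree
section

/-!
# `Good 3 (C_{Co2}(x))` for the elements `x` of order three

The frame of `CpAutCoTwo`: `H = C_{Stab(v)}(x)`, `Om v x` the fixed vectors `w` of norm 32 with `(v,w) = -16`, `Pr v x`
the pairs `{w, -v-w}`. The stabilizer `D` of `w` in `H` is the centralizer of an element of order three of `U₆(2)`, so
`O_{3'}(D) = 1` (`Unit.core_six`).
* `H` preserves a pair: `|H : D| ≤ 2`;
* otherwise there are at most five pairs; if the image of `H` in `Sym(Pr)` is solvable, the pointwise stabilizer `K0` of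
  `Om` is normal with solvable quotient and `O_{3'}(K0) = 1`; if not, `|H : D|` is 5 or 10.
-/

set_option autoImplicit false

namespace Cfsg.Agent.BpSpor.Co2

open Cfsg Cfsg.Spor Cfsg.Agent.LeechMat.Core Cfsg.Agent.MonsterX.KSide Cfsg.Agent.MonsterU.Lam2
open Cfsg.Agent.SporadicA.Co0Mono (signCo0 permCo0 permCo0_smul signCo0_smul permMap signMap signCo0_mul_self)
open Cfsg.Agent.SporadicA.Co1Simple (N exists_sign_perm perm_smul_e8 sgn_smul_e8 e8_ne_neg sqNorm_e8)
open Cfsg.Agent.SporadicStructure.Co0Base (e8 e8_coe)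
open Cfsg.Agent.SigZeroCo2.Stab (mem_N_of_fix perm_of_fix perm_cube)
open Cfsg.Agent.CpAutCoTwo Cfsg.Agent.CpAutCoTwo.Setup Cfsg.Agent.CpAutCoTwo.Shape Cfsg.Agent.CpAutCoTwo.Gol
open Cfsg.Agent.CpAutCoTwo.CaseA Cfsg.Agent.CpAutCoTwo.CaseB Cfsg.Agent.BpTab
open Cfsg.Agent.SigZeroCo2.Rank Cfsg.Agent.SigZeroCo2.Lin Module Subgroup

universe u

/-! ### Transport -/

theorem core_congr {G H : Type*} [Group G] [Group H] [Finite G] [Finite H] {p : ℕ} (e : G ≃* H)
    (h : pPrimeCore p G = ⊥) : pPrimeCore p H = ⊥ := by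
  have h1 := map_core_le (p := p) (f := e.symm.toMonoidHom) e.symm.surjective
  rw [h, le_bot_iff, Subgroup.map_eq_bot_iff_of_injective _ e.symm.injective] at h1
  exact h1

theorem core_subnormal {G : Type*} [Group G] [Finite G] {p : ℕ} {N : Subgroup G} (hN : N.IsSubnormal)
    (h : pPrimeCore p G = ⊥) : pPrimeCore p ↥N = ⊥ := by
  have h1 := map_core_le_of_subnormal (p := p) hN
  rw [h, le_bot_iff, Subgroup.map_eq_bot_iff_of_injective _ N.subtype_injective] at h1
  exact h1

/-! ### The stabilizer `D` of `w` -/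

instance : Fact (Nat.Prime 3) := ⟨Nat.prime_three⟩

theorem core_D' {v : leechLattice} (hv : sqNorm (v : GolayPt → ℤ) = 32) {x : Co0} (hx : orderOf x = 3)
    (hxv : x • v = v) {w : leechLattice} (hw : w ∈ Om v x) :
    pPrimeCore 3 ↥(Hs v x ⊓ MulAction.stabilizer Co0 w) = ⊥ := by
  have := finite_Co0
  obtain ⟨F, _, _, hF⟩ := exists_field
  obtain ⟨e⟩ := S1577.result v w hv hw.1 hw.2.1 F hF
  have hxS : x ∈ MulAction.stabilizer Co0 v ⊓ MulAction.stabilizer Co0 w :=
    ⟨MulAction.mem_stabilizer_iff.2 hxv, MulAction.mem_stabilizer_iff.2 hw.2.2⟩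
  have h3 : (e ⟨x, hxS⟩) ^ 3 = 1 := by
    rw [← map_pow]
    have h4 : (⟨x, hxS⟩ : ↥(MulAction.stabilizer Co0 v ⊓ MulAction.stabilizer Co0 w)) ^ 3 = 1 :=
      Subtype.ext (by rw [Subgroup.coe_pow, ← hx, pow_orderOf_eq_one]; rfl)
    rw [h4, map_one]
  have h1 := Unit.core_six (by rw [hF]; norm_num) h3
  have h2 : pPrimeCore 3 ↥(centralizer ({⟨x, hxS⟩} :
      Set ↥(MulAction.stabilizer Co0 v ⊓ MulAction.stabilizer Co0 w))) = ⊥ := by
    have hfin : Finite (PSU 6 F 2) := Finite.of_equiv _ e.toEquiv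
    refine core_congr (G := ↥(centralizer ({e ⟨x, hxS⟩} : Set (PSU 6 F 2)))) ?_ h1
    refine ((centralizer ({e ⟨x, hxS⟩} : Set (PSU 6 F 2))).equivMapOfInjective e.symm.toMonoidHom
      e.symm.injective).trans (MulEquiv.subgroupCongr ?_)
    ext z
    constructor
    · rintro ⟨t, ht, rfl⟩
      rw [SetLike.mem_coe, mem_centralizer_singleton_iff] at ht
      rw [mem_centralizer_singleton_iff]
      have h3 := congrArg e.symm ht
      rw [map_mul, map_mul, e.symm_apply_apply] at h3
      exact h3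
    · intro hz
      rw [mem_centralizer_singleton_iff] at hz
      refine ⟨e z, ?_, e.symm_apply_apply z⟩
      rw [SetLike.mem_coe, mem_centralizer_singleton_iff, ← map_mul, hz, map_mul]
  refine core_congr (((centralizer ({⟨x, hxS⟩} : Set _)).equivMapOfInjective
    (MulAction.stabilizer Co0 v ⊓ MulAction.stabilizer Co0 w).subtype (subtype_injective _)).trans
    (MulEquiv.subgroupCongr ?_)) h2
  rw [map_centralizer, stab_eq]

/-- the stabilizer of `w` in `Hs v x` -/
def DD (v : leechLattice) (x : Co0) (w : leechLattice) : Subgroup ↥(Hs v x) :=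
  (MulAction.stabilizer Co0 w).subgroupOf (Hs v x)

theorem mem_DD {v : leechLattice} {x : Co0} {w : leechLattice} {g : ↥(Hs v x)} :
    g ∈ DD v x w ↔ (g : Co0) • w = w := MulAction.mem_stabilizer_iff

theorem core_DD {v : leechLattice} (hv : sqNorm (v : GolayPt → ℤ) = 32) {x : Co0} (hx : orderOf x = 3)
    (hxv : x • v = v) {w : leechLattice} (hw : w ∈ Om v x) : pPrimeCore 3 ↥(DD v x w) = ⊥ := by
  have := finite_Co0
  refine core_congr (((DD v x w).equivMapOfInjective (Hs v x).subtype (subtype_injective _)).trans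
    (MulEquiv.subgroupCongr ?_)).symm (core_D' hv hx hxv hw)
  unfold DD
  rw [subgroupOf_map_subtype, inf_comm]

/-! ### Case A -/

/-- If `Hs v x` preserves a pair `{w, -v-w}`. -/
theorem good_of_pair {v : leechLattice} {x : Co0} (hv : sqNorm (v : GolayPt → ℤ) = 32) (hx : orderOf x = 3)
    (hxv : x • v = v) {w : leechLattice} (hw : w ∈ Om v x)
    (hinv : ∀ g ∈ Hs v x, g • w = w ∨ g • w = bar v w) : Good 3 ↥(Hs v x) := by
  have := finite_Co0
  have hDn : (DD v x w).Normal := by
    refine ⟨fun k hk g => ?_⟩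
    rw [mem_DD] at hk ⊢
    have hkv : (k : Co0) • v = v := (mem_Hs.1 k.2).1
    have h2 : (k : Co0) • (((g⁻¹ : ↥(Hs v x)) : Co0) • w) = ((g⁻¹ : ↥(Hs v x)) : Co0) • w := by
      rcases hinv _ (g⁻¹).2 with h | h
      · rw [h, hk]
      · rw [h, smul_bar hkv, hk]
    change ((g : Co0) * (k : Co0) * ((g⁻¹ : ↥(Hs v x)) : Co0)) • w = w
    rw [mul_smul, mul_smul, h2, ← mul_smul]
    change ((g : Co0) * (g : Co0)⁻¹) • w = w
    rw [mul_inv_cancel, one_smul]
  refine Good.of_solvable_quotient (N := DD v x w) (good_of_core (core_DD hv hx hxv hw)) ?_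
  refine Group.isSolvable_of_comm fun a b => ?_
  obtain ⟨a, rfl⟩ := QuotientGroup.mk_surjective a
  obtain ⟨b, rfl⟩ := QuotientGroup.mk_surjective b
  rw [← QuotientGroup.mk_mul, ← QuotientGroup.mk_mul, QuotientGroup.eq, mem_DD]
  have hav : (a : Co0) • v = v := (mem_Hs.1 a.2).1
  have hbv : (b : Co0) • v = v := (mem_Hs.1 b.2).1
  change (((a : Co0) * (b : Co0))⁻¹ * ((b : Co0) * (a : Co0))) • w = w
  rw [mul_smul, inv_smul_eq_iff, mul_smul, mul_smul]
  rcases hinv _ a.2 with ha | ha <;> rcases hinv _ b.2 with hb | hb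
  · rw [ha, hb, ha]
  · rw [ha, hb, smul_bar hav, ha]
  · rw [ha, hb, ha, smul_bar hbv, hb]
  · rw [ha, hb, smul_bar hav, smul_bar hbv, ha, hb]

/-- **Case A, standard form.** -/
theorem good_std {σ : M24} {a b : GolayPt} (ha : (σ : Equiv.Perm GolayPt) a = a) (hb : (σ : Equiv.Perm GolayPt) b = b)
    (hab : a ≠ b)
    (h3 : ∀ x, (σ : Equiv.Perm GolayPt) ((σ : Equiv.Perm GolayPt) ((σ : Equiv.Perm GolayPt) x)) = x)
    (hσ1 : (σ : Equiv.Perm GolayPt) ≠ 1) (hx : orderOf (permCo0 σ) = 3) : Good 3 ↥(Hs (vz a b) (permCo0 σ)) := by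
  obtain ⟨A, B, S⟩ := exists_special σ.2 h3 hσ1 ha hb hab
  have h6 := card_Fx h3 σ.2 hσ1 ha
  refine good_of_pair (norm_vz hab) hx (smul_vz ha hb) (wz_mem_Om S ha hb hab) fun g hg => ?_
  exact eq_of_mem_Sz S ha hb hab h3 h6 (smul_Sz hg (wz_mem_Sz S ha hb hab h3))

/-! ### Case B -/

section

variable {v : leechLattice} {x : Co0}

theorem core_K0 (hv : sqNorm (v : GolayPt → ℤ) = 32) (hx : orderOf x = 3) (hxv : x • v = v) {w : leechLattice}
    (hw : w ∈ Om v x) : pPrimeCore 3 ↥(K0 v x) = ⊥ := by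
  have := finite_Co0
  have hle : K0 v x ≤ DD v x w := fun k hk => mem_DD.2 (hk w hw)
  have hn : ((K0 v x).subgroupOf (DD v x w)).Normal := inferInstance
  exact core_congr (subgroupOfEquivOfLe hle) (core_subnormal hn.isSubnormal (core_DD hv hx hxv hw))

theorem good_ker (hv : sqNorm (v : GolayPt → ℤ) = 32) (hx : orderOf x = 3) (hxv : x • v = v) {w : leechLattice}
    (hw : w ∈ Om v x) : Good 3 ↥(MulAction.toPermHom ↥(Hs v x) (Pr v x)).ker := by
  have := finite_Co0
  set N := (MulAction.toPermHom ↥(Hs v x) (Pr v x)).ker with hN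
  have hn : ((K0 v x).subgroupOf N).Normal := inferInstance
  refine Good.of_solvable_quotient (N := (K0 v x).subgroupOf N) ?_ ?_
  · exact (good_of_core (core_congr (subgroupOfEquivOfLe k0_le_ker).symm (core_K0 hv hx hxv hw)))
  · refine Group.isSolvable_of_comm fun a b => ?_
    obtain ⟨a, rfl⟩ := QuotientGroup.mk_surjective a
    obtain ⟨b, rfl⟩ := QuotientGroup.mk_surjective b
    rw [← QuotientGroup.mk_mul, ← QuotientGroup.mk_mul, QuotientGroup.eq, mem_subgroupOf, mem_K0]
    intro u hu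
    have hav : ((a : ↥(Hs v x)) : Co0) • v = v := (mem_Hs.1 (a : ↥(Hs v x)).2).1
    have hbv : ((b : ↥(Hs v x)) : Co0) • v = v := (mem_Hs.1 (b : ↥(Hs v x)).2).1
    change ((((a : ↥(Hs v x)) : Co0) * ((b : ↥(Hs v x)) : Co0))⁻¹ * (((b : ↥(Hs v x)) : Co0) * ((a : ↥(Hs v x)) : Co0))) • u = u
    rw [mul_smul, inv_smul_eq_iff, mul_smul, mul_smul]
    rcases ker_cases a.2 hu with ha | ha <;> rcases ker_cases b.2 hu with hb | hb
    · rw [ha, hb, ha]
    · rw [ha, hb, smul_bar hav, ha]
    · rw [ha, hb, ha, smul_bar hbv, hb]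
    · rw [ha, hb, smul_bar hav, smul_bar hbv, ha, hb]

/-- a group acting with an element of order five on five points is transitive -/
theorem pretransitive_of_five {H Q : Type*} [Group H] [MulAction H Q] [Finite Q] (hQ : Nat.card Q = 5) {f : H}
    (hf : orderOf (MulAction.toPermHom H Q f) = 5) : MulAction.IsPretransitive H Q := by
  classical
  let _ : Fintype Q := Fintype.ofFinite Q
  rw [Nat.card_eq_fintype_card] at hQ
  have h1 : (MulAction.toPermHom H Q f).IsCycle := by
    apply Equiv.Perm.isCycle_of_prime_order''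
    · rw [hQ]; norm_num
    · rw [hQ, hf]
  have h2 : (MulAction.toPermHom H Q f).support = Finset.univ := by
    apply Finset.eq_univ_of_card
    rw [← h1.orderOf, hf, hQ]
  refine ⟨fun a b => ?_⟩
  have h3 : ∀ a : Q, MulAction.toPermHom H Q f a ≠ a := by
    intro a
    rw [← Equiv.Perm.mem_support, h2]
    exact Finset.mem_univ a
  obtain ⟨i, hi⟩ := h1.exists_zpow_eq (h3 a) (h3 b)
  refine ⟨f ^ i, ?_⟩
  rw [← map_zpow] at hi
  exact hi

theorem index_DD_le {w : leechLattice} (s0 : Pr v x) (hs0 : s0.1 = {w, bar v w}) :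
    (DD v x w).relIndex (MulAction.stabilizer ↥(Hs v x) s0) ≤ 2 := by
  have hfin := finite_Co0
  set S := MulAction.stabilizer ↥(Hs v x) s0 with hS
  have hcase : ∀ g ∈ S, (g : Co0) • w = w ∨ (g : Co0) • w = bar v w := by
    intro g hg
    have h1 : g • s0 = s0 := hg
    have h3 := congrArg Subtype.val h1
    rw [smul_val, hs0] at h3
    have h4 : (g : Co0) • w ∈ (fun u => (g : Co0) • u) '' ({w, bar v w} : Set leechLattice) := ⟨w, Or.inl rfl, rfl⟩
    rw [h3] at h4
    exact h4
  have h5 : (DD v x w).subgroupOf S = MulAction.stabilizer ↥S w := by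
    ext g
    rw [mem_subgroupOf, mem_DD, MulAction.mem_stabilizer_iff]
    rfl
  rw [relIndex, h5, MulAction.index_stabilizer]
  have h6 : MulAction.orbit ↥S w ⊆ {w, bar v w} := by
    rintro _ ⟨g, rfl⟩
    exact hcase g g.2
  exact (Set.ncard_le_ncard h6 (Set.toFinite _)).trans (Set.ncard_insert_le _ _ |>.trans (by rw [Set.ncard_singleton]))

/-- **Case B.** -/
theorem good_B (hv : sqNorm (v : GolayPt → ℤ) = 32) (hx : orderOf x = 3) (hxv : x • v = v)
    (hno : ∀ u : leechLattice, sqNorm (u : GolayPt → ℤ) = 64 → x • u ≠ u) : Good 3 ↥(Hs v x) := by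
  have hfin := finite_Co0
  have hx3 : x * x * x = 1 := by
    have h1 : x ^ 3 = 1 := by rw [← hx, pow_orderOf_eq_one]
    rw [pow_succ, pow_two] at h1
    exact h1
  obtain ⟨w, hw⟩ := om_nonempty hv hx3 hxv
  have hQf := finite_Pr (x := x) hv
  have hfixx : ∀ g : Co0, ∀ u : leechLattice, g • u = u → toV u ∈ fix (rep g) := fun g u hu => by
    rw [mem_fix, rep_toV, hu]
  have hQ : Nat.card (Pr v x) ≤ 5 := by
    have h1 := card_Pr_le hv hxv hno (W := fix (rep x)) (hfixx x v hxv) (fun u hu => hfixx x u hu.2.2)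
    have h2 := Rank7.rank_le_six hx3 hv hxv hno
    omega
  set θ := MulAction.toPermHom ↥(Hs v x) (Pr v x) with hθ
  by_cases h24 : Nat.card ↥θ.range ∣ 24
  · -- the image is solvable
    have hs : Group.IsSolvable ↥θ.range := Frame.solvable_24 h24
    refine Good.of_solvable_quotient (N := θ.ker) (good_ker hv hx hxv hw) ?_
    exact Group.isSolvable_of_isSolvable_injective (f := (QuotientGroup.quotientKerEquivRange θ).toMonoidHom)
      (QuotientGroup.quotientKerEquivRange θ).injective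
  have hdvd : Nat.card θ.range ∣ (Nat.card (Pr v x)).factorial := by
    have h2 := card_subgroup_dvd_card θ.range
    rwa [Nat.card_perm] at h2
  have hQ5 : Nat.card (Pr v x) = 5 := by
    by_contra hne
    apply h24
    have h2 : Nat.card (Pr v x) ≤ 4 := by omega
    have h3 : (Nat.card (Pr v x)).factorial ∣ (4).factorial := Nat.factorial_dvd_factorial h2
    exact hdvd.trans h3
  have h5 : 5 ∣ Nat.card θ.range := by
    by_contra hne
    apply h24
    rw [hQ5] at hdvd
    have h3 : (5).factorial = 5 * 24 := by decide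
    rw [h3] at hdvd
    exact (Nat.Coprime.dvd_of_dvd_mul_left ((Nat.Prime.coprime_iff_not_dvd (by norm_num)).2 hne).symm hdvd)
  have : Fact (Nat.Prime 5) := ⟨by norm_num⟩
  obtain ⟨⟨_, f, rfl⟩, hf⟩ := exists_prime_orderOf_dvd_card' 5 h5
  have hf' : orderOf (θ f) = 5 := by
    rw [← hf]
    exact (Subgroup.orderOf_mk _ _).symm
  have htr := pretransitive_of_five hQ5 hf'
  let s0 : Pr v x := ⟨{w, bar v w}, w, hw, rfl⟩
  have hi1 : (MulAction.stabilizer ↥(Hs v x) s0).index = 5 := by
    rw [MulAction.index_stabilizer_of_transitive, hQ5]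
  have hi2 := index_DD_le s0 rfl
  have hle : DD v x w ≤ MulAction.stabilizer ↥(Hs v x) s0 := by
    intro g hg
    rw [mem_DD] at hg
    have hgv : (g : Co0) • v = v := (mem_Hs.1 g.2).1
    rw [MulAction.mem_stabilizer_iff]
    apply Subtype.ext
    rw [smul_val]
    change (fun u => (g : Co0) • u) '' {w, bar v w} = {w, bar v w}
    rw [Set.image_pair, smul_bar hgv, hg]
  have hi3 : (DD v x w).index = (DD v x w).relIndex (MulAction.stabilizer ↥(Hs v x) s0) * 5 := by
    rw [← hi1, relIndex_mul_index hle]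
  refine good_of_index_sq (core_DD hv hx hxv hw) fun r hr _ hd => ?_
  have hi4 : (DD v x w).index ≠ 0 := index_ne_zero_of_finite
  set m := (DD v x w).relIndex (MulAction.stabilizer ↥(Hs v x) s0) with hm
  have hm0 : m ≠ 0 := by
    rintro h
    rw [h, zero_mul] at hi3
    exact hi4 hi3
  rw [hi3] at hd
  have hm12 : m = 1 ∨ m = 2 := by omega
  have hle10 : m * 5 ≤ 10 := by omega
  have hr3 : r ≤ 3 := by
    have h6 := Nat.le_of_dvd (by omega) hd
    by_contra hcon
    have h7 : 4 ≤ r := by omega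
    have h8 : 4 ^ 2 ≤ r ^ 2 := Nat.pow_le_pow_left h7 2
    omega
  have hr2 := hr.two_le
  rcases hm12 with h | h <;> rw [h] at hd <;> interval_cases r <;> omega

end

/-! ### The general case -/

theorem good_conj {v : leechLattice} {x : Co0} (k : Co0) (h : Good 3 ↥(Hs (k • v) (k * x * k⁻¹))) :
    Good 3 ↥(Hs v x) := by
  have := finite_Co0
  refine h.congr (((Hs v x).equivMapOfInjective (MulAut.conj k).toMonoidHom (MulAut.conj k).injective).trans
    (MulEquiv.subgroupCongr ?_)).symm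
  exact Lp.map_Hs v x k

/-- `x` fixes `8 e_a` and `8 e_b` -/
theorem good_mono {x : Co0} (hx : orderOf x = 3) {a b : GolayPt} (hab : a ≠ b) (ha : x • e8 a = e8 a)
    (hb : x • e8 b = e8 b) : Good 3 ↥(Hs (vz a b) x) := by
  have h3 : x * x * x = 1 := by
    have h1 : x ^ 3 = 1 := by rw [← hx, pow_orderOf_eq_one]
    rw [pow_succ, pow_two] at h1
    exact h1
  obtain ⟨c, σ, rfl⟩ := exists_sign_perm (mem_N_of_fix ha)
  have hσa := perm_of_fix ha
  have hσb := perm_of_fix hb
  have hc := perm_cube h3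
  set s := signCo0 c with hs
  set p := permCo0 σ with hp
  have hss : s * s = 1 := signCo0_mul_self c
  have hσ3 : σ * σ * σ = 1 := by
    apply Subtype.ext
    apply Equiv.ext
    intro y
    exact hc y
  have hppp : p * p * p = 1 := by rw [hp, ← map_mul, ← map_mul, hσ3, map_one]
  have hpinv : p⁻¹ = p * p := inv_eq_of_mul_eq_one_left hppp
  have hsinv : s⁻¹ = s := inv_eq_of_mul_eq_one_left hss
  -- the gauge element
  set d := p * s * p⁻¹ with hd
  have hdinv : d⁻¹ = d := by
    rw [hd, mul_inv_rev, mul_inv_rev, inv_inv, hsinv, mul_assoc]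
  have hconj : d * (s * p) * d⁻¹ = p := by
    rw [hdinv]
    have e1 : p⁻¹ * s * p⁻¹ * s * p⁻¹ * s = 1 := by
      have e2 : (s * p * (s * p) * (s * p))⁻¹ = 1 := by rw [h3, inv_one]
      rw [← e2]
      simp only [mul_inv_rev, hsinv, mul_assoc]
    have e3 : p⁻¹ * s * p⁻¹ * s * p⁻¹ = s := by
      have := eq_inv_of_mul_eq_one_left e1
      rw [this, hsinv]
    calc d * (s * p) * d = p * s * (p⁻¹ * s * (p * p) * s * p⁻¹) := by rw [hd]; group
      _ = p * s * (p⁻¹ * s * p⁻¹ * s * p⁻¹) := by rw [← hpinv]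
      _ = p := by rw [e3, mul_assoc, hss, mul_one]
  have hpe : ∀ i : GolayPt, (σ : Equiv.Perm GolayPt) i = i → p • e8 i = e8 i := by
    intro i hi
    rw [hp, perm_smul_e8, hi]
  have hde : ∀ i : GolayPt, (σ : Equiv.Perm GolayPt) i = i → (s * p) • e8 i = e8 i → d • e8 i = e8 i := by
    intro i hi h
    have h1 := hpe i hi
    have h2 : s • e8 i = e8 i := by
      rw [mul_smul, h1] at h
      exact h
    have h4 : p⁻¹ • e8 i = e8 i := by rw [inv_smul_eq_iff, h1]
    rw [hd, mul_smul, mul_smul, h4, h2, h1]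
  have hdv : d • vz a b = vz a b := Lp.fix_qv (hde a hσa ha) (hde b hσb hb) _ (Or.inl rfl)
  apply good_conj d
  rw [hdv, hconj]
  have hord : orderOf p = 3 := by
    rw [← hconj, ← hx]
    exact orderOf_injective (MulAut.conj d).toMonoidHom (MulAut.conj d).injective (s * p)
  refine good_std hσa hσb hab hc ?_ hord
  intro h1
  have h2 : σ = 1 := Subtype.ext h1
  rw [hp, h2, map_one, orderOf_one] at hord
  norm_num at hord

/-- **The centralizers of elements of order three in the stabilizer of a vector of norm 32.** -/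
theorem good_Hs {v : leechLattice} {x : Co0} (hv : sqNorm (v : GolayPt → ℤ) = 32) (hx : orderOf x = 3)
    (hxv : x • v = v) : Good 3 ↥(Hs v x) := by
  by_cases h : ∃ u : leechLattice, sqNorm (u : GolayPt → ℤ) = 64 ∧ x • u = u
  swap
  · push Not at h
    exact good_B hv hx hxv h
  obtain ⟨u, hu, hxu⟩ := h
  have h3 : x * x * x = 1 := by
    have h1 : x ^ 3 = 1 := by rw [← hx, pow_orderOf_eq_one]
    rw [pow_succ, pow_two] at h1
    exact h1
  obtain ⟨w, hw1, hw2, hw3⟩ := Lp.exists_orth h3 hv hu hxu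
  let a : GolayPt := none
  let b : GolayPt := some 0
  have hab : a ≠ b := by simp [a, b]
  have hn2 : sqNorm ((qv a b 1 (-1) (by norm_num) : leechLattice) : GolayPt → ℤ) = 32 := by
    rw [norm_qv hab]; norm_num
  have hd2 : dot (vz a b) (qv a b 1 (-1) (by norm_num)) = 0 := by
    rw [dot_qv, vz, qv_coe, qv_coe, if_pos rfl, if_pos rfl, if_neg hab, if_neg hab.symm]
    norm_num
  obtain ⟨g, hg1, hg2⟩ := SporadicStructure.OrthPairs.co0_orth_pair_trans v w (vz a b) (qv a b 1 (-1) (by norm_num))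
    hv hw1 (norm_vz hab) hn2 hw2 hd2
  have hg1' : g • v = vz a b := hg1
  have hg2' : g • w = qv a b 1 (-1) (by norm_num) := hg2
  have f1 : (g * x * g⁻¹) • vz a b = vz a b := by
    rw [← hg1', ← mul_smul, show g * x * g⁻¹ * g = g * x by group, mul_smul, hxv]
  have f2 : (g * x * g⁻¹) • qv a b 1 (-1) (by norm_num) = qv a b 1 (-1) (by norm_num) := by
    rw [← hg2', ← mul_smul, show g * x * g⁻¹ * g = g * x by group, mul_smul, hw3]
  have s1 : vz a b + qv a b 1 (-1) (by norm_num) = e8 a := by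
    apply Subtype.ext
    funext k
    change ((vz a b : leechLattice) : GolayPt → ℤ) k + ((qv a b 1 (-1) (by norm_num) : leechLattice) : GolayPt → ℤ) k =
      ((e8 a : leechLattice) : GolayPt → ℤ) k
    rw [vz, qv_coe, qv_coe, e8_coe, Pi.single_apply]
    split_ifs <;> norm_num
  have s2 : vz a b - qv a b 1 (-1) (by norm_num) = e8 b := by
    apply Subtype.ext
    funext k
    change ((vz a b : leechLattice) : GolayPt → ℤ) k - ((qv a b 1 (-1) (by norm_num) : leechLattice) : GolayPt → ℤ) k =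
      ((e8 b : leechLattice) : GolayPt → ℤ) k
    rw [vz, qv_coe, qv_coe, e8_coe, Pi.single_apply]
    split_ifs <;> norm_num
  apply good_conj g
  rw [hg1']
  refine good_mono ?_ hab ?_ ?_
  · rw [← hx]
    exact orderOf_injective (MulAut.conj g).toMonoidHom (MulAut.conj g).injective x
  · rw [← s1, co0_smul_add, f1, f2]
  · rw [← s2, Setup.smul_sub, f1, f2]

/-! ### `Co2` -/

instance finite_Co2 : Finite Spor.Co2 := by
  have := finite_Co0
  exact Finite.of_equiv _ Cfsg.Agent.Schreier.CoTwoStab.equivU.toEquiv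

/-- transport from the stabilizer of `leechU` in `Co0` to `Co2` -/
theorem good_of_stab (p : ℕ) [Fact p.Prime] (x : Spor.Co2)
    (h1 : ∀ y : ↥(MulAction.stabilizer Co0 Spor.leechU), Cfsg.Agent.Schreier.CoTwoStab.equivU y = x →
      Good p ↥(Hs Spor.leechU (y : Co0))) : Good p ↥(centralizer ({x} : Set Spor.Co2)) := by
  have := finite_Co0
  let e := Cfsg.Agent.Schreier.CoTwoStab.equivU
  let y : ↥(MulAction.stabilizer Co0 Spor.leechU) := e.symm x
  have h2 : Good p ↥(centralizer ({y} : Set ↥(MulAction.stabilizer Co0 Spor.leechU))) := by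
    refine (h1 y (e.apply_symm_apply x)).congr
      (((centralizer ({y} : Set ↥(MulAction.stabilizer Co0 Spor.leechU))).equivMapOfInjective
      (MulAction.stabilizer Co0 Spor.leechU).subtype (subtype_injective _)).trans (MulEquiv.subgroupCongr ?_)).symm
    rw [map_centralizer]
    rfl
  refine h2.congr (((centralizer ({y} : Set ↥(MulAction.stabilizer Co0 Spor.leechU))).equivMapOfInjective
    e.toMonoidHom e.injective).trans (MulEquiv.subgroupCongr ?_))
  ext z
  constructor
  · rintro ⟨t, ht, rfl⟩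
    rw [SetLike.mem_coe, mem_centralizer_singleton_iff] at ht
    rw [mem_centralizer_singleton_iff]
    have h3 := congrArg e ht
    rw [map_mul, map_mul, e.apply_symm_apply] at h3
    exact h3
  · intro hz
    rw [mem_centralizer_singleton_iff] at hz
    refine ⟨e.symm z, ?_, e.apply_symm_apply z⟩
    rw [SetLike.mem_coe, mem_centralizer_singleton_iff]
    change e.symm z * e.symm x = e.symm x * e.symm z
    rw [← map_mul, hz, map_mul]

/-- **Elements of order three of `Co2`.** -/
theorem good_co2 (x : Spor.Co2) (hx : orderOf x = 3) : Good 3 ↥(centralizer ({x} : Set Spor.Co2)) := by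
  refine good_of_stab 3 x fun y hy => ?_
  have hy0 : orderOf (y : Co0) = 3 := by rw [Subgroup.orderOf_coe, ← hx, ← hy, MulEquiv.orderOf_eq]
  exact good_Hs Lp.norm_u hy0 (MulAction.mem_stabilizer_iff.1 y.2)

end Cfsg.Agent.BpSpor.Co2

end

-- merged: Cfsg.Agent.BpSpor.CoTwoRow
section

/-!
# `BpS 3 Co2`
-/

set_option autoImplicit false

namespace Cfsg.Agent.BpSpor.Co2

open Cfsg Cfsg.Spor Cfsg.Agent.BpTab

theorem center_bot : Subgroup.center Spor.Co2 = ⊥ := by
  have := Schreier.CoTwoStab.isSimpleGroup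
  exact CpAut.center_eq_bot_of_simple Schreier.CoTwoStab.not_comm

theorem autInner (p : ℕ) : CpAut.AutInner p Spor.Co2 :=
  fun x _ => KFacts.CoTwo.Main.allInner_iso (MulEquiv.refl _) x

/-- **The pair `(Co2, 3)` of S1332.** -/
theorem bps_three : BpS 3 Spor.Co2 := bpS_of_inner center_bot (autInner 3) good_co2

end Cfsg.Agent.BpSpor.Co2

end
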