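import Cfsg.Agent.CpAutCoFive.Core
import Cfsg.Agent.PreUniqCo.FiveCo
import Cfsg.Agent.CoOneType.InvMain
import Cfsg.Agent.CoOneType.ClosingFacts
import Cfsg.Agent.CpAutCoTwo.CaseA
import Cfsg.Agent.BpSpor.Arith
import Cfsg.Agent.CpAut.SmallP.TwoPart
import Cfsg.Agent.S1573
import Cfsg.Agent.S1575
import Cfsg.Agent.S0400
import Cfsg.Agent.BpSpor.CoTwoRow
import Cfsg.Agent.PreUniqCo.Facts

-- merged: Cfsg.Agent.BpSpor.CoTwoFiveLat
section

/-!
# Involutions of `Co0` in the group algebra of a group of odd order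

* `dims_two` : the fixed dimension of an involution of `Co0` is 0, 8, 12 or 16;
* `eq_of_half` : if `t * t = 1` and `w + t w` is divisible by two for all lattice vectors `w` then `t = ±1`;
* `eq_one_of_pair` : `a`, `b` commuting of order five whose nonidentity products have fixed dimensions 4 or 8: an element
  `t` with `t * t = 1` which commutes with `a` and `b` and fixes a vector fixed by `a` and `b` is trivial.
-/

set_option autoImplicit false

namespace Cfsg.Agent.BpSpor.Co2.Five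

open Cfsg Cfsg.Spor Subgroup Module Cfsg.Agent.SporadicStructure.Co0Base
open Cfsg.Agent.SporadicA.Co0Mono (signCo0 signCo0_smul signMap_apply signCo0_mul_self signCo0_zero)
open Cfsg.Agent.SigZeroCo2.Rank (fix mem_fix)
open Cfsg.Agent.SigZeroCo2.Lin (rep Sp finrank_fix_two)
open Cfsg.Agent.PreUniqCo Cfsg.Agent.PreUniqCo.FixBound Cfsg.Agent.PreUniqCo.LatCo
open Cfsg.Agent.PreUniqCo.FivePair (Pr U Dims Nm)
open Cfsg.Agent.CoOneType.SignFacts Cfsg.Agent.CoOneType.ClosingFacts
open Cfsg.Agent.Co2Type.Mono (tr8 tr8_conj)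
open Cfsg.Agent.MonsterU.Lam2 (smulHom)

/-! ### Involutions -/

theorem tr8_sign (c : golayCode) : tr8 (signCo0 c) = 8 * (24 - 2 * (wt c : ℤ)) := by
  have h1 : ∀ i : GolayPt, ((signCo0 c • e8 i : leechLattice) : GolayPt → ℤ) i =
      8 - (if i ∈ sup c then 16 else 0) := by
    intro i
    rw [signCo0_smul, signMap_apply, e8_coe]
    by_cases hi : i ∈ sup c
    · rw [(mem_sup c i).1 hi, SporadicA.Co0Mono.sgn_one, if_pos hi]; simp
    · rw [(notMem_sup c i).1 hi, SporadicA.Co0Mono.sgn_zero, if_neg hi]; simp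
  unfold tr8
  rw [Finset.sum_congr rfl fun i _ => h1 i, Finset.sum_sub_distrib, Finset.sum_const, ← Finset.sum_filter,
    Finset.sum_const, Finset.card_univ]
  have h2 : (Finset.univ.filter fun i => i ∈ sup c) = sup c := by ext i; simp
  rw [h2]
  have h3 : Fintype.card GolayPt = 24 := by
    rw [Fintype.card_option, ZMod.card]
  rw [h3]
  unfold wt
  simp only [nsmul_eq_mul]
  push_cast
  ring

/-- the fixed dimension of a conjugate of a sign change -/
theorem finrank_add_wt {t g : Co0} {c : golayCode} (ht : t * t = 1) (hg : g * t * g⁻¹ = signCo0 c) :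
    finrank ℚ (fix (rep t)) + wt c = 24 := by
  have h2 := finrank_fix_two ht
  have h3 : tr8 t = 8 * (24 - 2 * (wt c : ℤ)) := by rw [← tr8_sign, ← hg, tr8_conj]
  rw [h3] at h2
  push_cast at h2
  have h4 : ((finrank ℚ (fix (rep t)) + wt c : ℕ) : ℚ) = (24 : ℕ) := by
    push_cast
    linarith
  exact_mod_cast h4

theorem eq_one_of_conj {t g : Co0} (hg : g * t * g⁻¹ = 1) : t = 1 := by
  calc t = g⁻¹ * (g * t * g⁻¹) * g := by group
    _ = 1 := by rw [hg]; group

/-- **The fixed dimensions of the involutions.** -/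
theorem dims_two {t : Co0} (ht : t * t = 1) (h1 : t ≠ 1) : finrank ℚ (fix (rep t)) = 0 ∨
    finrank ℚ (fix (rep t)) = 8 ∨ finrank ℚ (fix (rep t)) = 12 ∨ finrank ℚ (fix (rep t)) = 16 := by
  obtain ⟨g, c, hg⟩ := CoOneType.InvMain.conj_sign_of_sq_one t ht
  have h2 := finrank_add_wt ht hg
  have h5 : wt c ≠ 0 := by
    intro h
    apply h1
    rw [eq_zero_of_wt h, signCo0_zero] at hg
    exact eq_one_of_conj hg
  rcases wt_cases c with h | h | h | h | h <;> omega

/-- **An involution `t` with `(1 + t) / 2` integral is `-1`.** -/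
theorem eq_of_half {t : Co0} (ht : t * t = 1) (h : ∀ w : leechLattice, ∃ y : leechLattice, w + t • w = 2 • y) :
    t = 1 ∨ finrank ℚ (fix (rep t)) = 0 := by
  obtain ⟨g, c, hg⟩ := CoOneType.InvMain.conj_sign_of_sq_one t ht
  have h2 := finrank_add_wt ht hg
  by_cases h0 : wt c = 0
  · left
    rw [eq_zero_of_wt h0, signCo0_zero] at hg
    exact eq_one_of_conj hg
  by_cases h24 : wt c = 24
  · right
    omega
  exfalso
  obtain ⟨i, hi⟩ : (sup c).Nonempty := Finset.card_pos.1 (Nat.pos_of_ne_zero h0)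
  obtain ⟨j, hj⟩ : ∃ j, j ∉ sup c := by
    by_contra hcon
    push Not at hcon
    apply h24
    have h3 : sup c = Finset.univ := Finset.eq_univ_iff_forall.2 hcon
    rw [wt, h3, Finset.card_univ, Fintype.card_option, ZMod.card]
  have hij : i ≠ j := fun e => hj (e ▸ hi)
  obtain ⟨y, hy⟩ := h (g⁻¹ • CpAutCoTwo.CaseA.vz i j)
  have h3 : e8 j = g • y + g • y := by
    have h4 := congrArg (fun v : leechLattice => g • v) hy
    simp only [co0_smul_add, smul_inv_smul, two_nsmul] at h4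
    rw [← mul_smul, ← mul_smul, hg] at h4
    rw [← h4]
    apply Subtype.ext
    funext k
    change ((e8 j : leechLattice) : GolayPt → ℤ) k = ((CpAutCoTwo.CaseA.vz i j : leechLattice) : GolayPt → ℤ) k +
      ((signCo0 c • CpAutCoTwo.CaseA.vz i j : leechLattice) : GolayPt → ℤ) k
    rw [signCo0_smul, signMap_apply, e8_coe, CpAutCoTwo.CaseA.vz, CpAutCoTwo.Shape.qv_coe, Pi.single_apply]
    by_cases hki : k = i
    · subst hki
      rw [(mem_sup c k).1 hi, SporadicA.Co0Mono.sgn_one, if_neg hij, if_neg hij, if_pos rfl]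
      norm_num
    · by_cases hkj : k = j
      · subst hkj
        rw [(notMem_sup c k).1 hj, SporadicA.Co0Mono.sgn_zero, if_pos rfl, if_pos rfl, if_neg hki]
        norm_num
      · rw [if_neg hkj, if_neg hkj, if_neg hki]
        norm_num
  have hne : g • y ≠ 0 := by
    intro h4
    rw [h4, add_zero] at h3
    have h5 := congrArg (fun v : leechLattice => (v : GolayPt → ℤ) j) h3
    simp only [e8_coe, Pi.single_eq_same] at h5
    change (8 : ℤ) = 0 at h5
    omega
  have h4 := B_four hne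
  have h5 := eight_B_self (e8 j)
  rw [SporadicA.Co1Simple.sqNorm_e8, h3, B_add, B_symm _ (g • y + g • y), B_add] at h5
  omega

/-! ### Linear algebra -/

section lin

variable {V : Type*} [AddCommGroup V] [Module ℚ V] [FiniteDimensional ℚ V]

/-- `t` acts as a scalar on the moved part of a fixed space -/
theorem sign_U {a b t x f : Module.End ℚ V} (D : Dims a b) (ha : a ^ 5 = 1) (hb : b ^ 5 = 1) (hab : Commute a b)
    (ht : t * t = 1) (hat : Commute a t) (hbt : Commute b t) (h : Pr a b x f) :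
    (∀ u ∈ U x f, t u = u) ∨ ∀ u ∈ U x f, t u = -u := by
  have h4 := (D.le ha hb hab).2 x f h
  have hf := h.pow ha hb
  have hxf := h.comm hab
  have hxt := h.comm_left hat hbt
  have hft := h.comm_right hat hbt
  have hU : ∀ u ∈ U x f, f u ∈ U x f := FivePair.U_inv hxf (Commute.refl f)
  have hUt : ∀ u ∈ U x f, t u ∈ U x f := FivePair.U_inv hxt hft
  have hd : Nat.totient 5 ∣ finrank ℚ (U x f ⊓ fix t : Submodule ℚ V) := by
    refine CpAutCoFive.dvd_finrank_sub (by norm_num) hf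
      (fun w hw => ⟨hU w hw.1, Rat.fix_comm hft.symm w hw.2⟩) ?_
    intro p hp hp5 v hv hv'
    rw [(Nat.prime_dvd_prime_iff_eq hp (by norm_num)).1 hp5, Nat.div_self (by norm_num), pow_one] at hv'
    have h5 : v ∈ (fix x ⊓ fix f) ⊓ U x f := ⟨⟨hv.1.1, mem_fix.2 hv'⟩, hv.1⟩
    rw [FivePair.inf_eq_bot, Submodule.mem_bot] at h5
    exact h5
  rw [Nat.totient_prime (by norm_num)] at hd
  have hle : (U x f ⊓ fix t : Submodule ℚ V) ≤ U x f := inf_le_left
  by_cases h0 : finrank ℚ (U x f ⊓ fix t : Submodule ℚ V) = 0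
  · right
    intro u hu
    have h5 : u + t u ∈ U x f ⊓ fix t := by
      refine ⟨Submodule.add_mem _ hu (hUt u hu), mem_fix.2 ?_⟩
      rw [map_add, ← Module.End.mul_apply, ht, Module.End.one_apply, add_comm]
    rw [Submodule.finrank_eq_zero.1 h0, Submodule.mem_bot] at h5
    exact eq_neg_of_add_eq_zero_right h5
  · left
    have h5 := Nat.le_of_dvd (Nat.pos_of_ne_zero h0) hd
    have h6 : (U x f ⊓ fix t : Submodule ℚ V) = U x f :=
      Submodule.eq_of_le_of_finrank_le hle (by omega)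
    intro u hu
    rw [← h6] at hu
    exact mem_fix.1 hu.2

/-- `t` acts trivially on the common fixed space -/
theorem inf_le_fix {a b t : Module.End ℚ V} (D : Dims a b) (ha : a ^ 5 = 1) (hb : b ^ 5 = 1) (hab : Commute a b)
    (hat : Commute a t) (hbt : Commute b t) (h4 : 4 ∣ finrank ℚ (fix t)) {v : V} (hv : v ≠ 0) (hva : a v = v)
    (hvb : b v = v) (hvt : t v = v) : fix a ⊓ fix b ≤ fix t := by
  obtain ⟨k, hk⟩ := Rat.sub_prime (fix t) (r := 5) (by norm_num) (Rat.fix_comm hat.symm) ha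
  obtain ⟨l, hl⟩ := Rat.sub_prime (fix t ⊓ fix a) (r := 5) (y := b) (by norm_num)
    (fun w hw => ⟨Rat.fix_comm hbt.symm w hw.1, Rat.fix_comm hab w hw.2⟩) hb
  have h5 := (D.le ha hb hab).1
  have hle : (fix t ⊓ fix a ⊓ fix b : Submodule ℚ V) ≤ fix a ⊓ fix b := fun w hw => ⟨hw.1.2, hw.2⟩
  have h6 := Submodule.finrank_mono hle
  have h7 : finrank ℚ (fix t ⊓ fix a ⊓ fix b : Submodule ℚ V) ≠ 0 := by
    intro h0
    have h8 : v ∈ (fix t ⊓ fix a ⊓ fix b : Submodule ℚ V) := ⟨⟨mem_fix.2 hvt, mem_fix.2 hva⟩, mem_fix.2 hvb⟩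
    rw [Submodule.finrank_eq_zero.1 h0, Submodule.mem_bot] at h8
    exact hv h8
  have h8 : (fix t ⊓ fix a ⊓ fix b : Submodule ℚ V) = fix a ⊓ fix b :=
    Submodule.eq_of_le_of_finrank_le hle (by omega)
  rw [← h8]
  exact fun w hw => hw.1.1

omit [FiniteDimensional ℚ V] in
/-- `5 N_x u - N_a N_b u` lies in the moved part -/
theorem delta_mem {a b x f : Module.End ℚ V} (ha : a ^ 5 = 1) (hb : b ^ 5 = 1) (hab : Commute a b)
    (h : Pr a b x f) (u : V) : (5 : ℚ) • Nm x u - Nm a (Nm b u) ∈ U x f := by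
  have hf := h.pow ha hb
  have hN : Nm a (Nm b u) ∈ fix a ⊓ fix b := by
    refine ⟨Rat.sum_mem_fix ha _, ?_⟩
    rw [← Module.End.mul_apply, (FivePair.comm_nm hab).eq, Module.End.mul_apply]
    exact Rat.sum_mem_fix hb _
  have hx5 : x ^ 5 = 1 := by
    rcases h with ⟨rfl, -⟩ | ⟨m, -, rfl, -⟩
    · exact hb
    · rw [(hab.pow_right m).mul_pow, ha, one_mul, ← pow_mul, mul_comm, pow_mul, hb, one_pow]
  have hNx : Nm a (Nm b u) ∈ fix x ⊓ fix f := by rw [h.inf hab]; exact hN
  refine ⟨Submodule.sub_mem _ (Submodule.smul_mem _ _ (Rat.sum_mem_fix hx5 _)) hNx.1, ?_⟩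
  rw [SetLike.mem_coe, Rat.movr, LinearMap.mem_ker]
  change Nm f _ = 0
  rw [map_sub, map_smul]
  have h1 : Nm f (Nm a (Nm b u)) = (5 : ℚ) • Nm a (Nm b u) := Rat.sum_apply_fix (mem_fix.1 hNx.2)
  have h2 : Nm f (Nm x u) = Nm a (Nm b u) := by
    rcases h with ⟨rfl, rfl⟩ | ⟨m, -, rfl, rfl⟩
    · rfl
    · have hc : Commute (a * f ^ m) f := hab.mul_left (Commute.pow_left (Commute.refl f) m)
      rw [← Module.End.mul_apply, ← (FivePair.comm_nm hc).eq, ← Module.End.mul_apply]
      congr 1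
      have h3 : ∀ k, (a * f ^ m) ^ k * Nm f = a ^ k * Nm f := by
        intro k
        rw [(hab.pow_right m).mul_pow, mul_assoc]
        congr 1
        rw [← pow_mul]
        have h4 : ∀ n, f ^ n * Nm f = Nm f := by
          intro n
          ext w
          rw [Module.End.mul_apply]
          exact Rat.pow_apply_fix (mem_fix.1 (Rat.sum_mem_fix hb w)) n
        exact h4 _
      unfold Nm at h3 ⊢
      rw [Finset.sum_mul, Finset.sum_mul]
      exact Finset.sum_congr rfl fun k _ => h3 k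
  rw [h1, h2, sub_self]

end lin

/-! ### The lattice -/

theorem smul_sum' (g : Co0) {ι : Type*} (s : Finset ι) (f : ι → leechLattice) :
    g • (∑ i ∈ s, f i) = ∑ i ∈ s, g • f i := map_sum (smulHom g) f s

theorem smul_sub' (g : Co0) (v w : leechLattice) : g • (v - w) = g • v - g • w := map_sub (smulHom g) v w

theorem smul_nsmul' (g : Co0) (n : ℕ) (v : leechLattice) : g • (n • v) = n • (g • v) := map_nsmul (smulHom g) n v

/-- the norm on the lattice -/
noncomputable def nL (x : Co0) (w : leechLattice) : leechLattice := ∑ k ∈ Finset.range 5, x ^ k • w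

theorem tau_nL (x : Co0) (w : leechLattice) : tau (nL x w) = Nm (rep x) (tau w) := by
  unfold nL Nm
  rw [map_sum, LinearMap.sum_apply]
  refine Finset.sum_congr rfl fun k _ => ?_
  rw [← map_pow, rep_tau]

/-- the vectors in the moved parts -/
noncomputable def dL (a b x : Co0) (w : leechLattice) : leechLattice := 5 • nL x w - nL a (nL b w)

theorem tau_dL (a b x : Co0) (w : leechLattice) :
    tau (dL a b x w) = (5 : ℚ) • Nm (rep x) (tau w) - Nm (rep a) (Nm (rep b) (tau w)) := by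
  unfold dL
  rw [map_sub, map_nsmul, tau_nL, tau_nL, tau_nL, ← Nat.cast_smul_eq_nsmul ℚ]
  rfl

theorem sum_dL {a b : Co0} (hb : b ^ 5 = 1) (hab : Commute a b) (w : leechLattice) :
    25 • w = dL a b b w + dL a b (a * b ^ 0) w + dL a b (a * b ^ 1) w + dL a b (a * b ^ 2) w +
      dL a b (a * b ^ 3) w + dL a b (a * b ^ 4) w + nL a (nL b w) := by
  apply tau_injective
  have h1 := congrArg (fun g : Module.End ℚ Sp => g (tau w))
    (FivePair.nm_identity (a := rep a) (b := rep b) (by rw [← map_pow, hb, map_one]) (hab.map rep))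
  simp only [LinearMap.add_apply, LinearMap.smul_apply, Module.End.one_apply, Module.End.mul_apply] at h1
  simp only [map_add, tau_dL, tau_nL, map_nsmul]
  simp only [map_mul, map_pow]
  rw [← Nat.cast_smul_eq_nsmul ℚ]
  have h2 : (5 : ℚ) • tau w = Nm (rep b) (tau w) + Nm (rep a * rep b ^ 0) (tau w) + Nm (rep a * rep b ^ 1) (tau w) +
      Nm (rep a * rep b ^ 2) (tau w) + Nm (rep a * rep b ^ 3) (tau w) + Nm (rep a * rep b ^ 4) (tau w) -
      Nm (rep a) (Nm (rep b) (tau w)) := by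
    rw [← h1]
    abel
  have h3 : ((25 : ℕ) : ℚ) • tau w = (5 : ℚ) • ((5 : ℚ) • tau w) := by
    rw [smul_smul]
    norm_num
  rw [h3, h2]
  module

/-- **The pairs.** -/
theorem eq_one_of_pair {a b t : Co0} (ha : a ^ 5 = 1) (hb : b ^ 5 = 1) (hab : Commute a b)
    (D : Dims (rep a) (rep b)) (ht : t * t = 1) (hat : Commute a t) (hbt : Commute b t) {v : leechLattice}
    (hv : v ≠ 0) (hva : a • v = v) (hvb : b • v = v) (hvt : t • v = v) : t = 1 := by
  by_contra ht1
  have pa : rep a ^ 5 = 1 := by rw [← map_pow, ha, map_one]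
  have pb : rep b ^ 5 = 1 := by rw [← map_pow, hb, map_one]
  have pt : rep t * rep t = 1 := by rw [← map_mul, ht, map_one]
  have cab := hab.map rep
  have cat := hat.map rep
  have cbt := hbt.map rep
  have hne : tau v ≠ 0 := fun h => hv (tau_injective (by rw [h, map_zero]))
  have hdt := dims_two ht ht1
  have h4 : 4 ∣ finrank ℚ (fix (rep t)) := by
    rcases hdt with h | h | h | h <;> rw [h] <;> norm_num
  have hfixt := inf_le_fix D pa pb cab cat cbt h4 hne (by rw [rep_tau, hva]) (by rw [rep_tau, hvb])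
    (by rw [rep_tau, hvt])
  -- the vectors in the moved parts
  have key : ∀ (x : Co0) (f : Module.End ℚ Sp), Pr (rep a) (rep b) (rep x) f → ∀ w : leechLattice,
      ∃ y : leechLattice, dL a b x w + t • dL a b x w = 2 • y := by
    intro x f hxf w
    have hmem : tau (dL a b x w) ∈ U (rep x) f := by
      rw [tau_dL]
      exact delta_mem pa pb cab hxf _
    rcases sign_U D pa pb cab pt cat cbt hxf with h | h
    · refine ⟨dL a b x w, ?_⟩
      have h5 : t • dL a b x w = dL a b x w := tau_injective (by rw [← rep_tau]; exact h _ hmem)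
      rw [h5, two_nsmul]
    · refine ⟨0, ?_⟩
      have h5 : t • dL a b x w = -dL a b x w := tau_injective (by rw [← rep_tau, map_neg]; exact h _ hmem)
      rw [h5, add_neg_cancel, smul_zero]
  have hhalf : ∀ w : leechLattice, ∃ y : leechLattice, w + t • w = 2 • y := by
    intro w
    have hN : t • nL a (nL b w) = nL a (nL b w) := by
      apply tau_injective
      rw [← rep_tau]
      refine mem_fix.1 (hfixt ?_)
      rw [tau_nL, tau_nL]
      refine ⟨Rat.sum_mem_fix pa _, ?_⟩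
      rw [← Module.End.mul_apply, (FivePair.comm_nm cab).eq, Module.End.mul_apply]
      exact Rat.sum_mem_fix pb _
    have km : ∀ m : ℕ, m < 5 → ∃ y : leechLattice, dL a b (a * b ^ m) w + t • dL a b (a * b ^ m) w = 2 • y :=
      fun m hm => key _ (rep b) (Or.inr ⟨m, hm, by rw [map_mul, map_pow], rfl⟩) w
    obtain ⟨y, hy⟩ := key b (rep a) (Or.inl ⟨rfl, rfl⟩) w
    obtain ⟨y0, hy0⟩ := km 0 (by norm_num)
    obtain ⟨y1, hy1⟩ := km 1 (by norm_num)
    obtain ⟨y2, hy2⟩ := km 2 (by norm_num)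
    obtain ⟨y3, hy3⟩ := km 3 (by norm_num)
    obtain ⟨y4, hy4⟩ := km 4 (by norm_num)
    refine ⟨y + y0 + y1 + y2 + y3 + y4 + nL a (nL b w) - 12 • (w + t • w), ?_⟩
    have h5 := sum_dL hb hab w
    have h6 : 25 • (w + t • w) = 2 • (y + y0 + y1 + y2 + y3 + y4 + nL a (nL b w)) := by
      have h7 : 25 • (w + t • w) = 25 • w + t • (25 • w) := by rw [smul_add, smul_nsmul']
      rw [h7, h5]
      simp only [co0_smul_add, hN, smul_add, ← hy, ← hy0, ← hy1, ← hy2, ← hy3, ← hy4, two_nsmul (nL a (nL b w))]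
      abel
    rw [smul_sub, ← h6, ← mul_nsmul', show (25 : ℕ) = 1 + 2 * 12 from rfl, add_nsmul, one_nsmul,
      add_sub_cancel_right]
  rcases eq_of_half ht hhalf with h | h
  · exact ht1 h
  · exact CpAutCoFive.finrank_fix_ne_zero hv hvt h

end Cfsg.Agent.BpSpor.Co2.Five

end

-- merged: Cfsg.Agent.BpSpor.CoTwoFiveEight
section

/-!
# Groups of automorphisms of the Leech lattice with a central element of order five of fixed dimension eight

`H` finite, `φ : H → Co0` injective, `v ≠ 0` a lattice vector fixed by `H`, `x` central of order five with fixed dimension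
eight: the elements of order a power of five of `H` centralise every 2-subgroup which they normalise (`two_group`), and
`Good 5 H` (`good_eight`).
-/

set_option autoImplicit false
set_option linter.unusedSectionVars false
set_option linter.unusedVariables false

namespace Cfsg.Agent.BpSpor.Co2.Five

open Cfsg Cfsg.Spor Subgroup Module Cfsg.Agent.SporadicStructure.Co0Base
open Cfsg.Agent.SigZeroCo2.Rank (fix mem_fix)
open Cfsg.Agent.SigZeroCo2.Lin (rep Sp)
open Cfsg.Agent.PreUniqCo Cfsg.Agent.PreUniqCo.FixBound Cfsg.Agent.PreUniqCo.LatCo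
open Cfsg.Agent.PreUniqCo.FivePair (Pr U Dims Nm)
open Cfsg.Agent.CpAutCoFive

/-! ### Averaging -/

theorem comm_of_pow {G : Type*} [Group G] {g c : G} (hc : c ^ 5 = 1) {i : ℕ} (hi0 : 0 < i) (hi5 : i < 5)
    (h : g * c ^ i = c ^ i * g) : g * c = c * g := by
  have h1 : Commute g (c ^ i) := h
  have h2 : ∃ k : ℕ, (c ^ i) ^ k = c := by
    have c6 : c ^ 6 = c := by rw [pow_succ c 5, hc, one_mul]
    have c16 : c ^ 16 = c := by
      rw [show 16 = 5 * 3 + 1 from rfl, pow_succ, pow_mul, hc, one_pow, one_mul]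
    interval_cases i
    · exact ⟨1, by rw [pow_one, pow_one]⟩
    · exact ⟨3, by rw [← pow_mul]; exact c6⟩
    · exact ⟨2, by rw [← pow_mul]; exact c6⟩
    · exact ⟨4, by rw [← pow_mul]; exact c16⟩
  obtain ⟨k, hk⟩ := h2
  have h3 := h1.pow_right k
  rw [hk] at h3
  exact h3

/-- **Averaging**: `c` of order five acts without fixed points on `S`; if `1 + c + … + c ^ 4` vanishes on `W` then `S` acts
trivially on `W`. -/
theorem average {H : Type*} [Group H] [Finite H] {V : Type*} [AddCommGroup V] [Module ℚ V] (ρ : H →* Module.End ℚ V)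
    {S : Subgroup H} {c : H} (hc : c ^ 5 = 1) (hS : ∀ g ∈ S, c * g * c⁻¹ ∈ S)
    (hfree : ∀ g ∈ S, g * c = c * g → g = 1) {W : Submodule ℚ V} (hW : ∀ h : H, ∀ u ∈ W, ρ h u ∈ W)
    (h0 : ∀ u ∈ W, ∑ i ∈ Finset.range 5, ρ (c ^ i) u = 0) {s : H} (hs : s ∈ S) {u : V} (hu : u ∈ W) : ρ s u = u := by
  classical
  have : Fintype ↥S := Fintype.ofFinite _
  have hSi : ∀ i : ℕ, ∀ g ∈ S, c ^ i * g * (c ^ i)⁻¹ ∈ S := by
    intro i
    induction i with
    | zero => intro g hg; rw [pow_zero, one_mul, inv_one, mul_one]; exact hg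
    | succ i ih =>
      intro g hg
      have h1 := hS _ (ih g hg)
      have h2 : c * (c ^ i * g * (c ^ i)⁻¹) * c⁻¹ = c ^ (i + 1) * g * (c ^ (i + 1))⁻¹ := by
        rw [pow_succ']
        group
      rwa [h2] at h1
  have hm : ∀ (g h : H) (w : V), ρ (g * h) w = ρ g (ρ h w) := fun g h w => by rw [map_mul, Module.End.mul_apply]
  -- the norm of `S`
  let N : V → V := fun w => ∑ a : ↥S, ρ (a : H) w
  have hN : ∀ i : ℕ, 0 < i → i < 5 → ∀ w, ∑ a : ↥S, ρ ((a : H) * c ^ i * (a : H)⁻¹) w = N (ρ (c ^ i) w) := by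
    intro i hi0 hi5 w
    let f : ↥S → ↥S := fun a => ⟨(a : H) * (c ^ i * (a : H)⁻¹ * (c ^ i)⁻¹), S.mul_mem a.2 (hSi i _ (S.inv_mem a.2))⟩
    have hf : Function.Injective f := by
      intro a b hab
      have h1 : (a : H) * (c ^ i * (a : H)⁻¹ * (c ^ i)⁻¹) = (b : H) * (c ^ i * (b : H)⁻¹ * (c ^ i)⁻¹) :=
        congrArg Subtype.val hab
      have h2 : ((b : H)⁻¹ * a) * c ^ i = c ^ i * ((b : H)⁻¹ * a) := by
        calc ((b : H)⁻¹ * a) * c ^ i = (b : H)⁻¹ * ((a : H) * (c ^ i * (a : H)⁻¹ * (c ^ i)⁻¹)) * c ^ i * a := by group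
          _ = (b : H)⁻¹ * ((b : H) * (c ^ i * (b : H)⁻¹ * (c ^ i)⁻¹)) * c ^ i * a := by rw [h1]
          _ = c ^ i * ((b : H)⁻¹ * a) := by group
      have h3 := hfree _ (S.mul_mem (S.inv_mem b.2) a.2) (comm_of_pow hc hi0 hi5 h2)
      exact Subtype.ext (inv_mul_eq_one.1 h3).symm
    have hb : Function.Bijective f := Finite.injective_iff_bijective.1 hf
    have h4 : ∑ a : ↥S, ρ ((f a : ↥S) : H) (ρ (c ^ i) w) = ∑ a : ↥S, ρ (a : H) (ρ (c ^ i) w) :=
      Function.Bijective.sum_comp hb fun a : ↥S => ρ (a : H) (ρ (c ^ i) w)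
    change _ = ∑ a : ↥S, ρ (a : H) (ρ (c ^ i) w)
    rw [← h4]
    refine Finset.sum_congr rfl fun a _ => ?_
    rw [← hm]
    congr 2
    change (a : H) * c ^ i * (a : H)⁻¹ = (a : H) * (c ^ i * (a : H)⁻¹ * (c ^ i)⁻¹) * c ^ i
    group
  have hadd : ∀ w w', N (w + w') = N w + N w' := by
    intro w w'
    change ∑ a : ↥S, ρ (a : H) (w + w') = ∑ a : ↥S, ρ (a : H) w + ∑ a : ↥S, ρ (a : H) w'
    rw [← Finset.sum_add_distrib]
    exact Finset.sum_congr rfl fun a _ => map_add _ _ _
  -- the total sum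
  have h1 : ∑ a : ↥S, ∑ i ∈ Finset.range 5, ρ ((a : H) * c ^ i * (a : H)⁻¹) u = 0 := by
    refine Finset.sum_eq_zero fun a _ => ?_
    have h2 : ∀ i, ρ ((a : H) * c ^ i * (a : H)⁻¹) u = ρ (a : H) (ρ (c ^ i) (ρ (a : H)⁻¹ u)) := fun i => by
      rw [hm, hm]
    rw [Finset.sum_congr rfl fun i _ => h2 i, ← map_sum, h0 _ (hW _ _ hu), map_zero]
  rw [Finset.sum_comm, Finset.sum_range_succ', pow_zero] at h1
  have h2 : ∑ i ∈ Finset.range 4, ∑ a : ↥S, ρ ((a : H) * c ^ (i + 1) * (a : H)⁻¹) u =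
      ∑ i ∈ Finset.range 4, N (ρ (c ^ (i + 1)) u) := by
    refine Finset.sum_congr rfl fun i hi => hN (i + 1) (by omega) ?_ u
    have := Finset.mem_range.1 hi
    omega
  have h3 : ∑ i ∈ Finset.range 4, N (ρ (c ^ (i + 1)) u) = N (∑ i ∈ Finset.range 4, ρ (c ^ (i + 1)) u) := by
    have h4 : ∀ s : Finset ℕ, ∑ i ∈ s, N (ρ (c ^ (i + 1)) u) = N (∑ i ∈ s, ρ (c ^ (i + 1)) u) := by
      intro s
      induction s using Finset.induction_on with
      | empty =>
        rw [Finset.sum_empty, Finset.sum_empty]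
        change 0 = ∑ a : ↥S, ρ (a : H) 0
        rw [Finset.sum_eq_zero fun a _ => map_zero _]
      | insert a s ha ih => rw [Finset.sum_insert ha, Finset.sum_insert ha, hadd, ih]
    exact h4 _
  have h5 : ∑ i ∈ Finset.range 4, ρ (c ^ (i + 1)) u = -u := by
    have h6 := h0 u hu
    rw [Finset.sum_range_succ', pow_zero, map_one, Module.End.one_apply] at h6
    exact eq_neg_of_add_eq_zero_left h6
  have h6 : ∑ a : ↥S, ρ ((a : H) * 1 * (a : H)⁻¹) u = (Fintype.card ↥S : ℚ) • u := by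
    have h7 : ∀ a : ↥S, ρ ((a : H) * 1 * (a : H)⁻¹) u = u := fun a => by
      rw [mul_one, mul_inv_cancel, map_one, Module.End.one_apply]
    rw [Finset.sum_congr rfl fun a _ => h7 a, Finset.sum_const, Finset.card_univ, Nat.cast_smul_eq_nsmul]
  have h8 : N (-u) = -N u := by
    change ∑ a : ↥S, ρ (a : H) (-u) = -∑ a : ↥S, ρ (a : H) u
    rw [← Finset.sum_neg_distrib]
    exact Finset.sum_congr rfl fun a _ => map_neg _ _
  rw [h2, h3, h5, h6, h8] at h1
  have h9 : N u = (Fintype.card ↥S : ℚ) • u := neg_add_eq_zero.1 h1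
  have h10 : ρ s (N u) = N u := by
    change ρ s (∑ a : ↥S, ρ (a : H) u) = ∑ a : ↥S, ρ (a : H) u
    rw [map_sum]
    have h11 : ∀ a : ↥S, ρ s (ρ (a : H) u) = ρ ((⟨s, hs⟩ * a : ↥S) : H) u := fun a => (hm _ _ _).symm
    rw [Finset.sum_congr rfl fun a _ => h11 a]
    exact Function.Bijective.sum_comp (Group.mulLeft_bijective (⟨s, hs⟩ : ↥S)) fun a : ↥S => ρ (a : H) u
  rw [h9, map_smul] at h10
  have hne : (Fintype.card ↥S : ℚ) ≠ 0 := by exact_mod_cast Fintype.card_ne_zero
  exact smul_right_injective V hne h10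

/-! ### The setting -/

section

variable {H : Type*} [Group H] [Finite H] {φ : H →* Co0} {v : leechLattice} {x : H}

theorem dim_cases (hφ : Function.Injective φ) (hv : v ≠ 0) (hfix : ∀ h, φ h • v = v) {y : H} (hy : orderOf y = 5) :
    finrank ℚ (fix (rep (φ y))) = 4 ∨ finrank ℚ (fix (rep (φ y))) = 8 :=
  FiveCo.dims_five ((orderOf_injective φ hφ y).trans hy) (finrank_fix_ne_zero hv (hfix y))

theorem rep_pow {y : H} {n : ℕ} (h : y ^ n = 1) : rep (φ y) ^ n = 1 := by rw [← map_pow, ← map_pow, h, map_one, map_one]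

/-- no element of order 25 -/
theorem not_25 (hφ : Function.Injective φ) (hv : v ≠ 0) (hfix : ∀ h, φ h • v = v) (hx : orderOf x = 5)
    (hc : ∀ g, g * x = x * g) (h8 : finrank ℚ (fix (rep (φ x))) = 8) {y : H} (hy : orderOf y = 25) : False := by
  have hy25 : y ^ 25 = 1 := by rw [← hy, pow_orderOf_eq_one]
  have hz : orderOf (y ^ 5) = 5 := by rw [orderOf_pow_of_dvd (by norm_num) (by rw [hy]; norm_num), hy]
  have hz5 : (y ^ 5) ^ 5 = 1 := by rw [← pow_mul]; exact hy25
  have pz := rep_pow (φ := φ) hz5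
  have py := rep_pow (φ := φ) hy25
  have cyz : Commute (rep (φ y)) (rep (φ (y ^ 5))) := ((Commute.refl y).pow_right 5).map φ |>.map rep
  have cyx : Commute (rep (φ y)) (rep (φ x)) := (show Commute y x from hc y).map φ |>.map rep
  have czx : Commute (rep (φ (y ^ 5))) (rep (φ x)) := (show Commute (y ^ 5) x from hc _).map φ |>.map rep
  have hdvd : ∀ W : Submodule ℚ Sp, (∀ w ∈ W, rep (φ y) w ∈ W) → W ≤ mv (rep (φ (y ^ 5))) 5 → 20 ∣ finrank ℚ W := by
    intro W hW hWm
    have h1 : Nat.totient 25 = 20 := by decide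
    rw [← h1]
    refine dvd_finrank_sub (by norm_num) py hW ?_
    intro p hp hp25 w hw hw'
    have h2 : p = 5 := (Nat.prime_dvd_prime_iff_eq hp (by norm_num)).1
      (hp.dvd_of_dvd_pow (show p ∣ 5 ^ 2 by norm_num; exact hp25))
    subst h2
    rw [show 25 / 5 = 5 from rfl, ← map_pow, ← map_pow] at hw'
    exact eq_zero_of_fix (by norm_num) hw' (hWm hw)
  have h1 : fix (rep (φ x)) ≤ fix (rep (φ (y ^ 5))) := by
    refine le_fix_of (by norm_num) pz (fun w hw => Rat.fix_comm czx.symm w hw) ?_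
    have h2 := hdvd (fix (rep (φ x)) ⊓ mv (rep (φ (y ^ 5))) 5)
      (fun w hw => ⟨Rat.fix_comm cyx.symm w hw.1, mv_inv cyz hw.2⟩) inf_le_right
    have h3 : finrank ℚ (fix (rep (φ x)) ⊓ mv (rep (φ (y ^ 5))) 5 : Submodule ℚ Sp) ≤ 8 :=
      h8 ▸ Submodule.finrank_mono inf_le_left
    have h4 : finrank ℚ (fix (rep (φ x)) ⊓ mv (rep (φ (y ^ 5))) 5 : Submodule ℚ Sp) = 0 := by omega
    intro w hw hw'
    have h5 : w ∈ (fix (rep (φ x)) ⊓ mv (rep (φ (y ^ 5))) 5 : Submodule ℚ Sp) := ⟨hw, hw'⟩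
    rw [Submodule.finrank_eq_zero.1 h4, Submodule.mem_bot] at h5
    exact h5
  have h2 := Submodule.finrank_mono h1
  have h3 := hdvd (mv (rep (φ (y ^ 5))) 5) (fun w hw => mv_inv cyz hw) le_rfl
  have h4 := finrank_add (u := rep (φ (y ^ 5))) (r := 5) (by norm_num) pz
  rw [CpAutCoFive.finrank_Sp] at h4
  have h5 := dim_cases hφ hv hfix hz
  omega

/-- the elements of order a power of five -/
theorem pow_five (hφ : Function.Injective φ) (hv : v ≠ 0) (hfix : ∀ h, φ h • v = v) (hx : orderOf x = 5)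
    (hc : ∀ g, g * x = x * g) (h8 : finrank ℚ (fix (rep (φ x))) = 8) {y : H} {n : ℕ} (hy : y ^ 5 ^ n = 1) :
    y ^ 5 = 1 := by
  obtain ⟨k, -, hk⟩ := (Nat.dvd_prime_pow (by norm_num : Nat.Prime 5)).1 (orderOf_dvd_of_pow_eq_one hy)
  have hk2 : k < 2 := by
    by_contra hcon
    push Not at hcon
    refine not_25 hφ hv hfix hx hc h8 (y := y ^ 5 ^ (k - 2)) ?_
    have h1 : 5 ^ k = 5 ^ (k - 2) * 25 := by
      rw [show (25 : ℕ) = 5 ^ 2 from rfl, ← pow_add]
      congr 1
      omega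
    have h2 : 5 ^ (k - 2) ≠ 0 := by positivity
    rw [orderOf_pow_of_dvd h2 (by rw [hk, h1]; exact dvd_mul_right _ _), hk, h1,
      Nat.mul_div_cancel_left _ (Nat.pos_of_ne_zero h2)]
  apply orderOf_dvd_iff_pow_eq_one.1
  rw [hk]
  calc 5 ^ k ∣ 5 ^ 1 := pow_dvd_pow 5 (by omega)
    _ = 5 := pow_one 5

/-- powers -/
theorem fix_le_pow {y : H} (k : ℤ) : fix (rep (φ y)) ≤ fix (rep (φ (y ^ k))) := by
  intro w hw
  rw [mem_fix] at hw ⊢
  have h1 : ∀ n : ℕ, rep (φ (y ^ n)) w = w := by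
    intro n
    induction n with
    | zero => rw [pow_zero, map_one, map_one]; rfl
    | succ n ih => rw [pow_succ, map_mul, map_mul, Module.End.mul_apply, hw, ih]
  obtain ⟨n, rfl | rfl⟩ := k.eq_nat_or_neg
  · rw [zpow_natCast, h1]
  · rw [zpow_neg, zpow_natCast]
    have h2 := congrArg (rep (φ (y ^ n)⁻¹)) (h1 n)
    rw [← Module.End.mul_apply, ← map_mul, ← map_mul, inv_mul_cancel, map_one, map_one] at h2
    exact h2.symm

/-- the products -/
theorem orderOf_prod (hx : orderOf x = 5) (hc : ∀ g, g * x = x * g) {y : H} (hy : orderOf y = 5)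
    (hyx : y ∉ zpowers x) (m : ℕ) : orderOf (x * y ^ m) = 5 := by
  have h5 : Fact (Nat.Prime 5) := ⟨by norm_num⟩
  have hxy : Commute x y := (hc y).symm
  refine orderOf_eq_prime ?_ ?_
  · rw [(hxy.pow_right m).mul_pow, ← pow_mul, mul_comm, pow_mul, ← hx, pow_orderOf_eq_one, one_mul, hx, ← hy,
      pow_orderOf_eq_one, one_pow]
  · intro h
    apply hyx
    have h1 : x ∈ zpowers y := by
      rw [eq_inv_of_mul_eq_one_left h]
      exact inv_mem (pow_mem (mem_zpowers y) m)
    have : Finite ↥(zpowers y) := Nat.finite_of_card_ne_zero (by rw [Nat.card_zpowers, hy]; norm_num)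
    have h2 : zpowers x = zpowers y := by
      refine Subgroup.eq_of_le_of_card_ge (zpowers_le.2 h1) ?_
      rw [Nat.card_zpowers, Nat.card_zpowers, hx, hy]
    rw [h2]
    exact mem_zpowers y

theorem dims (hφ : Function.Injective φ) (hv : v ≠ 0) (hfix : ∀ h, φ h • v = v) (hx : orderOf x = 5)
    (hc : ∀ g, g * x = x * g) {y : H} (hy : orderOf y = 5) (hyx : y ∉ zpowers x) :
    Dims (rep (φ x)) (rep (φ y)) := by
  refine ⟨FiveCo.finrank_Sp, dim_cases hφ hv hfix hy, fun m _ => ?_⟩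
  have h1 : rep (φ x) * rep (φ y) ^ m = rep (φ (x * y ^ m)) := by rw [map_mul, map_mul, map_pow, map_pow]
  rw [h1]
  exact dim_cases hφ hv hfix (orderOf_prod hx hc hy hyx m)

/-- arithmetic of the six dimensions -/
theorem arith {w n n0 n1 n2 n3 n4 : ℕ} (h : n + n0 + n1 + n2 + n3 + n4 = 24 + 5 * w) (hw4 : w ≤ 4)
    (e0 : ∃ u, n0 = w + 4 * u) (d : n = 4 ∨ n = 8) (d0 : n0 = 8)
    (d1 : n1 = 4 ∨ n1 = 8) (d2 : n2 = 4 ∨ n2 = 8) (d3 : n3 = 4 ∨ n3 = 8) (d4 : n4 = 4 ∨ n4 = 8) :
    w = 4 ∧ (n = 4 ∨ n1 = 4 ∨ n2 = 4 ∨ n3 = 4 ∨ n4 = 4) := by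
  obtain ⟨u, hu⟩ := e0
  refine ⟨by omega, by omega⟩

/-- **The special element.** -/
theorem exists_special (hφ : Function.Injective φ) (hv : v ≠ 0) (hfix : ∀ h, φ h • v = v) (hx : orderOf x = 5)
    (hc : ∀ g, g * x = x * g) (h8 : finrank ℚ (fix (rep (φ x))) = 8) {y : H} (hy : orderOf y = 5)
    (hyx : y ∉ zpowers x) : ∃ m k : ℕ, (x ^ k * y ^ m ∉ zpowers x) ∧ orderOf (x ^ k * y ^ m) = 5 ∧
      fix (rep (φ (x ^ k * y ^ m))) ≤ fix (rep (φ x)) := by
  have D := dims hφ hv hfix hx hc hy hyx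
  have hx5 : x ^ 5 = 1 := by rw [← hx, pow_orderOf_eq_one]
  have hy5 : y ^ 5 = 1 := by rw [← hy, pow_orderOf_eq_one]
  have px := rep_pow (φ := φ) hx5
  have py := rep_pow (φ := φ) hy5
  have cxy : Commute (rep (φ x)) (rep (φ y)) := (show Commute x y from (hc y).symm).map φ |>.map rep
  have h1 := FivePair.sum_fix px py cxy
  rw [D.dV] at h1
  have hw4 := (D.le px py cxy).1
  have e0 : ∃ u, finrank ℚ (fix (rep (φ x) * rep (φ y) ^ 0)) =
      finrank ℚ (fix (rep (φ x)) ⊓ fix (rep (φ y)) : Submodule ℚ Sp) + 4 * u := by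
    rw [pow_zero, mul_one]
    obtain ⟨k, hk⟩ := Rat.sub_prime (fix (rep (φ x))) (r := 5) (by norm_num) (Rat.fix_comm cxy) py
    exact ⟨k, hk⟩
  obtain ⟨hw, hcase⟩ := arith h1 hw4 e0 D.db (by rw [pow_zero, mul_one]; exact h8) (D.dm 1 (by norm_num))
    (D.dm 2 (by norm_num)) (D.dm 3 (by norm_num)) (D.dm 4 (by norm_num))
  -- the conclusion for an element of fixed dimension four
  have key : ∀ c : H, orderOf c = 5 → fix (rep (φ x)) ⊓ fix (rep (φ y)) ≤ fix (rep (φ c)) →
      finrank ℚ (fix (rep (φ c))) = 4 → c ∉ zpowers x ∧ orderOf c = 5 ∧ fix (rep (φ c)) ≤ fix (rep (φ x)) := by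
    intro c hc5 hle h4
    refine ⟨?_, hc5, ?_⟩
    · rintro ⟨k, rfl⟩
      have h2 := Submodule.finrank_mono (fix_le_pow (φ := φ) (y := x) k)
      simp only at h4
      omega
    · have h2 := Submodule.eq_of_le_of_finrank_le hle (by omega)
      rw [← h2]
      exact inf_le_left
  have hm : ∀ m : ℕ, fix (rep (φ x)) ⊓ fix (rep (φ y)) ≤ fix (rep (φ (x * y ^ m))) := by
    rintro m w ⟨h2, h3⟩
    rw [mem_fix, map_mul, map_mul, Module.End.mul_apply]
    have h4 := fix_le_pow (φ := φ) (y := y) m h3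
    rw [zpow_natCast, mem_fix] at h4
    rw [h4]
    exact mem_fix.1 h2
  have hfin : ∀ m : ℕ, finrank ℚ (fix (rep (φ x) * rep (φ y) ^ m)) = 4 → finrank ℚ (fix (rep (φ (x * y ^ m)))) = 4 := by
    intro m h
    rw [← h, map_mul, map_mul, map_pow, map_pow]
  rcases hcase with h | h | h | h | h
  · refine ⟨1, 0, ?_⟩
    rw [pow_zero, one_mul, pow_one]
    exact key y hy inf_le_right h
  · refine ⟨1, 1, ?_⟩
    rw [pow_one x]
    exact key _ (orderOf_prod hx hc hy hyx 1) (hm 1) (hfin 1 h)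
  · refine ⟨2, 1, ?_⟩
    rw [pow_one x]
    exact key _ (orderOf_prod hx hc hy hyx 2) (hm 2) (hfin 2 h)
  · refine ⟨3, 1, ?_⟩
    rw [pow_one x]
    exact key _ (orderOf_prod hx hc hy hyx 3) (hm 3) (hfin 3 h)
  · refine ⟨4, 1, ?_⟩
    rw [pow_one x]
    exact key _ (orderOf_prod hx hc hy hyx 4) (hm 4) (hfin 4 h)

/-- a 2-group on which `c` acts without fixed involutions -/
theorem free_of_involutions {S : Subgroup H} (hS : IsPGroup 2 ↥S) {c : H}
    (h : ∀ t ∈ S, t * t = 1 → t * c = c * t → t = 1) : ∀ g ∈ S, g * c = c * g → g = 1 := by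
  intro g hg hgc
  by_contra h1
  obtain ⟨k, hk⟩ := hS ⟨g, hg⟩
  have hk' : g ^ 2 ^ k = 1 := congrArg Subtype.val hk
  obtain ⟨l, -, hl⟩ := (Nat.dvd_prime_pow Nat.prime_two).1 (orderOf_dvd_of_pow_eq_one hk')
  have hl0 : l ≠ 0 := by
    rintro rfl
    rw [pow_zero, orderOf_eq_one_iff] at hl
    exact h1 hl
  have hl1 : 2 ^ l = 2 ^ (l - 1) * 2 := by
    rw [← pow_succ]
    congr 1
    omega
  have h2 : orderOf (g ^ 2 ^ (l - 1)) = 2 := by
    have h3 : 2 ^ (l - 1) ≠ 0 := by positivity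
    rw [orderOf_pow_of_dvd h3 (by rw [hl, hl1]; exact dvd_mul_right _ _), hl, hl1,
      Nat.mul_div_cancel_left _ (Nat.pos_of_ne_zero h3)]
  have h3 : g ^ 2 ^ (l - 1) = 1 := by
    refine h _ (S.pow_mem hg _) ?_ ?_
    · have h3 := pow_orderOf_eq_one (g ^ 2 ^ (l - 1))
      rw [h2, pow_two] at h3
      exact h3
    · exact (Commute.pow_left (show Commute g c from hgc) _).eq
  rw [h3, orderOf_one] at h2
  norm_num at h2

/-- **2-groups normalised by elements of order five.** -/
theorem two_group (hφ : Function.Injective φ) (hv : v ≠ 0) (hfix : ∀ h, φ h • v = v) (hx : orderOf x = 5)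
    (hc : ∀ g, g * x = x * g) (h8 : finrank ℚ (fix (rep (φ x))) = 8) {y : H} {n : ℕ} (hy : y ^ 5 ^ n = 1)
    {S : Subgroup H} (hS : IsPGroup 2 ↥S) (hyS : y ∈ normalizer (S : Set H)) : S ≤ centralizer ({y} : Set H) := by
  have hx5 : x ^ 5 = 1 := by rw [← hx, pow_orderOf_eq_one]
  have hy5 := pow_five hφ hv hfix hx hc h8 hy
  by_cases hyx : y ∈ zpowers x
  · obtain ⟨k, rfl⟩ := hyx
    intro s _
    rw [mem_centralizer_singleton_iff]
    exact (Commute.zpow_right (show Commute s x from hc s) k).eq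
  have h5 : Fact (Nat.Prime 5) := ⟨by norm_num⟩
  have hoy : orderOf y = 5 := orderOf_eq_prime hy5 fun h => hyx (h ▸ one_mem _)
  obtain ⟨m, k, hcx, hoc, hfc⟩ := exists_special hφ hv hfix hx hc h8 hoy hyx
  obtain ⟨c, hcdef⟩ : ∃ c, c = x ^ k * y ^ m := ⟨_, rfl⟩
  rw [← hcdef] at hcx hoc hfc
  have hc5 : c ^ 5 = 1 := by rw [← hoc, pow_orderOf_eq_one]
  have px := rep_pow (φ := φ) hx5
  have pc := rep_pow (φ := φ) hc5
  -- `c` normalises `S`
  have hxS : ∀ g : H, x * g * x⁻¹ = g := fun g => by rw [← hc g, mul_inv_cancel_right]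
  have hxN : x ∈ normalizer (S : Set H) := by
    rw [mem_normalizer_iff]
    intro g
    rw [hxS]
  have hcN : c ∈ normalizer (S : Set H) := by
    rw [hcdef]
    exact mul_mem (pow_mem hxN k) (pow_mem hyS m)
  have hcS : ∀ g ∈ S, c * g * c⁻¹ ∈ S := fun g hg => (mem_normalizer_iff.1 hcN g).1 hg
  -- no involution of `S` commutes with `c`
  have D := dims hφ hv hfix hx hc hoc hcx
  have hinv : ∀ t ∈ S, t * t = 1 → t * c = c * t → t = 1 := by
    intro t _ ht htc
    apply hφ
    rw [map_one]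
    have cxc : Commute (φ x) (φ c) := (show Commute x c from (hc c).symm).map φ
    have cxt : Commute (φ x) (φ t) := (show Commute x t from (hc t).symm).map φ
    have cct : Commute (φ c) (φ t) := (show Commute c t from htc.symm).map φ
    exact eq_one_of_pair (by rw [← map_pow, hx5, map_one]) (by rw [← map_pow, hc5, map_one]) cxc D
      (by rw [← map_mul, ht, map_one]) cxt cct hv (hfix x) (hfix c) (hfix t)
  have hfree := free_of_involutions hS hinv
  -- `S` acts trivially on the moved space of `x`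
  have hact : ∀ s ∈ S, ∀ u ∈ mv (rep (φ x)) 5, rep (φ s) u = u := by
    intro s hs u hu
    refine average (rep.comp φ) hc5 hcS hfree (W := mv (rep (φ x)) 5) ?_ ?_ hs hu
    · intro h w hw
      exact mv_inv ((show Commute h x from hc h).map φ |>.map rep) hw
    · intro w hw
      have h1 : ∀ i, (rep.comp φ) (c ^ i) w = (rep (φ c) ^ i) w := fun i => by
        rw [map_pow]
        rfl
      rw [Finset.sum_congr rfl fun i _ => h1 i, ← LinearMap.sum_apply]
      have h2 : nr (rep (φ c)) 5 w ∈ fix (rep (φ x)) := hfc (nr_mem_fix pc w)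
      have h3 : nr (rep (φ c)) 5 w ∈ mv (rep (φ x)) 5 := by
        refine mv_inv ?_ hw
        exact Commute.sum_left _ _ _ fun i _ => ((show Commute c x from hc c).map φ |>.map rep).pow_left i
      exact eq_zero_of_fix (by norm_num) (mem_fix.1 h2) h3
  -- `S` is trivial
  have h1 : ∀ t ∈ S, t * t = 1 → t * 1 = 1 * t → t = 1 := by
    intro t ht htt _
    by_contra hne
    have hle : mv (rep (φ x)) 5 ≤ fix (rep (φ t)) := fun u hu => mem_fix.2 (hact t ht u hu)
    have h2 := finrank_add (u := rep (φ x)) (r := 5) (by norm_num) px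
    rw [CpAutCoFive.finrank_Sp] at h2
    have h3 := dims_two (t := φ t) (by rw [← map_mul, htt, map_one]) fun h => hne (hφ (by rw [h, map_one]))
    have h4 : mv (rep (φ x)) 5 = fix (rep (φ t)) := Submodule.eq_of_le_of_finrank_le hle (by omega)
    have h5 : tau v ∈ fix (rep (φ t)) := mem_fix_tau.2 (hfix t)
    rw [← h4] at h5
    exact hv (tau_injective (by rw [eq_zero_of_fix (by norm_num) (mem_fix.1 (mem_fix_tau.2 (hfix x))) h5, map_zero]))
  intro s hs
  rw [free_of_involutions hS h1 s hs (by rw [mul_one, one_mul])]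
  exact one_mem _

/-- **Good.** -/
theorem good_eight (F : Facts) (hφ : Function.Injective φ) (hv : v ≠ 0) (hfix : ∀ h, φ h • v = v)
    (hx : orderOf x = 5) (hc : ∀ g, g * x = x * g) (h8 : finrank ℚ (fix (rep (φ x))) = 8) : BpTab.Good 5 H := by
  have h5 : Fact (Nat.Prime 5) := ⟨by norm_num⟩
  refine Arith.good_of_triv ?_
  rintro y ⟨n, hy⟩ q hq hq5 S - hSq hyS
  rcases Nat.lt_or_ge q 7 with h7 | h7
  · have hq2 : q = 2 ∨ q = 3 := by
      have := hq.two_le
      interval_cases q <;> first | omega | (exfalso; revert hq; norm_num)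
    rcases hq2 with rfl | rfl
    · exact two_group hφ hv hfix hx hc h8 hy hSq hyS
    · refine Arith.cent_of_index h5.out hy hq hq5 hSq hyS ?_
      intro m hm hmd _
      have hm1 : m = 1 := by
        by_contra hm1
        apply not_nine F hφ hv hfix hx hc
        calc 9 = 3 ^ 2 := by norm_num
          _ ∣ 3 ^ m := pow_dvd_pow 3 (by omega)
          _ ∣ Nat.card ↥S := hmd
          _ ∣ Nat.card H := card_subgroup_dvd_card S
      subst hm1
      norm_num
  · have hS1 : S = ⊥ := by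
      rw [← Subgroup.card_eq_one]
      have := Fact.mk hq
      obtain ⟨a, ha⟩ := IsPGroup.iff_card.1 hSq
      rw [ha]
      have ha0 : a = 0 := by
        by_contra ha0
        apply not_prime hφ hv hfix hx hc hq h7
        calc q ∣ q ^ a := dvd_pow_self q ha0
          _ = Nat.card ↥S := ha.symm
          _ ∣ Nat.card H := card_subgroup_dvd_card S
      rw [ha0, pow_zero]
    rw [hS1]
    exact bot_le

end

end Cfsg.Agent.BpSpor.Co2.Five

end

-- merged: Cfsg.Agent.BpSpor.CoTwoFiveFour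
section

/-!
# Centralizers in `Co2` of the elements of order five of fixed dimension four

* `isoMcL` : the stabilizer of two vectors of norm 32 with inner product `-8` is isomorphic to `McL`;
* `isSolvable_of_ker` : `H` finite with a central element `x` of order five and fixed dimension four, fixing a nonzero
  vector: `H` is solvable if the kernel of the action on the fixed space of `x` is solvable;
* `isSolvable_four` : `C_{Stab(v)}(x)` is solvable.
-/

set_option autoImplicit false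
set_option linter.unusedSectionVars false

namespace Cfsg.Agent.BpSpor.Co2.Five

open Cfsg Cfsg.Spor Subgroup Module Cfsg.Agent.SporadicStructure.Co0Base
open Cfsg.Agent.SigZeroCo2.Rank (fix mem_fix)
open Cfsg.Agent.SigZeroCo2.Lin (rep Sp)
open Cfsg.Agent.PreUniqCo Cfsg.Agent.PreUniqCo.FixBound Cfsg.Agent.PreUniqCo.LatCo
open Cfsg.Agent.CpAutCoFive
open Cfsg.Agent.CpAutCoTwo.Setup (Hs mem_Hs dot_co0)
open Cfsg.Agent.MonsterX.KSide (dot)

/-! ### `McL` -/

/-- `McL` as a stabilizer in `Co0` -/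
def equivMcL : ↥(MulAction.stabilizer Co0 Spor.leechV ⊓ MulAction.stabilizer Co0 Spor.leechU) ≃* Spor.McL where
  toFun g := ⟨((g : Co0) : Equiv.Perm leechLattice), ⟨⟨(g : Co0).2, g.2.1⟩, g.2.2⟩⟩
  invFun g := ⟨⟨(g : Equiv.Perm leechLattice), g.2.1.1⟩, ⟨g.2.1.2, g.2.2⟩⟩
  left_inv _ := rfl
  right_inv _ := rfl
  map_mul' _ _ := rfl

theorem map_stab (g : Co0) (v w : leechLattice) :
    (MulAction.stabilizer Co0 v ⊓ MulAction.stabilizer Co0 w).map (MulAut.conj g).toMonoidHom =
      MulAction.stabilizer Co0 (g • v) ⊓ MulAction.stabilizer Co0 (g • w) := by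
  ext z
  rw [mem_map]
  constructor
  · rintro ⟨y, ⟨h1, h2⟩, rfl⟩
    have h1' : y • v = v := h1
    have h2' : y • w = w := h2
    refine ⟨?_, ?_⟩
    · change (g * y * g⁻¹) • g • v = g • v
      rw [← mul_smul, inv_mul_cancel_right, mul_smul, h1']
    · change (g * y * g⁻¹) • g • w = g • w
      rw [← mul_smul, inv_mul_cancel_right, mul_smul, h2']
  · rintro ⟨h1, h2⟩
    have h1' : z • g • v = g • v := h1
    have h2' : z • g • w = g • w := h2
    refine ⟨g⁻¹ * z * g, ⟨?_, ?_⟩, ?_⟩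
    · change (g⁻¹ * z * g) • v = v
      rw [mul_smul, mul_smul, h1', inv_smul_smul]
    · change (g⁻¹ * z * g) • w = w
      rw [mul_smul, mul_smul, h2', inv_smul_smul]
    · change g * (g⁻¹ * z * g) * g⁻¹ = z
      group

/-- the standard second vector -/
def vN : leechLattice := -(Spor.leechV + Spor.leechU)

theorem norm_vN : sqNorm (vN : GolayPt → ℤ) = 32 := by
  change sqNorm (-(Spor.vecV + Spor.vecU)) = 32
  decide +kernel

theorem norm_leechU : sqNorm (Spor.leechU : GolayPt → ℤ) = 32 := by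
  change sqNorm Spor.vecU = 32
  decide +kernel

theorem dot_vN : dotInt (vN : GolayPt → ℤ) (Spor.leechU : GolayPt → ℤ) = -8 := by
  change dotInt (-(Spor.vecV + Spor.vecU)) Spor.vecU = -8
  decide +kernel

theorem stab_vN : MulAction.stabilizer Co0 vN ⊓ MulAction.stabilizer Co0 Spor.leechU =
    MulAction.stabilizer Co0 Spor.leechV ⊓ MulAction.stabilizer Co0 Spor.leechU := by
  ext g
  rw [mem_inf, mem_inf, MulAction.mem_stabilizer_iff, MulAction.mem_stabilizer_iff, MulAction.mem_stabilizer_iff, vN,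
    CpAutCoTwo.Setup.smul_neg, co0_smul_add, neg_inj]
  constructor
  · rintro ⟨h1, h2⟩
    rw [h2, add_left_inj] at h1
    exact ⟨h1, h2⟩
  · rintro ⟨h1, h2⟩
    exact ⟨by rw [h1, h2], h2⟩

/-- **The stabilizer of two vectors of norm 32 with inner product `-8`.** -/
theorem isoMcL {v w : leechLattice} (hv : sqNorm (v : GolayPt → ℤ) = 32) (hw : sqNorm (w : GolayPt → ℤ) = 32)
    (hd : dotInt (v : GolayPt → ℤ) (w : GolayPt → ℤ) = -8) :
    Spor.IsoMcL ↥(MulAction.stabilizer Co0 v ⊓ MulAction.stabilizer Co0 w) := by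
  obtain ⟨g, hg⟩ := S0400.result v vN hv norm_vN
  have h1 : sqNorm ((g • w : leechLattice) : GolayPt → ℤ) = 32 := by rw [co0_sqNorm, hw]
  have h2 : dotInt (vN : GolayPt → ℤ) ((g • w : leechLattice) : GolayPt → ℤ) = -8 := by
    rw [← hg, co0_dotInt, hd]
  obtain ⟨k, hk1, hk2⟩ := S1575.result vN (g • w) Spor.leechU norm_vN h1 norm_leechU h2 dot_vN
  have h3 : (MulAction.stabilizer Co0 v ⊓ MulAction.stabilizer Co0 w).map (MulAut.conj (k * g)).toMonoidHom =
      MulAction.stabilizer Co0 Spor.leechV ⊓ MulAction.stabilizer Co0 Spor.leechU := by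
    rw [map_stab, mul_smul, mul_smul, hg, hk1, hk2, stab_vN]
  exact ⟨(((MulAction.stabilizer Co0 v ⊓ MulAction.stabilizer Co0 w).equivMapOfInjective
    (MulAut.conj (k * g)).toMonoidHom (MulAut.conj (k * g)).injective).trans (MulEquiv.subgroupCongr h3)).trans
    equivMcL⟩

/-! ### A fixed vector -/

theorem exists_w {v : leechLattice} (hv : sqNorm (v : GolayPt → ℤ) = 32) {x : Co0} (hx5 : x ^ 5 = 1)
    (hxv : x • v = v) : ∃ w : leechLattice, sqNorm (w : GolayPt → ℤ) = 32 ∧
      dotInt (v : GolayPt → ℤ) (w : GolayPt → ℤ) = -8 ∧ x • w = w := by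
  classical
  let Y : Set leechLattice := {w | sqNorm (w : GolayPt → ℤ) = 32 ∧ dotInt (v : GolayPt → ℤ) (w : GolayPt → ℤ) = -8}
  have hYc : Y.ncard = 47104 := by
    rw [← (S1573.result (v : GolayPt → ℤ) v.2 hv).2.1, ← Set.ncard_image_of_injective _ (Subtype.val_injective)]
    congr 1
    ext y
    constructor
    · rintro ⟨w, ⟨h1, h2⟩, rfl⟩
      exact ⟨w.2, h1, h2⟩
    · rintro ⟨h0, h1, h2⟩
      exact ⟨⟨y, h0⟩, ⟨h1, h2⟩, rfl⟩
  have hYf : Finite ↥Y := by
    apply Set.Finite.to_subtype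
    exact Set.finite_of_ncard_ne_zero (by rw [hYc]; norm_num)
  let _ : Fintype ↥Y := Fintype.ofFinite _
  have hst : ∀ w ∈ Y, x • w ∈ Y := by
    rintro w ⟨h1, h2⟩
    refine ⟨by rw [co0_sqNorm]; exact h1, ?_⟩
    nth_rw 1 [← hxv]
    rw [co0_dotInt]
    exact h2
  let τ : Function.End ↥Y := fun w => ⟨x • (w : leechLattice), hst w w.2⟩
  have hτ : τ ^ 5 ^ 1 = 1 := by
    funext w
    apply Subtype.ext
    change x • (x • (x • (x • (x • (w : leechLattice))))) = w
    rw [← mul_smul, ← mul_smul, ← mul_smul, ← mul_smul]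
    have h1 : x * x * x * x * x = 1 := by rw [← hx5]; simp only [pow_succ, pow_zero, one_mul]
    rw [h1, one_smul]
  have : Fact (Nat.Prime 5) := ⟨by norm_num⟩
  have h2 := Equiv.Perm.card_fixedPoints_modEq (p := 5) (n := 1) hτ
  by_contra hcon
  have h4 : Fintype.card (Function.fixedPoints τ) = 0 := by
    rw [Fintype.card_eq_zero_iff]
    refine ⟨fun w => hcon ⟨(w : ↥Y), (w : ↥Y).2.1, (w : ↥Y).2.2, ?_⟩⟩
    exact congrArg Subtype.val w.2
  rw [h4, ← Nat.card_eq_fintype_card, Nat.card_coe_set_eq, hYc] at h2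
  have h5 := (Nat.modEq_zero_iff_dvd).1 h2
  norm_num at h5

/-! ### The action on the fixed space -/

section

variable {H : Type*} [Group H] [Finite H] {φ : H →* Co0} {v : leechLattice} {x : H}

/-- the action on the fixed space of `x` -/
noncomputable def actFix (φ : H →* Co0) (x : H) (hc : ∀ g, g * x = x * g) :
    H →* Module.End ℚ (fix (rep (φ x))) where
  toFun h := (rep (φ h)).restrict (Rat.fix_comm ((show Commute x h from (hc h).symm).map φ |>.map rep))
  map_one' := by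
    refine LinearMap.ext fun u => Subtype.ext ?_
    change ((rep (φ 1)) (u : Sp)) = u
    rw [map_one, map_one]
    rfl
  map_mul' g h := by
    refine LinearMap.ext fun u => Subtype.ext ?_
    change ((rep (φ (g * h))) (u : Sp)) = rep (φ g) (rep (φ h) u)
    rw [map_mul, map_mul]
    rfl

theorem actFix_apply (hc : ∀ g, g * x = x * g) (h : H) (u : fix (rep (φ x))) :
    ((actFix φ x hc h u : fix (rep (φ x))) : Sp) = rep (φ h) (u : Sp) := rfl

/-- **Solvability from the kernel.** -/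
theorem isSolvable_of_ker (hφ : Function.Injective φ) (hv : v ≠ 0) (hfix : ∀ h, φ h • v = v) (hx : orderOf x = 5)
    (hc : ∀ g, g * x = x * g) (h4 : finrank ℚ (fix (rep (φ x))) = 4) (K : Subgroup H) (hK : Group.IsSolvable ↥K)
    (hker : ∀ h, (∀ u ∈ fix (rep (φ x)), rep (φ h) u = u) → h ∈ K) : Group.IsSolvable H := by
  let f : H →* (Module.End ℚ (fix (rep (φ x))))ˣ := (actFix φ x hc).toHomUnits
  have hf : ∀ h, ((f h : (Module.End ℚ (fix (rep (φ x))))ˣ) : Module.End ℚ (fix (rep (φ x)))) = actFix φ x hc h :=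
    fun h => rfl
  have hkerf : f.ker ≤ K := by
    intro h hh
    rw [MonoidHom.mem_ker] at hh
    apply hker
    intro u hu
    have h1 := congrArg (fun g : (Module.End ℚ (fix (rep (φ x))))ˣ => (g : Module.End ℚ (fix (rep (φ x)))) ⟨u, hu⟩) hh
    exact congrArg Subtype.val h1
  have hkers : Group.IsSolvable ↥f.ker := by
    exact Group.isSolvable_of_isSolvable_injective (f := Subgroup.inclusion hkerf) (Subgroup.inclusion_injective _)
  have hfin : Finite ↥f.range := Set.finite_range f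
  have hran : Group.IsSolvable ↥f.range := by
    by_contra hns
    obtain ⟨r, hr, hr5, hrd⟩ := Gen.exists_prime hns
    have hrH : r ∣ Nat.card H := hrd.trans (card_range_dvd f)
    rcases Nat.lt_or_ge r 7 with h7 | h7
    · have hr5' : r = 5 := by
        interval_cases r
        · rfl
        · norm_num at hr
      subst hr5'
      have h5 : Fact (Nat.Prime 5) := ⟨hr⟩
      obtain ⟨⟨_, h, rfl⟩, hy⟩ := exists_prime_orderOf_dvd_card' (G := ↥f.range) 5 hrd
      have hy5 : f h ^ 5 = 1 := by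
        have h1 := pow_orderOf_eq_one (⟨f h, ⟨h, rfl⟩⟩ : ↥f.range)
        rw [hy] at h1
        exact congrArg Subtype.val h1
      have h5' : (actFix φ x hc h) ^ 5 = 1 := congrArg Units.val hy5
      have h1 := dvd_finrank_mv (V := fix (rep (φ x))) (r := 5) hr h5'
      have h2 := finrank_add (V := fix (rep (φ x))) (r := 5) (by norm_num) h5'
      have h3 : finrank ℚ (fix (actFix φ x hc h)) ≠ 0 := by
        intro h0
        have h6 : (⟨tau v, mem_fix_tau.2 (hfix x)⟩ : fix (rep (φ x))) ∈ fix (actFix φ x hc h) := by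
          rw [mem_fix]
          apply Subtype.ext
          rw [actFix_apply, rep_tau, hfix h]
        rw [Submodule.finrank_eq_zero.1 h0, Submodule.mem_bot] at h6
        exact hv (tau_injective ((congrArg Subtype.val h6).trans (map_zero FixBound.tau).symm))
      have h6 : fix (actFix φ x hc h) = ⊤ := Submodule.eq_top_of_finrank_eq (by omega)
      have h7' : actFix φ x hc h = 1 := by
        refine LinearMap.ext fun u => Subtype.ext ?_
        have h8 : u ∈ fix (actFix φ x hc h) := by rw [h6]; trivial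
        exact congrArg Subtype.val (mem_fix.1 h8)
      have h8 : f h = 1 := Units.ext h7'
      have h9 : (⟨f h, ⟨h, rfl⟩⟩ : ↥f.range) = 1 := Subtype.ext h8
      rw [h9, orderOf_one] at hy
      norm_num at hy
    · exact not_prime hφ hv hfix hx hc hr h7 hrH
  have hranR : Group.IsSolvable ↥f.range := hran
  exact Group.isSolvable_of_ker_le_range (f.ker.subtype) f.rangeRestrict (by
    rw [MonoidHom.ker_rangeRestrict, range_subtype])

end

theorem ne_zero_of_norm {v : leechLattice} (hv : sqNorm (v : GolayPt → ℤ) = 32) : v ≠ 0 := by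
  rintro rfl
  have h1 : sqNorm ((0 : leechLattice) : GolayPt → ℤ) = 0 := by
    unfold sqNorm
    exact Finset.sum_eq_zero fun i _ => by
      change (0 : ℤ) ^ 2 = 0
      norm_num
  rw [h1] at hv
  norm_num at hv

/-- **The centralizers in the stabilizer of a vector of norm 32, rank four.** -/
theorem isSolvable_four {v : leechLattice} (hv : sqNorm (v : GolayPt → ℤ) = 32) {x : Co0} (hx : orderOf x = 5)
    (hxv : x • v = v) (h4 : finrank ℚ (fix (rep x)) = 4) : Group.IsSolvable ↥(Hs v x) := by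
  have := PreUniqCo.Rows.finite_co0
  have hx5 : x ^ 5 = 1 := by rw [← hx, pow_orderOf_eq_one]
  obtain ⟨w, hw, hd, hxw⟩ := exists_w hv hx5 hxv
  have hv0 := ne_zero_of_norm hv
  have hxm : x ∈ Hs v x := mem_Hs.2 ⟨hxv, rfl⟩
  -- the centralizer in `McL`
  let M : Subgroup Co0 := MulAction.stabilizer Co0 v ⊓ MulAction.stabilizer Co0 w
  have hxM : x ∈ M := ⟨MulAction.mem_stabilizer_iff.2 hxv, MulAction.mem_stabilizer_iff.2 hxw⟩
  have hs := CpAut.SmallP.McL.isSolvable_five (isoMcL hv hw hd) (x := (⟨x, hxM⟩ : ↥M))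
    ((Subgroup.orderOf_mk x hxM).trans hx)
  let K : Subgroup ↥(Hs v x) := (MulAction.stabilizer Co0 w).subgroupOf (Hs v x)
  have hK : Group.IsSolvable ↥K := by
    let ψ : ↥K →* ↥(centralizer ({(⟨x, hxM⟩ : ↥M)} : Set ↥M)) :=
      { toFun := fun k => ⟨⟨((k : ↥(Hs v x)) : Co0), ⟨(k : ↥(Hs v x)).2.1, k.2⟩⟩, by
          rw [mem_centralizer_singleton_iff]
          exact Subtype.ext (mem_Hs.1 (k : ↥(Hs v x)).2).2⟩
        map_one' := rfl
        map_mul' := fun _ _ => rfl }
    refine Group.isSolvable_of_isSolvable_injective (f := ψ) ?_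
    intro a b hab
    have h1 := congrArg (fun c : ↥(centralizer ({(⟨x, hxM⟩ : ↥M)} : Set ↥M)) => ((c : ↥M) : Co0)) hab
    exact Subtype.ext (Subtype.ext h1)
  refine isSolvable_of_ker (φ := (Hs v x).subtype) (v := v) (x := ⟨x, hxm⟩) (subtype_injective _) hv0
    (fun h => (mem_Hs.1 h.2).1) ((Subgroup.orderOf_mk x hxm).trans hx) ?_ h4 K hK ?_
  · rintro ⟨g, hg⟩
    exact Subtype.ext (mem_Hs.1 hg).2
  · intro h hh
    have h1 := hh (tau w) (mem_fix_tau.2 hxw)
    rw [rep_tau] at h1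
    exact tau_injective h1

end Cfsg.Agent.BpSpor.Co2.Five

end

-- merged: Cfsg.Agent.BpSpor.CoTwoFive
section

/-!
# S1332: the row `Co2`, `p = 5`
-/

set_option autoImplicit false

namespace Cfsg.Agent.BpSpor.Co2

open Cfsg Cfsg.Spor Subgroup Cfsg.Agent.BpTab Cfsg.Agent.BpSpor.Co2.Five
open Cfsg.Agent.CpAutCoTwo.Setup (Hs mem_Hs)

/-- **The centralizers of elements of order five in the stabilizer of a vector of norm 32.** -/
theorem good_Hs_five {v : leechLattice} {x : Co0} (hv : sqNorm (v : GolayPt → ℤ) = 32) (hx : orderOf x = 5)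
    (hxv : x • v = v) : Good 5 ↥(Hs v x) := by
  have := PreUniqCo.Rows.finite_co0
  have h5 : Fact (Nat.Prime 5) := ⟨by norm_num⟩
  have hv0 := ne_zero_of_norm hv
  rcases PreUniqCo.FiveCo.dims_five hx (CpAutCoFive.finrank_fix_ne_zero hv0 hxv) with h | h
  · exact good_of_solvable (isSolvable_four hv hx hxv h)
  · have hxm : x ∈ Hs v x := mem_Hs.2 ⟨hxv, rfl⟩
    refine good_eight PreUniqCo.Facts.facts (φ := (Hs v x).subtype) (v := v) (x := ⟨x, hxm⟩) (subtype_injective _) hv0
      (fun h => (mem_Hs.1 h.2).1) ((Subgroup.orderOf_mk x hxm).trans hx) ?_ h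
    rintro ⟨g, hg⟩
    exact Subtype.ext (mem_Hs.1 hg).2

/-- **Elements of order five of `Co2`.** -/
theorem good_co2_five (x : Spor.Co2) (hx : orderOf x = 5) : Good 5 ↥(centralizer ({x} : Set Spor.Co2)) := by
  have h5 : Fact (Nat.Prime 5) := ⟨by norm_num⟩
  refine good_of_stab 5 x fun y hy => ?_
  have hy0 : orderOf (y : Co0) = 5 := by rw [Subgroup.orderOf_coe, ← hx, ← hy, MulEquiv.orderOf_eq]
  exact good_Hs_five CpAutCoTwo.Lp.norm_u hy0 (MulAction.mem_stabilizer_iff.1 y.2)

/-- **The row `Co2`, `p = 5`.** -/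
theorem bps_five : BpS 5 Spor.Co2 := by
  have h5 : Fact (Nat.Prime 5) := ⟨by norm_num⟩
  exact bpS_of_inner center_bot (autInner 5) good_co2_five

end Cfsg.Agent.BpSpor.Co2

end
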