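import Cfsg.Agent.BpSpor.Sec
import Cfsg.Agent.SmallSimple.EvenOrder
import Cfsg.Agent.S0144
import Cfsg.Agent.S0205
import Cfsg.Agent.S0493

/-!
# S1332, sporadic rows: numeric criteria (helper5)

* `good_of_arith` : no `q ^ m` with `p ∣ q ^ m - 1`, `q ≠ p` and `q ^ m * (|Z| * p) ∣ |H|`;
* `good_of_num` : `64`, `81`, `125`, `343`, `r ^ 2` (`r ≥ 11`) do not divide `|H|` (primes different from `p`);
* `good_of_num_center` : the same with a central `p`-element.
-/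

set_option autoImplicit false

namespace Cfsg.Agent.BpSpor

open Subgroup Cfsg Cfsg.Agent.Lib Cfsg.Agent.SignalizersComponents Cfsg.Agent.BpTab
open Cfsg.Agent.Intrinsic.Charac

universe u

theorem isPGroup_bot {H : Type*} [Group H] (p : ℕ) : IsPGroup p ↥(⊥ : Subgroup H) :=
  fun a => ⟨0, by rw [pow_zero, pow_one]; exact Subsingleton.elim _ _⟩

section

variable {H : Type u} [Group H] [Finite H] {p : ℕ} [hp : Fact p.Prime]

/-- `p ∣ q ^ m - 1` for some `m ≤ d` if `p` divides `|GL_d(q)|` -/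
theorem exists_pow_sub_one {r d : ℕ} (hr : r.Prime) (hrp : r ≠ p) (h : p ∣ ∏ i : Fin d, (r ^ d - r ^ (i : ℕ))) :
    ∃ m, 1 ≤ m ∧ m ≤ d ∧ p ∣ r ^ m - 1 := by
  obtain ⟨i, -, hi⟩ := (Nat.Prime.prime hp.out).exists_mem_finset_dvd h
  refine ⟨d - i, by omega, by omega, ?_⟩
  have h1 : r ^ d - r ^ (i : ℕ) = r ^ (i : ℕ) * (r ^ (d - i) - 1) := by
    rw [Nat.mul_sub, mul_one, ← pow_add]
    congr 2
    omega
  rw [h1] at hi
  rcases hp.out.dvd_mul.1 hi with h2 | h2
  · exfalso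
    have h3 := hp.out.dvd_of_dvd_pow h2
    exact hrp ((Nat.prime_dvd_prime_iff_eq hp.out hr).1 h3).symm
  · exact h2

/-- **The arithmetic criterion**, with a central `p`-subgroup `Z`. -/
theorem good_of_arith (Z : Subgroup H) (hZ : Z ≤ center H) (hZp : IsPGroup p ↥Z)
    (h : ∀ r m : ℕ, r.Prime → r ≠ p → 1 ≤ m → r ^ m * (Nat.card ↥Z * p) ∣ Nat.card H → ¬ p ∣ r ^ m - 1) :
    Good p H := by
  by_contra hG
  obtain ⟨K, -, r, k, d, M, hs, hna, hpS, hr, hrp, hd, hdk, hdvd, hS⟩ := witness hG Z hZ hZp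
  have h1 : p ∣ r ^ M * ∏ i : Fin d, (r ^ d - r ^ (i : ℕ)) := hpS.trans hS
  rcases hp.out.dvd_mul.1 h1 with h2 | h2
  · exact hrp ((Nat.prime_dvd_prime_iff_eq hp.out hr).1 (hp.out.dvd_of_dvd_pow h2)).symm
  · obtain ⟨m, hm1, hmd, hm⟩ := exists_pow_sub_one hr hrp h2
    refine h r m hr hrp hm1 (dvd_trans (mul_dvd_mul (pow_dvd_pow r (hmd.trans hdk))
      (Nat.mul_dvd_mul_left _ hpS)) hdvd) hm

end

section Small

variable {S : Type*} [Group S] [Finite S] [IsSimpleGroup S]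

theorem not_solvable (hna : ¬ ∀ a b : S, a * b = b * a) : ¬ Group.IsSolvable S := fun h =>
  hna fun a b => (IsSimpleGroup.comm_iff_isSolvable (G := S)).2 h a b

theorem not_two_primes (hna : ¬ ∀ a b : S, a * b = b * a) {p q a b : ℕ} (hp : p.Prime) (hq : q.Prime) :
    ¬ Nat.card S ∣ p ^ a * q ^ b := by
  intro h
  obtain ⟨x, y, hx, hy, hxy⟩ := exists_dvd_and_dvd_of_dvd_mul h
  obtain ⟨i, -, rfl⟩ := (Nat.dvd_prime_pow hp).1 hx
  obtain ⟨j, -, rfl⟩ := (Nat.dvd_prime_pow hq).1 hy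
  exact not_solvable hna (S0144.result p q i j hp hq hxy)

theorem four_dvd (hna : ¬ ∀ a b : S, a * b = b * a) : 4 ∣ Nat.card S := by
  have h1 : ¬ IsMulCommutative S := fun h => hna fun a b => h.is_comm.comm a b
  refine SmallSimple.EvenOrder.four_dvd_card h1 ?_
  by_contra h2
  exact not_solvable hna (S0205.result (Nat.not_even_iff_odd.1 fun h => h2 h.two_dvd))

theorem not_dvd_84 (hna : ¬ ∀ a b : S, a * b = b * a) : ¬ Nat.card S ∣ 84 := by
  intro h
  have h1 : ¬ IsCyclic S := fun hc => hna fun a b => (IsCyclic.isMulCommutative (α := S)).is_comm.comm a b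
  have h2 := S0493.result h1 ((Nat.le_of_dvd (by norm_num) h).trans (by norm_num))
  rw [h2] at h
  exact absurd h (by norm_num)

end Small

theorem dvd_of_not_dvd {r M a c s : ℕ} (hr : r.Prime) (h : s ∣ r ^ M * (r ^ a * c)) (hs : ¬ r ∣ s) : s ∣ c := by
  have h1 : ∀ n, s.Coprime (r ^ n) := fun n => (((Nat.Prime.coprime_iff_not_dvd hr).2 hs).symm).pow_right n
  exact (h1 a).dvd_of_dvd_mul_left ((h1 M).dvd_of_dvd_mul_left h)

/-- a form of divisibility by `4 * odd` -/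
theorem dvd_of_eight {M c s : ℕ} (h : s ∣ 2 ^ M * c) (hs : ¬ 8 ∣ s) (h4 : 4 ∣ s) : s ∣ 4 * c := by
  obtain ⟨m, rfl⟩ := h4
  have hm : ¬ 2 ∣ m := by
    rintro ⟨n, rfl⟩
    exact hs ⟨n, by ring⟩
  have h1 : m.Coprime (2 ^ M) := (((Nat.Prime.coprime_iff_not_dvd Nat.prime_two).2 hm).symm).pow_right M
  exact Nat.mul_dvd_mul_left 4 (h1.dvd_of_dvd_mul_left ((Dvd.intro_left _ rfl).trans h))

/-- **The numeric criterion.** -/
theorem good_of_num {H : Type u} [Group H] [Finite H] {p : ℕ} (hp : p.Prime) (h2 : ¬ 64 ∣ Nat.card H)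
    (h3 : p = 3 ∨ ¬ 81 ∣ Nat.card H) (h5 : p = 5 ∨ ¬ 125 ∣ Nat.card H) (h7 : p = 7 ∨ ¬ 343 ∣ Nat.card H)
    (h11 : ∀ r, r.Prime → 11 ≤ r → r ≠ p → ¬ r ^ 2 ∣ Nat.card H) : Good p H := by
  have : Fact p.Prime := ⟨hp⟩
  by_contra hG
  obtain ⟨K, -, r, k, d, M, hs, hna, hpS, hr, hrp, hd, hdk, hdvd, hS⟩ := witness hG ⊥ bot_le (isPGroup_bot p)
  rw [card_bot, one_mul] at hdvd
  have hk : r ^ k ∣ Nat.card H := (Dvd.intro _ rfl).trans hdvd
  have hS4 := four_dvd hna
  rcases Nat.lt_or_ge r 11 with hlt | hge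
  · have hr' : r = 2 ∨ r = 3 ∨ r = 5 ∨ r = 7 := by
      interval_cases r <;> first | omega | (exfalso; revert hr; norm_num)
    rcases hr' with rfl | rfl | rfl | rfl
    · -- `r = 2`
      have hk4 : k < 4 := by
        by_contra hk4
        apply h2
        have h1 : 2 ^ 4 ∣ 2 ^ k := pow_dvd_pow 2 (by omega)
        exact (mul_dvd_mul h1 hS4).trans hdvd
      have hd' : d = 2 ∨ d = 3 := by omega
      rcases hd' with rfl | rfl
      · have h1 : ∏ i : Fin 2, (2 ^ 2 - 2 ^ (i : ℕ)) = 2 * 3 ^ 1 := by decide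
        rw [h1, ← mul_assoc, ← pow_succ] at hS
        exact not_two_primes hna Nat.prime_two Nat.prime_three hS
      · have h1 : ∏ i : Fin 3, (2 ^ 3 - 2 ^ (i : ℕ)) = 2 ^ 3 * 21 := by decide
        rw [h1, ← mul_assoc, ← pow_add] at hS
        have hk3 : k = 3 := by omega
        have h8 : ¬ 8 ∣ Nat.card (↥K ⧸ center ↥K) := fun h8 => h2 (by
          rw [hk3] at hdvd
          exact (mul_dvd_mul_left (2 ^ 3) h8).trans hdvd)
        exact not_dvd_84 hna (dvd_of_eight hS h8 hS4)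
    · -- `r = 3`
      have h3' := h3.resolve_left fun h => hrp h.symm
      have hk4 : k < 4 := by
        by_contra hk4
        exact h3' ((pow_dvd_pow 3 (show 4 ≤ k by omega)).trans hk)
      have hd' : d = 2 ∨ d = 3 := by omega
      rcases hd' with rfl | rfl
      · have h1 : ∏ i : Fin 2, (3 ^ 2 - 3 ^ (i : ℕ)) = 3 * 2 ^ 4 := by decide
        rw [h1, ← mul_assoc, ← pow_succ] at hS
        exact not_two_primes hna Nat.prime_three Nat.prime_two hS
      · have h1 : ∏ i : Fin 3, (3 ^ 3 - 3 ^ (i : ℕ)) = 3 ^ 3 * (2 ^ 5 * 13 ^ 1) := by decide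
        rw [h1] at hS
        have hk3 : k = 3 := by omega
        have h8 : ¬ 3 ∣ Nat.card (↥K ⧸ center ↥K) := fun h8 => h3' (by
          rw [hk3] at hdvd
          exact (mul_dvd_mul_left (3 ^ 3) h8).trans hdvd)
        exact not_two_primes hna Nat.prime_two (by norm_num) (dvd_of_not_dvd Nat.prime_three hS h8)
    · -- `r = 5`
      have h5' := h5.resolve_left fun h => hrp h.symm
      have hk3 : k < 3 := by
        by_contra hk3
        exact h5' ((pow_dvd_pow 5 (show 3 ≤ k by omega)).trans hk)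
      have hd2 : d = 2 := by omega
      have hk2 : k = 2 := by omega
      subst hd2 hk2
      have h1 : ∏ i : Fin 2, (5 ^ 2 - 5 ^ (i : ℕ)) = 5 ^ 1 * (2 ^ 5 * 3 ^ 1) := by decide
      rw [h1] at hS
      have h8 : ¬ 5 ∣ Nat.card (↥K ⧸ center ↥K) := fun h8 => h5' ((mul_dvd_mul_left (5 ^ 2) h8).trans hdvd)
      exact not_two_primes hna Nat.prime_two Nat.prime_three (dvd_of_not_dvd Nat.prime_five hS h8)
    · -- `r = 7`
      have h7' := h7.resolve_left fun h => hrp h.symm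
      have hk3 : k < 3 := by
        by_contra hk3
        exact h7' ((pow_dvd_pow 7 (show 3 ≤ k by omega)).trans hk)
      have hd2 : d = 2 := by omega
      have hk2 : k = 2 := by omega
      subst hd2 hk2
      have h1 : ∏ i : Fin 2, (7 ^ 2 - 7 ^ (i : ℕ)) = 7 ^ 1 * (2 ^ 5 * 3 ^ 2) := by decide
      rw [h1] at hS
      have h8 : ¬ 7 ∣ Nat.card (↥K ⧸ center ↥K) := fun h8 => h7' ((mul_dvd_mul_left (7 ^ 2) h8).trans hdvd)
      exact not_two_primes hna Nat.prime_two Nat.prime_three (dvd_of_not_dvd (by norm_num) hS h8)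
  · exact h11 r hr hge hrp ((pow_dvd_pow r (hd.trans hdk)).trans hk)

end Cfsg.Agent.BpSpor
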