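import Mathlib
import Cfsg.Agent.Lib.NormalAbelian
import Cfsg.Agent.BpSpor.Num
import Cfsg.Agent.BpAlt.Row
import Cfsg.Agent.LThreeFi22.Inst
import Cfsg.Agent.LThreeFi22.Comp
import Cfsg.Agent.CpAutFiFive.Fi22
import Cfsg.Agent.KFacts.FiTT.Final
import Cfsg.Agent.OrdDiv.Main

-- merged: Cfsg.Agent.BpSpor.TwoIdx
section

/-!
# A bound for the 2-part of a centralizer (helper36)

`not_dvd` : `z` an involution with a normal 2-subgroup `R` of `C(z)` on which no element of odd order acts trivially,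
`Z(S) ≤ {1, z}` for the Sylow 2-subgroups `S ≤ C(z)`, `C(z)` of odd index: if `x ≠ 1` has odd order then `|C(x)|` is not divisible
by `|G|_2 / 2`.
-/

set_option autoImplicit false

namespace Cfsg.Agent.BpSpor.TwoIdx

open Subgroup

universe u

section

variable {G : Type u} [Group G] [Finite G]

omit [Finite G] in
/-- the chain argument: `x` of odd order, `x` commutes with a subset of index two -/
theorem comm_of_index_two {x q : G} {T : Subgroup G} (ho : Odd (orderOf x)) (hT : ∀ t ∈ T, x * t = t * x)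
    (hT2 : IsPGroup 2 ↥T) (h : q⁻¹ * (x * q * x⁻¹) ∈ T) : x * q = q * x := by
  set r := q⁻¹ * (x * q * x⁻¹) with hr
  have h1 : x * q * x⁻¹ = q * r := by rw [hr]; group
  have h2 : ∀ m : ℕ, x ^ m * q * (x ^ m)⁻¹ = q * r ^ m := by
    intro m
    induction m with
    | zero => simp
    | succ m ih =>
      have h3 : x * r ^ m * x⁻¹ = r ^ m := by
        rw [hT _ (T.pow_mem h m)]
        group
      calc x ^ (m + 1) * q * (x ^ (m + 1))⁻¹ = x * (x ^ m * q * (x ^ m)⁻¹) * x⁻¹ := by
            rw [pow_succ']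
            group
        _ = x * q * x⁻¹ * (x * r ^ m * x⁻¹) := by rw [ih]; group
        _ = q * r ^ (m + 1) := by rw [h3, h1, pow_succ', mul_assoc]
  have h3 := h2 (orderOf x)
  rw [pow_orderOf_eq_one, one_mul, inv_one, mul_one, left_eq_mul] at h3
  obtain ⟨k, hk⟩ := hT2 ⟨r, h⟩
  have hk' : r ^ 2 ^ k = 1 := congrArg Subtype.val hk
  have h4 : orderOf r = 1 := by
    have h5 : orderOf r ∣ orderOf x := orderOf_dvd_of_pow_eq_one h3
    have h6 : orderOf r ∣ 2 ^ k := orderOf_dvd_of_pow_eq_one hk'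
    have h7 : Nat.Coprime (2 ^ k) (orderOf x) := Nat.Coprime.pow_left _ (Nat.coprime_two_left.2 ho)
    exact Nat.eq_one_of_dvd_coprimes h7 h6 h5
  rw [orderOf_eq_one_iff] at h4
  rw [h4, mul_one] at h1
  rwa [mul_inv_eq_iff_eq_mul] at h1

variable {z : G} {R : Subgroup G} (hRz : ∀ x ∈ R, x * z = z * x) (hR2 : IsPGroup 2 ↥R)
  (hRn : ∀ g : G, g * z = z * g → ∀ x ∈ R, g * x * g⁻¹ ∈ R)
  (hRc : ∀ x : G, Odd (orderOf x) → (∀ y ∈ R, x * y = y * x) → x = 1)
  (hodd : Odd (centralizer ({z} : Set G)).index)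
  (hS : ∀ S : Sylow 2 G, (S : Subgroup G) ≤ centralizer ({z} : Set G) →
    ∀ x ∈ S, (∀ y ∈ S, x * y = y * x) → x = 1 ∨ x = z)
include hRz hR2 hRn hRc hodd hS

theorem not_dvd {n : ℕ} (hn : 1 ≤ n) (hN : ¬ 2 ^ (n + 2) ∣ Nat.card G) {x : G} (ho : Odd (orderOf x)) (hx : x ≠ 1) :
    ¬ 2 ^ n ∣ Nat.card ↥(centralizer ({x} : Set G)) := by
  intro hd
  have : Fact (Nat.Prime 2) := ⟨Nat.prime_two⟩
  -- a Sylow 2-subgroup of `C(z)` is a Sylow 2-subgroup of `G`
  obtain ⟨S1, hS1⟩ : ∃ S : Sylow 2 G, (S : Subgroup G) ≤ centralizer ({z} : Set G) := by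
    let P : Sylow 2 ↥(centralizer ({z} : Set G)) := default
    have h1 : IsPGroup 2 ↥((P : Subgroup ↥(centralizer ({z} : Set G))).map (centralizer ({z} : Set G)).subtype) :=
      P.2.map _
    obtain ⟨Q, hQ⟩ := h1.exists_le_sylow
    refine ⟨Q, ?_⟩
    have h2 : Nat.card ↥((P : Subgroup ↥(centralizer ({z} : Set G))).map (centralizer ({z} : Set G)).subtype) =
        Nat.card (P : Subgroup ↥(centralizer ({z} : Set G))) :=
      card_map_of_injective (Subgroup.subtype_injective _)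
    have h3 : (P : Subgroup ↥(centralizer ({z} : Set G))).map (centralizer ({z} : Set G)).subtype = Q := by
      apply Subgroup.eq_of_le_of_card_ge hQ
      rw [h2]
      have h4 : Nat.card (Q : Subgroup G) ∣ Nat.card ↥(centralizer ({z} : Set G)) := by
        obtain ⟨k, hk⟩ := (IsPGroup.iff_card (p := 2)).1 Q.2
        have h5 : Nat.card (Q : Subgroup G) ∣ Nat.card ↥(centralizer ({z} : Set G)) *
            (centralizer ({z} : Set G)).index := by
          rw [card_mul_index]
          exact card_subgroup_dvd_card _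
        refine Nat.Coprime.dvd_of_dvd_mul_right ?_ h5
        rw [hk]
        exact Nat.Coprime.pow_left _ (Nat.coprime_two_left.2 hodd)
      obtain ⟨k, hk⟩ := (IsPGroup.iff_card (p := 2)).1 Q.2
      rw [hk] at h4 ⊢
      exact Nat.le_of_dvd Nat.card_pos (P.pow_dvd_card_of_pow_dvd_card h4)
    rw [← h3]
    exact map_subtype_le _
  -- a conjugate of `x` commutes with a subgroup of index at most two of `S1`
  obtain ⟨x1, T1, ho1, hx1, hT1, hTS, hTc⟩ : ∃ (x1 : G) (T : Subgroup G), Odd (orderOf x1) ∧ x1 ≠ 1 ∧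
      (∀ t ∈ T, x1 * t = t * x1) ∧ T ≤ S1 ∧ 2 ^ n ≤ Nat.card ↥T := by
    let P : Sylow 2 ↥(centralizer ({x} : Set G)) := default
    have h1 : IsPGroup 2 ↥((P : Subgroup ↥(centralizer ({x} : Set G))).map (centralizer ({x} : Set G)).subtype) :=
      P.2.map _
    have h2 : Nat.card ↥((P : Subgroup ↥(centralizer ({x} : Set G))).map (centralizer ({x} : Set G)).subtype) =
        Nat.card (P : Subgroup ↥(centralizer ({x} : Set G))) :=
      card_map_of_injective (Subgroup.subtype_injective _)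
    obtain ⟨Q, hQ⟩ := h1.exists_le_sylow
    obtain ⟨g, hg⟩ := MulAction.exists_smul_eq G Q S1
    refine ⟨g * x * g⁻¹, ((P : Subgroup ↥(centralizer ({x} : Set G))).map
      (centralizer ({x} : Set G)).subtype).map (MulAut.conj g).toMonoidHom, ?_, ?_, ?_, ?_, ?_⟩
    · have : orderOf (g * x * g⁻¹) = orderOf x :=
        orderOf_injective (MulAut.conj g).toMonoidHom (MulAut.conj g).injective x
      rwa [this]
    · intro h
      apply hx
      have := congrArg (fun y => g⁻¹ * y * g) h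
      simpa [mul_assoc] using this
    · rintro _ ⟨_, ⟨t, ht, rfl⟩, rfl⟩
      have ht' : (t : G) * x = x * t := mem_centralizer_singleton_iff.1 t.2
      change g * x * g⁻¹ * (g * (t : G) * g⁻¹) = g * (t : G) * g⁻¹ * (g * x * g⁻¹)
      calc g * x * g⁻¹ * (g * (t : G) * g⁻¹) = g * (x * t) * g⁻¹ := by group
        _ = g * (t * x) * g⁻¹ := by rw [ht']
        _ = g * (t : G) * g⁻¹ * (g * x * g⁻¹) := by group
    · rw [← hg]
      rintro _ ⟨t, ht, rfl⟩
      exact ⟨t, hQ ht, rfl⟩
    · rw [card_map_of_injective (MulAut.conj g).injective, h2]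
      exact Nat.le_of_dvd Nat.card_pos (P.pow_dvd_card_of_pow_dvd_card hd)
  -- the index
  have hS1c : Nat.card (S1 : Subgroup G) ≤ 2 ^ (n + 1) := by
    obtain ⟨k, hk⟩ := (IsPGroup.iff_card (p := 2)).1 S1.2
    rw [hk]
    apply Nat.pow_le_pow_right (by norm_num)
    by_contra hlt
    push Not at hlt
    apply hN
    refine (pow_dvd_pow 2 (show n + 2 ≤ k by omega)).trans ?_
    rw [← hk]
    exact card_subgroup_dvd_card _
  have hmul : T1.relIndex S1 * Nat.card ↥T1 = Nat.card (S1 : Subgroup G) := by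
    have h := card_mul_index (T1.subgroupOf S1)
    rw [Nat.card_congr (subgroupOfEquivOfLe hTS).toEquiv, mul_comm] at h
    exact h
  have hidx : T1.relIndex S1 ≤ 2 := by
    have h1 := hmul
    have h2 : T1.relIndex S1 * 2 ^ n ≤ 2 * 2 ^ n := by
      calc T1.relIndex S1 * 2 ^ n ≤ T1.relIndex S1 * Nat.card ↥T1 := Nat.mul_le_mul_left _ hTc
        _ = Nat.card (S1 : Subgroup G) := h1
        _ ≤ 2 ^ (n + 1) := hS1c
        _ = 2 * 2 ^ n := by rw [pow_succ']
    exact Nat.le_of_mul_le_mul_right h2 (by positivity)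
  have hidx0 : T1.relIndex S1 ≠ 0 := by
    intro h
    have h1 := hmul
    rw [h, zero_mul] at h1
    exact (Nat.card_pos (α := (S1 : Subgroup G))).ne h1
  have hT2 : IsPGroup 2 ↥T1 := S1.2.to_le hTS
  -- products of two elements outside `T1`
  have hout : ∀ a ∈ S1, ∀ b ∈ S1, a ∉ T1 → b ∉ T1 → a⁻¹ * b ∈ T1 := by
    intro a ha b hb ha' hb'
    have h2 : (T1.subgroupOf S1).index = 2 := by
      have h3 : (T1.subgroupOf S1).index ≤ 2 := hidx
      have h4 : (T1.subgroupOf S1).index ≠ 0 := hidx0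
      have h5 : (T1.subgroupOf S1).index ≠ 1 := by
        intro h
        rw [index_eq_one] at h
        apply ha'
        have : (⟨a, ha⟩ : ↥(S1 : Subgroup G)) ∈ T1.subgroupOf S1 := h ▸ mem_top _
        exact this
      omega
    have h3 := (mul_mem_iff_of_index_two h2 (a := (⟨a, ha⟩ : ↥(S1 : Subgroup G))⁻¹) (b := ⟨b, hb⟩)).2 (by
      constructor
      · intro h
        exact absurd (show a ∈ T1 from (inv_mem_iff (H := T1.subgroupOf S1)).1 h) ha'
      · intro h
        exact absurd (show b ∈ T1 from h) hb')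
    exact h3
  have hnorm : (T1.subgroupOf S1).Normal := by
    rcases Nat.lt_or_ge (T1.subgroupOf S1).index 2 with h | h
    · have h0 : (T1.subgroupOf S1).index ≠ 0 := hidx0
      have h1 : (T1.subgroupOf S1).index = 1 := by omega
      rw [index_eq_one] at h1
      rw [h1]
      infer_instance
    · exact normal_of_index_eq_two (le_antisymm hidx h)
  -- `z ∈ T1`
  have hz : z ∈ T1 := by
    have hnil : Group.IsNilpotent ↥(S1 : Subgroup G) := S1.2.isNilpotent
    have hne : T1.subgroupOf S1 ≠ ⊥ := by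
      intro h
      rw [subgroupOf_eq_bot, disjoint_iff, inf_eq_left.2 hTS] at h
      rw [h, card_bot] at hTc
      have : 2 ^ 1 ≤ 2 ^ n := Nat.pow_le_pow_right (by norm_num) hn
      omega
    have h1 := Lib.NormalAbelian.normal_inf_center_ne_bot (T1.subgroupOf S1) hne
    obtain ⟨⟨y, hy⟩, hy0⟩ := Subgroup.ne_bot_iff_exists_ne_one.1 h1
    have hy1 : y ≠ 1 := fun h => hy0 (Subtype.ext h)
    have h2 := hS S1 hS1 y y.2 (fun w hw => congrArg Subtype.val (mem_center_iff.1 hy.2 ⟨w, hw⟩).symm)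
    rcases h2 with h2 | h2
    · exact absurd (Subtype.ext h2) hy1
    · rw [← h2]
      exact hy.1
  -- `R ≤ S1`
  have hRS : R ≤ S1 := by
    have hRC : R ≤ centralizer ({z} : Set G) := fun r hr => mem_centralizer_singleton_iff.2 (hRz r hr)
    have hN' : (R.subgroupOf (centralizer ({z} : Set G))).Normal := by
      constructor
      intro r hr g
      exact hRn g (mem_centralizer_singleton_iff.1 g.2) r hr
    have h1 : IsPGroup 2 ↥(R.subgroupOf (centralizer ({z} : Set G))) :=
      hR2.of_equiv (subgroupOfEquivOfLe hRC).symm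
    have h2 := h1.le_sylow_of_normal (S1.subtype hS1)
    intro r hr
    exact h2 (x := ⟨r, hRC hr⟩) hr
  have hxz : x1 * z = z * x1 := hT1 z hz
  apply hx1
  apply hRc x1 ho1
  intro q hq
  by_cases hqT : q ∈ T1
  · exact hT1 q hqT
  · apply comm_of_index_two (T := T1) ho1 hT1 hT2
    have h1 : x1 * q * x1⁻¹ ∈ R := hRn x1 hxz q hq
    apply hout q (hRS hq) _ (hRS h1) hqT
    intro h2
    apply hqT
    have h3 := hT1 _ h2
    have h4 : q = x1 * q * x1⁻¹ := by
      have h5 : x1 * (x1 * q * x1⁻¹) * x1⁻¹ = x1 * q * x1⁻¹ := by rw [h3]; group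
      have h6 : x1⁻¹ * (x1 * (x1 * q * x1⁻¹) * x1⁻¹) * x1 = x1⁻¹ * (x1 * q * x1⁻¹) * x1 := by rw [h5]
      have h7 : x1⁻¹ * (x1 * (x1 * q * x1⁻¹) * x1⁻¹) * x1 = x1 * q * x1⁻¹ := by group
      have h8 : x1⁻¹ * (x1 * q * x1⁻¹) * x1 = q := by group
      rw [h7, h8] at h6
      exact h6.symm
    rw [h4]
    exact h2

end

end Cfsg.Agent.BpSpor.TwoIdx

end

-- merged: Cfsg.Agent.BpSpor.FiTTThree
section

/-!
# S1332, row `(Fi22, 3)` (helper36)

* `x = a b`, `a`, `b` noncommuting transpositions: `|C(x)| = 2^8 3^7 5 7`, the components `K` have `81 ∣ |K/Z(K)|`, so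
  `64 ∣ |K/Z(K)|` and there is no room for a nontrivial action;
* otherwise `|C(x)|` divides `2^17 3^9 13`, the only simple section is `L_3(3)`, which needs `2^16 ∣ |C(x)|`, impossible since
  `Z(S) = ⟨z⟩`, `C(z)` large.
-/

set_option autoImplicit false

namespace Cfsg.Agent.BpSpor.FiTT

open Subgroup Cfsg Cfsg.Agent.BpTab Cfsg.Agent.OrdDiv
open Cfsg.Agent.LThreeFi22

universe u

/-- the classification for finite simple groups in `Type` -/
abbrev Known : Prop := ∀ (G : Type) [Group G] [Finite G] [IsSimpleGroup G], IsKnownSimple' G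

/-- `13 ∣ |GL_d(2)|` implies `d ≥ 12` -/
theorem twelve_le {d M : ℕ} (h : 13 ∣ 2 ^ M * ∏ i : Fin d, (2 ^ d - 2 ^ (i : ℕ))) : 12 ≤ d := by
  have : Fact (Nat.Prime 13) := ⟨by norm_num⟩
  have h13 : Nat.Prime 13 := by norm_num
  rcases h13.dvd_mul.1 h with h | h
  · exact absurd (h13.dvd_of_dvd_pow h) (by norm_num)
  · obtain ⟨m, hm1, hmd, hm⟩ := exists_pow_sub_one (p := 13) Nat.prime_two (by norm_num) h
    by_contra hlt
    have : m < 12 := by omega
    interval_cases m <;> revert hm <;> decide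

theorem eq_two_of_sq {r N : ℕ} (hr : r.Prime) (hr3 : r ≠ 3) (h : r ^ 2 ∣ N) {a b c : ℕ}
    (hN : N ∣ 2 ^ a * 3 ^ b * c) (hc : ∀ q : ℕ, q.Prime → ¬ q ^ 2 ∣ c) : r = 2 := by
  by_contra hr2
  have h1 : Nat.Coprime (r ^ 2) (2 ^ a) := Nat.Coprime.pow _ _ ((Nat.coprime_primes hr Nat.prime_two).2 hr2)
  have h2 : Nat.Coprime (r ^ 2) (3 ^ b) := Nat.Coprime.pow _ _ ((Nat.coprime_primes hr Nat.prime_three).2 hr3)
  exact hc r hr ((h1.mul_right h2).dvd_of_dvd_mul_left (h.trans hN))

section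

variable {K : Type} [Group K] {T : Set K} (C : Ctx K T)
include C

/-- elements of type 3A -/
theorem good_three_a (Tb : OrderTable.{0}) (hS : Known) {x : K} (hx : orderOf x = 3) (h3 : Is3A T x) :
    Good 3 ↥(centralizer ({x} : Set K)) := by
  have hfin := C.finite
  have : Fact (Nat.Prime 3) := ⟨Nat.prime_three⟩
  have hcard : Nat.card ↥(centralizer ({x} : Set K)) = 19595520 := by
    obtain ⟨a, ha, b, hb, hab, rfl⟩ := h3
    exact C.card_three ha hb hab
  have hcent : ∀ (r : ℕ) (y : ↥(centralizer ({x} : Set K))), r = 5 ∨ r = 7 → orderOf y = r →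
      ¬ 9 ∣ Nat.card ↥(centralizer ({y} : Set ↥(centralizer ({x} : Set K)))) := by
    intro r y hr hy h9
    have h1 : Nat.card ↥(centralizer ({y} : Set ↥(centralizer ({x} : Set K)))) ∣
        Nat.card ↥(centralizer ({(y : K)} : Set K)) := by
      have h2 : Nat.card ↥(centralizer ({y} : Set ↥(centralizer ({x} : Set K)))) =
          Nat.card ↥((centralizer ({y} : Set ↥(centralizer ({x} : Set K)))).map
            (centralizer ({x} : Set K)).subtype) := (card_map_of_injective (Subgroup.subtype_injective _)).symm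
      rw [h2]
      apply card_dvd_of_le
      rintro _ ⟨g, hg, rfl⟩
      rw [mem_centralizer_singleton_iff]
      rw [SetLike.mem_coe, mem_centralizer_singleton_iff] at hg
      exact congrArg Subtype.val hg
    have hy1 : (y : K) ≠ 1 := by
      intro h
      have : y = 1 := Subtype.ext h
      rw [this, orderOf_one] at hy
      rcases hr with rfl | rfl <;> norm_num at hy
    have hyr : (y : K) ^ r = 1 := by
      have : y ^ r = 1 := by rw [← hy, pow_orderOf_eq_one]
      exact congrArg Subtype.val this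
    rcases hr with rfl | rfl
    · exact C.nine_five hyr hy1 (h9.trans h1)
    · exact C.nine_seven hyr hy1 (h9.trans h1)
  by_contra hG
  obtain ⟨L, hL, r, k, d, M, hs, hna, -, hr, hr3, hd, hdk, hdvd, hgl⟩ := witness hG ⊥ bot_le (isPGroup_bot 3)
  obtain ⟨-, h81⟩ := Comp.card_comp_quot hcard hcent hL
  rw [hcard, card_bot, one_mul] at hdvd
  have hdS : Nat.card (↥L ⧸ center ↥L) ∣ 19595520 := (dvd_mul_left _ _).trans hdvd
  obtain ⟨g, hg, -, hgc⟩ := exists_good Tb (hS (↥L ⧸ center ↥L)) hna (l := [(2, 8), (3, 7), (5, 1), (7, 1)])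
    (by decide +kernel) hdS
  have h64 : 64 ∣ Nat.card (↥L ⧸ center ↥L) := by
    have h1 : ∀ g ∈ cands [(2, 8), (3, 7), (5, 1), (7, 1)] 19595520, 81 ∣ ordN g → 64 ∣ ordN g := by decide +kernel
    rw [hgc]
    exact h1 g hg (hgc ▸ h81)
  have h2 : r = 2 := eq_two_of_sq hr hr3 (((pow_dvd_pow r (hd.trans hdk)).trans (dvd_mul_right _ _)).trans hdvd)
    (a := 8) (b := 7) (c := 35) (by norm_num) (by
      intro q hq hq2
      have h1 : q ^ 2 ≤ 35 := Nat.le_of_dvd (by norm_num) hq2
      have h2 : q ≤ 5 := by nlinarith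
      interval_cases q <;> revert hq hq2 <;> norm_num)
  subst h2
  have hk : k ≤ 2 := by
    by_contra hlt
    have h1 : 2 ^ 3 * 64 ∣ 19595520 := (mul_dvd_mul (pow_dvd_pow 2 (by omega : 3 ≤ k)) h64).trans hdvd
    revert h1
    norm_num
  have hd2 : d = 2 := by omega
  subst hd2
  have h1 : 81 ∣ 2 ^ M * ∏ i : Fin 2, (2 ^ 2 - 2 ^ (i : ℕ)) := h81.trans hgl
  have h3 : Nat.Coprime 81 (2 ^ M) := Nat.Coprime.pow_right _ (by norm_num)
  have h4 := h3.dvd_of_dvd_mul_left h1
  revert h4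
  simp [Fin.prod_univ_two]

/-- the other elements of order three -/
theorem good_three_b (Tb : OrderTable.{0}) (hS : Known) {d d' : K} {R : Subgroup K} (F : KFacts.FiTT.Facts K d d' R)
    {x : K} (hx : orderOf x = 3) (h3 : ¬ Is3A T x) : Good 3 ↥(centralizer ({x} : Set K)) := by
  have hfin := C.finite
  have : Fact (Nat.Prime 3) := ⟨Nat.prime_three⟩
  have hx3 : x ^ 3 = 1 := by rw [← hx, pow_orderOf_eq_one]
  have hx1 : x ≠ 1 := by
    rintro rfl
    rw [orderOf_one] at hx
    norm_num at hx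
  have key : ∀ r : ℕ, r = 5 ∨ r = 7 ∨ r = 11 → ¬ r ∣ Nat.card ↥(centralizer ({x} : Set K)) := by
    intro r hr hdvd
    have hrp : r.Prime := by rcases hr with rfl | rfl | rfl <;> norm_num
    have : Fact r.Prime := ⟨hrp⟩
    obtain ⟨⟨y, hyx⟩, hy⟩ := exists_prime_orderOf_dvd_card' (G := ↥(centralizer ({x} : Set K))) r hdvd
    rw [Subgroup.orderOf_mk] at hy
    have hyr : y ^ r = 1 := by rw [← hy, pow_orderOf_eq_one]
    have hy1 : y ≠ 1 := by
      rintro rfl
      rw [orderOf_one] at hy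
      exact hrp.one_lt.ne hy
    have hxy : x * y = y * x := (mem_centralizer_singleton_iff.1 hyx).symm
    rcases hr with rfl | rfl | rfl
    · exact h3 (C.five hyr hy1 hx3 hx1 hxy)
    · exact h3 (C.seven hyr hy1 hx3 hx1 hxy)
    · exact hx1 (C.eleven hyr hy1 hx3 hxy)
  have hd0 : Nat.card ↥(centralizer ({x} : Set K)) ∣ 2 ^ 17 * 3 ^ 9 * 13 * (5 * 5 * 7 * 11) := by
    refine (Subgroup.card_subgroup_dvd_card _).trans ?_
    rw [C.card]
    norm_num
  have hco : ∀ r : ℕ, r = 5 ∨ r = 7 ∨ r = 11 → (Nat.card ↥(centralizer ({x} : Set K))).Coprime r := by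
    intro r hr
    have hrp : r.Prime := by rcases hr with rfl | rfl | rfl <;> norm_num
    exact ((Nat.Prime.coprime_iff_not_dvd hrp).2 (key r hr)).symm
  have hc : (Nat.card ↥(centralizer ({x} : Set K))).Coprime (5 * 5 * 7 * 11) := by
    refine Nat.Coprime.mul_right (Nat.Coprime.mul_right (Nat.Coprime.mul_right ?_ ?_) ?_) ?_
    · exact hco 5 (Or.inl rfl)
    · exact hco 5 (Or.inl rfl)
    · exact hco 7 (Or.inr (Or.inl rfl))
    · exact hco 11 (Or.inr (Or.inr rfl))
  have h1 : Nat.card ↥(centralizer ({x} : Set K)) ∣ 2 ^ 17 * 3 ^ 9 * 13 := hc.dvd_of_dvd_mul_right hd0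
  -- the 2-part
  have h16 : ¬ 2 ^ 16 ∣ Nat.card ↥(centralizer ({x} : Set K)) := by
    have hxo : Odd (orderOf x) := by rw [hx]; decide
    refine TwoIdx.not_dvd (z := d * d') (R := R) ?_ F.R_two F.R_normal ?_ F.odd F.center_S (by norm_num) ?_ hxo hx1
    · intro y hy
      have h2 := mem_centralizer_iff.1 (F.R_le hy)
      have e1 : d * y = y * d := h2 d (Set.mem_insert _ _)
      have e2 : d' * y = y * d' := h2 d' (Set.mem_insert_of_mem _ rfl)
      rw [← mul_assoc, ← e1, mul_assoc, ← e2, mul_assoc]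
    · intro y hy h2
      have hsq : y * y = 1 := by
        rcases F.R_center y h2 with rfl | rfl | rfl | rfl
        · rw [one_mul]
        · exact F.dd
        · exact F.dd'
        · calc d * d' * (d * d') = d * (d' * d) * d' := by group
            _ = (d * d) * (d' * d') := by rw [← F.comm]; group
            _ = 1 := by rw [F.dd, F.dd', one_mul]
      have h3 : orderOf y ∣ 2 := orderOf_dvd_of_pow_eq_one (by rw [pow_two, hsq])
      have h4 : orderOf y = 1 := by
        rcases (Nat.dvd_prime Nat.prime_two).1 h3 with h4 | h4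
        · exact h4
        · rw [h4] at hy
          exact absurd hy (by decide)
      exact orderOf_eq_one_iff.1 h4
    · rw [C.card]
      norm_num
  by_contra hG
  obtain ⟨L, hL, r, k, d, M, hs, hna, -, hr, hr3, hd, hdk, hdvd, hgl⟩ := witness hG ⊥ bot_le (isPGroup_bot 3)
  rw [card_bot, one_mul] at hdvd
  have hdS : Nat.card (↥L ⧸ center ↥L) ∣ 2 ^ 17 * 3 ^ 9 * 13 := ((dvd_mul_left _ _).trans hdvd).trans h1
  obtain ⟨g, hg, -, hgc⟩ := exists_good Tb (hS (↥L ⧸ center ↥L)) hna (l := [(2, 17), (3, 9), (13, 1)])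
    (by decide +kernel) hdS
  rw [show cands [(2, 17), (3, 9), (13, 1)] (2 ^ 17 * 3 ^ 9 * 13) = [.psl 3 3] from by decide +kernel] at hg
  simp only [List.mem_cons, List.not_mem_nil, or_false] at hg
  subst hg
  have hcS : Nat.card (↥L ⧸ center ↥L) = 5616 := by
    rw [hgc]
    decide +kernel
  have h2 : r = 2 := eq_two_of_sq hr hr3 (((pow_dvd_pow r (hd.trans hdk)).trans (dvd_mul_right _ _)).trans hdvd)
    (a := 17) (b := 9) (c := 13) h1 (by
      intro q hq hq2
      have h1 : q ^ 2 ≤ 13 := Nat.le_of_dvd (by norm_num) hq2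
      have h2 : q ≤ 3 := by nlinarith
      interval_cases q <;> revert hq hq2 <;> norm_num)
  subst h2
  rw [hcS] at hgl hdvd
  have h12 := twelve_le ((by norm_num : 13 ∣ 5616).trans hgl)
  apply h16
  have h4 : 2 ^ 12 * 2 ^ 4 ∣ 2 ^ k * 5616 := mul_dvd_mul (pow_dvd_pow 2 (by omega)) (by norm_num)
  rw [← pow_add] at h4
  exact h4.trans hdvd

end

/-- **Row `(Fi22, 3)`.** -/
theorem bps_three (Tb : OrderTable.{0}) (hS : Known) : BpS 3 Spor.Fi22 := by
  refine BpAlt.bpS_of_inner ?_ (CpAutFiFive.Fi22.inner Nat.prime_three (by norm_num)) ?_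
  · have := CpAutFiFive.Fi22.simple
    exact CpAut.center_eq_bot_of_simple CpAutFiFive.Fi22.not_comm
  · intro g hg
    have C := Inst.ctx (MulEquiv.refl Spor.Fi22)
    obtain ⟨d, d', R, F⟩ := KFacts.FiTT.has_of_iso (K := Spor.Fi22) ⟨MulEquiv.refl _⟩
    by_cases h : Is3A (KFacts.FiTT.TK (MulEquiv.refl Spor.Fi22)) g
    · exact good_three_a C Tb hS hg h
    · exact good_three_b C Tb hS F hg h

end Cfsg.Agent.BpSpor.FiTT

end
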