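import Mathlib
import Cfsg.Agent.BpSpor.RowAll
import Cfsg.Agent.BpAlt.Row
import Cfsg.Agent.CpAutFiSeven.Tri
import Cfsg.Agent.BpSpor.Row.Fi23
import Cfsg.Agent.LThreeFi23.TwoCl

-- merged: Cfsg.Agent.BpSpor.Sym
section

/-!
# `Good p H` for groups containing a symmetric group (helper36)

* `alt_normal` : `φ : S_k →* H` such that conjugation permutes the images of the transpositions: `φ(A_k)` is normal;
* `good_of_sym` : `φ` injective, `5 ≤ k`, `p ≤ k`, `u ∈ Z(H)` of order `p`, `p ^ 3 ∤ |H|` ⇒ `Good p H`;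
* `good_of_quot` : `f : H →* X` onto a good group, `H = S · ker f` with `S` commuting with `ker f`, `p ^ 2 ∤ |ker f|`, `ker f`
  containing a central element of order `p` ⇒ `Good p H`.
-/

set_option autoImplicit false

namespace Cfsg.Agent.BpSpor

open Subgroup Cfsg Cfsg.Agent.Lib Cfsg.Agent.SignalizersComponents Cfsg.Agent.BpTab Equiv
open Cfsg.Agent.Intrinsic.Charac (isPComponent_iff)

universe u

section

variable {H : Type u} [Group H] {k : ℕ} (φ : Perm (Fin k) →* H)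
  (h : ∀ g : H, ∀ i j : Fin k, i ≠ j → ∃ i' j', i' ≠ j' ∧ g * φ (swap i j) * g⁻¹ = φ (swap i' j'))
include h

theorem conj_perm (g : H) (σ : Perm (Fin k)) : ∃ σ', Perm.sign σ' = Perm.sign σ ∧ g * φ σ * g⁻¹ = φ σ' := by
  induction σ using Perm.swap_induction_on with
  | one => exact ⟨1, rfl, by simp⟩
  | swap_mul σ i j hij ih =>
    obtain ⟨τ, h1, h2⟩ := ih
    obtain ⟨i', j', h3, h4⟩ := h g i j hij
    refine ⟨swap i' j' * τ, ?_, ?_⟩
    · rw [map_mul, map_mul, h1, Perm.sign_swap hij, Perm.sign_swap h3]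
    · rw [map_mul, map_mul, ← h4, ← h2]
      group

theorem alt_normal : ((alternatingGroup (Fin k)).map φ).Normal := by
  constructor
  rintro _ ⟨σ, hσ, rfl⟩ g
  obtain ⟨σ', h1, h2⟩ := conj_perm φ h g σ
  rw [h2]
  exact ⟨σ', by rw [SetLike.mem_coe, Perm.mem_alternatingGroup, h1, Perm.mem_alternatingGroup.1 hσ], rfl⟩

/-- **Groups with a normal alternating group.** -/
theorem good_of_sym [Finite H] {p : ℕ} (hp : p.Prime) (hp2 : p ≠ 2) (h3 : ¬ p ^ 3 ∣ Nat.card H) {u : H} (hu : orderOf u = p)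
    (huc : u ∈ center H) (hk : 5 ≤ k) (hpk : p ≤ k) (hφ : Function.Injective φ) : Good p H := by
  have hA := alt_normal φ h
  have e : ↥(alternatingGroup (Fin k)) ≃* ↥((alternatingGroup (Fin k)).map φ) :=
    (alternatingGroup (Fin k)).equivMapOfInjective φ hφ
  have hs : IsSimpleGroup ↥(alternatingGroup (Fin k)) := alternatingGroup.isSimpleGroup (by simpa using hk)
  have hcard : 2 * Nat.card ↥(alternatingGroup (Fin k)) = k.factorial := by
    have : Nontrivial (Fin k) := Fin.nontrivial_iff_two_le.2 (by omega)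
    rw [Nat.card_eq_fintype_card, two_mul_card_alternatingGroup, Fintype.card_perm, Fintype.card_fin]
  have hs' : IsSimpleGroup ↥((alternatingGroup (Fin k)).map φ) := by
    have : Nontrivial ↥((alternatingGroup (Fin k)).map φ) := e.symm.toEquiv.nontrivial
    exact IsSimpleGroup.isSimpleGroup_of_surjective e.toMonoidHom e.surjective
  refine good_of_simple_component hp hp2 h3 hu huc (A := (alternatingGroup (Fin k)).map φ) hs' ?_ ?_
  · intro hc
    have h1 : ∀ a b : ↥(alternatingGroup (Fin k)), a * b = b * a := by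
      intro a b
      apply e.injective
      rw [map_mul, map_mul]
      exact hc.1.1 _ _
    let i0 : Fin k := ⟨0, by omega⟩
    let i1 : Fin k := ⟨1, by omega⟩
    let i2 : Fin k := ⟨2, by omega⟩
    let i3 : Fin k := ⟨3, by omega⟩
    have n01 : i0 ≠ i1 := by simp [i0, i1]
    have n02 : i0 ≠ i2 := by simp [i0, i2]
    have n12 : i1 ≠ i2 := by simp [i1, i2]
    have n23 : i2 ≠ i3 := by simp [i2, i3]
    have n03 : i0 ≠ i3 := by simp [i0, i3]
    have n13 : i1 ≠ i3 := by simp [i1, i3]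
    have ha : swap i0 i1 * swap i1 i2 ∈ alternatingGroup (Fin k) := by
      rw [Perm.mem_alternatingGroup, map_mul, Perm.sign_swap n01, Perm.sign_swap n12]
      decide
    have hb : swap i1 i2 * swap i2 i3 ∈ alternatingGroup (Fin k) := by
      rw [Perm.mem_alternatingGroup, map_mul, Perm.sign_swap n12, Perm.sign_swap n23]
      decide
    have h2 := congrArg Subtype.val (h1 ⟨_, ha⟩ ⟨_, hb⟩)
    have h4 := congrArg (fun f : Perm (Fin k) => f i3) h2
    simp only [Subgroup.coe_mul, Perm.mul_apply] at h4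
    rw [swap_apply_right i2 i3, swap_apply_right i1 i2, swap_apply_left i1 i2,
      swap_apply_of_ne_of_ne n02.symm n12.symm, swap_apply_of_ne_of_ne n13.symm n23.symm,
      swap_apply_of_ne_of_ne n03.symm n13.symm, swap_apply_right i2 i3, swap_apply_right i1 i2] at h4
    exact n12 h4.symm
  · rw [← Nat.card_congr e.toEquiv]
    have h1 : p ∣ 2 * Nat.card ↥(alternatingGroup (Fin k)) := by
      rw [hcard]
      exact (Nat.Prime.dvd_factorial hp).2 hpk
    refine (Nat.Coprime.dvd_of_dvd_mul_left ?_ h1)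
    exact (Nat.coprime_primes hp Nat.prime_two).2 hp2

end

section

variable {H : Type u} [Group H] [Finite H] {X : Type*} [Group X] [Finite X] {p : ℕ} [hp : Fact p.Prime]

/-- a `p`-element of a group whose `p`-part is one central subgroup of order `p` -/
theorem mem_zpowers_of_sq {N : Subgroup H} (h2 : ¬ p ^ 2 ∣ Nat.card ↥N) {u : H} (hu : u ∈ N) (hup : orderOf u = p)
    (huc : u ∈ center H) {y : H} (hy : y ∈ N) {n : ℕ} (hyn : y ^ p ^ n = 1) : y ∈ zpowers u := by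
  by_contra hne
  apply h2
  have hZ : (zpowers u).Normal := by
    constructor
    intro z hz g
    have : z ∈ center H := (zpowers_le.2 huc) hz
    rw [show g * z * g⁻¹ = z by rw [mem_center_iff.1 this g]; group]
    exact hz
  have hPu : IsPGroup p ↥(zpowers u) := IsPGroup.of_card (n := 1) (by rw [Nat.card_zpowers, hup, pow_one])
  have hPy : IsPGroup p ↥(zpowers y) := by
    obtain ⟨m, hm, hm'⟩ := (Nat.dvd_prime_pow hp.out).1 (orderOf_dvd_of_pow_eq_one hyn)
    exact IsPGroup.of_card (n := m) (by rw [Nat.card_zpowers, hm'])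
  have hP : IsPGroup p ↥(zpowers u ⊔ zpowers y : Subgroup H) := hPu.to_sup_of_normal_left hPy
  obtain ⟨m, hm⟩ := IsPGroup.iff_card.1 hP
  have hlt : Nat.card ↥(zpowers u) < Nat.card ↥(zpowers u ⊔ zpowers y : Subgroup H) := by
    refine lt_of_le_of_ne (card_le_of_le le_sup_left) ?_
    intro h1
    apply hne
    have h3 : zpowers u = zpowers u ⊔ zpowers y := eq_of_le_of_card_ge le_sup_left h1.ge
    rw [h3]
    exact mem_sup_right (mem_zpowers y)
  have hm2 : 2 ≤ m := by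
    by_contra h1
    rw [hm, Nat.card_zpowers, hup] at hlt
    have : p ^ m ≤ p ^ 1 := Nat.pow_le_pow_right hp.out.pos (by omega)
    rw [pow_one] at this
    omega
  refine (pow_dvd_pow p hm2).trans ?_
  rw [← hm]
  exact card_dvd_of_le (sup_le (zpowers_le.2 hu) (zpowers_le.2 hy))

/-- **Quotient criterion.** -/
theorem good_of_quot (f : H →* X) (hf : Function.Surjective f) (hX : Good p X) (S : Subgroup H)
    (hS : ∀ x : X, ∃ s ∈ S, f s = x) (hc : ∀ s ∈ S, ∀ k ∈ f.ker, s * k = k * s) (h2 : ¬ p ^ 2 ∣ Nat.card ↥f.ker)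
    {u : H} (hu : u ∈ f.ker) (hup : orderOf u = p) (huc : u ∈ center H) : Good p H := by
  refine hX.of_surjective hf ?_
  rw [← le_centralizer_iff]
  unfold pLayer
  refine sSup_le fun L hL => ?_
  obtain ⟨-, -, h3⟩ := isPComponent_iff.1 hL
  rw [← h3]
  refine (Subgroup.closure_le _).2 ?_
  rintro g ⟨-, n, hgn⟩
  rw [SetLike.mem_coe, mem_centralizer_iff]
  intro k hk
  obtain ⟨s, hs, hsg⟩ := hS (f g)
  -- `g = s * t`, `t ∈ ker f`
  set t := s⁻¹ * g with ht
  have htk : t ∈ f.ker := by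
    rw [MonoidHom.mem_ker, ht, map_mul, map_inv, hsg, inv_mul_cancel]
  have hst : Commute s t := hc s hs t htk
  have hgst : g = s * t := by rw [ht]; group
  -- an exponent
  obtain ⟨a, b, hb, hab⟩ := Nat.exists_eq_pow_mul_and_not_dvd (Nat.card_pos (α := H)).ne' p hp.out.ne_one
  have hcop : Nat.Coprime (p ^ n) b := Nat.Coprime.pow_left _ (hp.out.coprime_iff_not_dvd.2 hb)
  obtain ⟨m, hm1, hm2⟩ := Nat.chineseRemainder hcop 1 0
  have hgm : g ^ m = g := by
    have h4 : g ^ m = g ^ 1 := pow_eq_pow_iff_modEq.2 (hm1.of_dvd (orderOf_dvd_of_pow_eq_one hgn))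
    rwa [pow_one] at h4
  obtain ⟨c, hc'⟩ := (Nat.modEq_zero_iff_dvd).1 hm2
  have htm : (t ^ m) ^ p ^ a = 1 := by
    rw [← pow_mul, hc', show b * c * p ^ a = p ^ a * b * c by ring, ← hab, pow_mul, pow_card_eq_one', one_pow]
  have h5 := mem_zpowers_of_sq h2 hu hup huc (f.ker.pow_mem htk m) htm
  have h6 : t ^ m ∈ center H := (zpowers_le.2 huc) h5
  have h7 : g = s ^ m * t ^ m := by
    rw [← hst.mul_pow, ← hgst, hgm]
  have h8 : s ^ m * k = k * s ^ m := by
    have : Commute s k := hc s hs k hk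
    exact (this.pow_left m).eq
  rw [h7, ← mul_assoc, ← h8, mul_assoc, mul_assoc, mem_center_iff.1 h6 k]

end

end Cfsg.Agent.BpSpor

end

-- merged: Cfsg.Agent.BpSpor.TriGood
section

/-!
# `Good p C(x)` when the transpositions commuting with `x` form an `S_7` (helper91)
-/

set_option autoImplicit false

namespace Cfsg.Agent.BpSpor.TriGood

open Subgroup Cfsg Cfsg.Agent.BpTab Equiv
open Cfsg.Agent.CpAutFiSeven (Tri)

/-- `L` : a set of elements closed under conjugation, `t i j` the ones commuting with `x`: the centralizer of `x` is good -/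
theorem good_of_tri {F : Type*} [Group F] [Finite F] {p : ℕ} (hp : p.Prime) (hp7 : p ∣ 5040)
    {L : Set F} {x : F} {t : Fin 7 → Fin 7 → F} (h : Tri L x t) (hL : ∀ d ∈ L, ∀ g : F, g * d * g⁻¹ ∈ L)
    (hx : orderOf x = p) (h3 : ¬ p ^ 3 ∣ Nat.card F) : Good p ↥(centralizer ({x} : Set F)) := by
  have hF : Fact p.Prime := ⟨hp⟩
  let H := centralizer ({x} : Set F)
  have hmem : ∀ g : ↥H, (g : F) * x = x * (g : F) := fun g => mem_centralizer_singleton_iff.1 g.2
  obtain ⟨f, hf⟩ := h.exists_hom hL H.subtype (fun g => hmem g)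
  have hfg : ∀ (g : ↥H) (σ : Perm (Fin 7)), (∀ i j, i ≠ j → (g : F) * t i j * (g : F)⁻¹ = t (σ i) (σ j)) → f g = σ := by
    intro g σ hg
    apply h.perm_unique
    intro i j hij
    rw [← hf g i j hij]
    exact hg i j hij
  have htm : ∀ i j, i ≠ j → t i j ∈ H := fun i j hij => mem_centralizer_singleton_iff.2 (h.comm i j hij).symm
  have hft : ∀ i j (hij : i ≠ j), f ⟨t i j, htm i j hij⟩ = swap i j :=
    fun i j hij => hfg _ _ fun k l hkl => h.conj i j k l hij hkl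
  let S : Subgroup ↥H := closure {s | ∃ i j, ∃ hij : i ≠ j, s = ⟨t i j, htm i j hij⟩}
  have hS : ∀ σ : Perm (Fin 7), ∃ s ∈ S, f s = σ := by
    intro σ
    induction σ using Perm.swap_induction_on with
    | one => exact ⟨1, S.one_mem, map_one f⟩
    | swap_mul σ i j hij ih =>
      obtain ⟨s, hs, h1⟩ := ih
      refine ⟨⟨t i j, htm i j hij⟩ * s, S.mul_mem (subset_closure ⟨i, j, hij, rfl⟩) hs, ?_⟩
      rw [map_mul, hft i j hij, h1]
  have hsurj : Function.Surjective f := fun σ => by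
    obtain ⟨s, -, h1⟩ := hS σ
    exact ⟨s, h1⟩
  have hker : ∀ k ∈ f.ker, ∀ i j, i ≠ j → (k : F) * t i j = t i j * (k : F) := by
    intro k hk i j hij
    have h1 := hf k i j hij
    rw [MonoidHom.mem_ker.1 hk] at h1
    exact mul_inv_eq_iff_eq_mul.1 h1
  let u : ↥H := ⟨x, mem_centralizer_singleton_iff.2 rfl⟩
  refine good_of_quot (X := Perm (Fin 7)) f hsurj BpAlt.good_perm S hS ?_ ?_ (u := u) ?_ ?_ ?_
  · intro s hs k hk
    have h1 : S ≤ centralizer ({k} : Set ↥H) := by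
      refine (closure_le _).2 ?_
      rintro _ ⟨i, j, hij, rfl⟩
      rw [SetLike.mem_coe, mem_centralizer_singleton_iff]
      exact Subtype.ext (hker k hk i j hij).symm
    exact mem_centralizer_singleton_iff.1 (h1 hs)
  · intro hd
    apply h3
    have h1 : Nat.card ↥H = Nat.card ↥f.ker * 5040 := by
      rw [← f.ker.card_mul_index, Subgroup.index_ker, MonoidHom.range_eq_top.2 hsurj, Subgroup.card_top, Nat.card_perm,
        Nat.card_fin]
      rfl
    have h2 : p ^ 3 ∣ Nat.card ↥H := by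
      rw [h1, pow_succ]
      exact mul_dvd_mul hd hp7
    exact h2.trans (card_subgroup_dvd_card _)
  · rw [MonoidHom.mem_ker]
    refine hfg _ _ fun i j hij => ?_
    change x * t i j * x⁻¹ = t i j
    rw [h.comm i j hij, mul_inv_cancel_right]
  · rw [Subgroup.orderOf_mk]
    exact hx
  · rw [mem_center_iff]
    intro g
    exact Subtype.ext (hmem g)

end Cfsg.Agent.BpSpor.TriGood

end

-- merged: Cfsg.Agent.BpSpor.FiTThFive
section

/-!
# S1332, row `(Fi23, 5)` (helper91)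

Every element of order 5 is conjugate to a power of `y5 = z j g f`. The 21 transpositions commuting with `y5` are those of
the `S_7` with the Coxeter generators `a, b, c, d, h, i`: `Tri L y5 t0`, and `good_of_tri`.
-/

set_option autoImplicit false
set_option linter.constructorNameAsVariable false
set_option maxRecDepth 100000

namespace Cfsg.Agent.BpSpor.Fi23

open Subgroup Cfsg Cfsg.Agent.BpTab Cfsg.Agent.LThreeFi23
open Cfsg.Agent.Fischer.Fi23Hom (rho)
open Cfsg.Agent.CpAutFiSeven (Tri)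

namespace Chk

/-- the index of the pair `i, j` -/
def ix (i j : ℕ) : ℕ := (([[0, 0, 1, 2, 3, 4, 5], [0, 0, 6, 7, 8, 9, 10], [1, 6, 0, 11, 12, 13, 14], [2, 7, 11, 0, 15, 16, 17], [3, 8, 12, 15, 0, 18, 19], [4, 9, 13, 16, 18, 0, 20], [5, 10, 14, 17, 19, 20, 0]] : List (List ℕ)).getD i []).getD j 0

/-- the 21 points -/
def ps : List ℕ := [11589, 9592, 7834, 6290, 4964, 6291, 8004, 6526, 5260, 4134, 5261, 8003, 6525, 5258, 4234, 8000, 6522, 5286, 7999, 6537, 8007]

def PT (k : ℕ) : ℕ := ps.getD k 0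

def U (k : ℕ) : List Lt := ([
  [], [.a], [.a, .b], [.a, .b, .c], [.a, .b, .c, .d], [.a, .b, .c, .d, .h], [], [.b], [.b, .c], [.b, .c, .d],
  [.b, .c, .d, .h], [], [.c], [.c, .d], [.c, .d, .h], [], [.d], [.d, .h], [], [.h], []] : List (List Lt)).getD k []

def X (k : ℕ) : Lt := ([.a, .b, .c, .d, .h, .i, .b, .c, .d, .h, .i, .c, .d, .h, .i, .d, .h, .i, .h, .i, .i] : List Lt).getD k .a

/-- the word of the transposition `k` -/
def wt (k : ℕ) : List Lt := U k ++ X k :: (U k).reverse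

/-- the action of the transposition `a` on the point `b` -/
def M (a b : ℕ) : ℕ := (([
  [0, 6, 7, 8, 9, 10, 1, 2, 3, 4, 5, 11, 12, 13, 14, 15, 16, 17, 18, 19, 20],
  [6, 1, 11, 12, 13, 14, 0, 7, 8, 9, 10, 2, 3, 4, 5, 15, 16, 17, 18, 19, 20],
  [7, 11, 2, 15, 16, 17, 6, 0, 8, 9, 10, 1, 12, 13, 14, 3, 4, 5, 18, 19, 20],
  [8, 12, 15, 3, 18, 19, 6, 7, 0, 9, 10, 11, 1, 13, 14, 2, 16, 17, 4, 5, 20],
  [9, 13, 16, 18, 4, 20, 6, 7, 8, 0, 10, 11, 12, 1, 14, 15, 2, 17, 3, 19, 5],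
  [10, 14, 17, 19, 20, 5, 6, 7, 8, 9, 0, 11, 12, 13, 1, 15, 16, 2, 18, 3, 4],
  [1, 0, 2, 3, 4, 5, 6, 11, 12, 13, 14, 7, 8, 9, 10, 15, 16, 17, 18, 19, 20],
  [2, 1, 0, 3, 4, 5, 11, 7, 15, 16, 17, 6, 12, 13, 14, 8, 9, 10, 18, 19, 20],
  [3, 1, 2, 0, 4, 5, 12, 15, 8, 18, 19, 11, 6, 13, 14, 7, 16, 17, 9, 10, 20],
  [4, 1, 2, 3, 0, 5, 13, 16, 18, 9, 20, 11, 12, 6, 14, 15, 7, 17, 8, 19, 10],
  [5, 1, 2, 3, 4, 0, 14, 17, 19, 20, 10, 11, 12, 13, 6, 15, 16, 7, 18, 8, 9],
  [0, 2, 1, 3, 4, 5, 7, 6, 8, 9, 10, 11, 15, 16, 17, 12, 13, 14, 18, 19, 20],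
  [0, 3, 2, 1, 4, 5, 8, 7, 6, 9, 10, 15, 12, 18, 19, 11, 16, 17, 13, 14, 20],
  [0, 4, 2, 3, 1, 5, 9, 7, 8, 6, 10, 16, 18, 13, 20, 15, 11, 17, 12, 19, 14],
  [0, 5, 2, 3, 4, 1, 10, 7, 8, 9, 6, 17, 19, 20, 14, 15, 16, 11, 18, 12, 13],
  [0, 1, 3, 2, 4, 5, 6, 8, 7, 9, 10, 12, 11, 13, 14, 15, 18, 19, 16, 17, 20],
  [0, 1, 4, 3, 2, 5, 6, 9, 8, 7, 10, 13, 12, 11, 14, 18, 16, 20, 15, 19, 17],
  [0, 1, 5, 3, 4, 2, 6, 10, 8, 9, 7, 14, 12, 13, 11, 19, 20, 17, 18, 15, 16],
  [0, 1, 2, 4, 3, 5, 6, 7, 9, 8, 10, 11, 13, 12, 14, 16, 15, 17, 18, 20, 19],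
  [0, 1, 2, 5, 4, 3, 6, 7, 10, 9, 8, 11, 14, 13, 12, 17, 16, 15, 20, 19, 18],
  [0, 1, 2, 3, 5, 4, 6, 7, 8, 10, 9, 11, 12, 14, 13, 15, 17, 16, 19, 18, 20]] : List (List ℕ)).getD a []).getD b 0

theorem chkIx : ∀ i j : Fin 7, ix i j < 21 ∧ ix i j = ix j i := by decide

theorem chkSw : ∀ i j k l : Fin 7, i ≠ j → k ≠ l →
    M (ix i j) (ix k l) = ix (Equiv.swap i j k : Fin 7) (Equiv.swap i j l : Fin 7) := by decide +kernel

theorem chkInj : ∀ i j k l : Fin 7, i ≠ j → k ≠ l → ix i j = ix k l →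
    (i = k ∧ j = l) ∨ (i = l ∧ j = k) := by decide +kernel

theorem chkSurj : ∀ a < 21, ∃ i j : Fin 7, i ≠ j ∧ ix i j = a := by decide +kernel

theorem chkPs : ps.Nodup := by decide

theorem chkLt : ∀ a < 21, PT a < 31671 := by decide

theorem chkMlt : ∀ a < 21, ∀ b < 21, M a b < 21 := by decide +kernel

theorem chkP : ∀ a < 21, Nat.beq (ptw (U a) (pt (X a))) (PT a) = true := by decide +kernel

theorem chkM : ∀ a < 21, ∀ b < 21, Nat.beq (ptw (wt a) (PT b)) (PT (M a b)) = true := by decide +kernel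

theorem chkF : ∀ p ∈ [4134, 4234, 4964, 5258, 5260, 5261, 5286, 6290, 6291, 6522, 6525, 6526, 6537,
    7834, 7999, 8000, 8003, 8004, 8007, 9592, 11589], ∃ a < 21, PT a = p := by decide

theorem chkG : ∀ a < 21, PT a ∈ [4134, 4234, 4964, 5258, 5260, 5261, 5286, 6290, 6291, 6522, 6525, 6526, 6537,
    7834, 7999, 8000, 8003, 8004, 8007, 9592, 11589] := by decide

end Chk

open Chk

/-- the transpositions -/
def L : Set Spor.Fi23 := {d | ∃ p < 31671, T p = d}

theorem L_conj : ∀ d ∈ L, ∀ g : Spor.Fi23, g * d * g⁻¹ ∈ L := by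
  rintro _ ⟨p, hp, rfl⟩ g
  exact ⟨_, act_lt g hp, T_act g hp⟩

theorem T_word {a : ℕ} (ha : a < 21) : T (PT a) = elw (wt a) := by
  have h1 := Nat.eq_of_beq_eq_true (chkP a ha)
  rw [ptw_eq] at h1
  rw [← h1, T_act _ (pt_lt _), T_pt]
  unfold wt
  rw [elw_append, elw_cons, elw_reverse, mul_assoc]

theorem T_conj {a b : ℕ} (ha : a < 21) (hb : b < 21) : T (PT a) * T (PT b) * (T (PT a))⁻¹ = T (PT (M a b)) := by
  have h1 := Nat.eq_of_beq_eq_true (chkM a ha b hb)
  rw [ptw_eq] at h1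
  rw [T_word ha, ← T_act _ (chkLt b hb), h1]

theorem y5_iff (p : ℕ) : (p < 31671 ∧ rho (elw y5) p = p) ↔ ∃ a < 21, PT a = p := by
  have h1 := pchk_mem e_y5 p
  rw [pat_cons] at h1
  have h2 : Pat [] p := fun c hc => absurd hc (by simp)
  constructor
  · rintro ⟨h3, h4⟩
    exact chkF p (h1.1 ⟨h3, ⟨fun h5 => absurd h4 h5, fun h5 => absurd h5 Bool.false_ne_true⟩, h2⟩)
  · rintro ⟨a, ha, rfl⟩
    obtain ⟨h3, h4, -⟩ := h1.2 (chkG a ha)
    refine ⟨h3, ?_⟩
    by_contra h5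
    exact Bool.false_ne_true (h4.1 h5)

/-- the table of `y5` -/
noncomputable def t0 (i j : Fin 7) : Spor.Fi23 := T (PT (ix i j))

theorem PT_inj {a b : ℕ} (ha : a < 21) (hb : b < 21) (h : PT a = PT b) : a = b := by
  unfold PT at h
  have hl : ps.length = 21 := rfl
  rw [List.getD_eq_getElem _ _ (by rw [hl]; exact ha), List.getD_eq_getElem _ _ (by rw [hl]; exact hb)] at h
  exact (chkPs.getElem_inj_iff).1 h

theorem tri0 : Tri L (elw y5) t0 where
  mem i j _ := ⟨_, chkLt _ (chkIx i j).1, rfl⟩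
  comm i j _ := (fix_iff _ (chkLt _ (chkIx i j).1)).1 ((y5_iff _).2 ⟨_, (chkIx i j).1, rfl⟩).2
  surj d hd h := by
    obtain ⟨p, hp, rfl⟩ := hd
    obtain ⟨a, ha, h1⟩ := (y5_iff p).1 ⟨hp, (fix_iff _ hp).2 h⟩
    obtain ⟨i, j, hij, h2⟩ := chkSurj a ha
    refine ⟨i, j, hij, ?_⟩
    unfold t0
    rw [h2, h1]
  symm i j := by
    unfold t0
    rw [(chkIx i j).2]
  inj i j k l hij hkl h :=
    chkInj i j k l hij hkl (PT_inj (chkIx i j).1 (chkIx k l).1
      (T_inj (chkLt _ (chkIx i j).1) (chkLt _ (chkIx k l).1) h))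
  conj i j k l hij hkl := by
    unfold t0
    rw [T_conj (chkIx i j).1 (chkIx k l).1, chkSw i j k l hij hkl]

theorem good_five {x : Spor.Fi23} (hx : orderOf x = 5) : Good 5 ↥(centralizer ({x} : Set Spor.Fi23)) := by
  have hF : Fact (Nat.Prime 5) := ⟨Nat.prime_five⟩
  have hx5 : x ^ 5 = 1 := by rw [← hx, pow_orderOf_eq_one]
  obtain ⟨g, i, hg⟩ := conj_five hx5
  have ho : orderOf (g * x * g⁻¹) = 5 := by
    rw [← MulAut.conj_apply, MulEquiv.orderOf_eq]
    exact hx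
  have hz : zpowers (g * x * g⁻¹) = zpowers (elw y5) := by
    refine eq_of_le_of_card_ge (zpowers_le.2 (by rw [hg]; exact zpow_mem (mem_zpowers _) i)) ?_
    rw [Nat.card_zpowers, Nat.card_zpowers, ho, orderOf_eq_prime pow5 y5_ne]
  have h1 : Tri L (g * x * g⁻¹) t0 := by
    refine tri0.congr fun e => ?_
    constructor
    · intro h9
      have h10 : zpowers (g * x * g⁻¹) ≤ centralizer {e} := zpowers_le.2 (mem_centralizer_singleton_iff.2 h9)
      rw [hz, zpowers_le] at h10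
      exact mem_centralizer_singleton_iff.1 h10
    · intro h9
      have h10 : zpowers (elw y5) ≤ centralizer {e} := zpowers_le.2 (mem_centralizer_singleton_iff.2 h9)
      rw [← hz, zpowers_le] at h10
      exact mem_centralizer_singleton_iff.1 h10
  have h2 := h1.conj_by L_conj g⁻¹
  have h3 : g⁻¹ * (g * x * g⁻¹) * g⁻¹⁻¹ = x := by group
  rw [h3] at h2
  exact TriGood.good_of_tri Nat.prime_five (by norm_num) h2 L_conj hx (by rw [card_G]; norm_num)

/-- **Row `(Fi23, 5)`.** -/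
theorem bps_five : BpS 5 Spor.Fi23 := by
  have h := Inn.fi23 (K := Spor.Fi23) ⟨MulEquiv.refl _⟩
  have hs : IsSimpleGroup Spor.Fi23 := nsimple
  exact BpAlt.bpS_of_inner (center_eq_bot_of_card hs (by rw [card_G]; norm_num)) (h 5 Nat.prime_five (by norm_num))
    fun g hg => good_five hg

end Cfsg.Agent.BpSpor.Fi23

end
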