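import Cfsg.Agent.BpSpor.NoComp
import Cfsg.Agent.Lib.KleinOrder

/-!
# S1332, sporadic rows: `O_{p'}(H) = 1` from a four-group (helper25)

* `odd_core_of_simple` : a simple subgroup `D` of order divisible by `p` containing a Sylow 2-subgroup of `H`:
  `|O_{p'}(H)|` is odd;
* `core_eq_bot_of_four` : `|O_{p'}(H)|` odd and the three involutions of a four-group have no fixed points on it;
* `fix_eq_one_of_dvd` : `|C_H(e)|` divides `N`, `N` prime to `|O_{p'}(H)|`: no fixed points.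
-/

set_option autoImplicit false

namespace Cfsg.Agent.BpSpor

open Subgroup Cfsg
open Cfsg.Agent.BpTab Cfsg.Agent.Lib

variable {H : Type*} [Group H] [Finite H] {p : ℕ}

/-- `D` simple, `p ∣ |D|`: `D ∩ O_{p'}(H) = 1` -/
theorem inf_core_eq_bot (hp : p.Prime) (D : Subgroup H) [hD : IsSimpleGroup ↥D] (hpD : p ∣ Nat.card ↥D) :
    D ⊓ pPrimeCore p H = ⊥ := by
  have : Fact p.Prime := ⟨hp⟩
  have hn := Cores.pPrimeCore_normal (G := H) p
  have h1 : ((pPrimeCore p H).subgroupOf D).Normal := inferInstance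
  rcases h1.eq_bot_or_eq_top with h2 | h2
  · rw [subgroupOf_eq_bot, disjoint_iff] at h2
    rw [inf_comm]
    exact h2
  · exfalso
    rw [subgroupOf_eq_top] at h2
    have h3 := (Cores.pPrimeCore_coprime (G := H) p).coprime_dvd_left (card_dvd_of_le h2)
    exact (hp.coprime_iff_not_dvd.1 h3.symm) hpD

/-- a simple subgroup of order divisible by `p` containing a Sylow 2-subgroup -/
theorem odd_core_of_simple (hp : p.Prime) (D : Subgroup H) [hD : IsSimpleGroup ↥D] (hpD : p ∣ Nat.card ↥D)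
    (T : Sylow 2 H) (hT : (T : Subgroup H) ≤ D) : Odd (Nat.card ↥(pPrimeCore p H)) := by
  have : Fact (Nat.Prime 2) := ⟨Nat.prime_two⟩
  have hn := Cores.pPrimeCore_normal (G := H) p
  rw [← Nat.not_even_iff_odd]
  intro he
  obtain ⟨y, hy⟩ := exists_prime_orderOf_dvd_card' 2 (even_iff_two_dvd.1 he)
  have hy2 : orderOf (y : H) = 2 := by rw [Subgroup.orderOf_coe, hy]
  have h1 : IsPGroup 2 (Subgroup.zpowers (y : H)) := IsPGroup.of_card (n := 1) (by rw [Nat.card_zpowers, hy2, pow_one])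
  obtain ⟨S, hS⟩ := h1.exists_le_sylow
  obtain ⟨g, rfl⟩ := MulAction.exists_smul_eq H T S
  have h2 : (y : H) ∈ g • T := hS (mem_zpowers _)
  rw [← SetLike.mem_coe, Sylow.coe_smul] at h2
  obtain ⟨t, ht, hty⟩ := h2
  change g * t * g⁻¹ = y at hty
  have h3 : t ∈ pPrimeCore p H := by
    have h4 := hn.conj_mem _ y.2 g⁻¹
    rw [← hty] at h4
    have h5 : g⁻¹ * (g * t * g⁻¹) * g⁻¹⁻¹ = t := by group
    rwa [h5] at h4
  have h4 : t ∈ D ⊓ pPrimeCore p H := ⟨hT ht, h3⟩
  rw [inf_core_eq_bot hp D hpD, mem_bot] at h4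
  rw [h4, mul_one, mul_inv_cancel] at hty
  rw [← hty, orderOf_one] at hy2
  norm_num at hy2

/-- the involutions of a four-group have no fixed points on `O_{p'}(H)`, which has odd order -/
theorem core_eq_bot_of_four (hodd : Odd (Nat.card ↥(pPrimeCore p H))) {a b : H} (ha : a * a = 1) (hb : b * b = 1)
    (hab : a * b = b * a) (h1 : pPrimeCore p H ⊓ centralizer ({a} : Set H) = ⊥)
    (h2 : pPrimeCore p H ⊓ centralizer ({b} : Set H) = ⊥)
    (h3 : pPrimeCore p H ⊓ centralizer ({a * b} : Set H) = ⊥) : pPrimeCore p H = ⊥ := by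
  have hn := Cores.pPrimeCore_normal (G := H) p
  rw [eq_bot_iff]
  exact Lib.KleinGen.le_of_klein _ _ hodd a b ha hb hab (fun h hh => hn.conj_mem h hh a) (fun h hh => hn.conj_mem h hh b)
    h1.le h2.le h3.le

theorem fix_eq_bot_of_dvd {N : ℕ} {e : H} (h : Nat.card ↥(centralizer ({e} : Set H)) ∣ N)
    (hN : Nat.Coprime (Nat.card ↥(pPrimeCore p H)) N) : pPrimeCore p H ⊓ centralizer ({e} : Set H) = ⊥ := by
  rw [← card_eq_one]
  have h1 : Nat.card ↥(pPrimeCore p H ⊓ centralizer ({e} : Set H)) ∣ Nat.card ↥(pPrimeCore p H) :=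
    card_dvd_of_le inf_le_left
  have h2 : Nat.card ↥(pPrimeCore p H ⊓ centralizer ({e} : Set H)) ∣ N := (card_dvd_of_le inf_le_right).trans h
  exact Nat.eq_one_of_dvd_coprimes hN h1 h2

end Cfsg.Agent.BpSpor
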