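import Mathlib
import Cfsg.Agent.BpNum.Num

/-!
# S1332, sporadic rows: the prime 7 (helper77)

* `solvable_gl` : a subgroup of `GL_2(7)` whose order is not divisible by 16 is solvable (`-1` is the only involution
  of `SL_2(7)`);
* `solvable_range` : the same for the group induced by `N_H(R)` on `R / Φ(R)`, `|R / Φ(R)| = 49`;
* `good_of_card'` : the numerical criterion with `16 ∤ |H|` and no elementary abelian subgroup of order 343 in place
  of `343 ∤ |H|`.
-/

set_option autoImplicit false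

namespace Cfsg.Agent.BpSpor.GLTwo

open Subgroup Cfsg Cfsg.Agent.BpTab Cfsg.Agent.BpNum
open Matrix

instance fact_seven : Fact (Nat.Prime 7) := ⟨by norm_num⟩

theorem dec : ∀ p q r s : ZMod 7, p * p + q * r = 1 → p * q + q * s = 0 → r * p + s * r = 0 → r * q + s * s = 1 →
    p * s - q * r = 1 → (p = 1 ∧ q = 0 ∧ r = 0 ∧ s = 1) ∨ (p = -1 ∧ q = 0 ∧ r = 0 ∧ s = -1) := by
  decide +kernel

theorem eq_of_sq {a : Matrix (Fin 2) (Fin 2) (ZMod 7)} (h : a * a = 1) (hd : a.det = 1) : a = 1 ∨ a = -1 := by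
  rw [Matrix.det_fin_two] at hd
  have h00 := congrFun (congrFun h 0) 0
  have h01 := congrFun (congrFun h 0) 1
  have h10 := congrFun (congrFun h 1) 0
  have h11 := congrFun (congrFun h 1) 1
  simp only [Matrix.mul_apply, Fin.sum_univ_two, Matrix.one_apply_eq, Matrix.one_apply_ne (show (0 : Fin 2) ≠ 1 by decide),
    Matrix.one_apply_ne (show (1 : Fin 2) ≠ 0 by decide)] at h00 h01 h10 h11
  rcases dec (a 0 0) (a 0 1) (a 1 0) (a 1 1) h00 h01 h10 h11 hd with ⟨h1, h2, h3, h4⟩ | ⟨h1, h2, h3, h4⟩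
  · left
    ext i j
    fin_cases i <;> fin_cases j <;> simp [h1, h2, h3, h4]
  · right
    ext i j
    fin_cases i <;> fin_cases j <;> simp [h1, h2, h3, h4]

theorem card_ker : Nat.card (GeneralLinearGroup.det : GL (Fin 2) (ZMod 7) →* (ZMod 7)ˣ).ker = 336 := by
  have h1 := (GeneralLinearGroup.det : GL (Fin 2) (ZMod 7) →* (ZMod 7)ˣ).ker.card_mul_index
  rw [index_ker] at h1
  have h2 : Nat.card (GL (Fin 2) (ZMod 7)) = 2016 := by
    rw [Matrix.card_GL_field]
    simp [ZMod.card, Fin.prod_univ_two]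
  have h3 : Nat.card (GeneralLinearGroup.det : GL (Fin 2) (ZMod 7) →* (ZMod 7)ˣ).range = 6 := by
    rw [MonoidHom.range_eq_top.2 (fun u => ?_)]
    · rw [card_top, Nat.card_eq_fintype_card, ZMod.card_units]
    · refine ⟨Matrix.GeneralLinearGroup.mk' (Matrix.diagonal ![(u : ZMod 7), 1]) (by
        rw [Matrix.det_diagonal, Fin.prod_univ_two]
        exact Invertible.copy (Units.invertible u) _ (by simp)), ?_⟩
      ext
      rw [Matrix.GeneralLinearGroup.val_det_apply]
      change (Matrix.diagonal ![(u : ZMod 7), 1]).det = u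
      rw [Matrix.det_diagonal, Fin.prod_univ_two]
      simp
  rw [h2, h3] at h1
  omega

theorem solvable_gl {Y : Subgroup (GL (Fin 2) (ZMod 7))} (h : ¬ 16 ∣ Nat.card Y) : Group.IsSolvable Y := by
  let f : Y →* (ZMod 7)ˣ := (GeneralLinearGroup.det : GL (Fin 2) (ZMod 7) →* (ZMod 7)ˣ).comp Y.subtype
  have hfin : Finite (GL (Fin 2) (ZMod 7)) := inferInstance
  suffices hK : Group.IsSolvable f.ker by
    have h1 : Group.IsSolvable (ZMod 7)ˣ := Group.isSolvable_of_comm mul_comm
    exact Group.isSolvable_of_ker_le_range f.ker.subtype f (by rw [range_subtype])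
  have hKd : Nat.card f.ker ∣ 336 := by
    have h0 : Nat.card (f.ker.map Y.subtype) = Nat.card f.ker := card_map_of_injective Y.subtype_injective
    rw [← card_ker, ← h0]
    apply card_dvd_of_le
    rintro _ ⟨k, hk, rfl⟩
    exact hk
  have h16 : ¬ 16 ∣ Nat.card f.ker := fun h' => h (h'.trans (card_subgroup_dvd_card _))
  by_cases h2 : 2 ∣ Nat.card f.ker
  · have : Fact (Nat.Prime 2) := ⟨Nat.prime_two⟩
    obtain ⟨k, hk⟩ := exists_prime_orderOf_dvd_card' 2 h2
    have hk2 : k ^ 2 = 1 := orderOf_dvd_iff_pow_eq_one.1 (dvd_of_eq hk)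
    have hk1 : k ≠ 1 := by
      rintro rfl
      rw [orderOf_one] at hk
      omega
    have hinj : ∀ a b : f.ker, (((a : Y) : GL (Fin 2) (ZMod 7)) : Matrix (Fin 2) (Fin 2) (ZMod 7)) =
        (((b : Y) : GL (Fin 2) (ZMod 7)) : Matrix (Fin 2) (Fin 2) (ZMod 7)) → a = b := fun a b hab =>
      Subtype.ext (Subtype.ext (Units.ext hab))
    have hm : (((k : Y) : GL (Fin 2) (ZMod 7)) : Matrix (Fin 2) (Fin 2) (ZMod 7)) = -1 := by
      have h3 : (((k : Y) : GL (Fin 2) (ZMod 7)) : Matrix (Fin 2) (Fin 2) (ZMod 7)) *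
          (((k : Y) : GL (Fin 2) (ZMod 7)) : Matrix (Fin 2) (Fin 2) (ZMod 7)) = 1 := by
        have h4 := congrArg (fun z : f.ker => (((z : Y) : GL (Fin 2) (ZMod 7)) : Matrix (Fin 2) (Fin 2) (ZMod 7))) hk2
        simpa [pow_two] using h4
      have h4 : (((k : Y) : GL (Fin 2) (ZMod 7)) : Matrix (Fin 2) (Fin 2) (ZMod 7)).det = 1 := by
        have h5 : f (k : Y) = 1 := k.2
        exact congrArg Units.val h5
      rcases eq_of_sq h3 h4 with h5 | h5
      · exact absurd (hinj k 1 (by rw [h5]; simp)) hk1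
      · exact h5
    have hkc : k ∈ center f.ker := by
      rw [mem_center_iff]
      intro g
      apply hinj
      simp [hm]
    have hn : (zpowers k).Normal := by
      constructor
      rintro _ ⟨n, rfl⟩ g
      refine ⟨n, ?_⟩
      change k ^ n = g * k ^ n * g⁻¹
      have h5 : g * k ^ n = k ^ n * g := mem_center_iff.1 (zpow_mem hkc n) g
      rw [h5, mul_inv_cancel_right]
    have hq : Nat.card (f.ker ⧸ zpowers k) * 2 = Nat.card f.ker := by
      have h5 := card_eq_card_quotient_mul_card_subgroup (zpowers k)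
      rw [Nat.card_zpowers, hk] at h5
      exact h5.symm
    have h84 : Nat.card (f.ker ⧸ zpowers k) ∣ 84 := by
      rw [← hq] at hKd h16
      have h5 : Nat.card (f.ker ⧸ zpowers k) ∣ 168 := by
        have : Nat.card (f.ker ⧸ zpowers k) * 2 ∣ 168 * 2 := by simpa using hKd
        exact Nat.dvd_of_mul_dvd_mul_right (by norm_num) this
      have h8 : ¬ 8 ∣ Nat.card (f.ker ⧸ zpowers k) := by
        rintro ⟨m, hm⟩
        apply h16
        rw [hm]
        exact ⟨m, by ring⟩
      have hmem : Nat.card (f.ker ⧸ zpowers k) ∈ Nat.divisors 168 := Nat.mem_divisors.2 ⟨h5, by norm_num⟩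
      have key : ∀ n ∈ Nat.divisors 168, ¬ 8 ∣ n → n ∣ 84 := by decide +kernel
      exact key _ hmem h8
    have h5 := solvable_of_dvd_84 h84
    have h6 : Group.IsSolvable (zpowers k) := Group.isSolvable_of_comm fun a b =>
      (IsCyclic.isMulCommutative (α := zpowers k)).is_comm.comm a b
    exact (Group.isSolvable_iff_subgroup_quotient (zpowers k)).2 ⟨h6, h5⟩
  · refine solvable_of_dvd (a := 1) (b := 1) Nat.prime_three (by norm_num : Nat.Prime 7) ?_
    have h3 : (Nat.card f.ker).Coprime (2 ^ 4) :=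
      (((Nat.Prime.coprime_iff_not_dvd Nat.prime_two).2 h2).symm).pow_right 4
    exact h3.dvd_of_dvd_mul_right (by simpa using hKd : Nat.card f.ker ∣ 3 ^ 1 * 7 ^ 1 * 2 ^ 4)

theorem solvable_mulAut {V : Type*} [Group V] [Finite V] (hc : ∀ a b : V, a * b = b * a) (hpow : ∀ a : V, a ^ 7 = 1)
    (hk : Nat.card V = 7 ^ 2) {Y : Subgroup (MulAut V)} (h : ¬ 16 ∣ Nat.card Y) : Group.IsSolvable Y := by
  let _ : CommGroup V := { (inferInstance : Group V) with mul_comm := hc }
  obtain ⟨e⟩ := Lib.ElemAbGL.mulAut_equiv_GL (V := V) 7 2 hpow hk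
  have h1 : Nat.card (Y.map e.toMonoidHom) = Nat.card Y := card_map_of_injective e.injective
  have h2 : Group.IsSolvable (Y.map e.toMonoidHom) := solvable_gl (by rwa [h1])
  exact Group.isSolvable_of_isSolvable_injective (f := (Y.equivMapOfInjective e.toMonoidHom e.injective).toMonoidHom)
    (Y.equivMapOfInjective e.toMonoidHom e.injective).injective

section Crit

variable {H : Type*} [Group H] [Finite H]

theorem solvable_range {R : Subgroup H} (hR : IsPGroup 7 R) (h16 : ¬ 16 ∣ Nat.card H) (h74 : ¬ 7 ^ 4 ∣ Nat.card H)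
    (hE : ∀ E : Subgroup H, Nat.card E = 7 ^ 3 → (∀ a ∈ E, ∀ b ∈ E, a * b = b * a) → False) :
    Group.IsSolvable (act R).range := by
  obtain ⟨m, hm⟩ := IsPGroup.iff_card.1 hR
  have hq : Nat.card (R ⧸ frattini R) ∣ Nat.card R := card_quotient_dvd_card _
  obtain ⟨k, hkm, hk⟩ := (Nat.dvd_prime_pow (by norm_num : Nat.Prime 7)).1 (hm ▸ hq)
  have hdvd := card_mul_card_dvd hR
  have hm3 : m ≤ 3 := by
    by_contra hlt
    exact h74 (((pow_dvd_pow 7 (show 4 ≤ m by omega)).trans (hm ▸ card_subgroup_dvd_card R)))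
  rcases Nat.lt_or_ge k 2 with h2 | h2
  · have := mulAut_solvable_of_le_one (r := 7) hk (by omega)
    infer_instance
  rcases Nat.lt_or_ge k 3 with h3 | h3
  · have hk2 : k = 2 := by omega
    subst hk2
    exact solvable_mulAut (quo_comm hR) (quo_pow hR) hk
      (fun h => h16 (h.trans ((Dvd.intro_left _ rfl).trans hdvd)))
  · exfalso
    have hm' : m = 3 := by omega
    have hk' : k = 3 := by omega
    subst hm' hk'
    -- `Φ(R) = 1`
    have h1 := card_eq_card_quotient_mul_card_subgroup (frattini R)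
    rw [hm, hk] at h1
    have h4 : Nat.card (frattini R) = 1 := by omega
    have h5 : frattini R = ⊥ := card_eq_one.1 h4
    refine hE R hm fun a ha b hb => ?_
    have h6 := quo_comm hR (QuotientGroup.mk ⟨a, ha⟩) (QuotientGroup.mk ⟨b, hb⟩)
    rw [← QuotientGroup.mk_mul, ← QuotientGroup.mk_mul, QuotientGroup.eq, h5, mem_bot, inv_mul_eq_one] at h6
    exact congrArg Subtype.val h6

/-- **The numeric criterion**, for groups with a non-abelian Sylow 7-subgroup of order 343. -/
theorem good_of_card' {p : ℕ} [hp : Fact p.Prime] (h2 : ¬ 16 ∣ Nat.card H)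
    (h3 : p ≠ 3 → ¬ 81 ∣ Nat.card H) (h5 : p ≠ 5 → ¬ 125 ∣ Nat.card H) (h7 : ¬ 7 ^ 4 ∣ Nat.card H)
    (hE : ∀ E : Subgroup H, Nat.card E = 7 ^ 3 → (∀ a ∈ E, ∀ b ∈ E, a * b = b * a) → False)
    (h11 : ∀ r : ℕ, r.Prime → 11 ≤ r → r ≠ p → ¬ r ^ 2 ∣ Nat.card H) : Good p H := by
  refine good_of_act fun r hr hrp R hR _ => ?_
  have : Fact r.Prime := ⟨hr⟩
  by_contra hY
  obtain ⟨k2, k3, k5, k7, k11⟩ := dvd_card_of_not_solvable hR hY
  by_cases e2 : r = 2
  · exact h2 ((by norm_num : 16 ∣ 64).trans (k2 e2))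
  by_cases e3 : r = 3
  · exact h3 (fun h => hrp (e3.trans h.symm)) (k3 e3)
  by_cases e5 : r = 5
  · exact h5 (fun h => hrp (e5.trans h.symm)) (k5 e5)
  by_cases e7 : r = 7
  · subst e7
    exact hY (solvable_range hR h2 h7 hE)
  · refine h11 r hr ?_ hrp k11
    by_contra hlt
    have hle : r ≤ 10 := by omega
    interval_cases r <;> first | omega | exact absurd hr (by norm_num)

end Crit

end Cfsg.Agent.BpSpor.GLTwo
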