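import Cfsg.Agent.CpAutHN.Second
import Cfsg.Agent.BpSpor.Four

/-!
# S1332: HN, `p = 3` (helper25)

* `noComp_T1` : `C(x) / O_{3'}(C(x))` has no component, `x` of the first type;
* `core_X1` : `O_{3'}(C(X1)) = 1`;
* `good_three` : `Good 3 C(x)` for `x` of order three;
* `bpS_of` : the row `BpS 3 HN`, from `AutInner 3 HN`.
(Everything about the elements of order three of HN is taken from helper28's files `CpAutHN/*`.)
-/

set_option autoImplicit false

namespace Cfsg.Agent.BpSpor.HNThree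

open Subgroup Cfsg
open Cfsg.Agent.BpTab Cfsg.Agent.CpAut
open Cfsg.Agent.HN.Pres Cfsg.Agent.HN.P1408 Cfsg.Agent.HN.H0Basic
open Cfsg.Agent.HN.XWords (W0 W0_sq)
open Cfsg.Agent.KFacts.HN (PP mem_PP ρ φA φB W0_ne A5)
open Cfsg.Agent.KFacts.HN.Classes
open Cfsg.Agent.CpAutHN Cfsg.Agent.CpAutHN.LqFacts Cfsg.Agent.CpAutHN.PPFacts Cfsg.Agent.CpAutHN.Alt
open Cfsg.Agent.CpAutHN.Tr Cfsg.Agent.CpAutHN.Pairs Cfsg.Agent.CpAutHN.Second Cfsg.Agent.CpAutHN.NineAlt

/-- elements of order three of the first type -/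
theorem noComp_T1 (FT : ∀ (K : Type) [Group K] [Finite K], Odd (Nat.card K) → Group.IsSolvable K) {x s : Pairs.G}
    (h3 : orderOf x = 3) (h : T1 x s) : NoComp 3 ↥(centralizer ({x} : Set Pairs.G)) := by
  have hsx : x * s = s * x := by
    obtain ⟨g, hg, hs, -⟩ := h
    have h1 := mem_PP.1 hg
    rw [← hs] at h1
    calc x * s = g⁻¹ * (g * x * g⁻¹ * (g * s * g⁻¹)) * g := by group
      _ = g⁻¹ * (g * s * g⁻¹ * (g * x * g⁻¹)) * g := by rw [h1]
      _ = _ := by group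
  have hs2 : orderOf s = 2 := by
    obtain ⟨g, hg, hs, -⟩ := h
    have h1 : orderOf W0 = 2 := orderOf_eq_prime (by rw [pow_two]; exact W0_sq) W0_ne
    rw [← h1, ← hs]
    exact (MulEquiv.orderOf_eq (MulAut.conj g) s).symm
  let s' : ↥(centralizer ({x} : Set Pairs.G)) := ⟨s, mem_centralizer_singleton_iff.2 hsx.symm⟩
  have hs' : orderOf s' = 2 := by rw [← Subgroup.orderOf_coe]; exact hs2
  have hone : RankOne.One ↥(centralizer ({x} : Set Pairs.G)) := by
    refine (CpAutTh.RankOne.uInv_of_unique hs' ?_).1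
    intro u hu hus
    apply Subtype.ext
    exact h.unique (by rw [Subgroup.orderOf_coe]; exact hu) (mem_centralizer_singleton_iff.1 u.2)
      (congrArg Subtype.val hus)
  -- the element inverted by `s`
  obtain ⟨c, hcx, hcs⟩ := t1_x3.conj order_X3 h3 h
  have hy3 : orderOf (Φ ⟨y3, y3_mem⟩) = 3 := orderOf_three y3_mem (by decide +kernel) (by decide +kernel)
  have hyx : Φ ⟨y3, y3_mem⟩ * X3 = X3 * Φ ⟨y3, y3_mem⟩ := comm_of y3_mem x3_mem (by decide +kernel)
  have hys : Pairs.S3 * Φ ⟨y3, y3_mem⟩ * Pairs.S3⁻¹ = (Φ ⟨y3, y3_mem⟩)⁻¹ := by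
    have h4 : (⟨s3, s3_mem⟩ : A12) * ⟨y3, y3_mem⟩ * (⟨s3, s3_mem⟩ : A12)⁻¹ = (⟨y3, y3_mem⟩ : A12)⁻¹ := by
      apply Subtype.ext
      change s3 * y3 * s3⁻¹ = y3⁻¹
      decide +kernel
    have h5 := congrArg Φ h4
    rw [map_mul, map_mul, map_inv, map_inv] at h5
    exact h5
  let y : Pairs.G := c * Φ ⟨y3, y3_mem⟩ * c⁻¹
  have hy : orderOf y = 3 := order_conj hy3 c
  have hyx' : y * x = x * y := by
    rw [← hcx]
    calc c * Φ ⟨y3, y3_mem⟩ * c⁻¹ * (c * X3 * c⁻¹) = c * (Φ ⟨y3, y3_mem⟩ * X3) * c⁻¹ := by group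
      _ = c * (X3 * Φ ⟨y3, y3_mem⟩) * c⁻¹ := by rw [hyx]
      _ = c * X3 * c⁻¹ * (c * Φ ⟨y3, y3_mem⟩ * c⁻¹) := by group
  let y' : ↥(centralizer ({x} : Set Pairs.G)) := ⟨y, mem_centralizer_singleton_iff.2 hyx'⟩
  have hy' : orderOf y' = 3 := by rw [← Subgroup.orderOf_coe]; exact hy
  refine RankOne.no_comp FT (by norm_num) (by norm_num) hone hs' ?_
  refine RankOne.not_mem_core_of_inverts (y := y') (by norm_num) (by norm_num) ?_ ?_ ?_
  · intro h6
    rw [h6, orderOf_one] at hy'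
    norm_num at hy'
  · rw [← hy', pow_orderOf_eq_one]
  · apply Subtype.ext
    change s * (c * Φ ⟨y3, y3_mem⟩ * c⁻¹) * s⁻¹ = (c * Φ ⟨y3, y3_mem⟩ * c⁻¹)⁻¹
    rw [← hcs]
    calc c * Pairs.S3 * c⁻¹ * (c * Φ ⟨y3, y3_mem⟩ * c⁻¹) * (c * Pairs.S3 * c⁻¹)⁻¹
        = c * (Pairs.S3 * Φ ⟨y3, y3_mem⟩ * Pairs.S3⁻¹) * c⁻¹ := by group
      _ = (c * Φ ⟨y3, y3_mem⟩ * c⁻¹)⁻¹ := by rw [hys]; group

/-! ### the second type -/

/-- `(1 2)(5 7)` -/
def pg : Equiv.Perm (Fin 9) := cy9 [1, 2] * cy9 [5, 7]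

theorem pg_mem : pg ∈ alternatingGroup (Fin 9) := by rw [Equiv.Perm.mem_alternatingGroup]; decide +kernel

def g9 : A9 := ⟨pg, pg_mem⟩

theorem conj_gs : g9 * s9 * g9⁻¹ = a9 := Subtype.ext (by change pg * ps * pg⁻¹ = p2; decide +kernel)

theorem card_cent_conj' {Y : Type*} [Group Y] {u v : Y} {c : Y} (h : c * u * c⁻¹ = v) :
    Nat.card ↥(centralizer ({v} : Set Y)) = Nat.card ↥(centralizer ({u} : Set Y)) := by
  have h1 : (centralizer ({u} : Set Y)).map (MulAut.conj c).toMonoidHom = centralizer ({v} : Set Y) := by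
    ext w
    constructor
    · rintro ⟨a, ha, rfl⟩
      rw [SetLike.mem_coe, mem_centralizer_singleton_iff] at ha
      rw [mem_centralizer_singleton_iff, ← h]
      change c * a * c⁻¹ * (c * u * c⁻¹) = c * u * c⁻¹ * (c * a * c⁻¹)
      calc c * a * c⁻¹ * (c * u * c⁻¹) = c * (a * u) * c⁻¹ := by group
        _ = c * u * c⁻¹ * (c * a * c⁻¹) := by rw [ha]; group
    · intro hw
      rw [mem_centralizer_singleton_iff, ← h] at hw
      refine ⟨c⁻¹ * w * c, ?_, ?_⟩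
      · rw [SetLike.mem_coe, mem_centralizer_singleton_iff]
        calc c⁻¹ * w * c * u = c⁻¹ * (w * (c * u * c⁻¹)) * c := by group
          _ = u * (c⁻¹ * w * c) := by rw [hw]; group
      · change c * (c⁻¹ * w * c) * c⁻¹ = w
        group
  rw [← h1]
  exact card_map_of_injective (MulAut.conj c).injective

/-- **`O_{3'}(C(X1)) = 1`** -/
theorem core_X1 : pPrimeCore 3 ↥(centralizer ({X1} : Set Pairs.G)) = ⊥ := by
  have h3 : Fact (Nat.Prime 3) := ⟨Nat.prime_three⟩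
  obtain ⟨T, hT, -⟩ := exists_sylow_C
  have hsimp := simple_range
  have hodd : Odd (Nat.card ↥(pPrimeCore 3 ↥(centralizer ({X1} : Set Pairs.G)))) :=
    odd_core_of_simple (by norm_num) Ψ.range (by rw [card_range]; norm_num) T hT
  have hcop : Nat.Coprime (Nat.card ↥(pPrimeCore 3 ↥(centralizer ({X1} : Set Pairs.G)))) 576 := by
    have h1 : Nat.Coprime (Nat.card ↥(pPrimeCore 3 ↥(centralizer ({X1} : Set Pairs.G)))) 3 :=
      Lib.Cores.pPrimeCore_coprime (G := ↥(centralizer ({X1} : Set Pairs.G))) 3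
    have h2 : Nat.Coprime (Nat.card ↥(pPrimeCore 3 ↥(centralizer ({X1} : Set Pairs.G)))) 2 :=
      Nat.coprime_two_right.2 hodd
    rw [show (576 : ℕ) = 2 ^ 6 * 3 ^ 2 by norm_num]
    exact Nat.Coprime.mul_right (h2.pow_right 6) (h1.pow_right 2)
  have ka : Nat.card ↥(centralizer ({Ψ a9} : Set ↥(centralizer ({X1} : Set Pairs.G)))) ∣ 576 := by
    rw [card_cent_conj' (u := Ψ s9) (v := Ψ a9) (c := Ψ g9) (by rw [← map_inv, ← map_mul, ← map_mul, conj_gs])]
    exact card_cent_s9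
  have kb : Nat.card ↥(centralizer ({Ψ s9 * Ψ a9} : Set ↥(centralizer ({X1} : Set Pairs.G)))) ∣ 576 := by
    rw [card_cent_conj' (u := Ψ a9) (v := Ψ s9 * Ψ a9) (c := Ψ d9)
      (by rw [← map_inv, ← map_mul, ← map_mul, ← map_mul, conj_da])]
    exact ka
  exact core_eq_bot_of_four hodd (a := Ψ s9) (b := Ψ a9) (by rw [← map_mul, s9_sq, map_one])
    (by rw [← map_mul, a9_sq, map_one]) (by rw [← map_mul, ← map_mul, comm_as])
    (fix_eq_bot_of_dvd card_cent_s9 hcop) (fix_eq_bot_of_dvd ka hcop) (fix_eq_bot_of_dvd kb hcop)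

/-- conjugate elements have isomorphic centralizers -/
theorem good_conj {Y : Type*} [Group Y] [Finite Y] {p : ℕ} [Fact p.Prime] {u v : Y} {c : Y} (h : c * u * c⁻¹ = v)
    (hg : Good p ↥(centralizer ({u} : Set Y))) : Good p ↥(centralizer ({v} : Set Y)) := by
  have h1 : (centralizer ({u} : Set Y)).map (MulAut.conj c).toMonoidHom = centralizer ({v} : Set Y) := by
    ext w
    constructor
    · rintro ⟨a, ha, rfl⟩
      rw [SetLike.mem_coe, mem_centralizer_singleton_iff] at ha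
      rw [mem_centralizer_singleton_iff, ← h]
      change c * a * c⁻¹ * (c * u * c⁻¹) = c * u * c⁻¹ * (c * a * c⁻¹)
      calc c * a * c⁻¹ * (c * u * c⁻¹) = c * (a * u) * c⁻¹ := by group
        _ = c * u * c⁻¹ * (c * a * c⁻¹) := by rw [ha]; group
    · intro hw
      rw [mem_centralizer_singleton_iff, ← h] at hw
      refine ⟨c⁻¹ * w * c, ?_, ?_⟩
      · rw [SetLike.mem_coe, mem_centralizer_singleton_iff]
        calc c⁻¹ * w * c * u = c⁻¹ * (w * (c * u * c⁻¹)) * c := by group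
          _ = u * (c⁻¹ * w * c) := by rw [hw]; group
      · change c * (c⁻¹ * w * c) * c⁻¹ = w
        group
  exact hg.congr (((centralizer ({u} : Set Y)).equivMapOfInjective (MulAut.conj c).toMonoidHom
    (MulAut.conj c).injective).trans (MulEquiv.subgroupCongr h1))

/-- **`Good 3 C(x)` for the elements of order three of HN** -/
theorem good_three (FT : ∀ (K : Type) [Group K] [Finite K], Odd (Nat.card K) → Group.IsSolvable K) {x : Pairs.G}
    (h3 : orderOf x = 3) : Good 3 ↥(centralizer ({x} : Set Pairs.G)) := by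
  have hp3 : Fact (Nat.Prime 3) := ⟨Nat.prime_three⟩
  have hp2 : Fact (Nat.Prime 2) := ⟨Nat.prime_two⟩
  by_cases hev : 2 ∣ Nat.card ↥(centralizer ({x} : Set Pairs.G))
  swap
  · exact good_of_solvable (FT _ (by rwa [← Nat.not_even_iff_odd, even_iff_two_dvd]))
  obtain ⟨u, hu⟩ := exists_prime_orderOf_dvd_card' 2 hev
  have hu2 : orderOf (u : Pairs.G) = 2 := by rw [Subgroup.orderOf_coe]; exact hu
  obtain ⟨s, hs, hxs⟩ := exists_two h3 hu2 (mem_centralizer_singleton_iff.1 u.2).symm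
  rcases T1_or_T2 h3 hs hxs with h | h
  · exact (noComp_T1 FT h3 h).good
  · obtain ⟨c, hc, -⟩ := t2_x1.conj order_X1 h3 h
    exact good_conj hc (good_of_core core_X1)

end Cfsg.Agent.BpSpor.HNThree
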