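import Mathlib
import Cfsg.Agent.BpSpor.Cen
import Cfsg.Agent.BpSpor.SylowData
import Cfsg.Agent.KFacts.HS.Final
import Cfsg.Agent.KFacts.HS.DFour
import Cfsg.Agent.CTwoTab.HS

-- merged: Cfsg.Agent.BpSpor.Perm
section

/-!
# Centralizers of elements of order 3 and 5 in `S₆`
-/

set_option autoImplicit false

namespace Cfsg.Agent.BpSpor.Perm

open Equiv Subgroup

theorem card_three {g : Perm (Fin 6)} (hg : orderOf g = 3) : Nat.card ↥(centralizer ({g} : Set (Perm (Fin 6)))) = 18 := by
  obtain ⟨n, hn⟩ := Equiv.Perm.cycleType_prime_order (σ := g) (by rw [hg]; exact Nat.prime_three)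
  rw [hg] at hn
  have h1 : g.cycleType.sum ≤ 6 := by
    have := g.sum_cycleType
    rw [this]
    exact (Finset.card_le_univ _).trans (by simp)
  rw [hn, Multiset.sum_replicate, smul_eq_mul] at h1
  have h2 : n = 0 ∨ n = 1 := by omega
  rw [Equiv.Perm.nat_card_centralizer, hn]
  rcases h2 with rfl | rfl
  · decide
  · decide

theorem card_five {g : Perm (Fin 6)} (hg : orderOf g = 5) : Nat.card ↥(centralizer ({g} : Set (Perm (Fin 6)))) = 5 := by
  obtain ⟨n, hn⟩ := Equiv.Perm.cycleType_prime_order (σ := g) (by rw [hg]; norm_num)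
  rw [hg] at hn
  have h1 : g.cycleType.sum ≤ 6 := by
    have := g.sum_cycleType
    rw [this]
    exact (Finset.card_le_univ _).trans (by simp)
  rw [hn, Multiset.sum_replicate, smul_eq_mul] at h1
  have h2 : n = 0 := by omega
  rw [Equiv.Perm.nat_card_centralizer, hn]
  subst h2
  decide

/-- for a subgroup of `S₆` -/
theorem card_dvd {A : Subgroup (Perm (Fin 6))} {p m : ℕ}
    (h : ∀ g : Perm (Fin 6), orderOf g = p → Nat.card ↥(centralizer ({g} : Set (Perm (Fin 6)))) = m) {x : ↥A}
    (hx : orderOf x = p) : Nat.card ↥(centralizer ({x} : Set ↥A)) ∣ m := by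
  rw [← h x (by rw [Subgroup.orderOf_coe]; exact hx)]
  have h0 : ∀ c : ↥(centralizer ({x} : Set ↥A)), ((c : ↥A) : Perm (Fin 6)) ∈ centralizer ({(x : Perm (Fin 6))} : Set _) := by
    intro c
    rw [mem_centralizer_singleton_iff]
    exact congrArg Subtype.val (mem_centralizer_singleton_iff.1 c.2)
  let f : ↥(centralizer ({x} : Set ↥A)) →* ↥(centralizer ({(x : Perm (Fin 6))} : Set (Perm (Fin 6)))) :=
    (A.subtype.comp (Subgroup.subtype _)).codRestrict _ h0
  refine card_dvd_of_injective f fun a b hab => ?_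
  apply Subtype.ext
  apply Subtype.ext
  have h9 : ((f a : ↥(centralizer ({(x : Perm (Fin 6))} : Set (Perm (Fin 6))))) : Perm (Fin 6)) = f b := by rw [hab]
  exact h9

end Cfsg.Agent.BpSpor.Perm

end

-- merged: Cfsg.Agent.BpSpor.HSInv
section

/-!
# `HS`: orders of `C(t) ∩ C(x)`, `t` an involution, `x` of order 3 or 5
-/

set_option autoImplicit false

namespace Cfsg.Agent.BpSpor.HSInv

open Subgroup Cfsg Cfsg.Agent.KFacts.HS Cfsg.Agent.KFacts.HS.DFour Cfsg.Agent.OddHalf.D8.HS.SheetHS

/-- a perfect group of order 60: centralizers of elements of order 3 and 5 -/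
theorem card_cent_60 {Y : Type*} [Group Y] [Finite Y] (hperf : commutator Y = ⊤) (hY : Nat.card Y = 60) {y : Y} {q : ℕ}
    (hq : q = 3 ∨ q = 5) (hy : orderOf y = q) : Nat.card ↥(centralizer ({y} : Set Y)) = q := by
  rcases hq with rfl | rfl
  · have h3 : Fact (Nat.Prime 3) := ⟨Nat.prime_three⟩
    obtain ⟨c, r, s, hc, hm, hr1, hr, hs1, hs⟩ := SylowData.data hperf (by rw [hY]; norm_num) hy
    have hr2 : r = 2 := by
      have h4 : r ≤ 2 := Nat.le_of_dvd (by norm_num) hr
      interval_cases r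
      · simp at hr
      · exact absurd rfl hr1
      · rfl
    subst hr2
    rw [hY] at hm
    have hcs : c * s = 10 := by
      have h4 : 6 * (c * s) = 6 * 10 := by
        calc 6 * (c * s) = 3 * c * 2 * s := by ring
          _ = 6 * 10 := by rw [hm]
      exact Nat.eq_of_mul_eq_mul_left (by norm_num) h4
    have h6 : s ∣ 10 := Dvd.intro_left _ hcs
    have h7 : s ≤ 10 := Nat.le_of_dvd (by norm_num) h6
    have h8 : s = 10 := by
      interval_cases s <;> first | rfl | (exfalso; omega)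
    subst h8
    have : c = 1 := by omega
    rw [hc, this]
  · have h3 : Fact (Nat.Prime 5) := ⟨by norm_num⟩
    obtain ⟨c, r, s, hc, hm, hr1, hr, hs1, hs⟩ := SylowData.data hperf (by rw [hY]; norm_num) hy
    rw [hY] at hm
    have hcs : c * r * s = 12 := by
      have h4 : 5 * (c * r * s) = 5 * 12 := by
        calc 5 * (c * r * s) = 5 * c * r * s := by ring
          _ = 5 * 12 := by rw [hm]
      exact Nat.eq_of_mul_eq_mul_left (by norm_num) h4
    have h6 : s ∣ 12 := Dvd.intro_left _ hcs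
    have h7 : s ≤ 12 := Nat.le_of_dvd (by norm_num) h6
    have h8 : s = 6 := by
      interval_cases s <;> first | rfl | (exfalso; omega)
    subst h8
    have h9 : c * r = 2 := by omega
    have h10 : c ∣ 2 := Dvd.intro _ h9
    have h11 : c = 1 := by
      rcases (Nat.dvd_prime Nat.prime_two).1 h10 with h | h
      · exact h
      · exfalso
        rw [h] at h9
        exact hr1 (by omega)
    rw [hc, h11]

variable {L : Type*} [Group L]

theorem mem_of_sq {G : Type*} [Group G] {A : Subgroup G} {x : G} {p : ℕ} (hp : Odd p) (hx : orderOf x = p)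
    (h : x * x ∈ A) : x ∈ A := by
  obtain ⟨k, hk⟩ := hp
  have h2 : x = (x * x) ^ (k + 1) := by
    rw [← pow_two, ← pow_mul]
    have h3 : x ^ (2 * k + 1) = 1 := by rw [← hk, ← hx, pow_orderOf_eq_one]
    calc x = x ^ (2 * k + 1) * x := by rw [h3, one_mul]
      _ = x ^ (2 * (k + 1)) := by rw [← pow_succ]; congr 1
  rw [h2]
  exact A.pow_mem h _

/-- class 2A, from the sheet -/
theorem card_z [Finite L] {z u k : L} {P R : Subgroup L} (S : SheetHS z u k P R) (cP : Nat.card P = 3840) {x : L} {p : ℕ}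
    (hp : p = 3 ∨ p = 5) (hx : orderOf x = p) (hxz : x * z = z * x) :
    Nat.card ↥(centralizer ({z} : Set L) ⊓ centralizer ({x} : Set L)) ∣ 32 * p := by
  have hpp : p.Prime := by rcases hp with rfl | rfl <;> norm_num
  have hF : Fact p.Prime := ⟨hpp⟩
  have hp2 : p ≠ 2 := by rcases hp with rfl | rfl <;> norm_num
  have hodd : Odd p := hpp.odd_of_ne_two hp2
  have hinv : ∀ c : L, c * z = z * c → c ∈ P ∨ c * u * c⁻¹ = u⁻¹ := by
    intro c hc
    rcases S.inv c hc with h | h
    · left
      rw [S.memP]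
      exact mul_inv_eq_iff_eq_mul.1 h
    · exact Or.inr h
  have htwo : ∀ c d : L, c * z = z * c → d * z = z * d → c ∈ P ∨ d ∈ P ∨ c * d ∈ P := by
    intro c d hc hd
    rcases hinv c hc with h | h
    · exact Or.inl h
    rcases hinv d hd with h' | h'
    · exact Or.inr (Or.inl h')
    right; right
    rw [S.memP]
    have h1 : (c * d) * u * (c * d)⁻¹ = u := by
      calc (c * d) * u * (c * d)⁻¹ = c * (d * u * d⁻¹) * c⁻¹ := by group
        _ = (c * u * c⁻¹)⁻¹ := by rw [h']; group
        _ = u := by rw [h, inv_inv]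
    exact mul_inv_eq_iff_eq_mul.1 h1
  have hxP : x ∈ P := by
    refine mem_of_sq hodd hx ?_
    rcases htwo x x hxz hxz with h | h | h
    · exact P.mul_mem h h
    · exact P.mul_mem h h
    · exact h
  set D := centralizer ({z} : Set L) ⊓ centralizer ({x} : Set L) with hD
  have h1 := Cen.card_of_two D P fun c hc d hd =>
    htwo c d (mem_centralizer_singleton_iff.1 hc.1) (mem_centralizer_singleton_iff.1 hd.1)
  have h2 : Nat.card ↥(D ⊓ P) ∣ Nat.card ↥(P ⊓ centralizer ({x} : Set L)) :=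
    card_dvd_of_le fun c hc => ⟨hc.2, hc.1.2⟩
  set R1 : Subgroup ↥P := R.subgroupOf P with hR1
  have hR1n : R1.Normal := ⟨fun e he q => mem_subgroupOf.2 (S.Rn q q.2 e he)⟩
  have cR1 : Nat.card R1 = 64 := by
    rw [Nat.card_congr (subgroupOfEquivOfLe S.RP).toEquiv, S.cardR]
  let q1 : ↥P →* ↥P ⧸ R1 := QuotientGroup.mk' R1
  let x1 : ↥P := ⟨x, hxP⟩
  have hx1 : orderOf x1 = p := by rw [← Subgroup.orderOf_coe]; exact hx
  have k2 := Cen.card_inf_dvd (C := P) (N := R) q1 (fun c hc => by
    have h1 : c ∈ q1.ker := hc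
    rw [QuotientGroup.ker_mk'] at h1
    exact mem_subgroupOf.1 h1) x1
  have hxR : x ∉ R := Cen.not_mem_of_card hpp hp2 (n := 6) (by rw [S.cardR]; norm_num) hx
  have k1 : Nat.card ↥(R ⊓ centralizer ({x} : Set L)) ∣ 16 := by
    have h4 := Cen.card_fix_dvd hp2 (N := R) (n := 6) (by rw [S.cardR]; norm_num) hx
      (fun y hy => S.Rn x hxP y hy) (fun h => by
        have h3 := S.cR x hxP (fun r hr => h r hr)
        apply hxR
        rcases h3 with rfl | rfl | rfl | rfl
        · exact R.one_mem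
        · rw [← S.uu]; exact R.mul_mem S.uR S.uR
        · exact S.uR
        · exact R.inv_mem S.uR)
    simpa using h4
  have cY : Nat.card (↥P ⧸ R1) = 60 := by
    have h4 : Nat.card (↥P ⧸ R1) * Nat.card R1 = Nat.card ↥P := (Subgroup.card_eq_card_quotient_mul_card_subgroup R1).symm
    rw [cP, cR1] at h4
    omega
  have hperf : commutator (↥P ⧸ R1) = ⊤ := by
    have h1 : commutator ↥P = ⊤ := by
      have h4 : (commutator ↥P).map P.subtype = ⁅P, P⁆ := by
        rw [commutator_def, Subgroup.map_commutator]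
        rw [← MonoidHom.range_eq_map, Subgroup.range_subtype]
      rw [S.perf] at h4
      have h5 : (commutator ↥P).map P.subtype = (⊤ : Subgroup ↥P).map P.subtype := by
        rw [h4, ← MonoidHom.range_eq_map, Subgroup.range_subtype]
      exact Subgroup.map_injective P.subtype_injective h5
    have hs : Function.Surjective q1 := QuotientGroup.mk'_surjective _
    have h4 : (commutator ↥P).map q1 = commutator (↥P ⧸ R1) := by
      rw [commutator_def, Subgroup.map_commutator, commutator_def, ← MonoidHom.range_eq_map,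
        MonoidHom.range_eq_top.2 hs]
    rw [← h4, h1, ← MonoidHom.range_eq_map, MonoidHom.range_eq_top.2 hs]
  have hx2 : orderOf (q1 x1) = p := by
    refine orderOf_eq_prime ?_ ?_
    · rw [← map_pow, ← hx1, pow_orderOf_eq_one, map_one]
    · intro h
      have h1 : x1 ∈ q1.ker := h
      rw [QuotientGroup.ker_mk'] at h1
      exact hxR (mem_subgroupOf.1 h1)
  have k3 := card_cent_60 hperf cY hp hx2
  rw [k3] at k2
  exact h1.trans ((Nat.mul_dvd_mul_left 2 (h2.trans (k2.trans (Nat.mul_dvd_mul_right k1 p)))).trans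
    (dvd_of_eq (by ring)))

variable (D : Cfsg.Agent.KFacts.HS.Mod L)

theorem z_eq : D.z = zA D := by
  change D.π ⟨Cfsg.Agent.HN.WMask.b, Cfsg.Agent.KFacts.HS.Cent.b_mem_K⟩ = D.π ⟨aa, aa_mem_K⟩
  rw [pi_eq]
  exact φ_b

/-- class 2B -/
theorem card_w [Finite L] (hL : Nat.card L = 44352000) {x : L} {p : ℕ} (hp : p = 3 ∨ p = 5) (hx : orderOf x = p)
    (hxw : x * wB D = wB D * x) :
    Nat.card ↥(centralizer ({wB D} : Set L) ⊓ centralizer ({x} : Set L)) ∣ 16 * p ^ 2 := by
  have hpp : p.Prime := by rcases hp with rfl | rfl <;> norm_num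
  have hF : Fact p.Prime := ⟨hpp⟩
  have hp2 : p ≠ 2 := by rcases hp with rfl | rfl <;> norm_num
  set C := centralizer ({wB D} : Set L) with hC
  have hle : LA D ≤ C := CTwoTab.HS.LA_le D
  -- `LA` is normal in `C`
  have hn : ∀ c ∈ C, ∀ l ∈ LA D, c * l * c⁻¹ ∈ LA D := by
    intro c hc l hl
    have h1 : (LA D).map (MulAut.conj c).toMonoidHom ≤ LA D := by
      refine CTwoTab.HS.perfect_le_LA D _ ?_ ?_
      · rintro _ ⟨y, hy, rfl⟩
        exact C.mul_mem (C.mul_mem hc (hle hy)) (C.inv_mem hc)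
      · rw [← Subgroup.map_commutator, perf_LA]
    exact h1 ⟨l, hl, rfl⟩
  set N : Subgroup ↥C := (LA D).subgroupOf C with hN
  have hNn : N.Normal := ⟨fun e he q => mem_subgroupOf.2 (hn q q.2 e he)⟩
  have cN : Nat.card N = 360 := by
    rw [Nat.card_congr (subgroupOfEquivOfLe hle).toEquiv, card_LA]
  have cY : Nat.card (↥C ⧸ N) ∣ 8 := by
    have h4 : Nat.card (↥C ⧸ N) * Nat.card N = Nat.card ↥C := (Subgroup.card_eq_card_quotient_mul_card_subgroup N).symm
    rw [cN] at h4
    have h5 : Nat.card ↥C ≤ 2880 := card_C D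
    have h6 : Nat.card ↥C ∣ 44352000 := by rw [← hL]; exact card_subgroup_dvd_card C
    have h7 : Nat.card (↥C ⧸ N) ≤ 8 := by omega
    have h8 : 2 ∣ Nat.card (↥C ⧸ N) := by
      have h9 : orderOf (QuotientGroup.mk' N ⟨wB D, mem_centralizer_singleton_iff.2 rfl⟩) = 2 := by
        refine orderOf_eq_prime ?_ ?_
        · rw [← map_pow]
          have h10 : (⟨wB D, mem_centralizer_singleton_iff.2 rfl⟩ : ↥C) ^ 2 = 1 :=
            Subtype.ext (by rw [Subgroup.coe_pow, pow_two]; exact wB_sq D)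
          rw [h10, map_one]
        · intro h
          rw [← MonoidHom.mem_ker, QuotientGroup.ker_mk'] at h
          exact wB_not_mem_LA D (mem_subgroupOf.1 h)
      rw [← h9]
      exact _root_.orderOf_dvd_natCard _
    rw [← h4] at h6
    generalize Nat.card (↥C ⧸ N) = m at *
    obtain ⟨j, rfl⟩ := h8
    have h10 : j ≤ 4 := by omega
    interval_cases j
    · simp at h6
    · norm_num
    · norm_num
    · norm_num at h6
    · norm_num
  let q1 : ↥C →* ↥C ⧸ N := QuotientGroup.mk' N
  let x1 : ↥C := ⟨x, mem_centralizer_singleton_iff.2 hxw⟩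
  have k2 := Cen.card_inf_dvd (C := C) (N := LA D) q1 (fun c hc => by
    have h1 : c ∈ q1.ker := hc
    rw [QuotientGroup.ker_mk'] at h1
    exact mem_subgroupOf.1 h1) x1
  have k3 : Nat.card ↥(centralizer ({q1 x1} : Set (↥C ⧸ N))) ∣ 8 := (card_subgroup_dvd_card _).trans cY
  -- `x ∈ LA`
  have hxL : x ∈ LA D := by
    have h1 : orderOf (q1 x1) ∣ 8 := (_root_.orderOf_dvd_natCard _).trans cY
    have h2 : orderOf (q1 x1) ∣ p := by
      rw [← hx]
      have h3 := orderOf_map_dvd q1 x1
      rwa [← Subgroup.orderOf_coe x1] at h3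
    have h3 : orderOf (q1 x1) = 1 := by
      have h4 : Nat.Coprime 8 p := by
        rw [show (8 : ℕ) = 2 ^ 3 by norm_num]
        exact Nat.Coprime.pow_left 3 ((Nat.coprime_primes Nat.prime_two hpp).2 hp2.symm)
      exact Nat.eq_one_of_dvd_coprimes h4 h1 h2
    rw [orderOf_eq_one_iff, ← MonoidHom.mem_ker, QuotientGroup.ker_mk'] at h3
    exact mem_subgroupOf.1 h3
  let e := CTwoTab.HS.equivLA D
  have k4 : Nat.card ↥(LA D ⊓ centralizer ({x} : Set L)) ∣ 2 * p ^ 2 := by
    have h1 : Nat.card ↥(LA D ⊓ centralizer ({x} : Set L)) ∣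
        Nat.card ↥(centralizer ({e ⟨x, hxL⟩} : Set ↥(alternatingGroup (Fin 6)))) := by
      have h2 := Cen.card_inf_dvd (C := LA D) (N := (⊥ : Subgroup L)) e.toMonoidHom (fun c hc => by
        have h3 : e c = 1 := hc
        have h4 : c = 1 := e.injective (by rw [h3, map_one])
        rw [h4]
        exact one_mem _) ⟨x, hxL⟩
      have h3 : Nat.card ↥((⊥ : Subgroup L) ⊓ centralizer ({x} : Set L)) = 1 := by
        rw [bot_inf_eq, card_bot]
      rw [h3, one_mul] at h2
      exact h2
    have ho : orderOf (e ⟨x, hxL⟩) = p := by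
      rw [MulEquiv.orderOf_eq, ← Subgroup.orderOf_coe]
      exact hx
    refine h1.trans ?_
    rcases hp with rfl | rfl
    · exact (Perm.card_dvd (fun g hg => Perm.card_three hg) ho).trans (by norm_num)
    · exact (Perm.card_dvd (fun g hg => Perm.card_five hg) ho).trans (by norm_num)
  refine k2.trans ((Nat.mul_dvd_mul k4 k3).trans ?_)
  rw [show 2 * p ^ 2 * 8 = 16 * p ^ 2 by ring]

include D in
theorem bd [Finite L] {p : ℕ} (hp : p = 3 ∨ p = 5) (t : L) (ht : orderOf t = 2) : Cen.Bd p t := by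
  have htt : t * t = 1 := by rw [← pow_two, ← ht, pow_orderOf_eq_one]
  have ht1 : t ≠ 1 := by
    rintro rfl
    rw [orderOf_one] at ht
    omega
  rcases inv_cases D t htt ht1 with ⟨c, h⟩ | ⟨c, h⟩
  · refine Cen.Bd.conj (s := zA D) ?_ (isConj_iff.2 ⟨c, h⟩)
    intro x hx hxz
    rw [← z_eq] at hxz ⊢
    exact ⟨1, by rw [pow_one]; exact card_z D.sheet D.cardP hp hx hxz⟩
  · refine Cen.Bd.conj (s := wB D) ?_ (isConj_iff.2 ⟨c, h⟩)
    intro x hx hxw
    refine ⟨2, (card_w D D.card hp hx hxw).trans ?_⟩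
    exact Nat.mul_dvd_mul_right (by norm_num) _

end Cfsg.Agent.BpSpor.HSInv

end
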