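import Cfsg.Agent.CpAut.SmallP.PslFour
import Cfsg.Agent.LThreeFour.Exists
import Cfsg.Agent.LThreeFour.Inv
import Cfsg.Agent.BpSpor.Cen
import Cfsg.Agent.BpSpor.SylowData
import Cfsg.Agent.KFacts.TwoSix.Sheet
import Cfsg.Agent.KFacts.He.Hyp
import Cfsg.Agent.KFacts.He.TwoA
import Cfsg.Agent.KFacts.He.Classes

-- merged: Cfsg.Agent.BpSpor.LFour
section

/-!
# Centralizers of elements of odd prime order in `L₃(4)`
-/

set_option autoImplicit false

namespace Cfsg.Agent.BpSpor.LFour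

open Subgroup Cfsg.Agent.ONType.Psl Cfsg.Agent.ONType.PslCard Cfsg.Agent.CpAut.SmallP

theorem two_group {L : Type*} [Group L] (A : Cfsg.Agent.LThreeFour.Dat L) {t : L} (ht : orderOf t = 2) :
    IsPGroup 2 ↥(centralizer ({t} : Set L)) := by
  have htt : t * t = 1 := by rw [← pow_two, ← ht, pow_orderOf_eq_one]
  have ht1 : t ≠ 1 := by
    rintro rfl
    rw [orderOf_one] at ht
    omega
  obtain ⟨g, hg⟩ := A.invol_conj t ht1 htt
  have hp2 : Fact (Nat.Prime 2) := ⟨Nat.prime_two⟩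
  have hfT : Finite A.T := Nat.finite_of_card_ne_zero (by rw [A.card_T]; norm_num)
  have hT : IsPGroup 2 A.T := by
    rw [IsPGroup.iff_card]
    exact ⟨6, by rw [A.card_T]; norm_num⟩
  have h0 : ∀ c : ↥(centralizer ({t} : Set L)), g * (c : L) * g⁻¹ ∈ A.T := by
    intro c
    have h1 := mem_centralizer_singleton_iff.1 c.2
    have h2 : (g * (c : L) * g⁻¹) * A.x 0 2 1 = A.x 0 2 1 * (g * (c : L) * g⁻¹) := by
      rw [← hg]
      calc g * (c : L) * g⁻¹ * (g * t * g⁻¹) = g * (c * t) * g⁻¹ := by group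
        _ = g * (t * c) * g⁻¹ := by rw [h1]
        _ = g * t * g⁻¹ * (g * c * g⁻¹) := by group
    obtain ⟨p, hp⟩ := A.cent _ h2
    exact ⟨p, hp.symm⟩
  intro c
  obtain ⟨k, hk⟩ := hT ⟨_, h0 c⟩
  refine ⟨k, Subtype.ext ?_⟩
  have h1 : (g * (c : L) * g⁻¹) ^ 2 ^ k = 1 := congrArg Subtype.val hk
  rw [conj_pow] at h1
  have h2 : (c : L) ^ 2 ^ k = 1 := by
    have h3 := congrArg (fun y => g⁻¹ * y * g) h1
    simpa [mul_assoc] using h3
  exact h2

/-- centralizers of elements of order 3 of `L₃(4)` have order 3 or 9 -/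
theorem card_three {x : PSL3} (hx : orderOf x = 3) : Nat.card ↥(centralizer ({x} : Set PSL3)) ∣ 9 := by
  have hfin := PslFour.finite_PSL3
  have A := Cfsg.Agent.LThreeFour.datPSL
  have hodd := Cen.odd_card_cent (K := PSL3) (fun t ht => two_group A ht) Nat.prime_three (by norm_num) hx
  have hd : Nat.card ↥(centralizer ({x} : Set PSL3)) ∣ 64 * 315 := by
    have := card_subgroup_dvd_card (centralizer ({x} : Set PSL3))
    rwa [card_PSL3] at this
  have h1 : Nat.card ↥(centralizer ({x} : Set PSL3)) ∣ 315 := by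
    refine Nat.Coprime.dvd_of_dvd_mul_left ?_ hd
    rw [show (64 : ℕ) = 2 ^ 6 by norm_num]
    exact Nat.Coprime.pow_right 6 (Nat.coprime_two_right.2 hodd)
  have h5 : ¬ 5 ∣ Nat.card ↥(centralizer ({x} : Set PSL3)) := by
    intro h
    have : Fact (Nat.Prime 5) := ⟨by norm_num⟩
    obtain ⟨y, hy⟩ := exists_prime_orderOf_dvd_card' 5 h
    have hy' : orderOf (y : PSL3) = 5 := by rw [Subgroup.orderOf_coe]; exact hy
    obtain ⟨k, hk⟩ := PslFour.cent5 hy' x (mem_centralizer_singleton_iff.1 y.2).symm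
    have h2 : x ^ 5 = 1 := by rw [hk, ← zpow_natCast, ← zpow_mul, mul_comm, zpow_mul, zpow_natCast, ← hy', pow_orderOf_eq_one, one_zpow]
    have h3 := orderOf_dvd_of_pow_eq_one h2
    rw [hx] at h3
    norm_num at h3
  have h7 : ¬ 7 ∣ Nat.card ↥(centralizer ({x} : Set PSL3)) := by
    intro h
    have : Fact (Nat.Prime 7) := ⟨by norm_num⟩
    obtain ⟨y, hy⟩ := exists_prime_orderOf_dvd_card' 7 h
    have hy' : orderOf (y : PSL3) = 7 := by rw [Subgroup.orderOf_coe]; exact hy
    obtain ⟨k, hk⟩ := PslFour.cent7 hy' x (mem_centralizer_singleton_iff.1 y.2).symm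
    have h2 : x ^ 7 = 1 := by rw [hk, ← zpow_natCast, ← zpow_mul, mul_comm, zpow_mul, zpow_natCast, ← hy', pow_orderOf_eq_one, one_zpow]
    have h3 := orderOf_dvd_of_pow_eq_one h2
    rw [hx] at h3
    norm_num at h3
  have h8 : Nat.card ↥(centralizer ({x} : Set PSL3)) ∣ 9 * 35 := by simpa using h1
  refine Nat.Coprime.dvd_of_dvd_mul_right ?_ h8
  rw [show (35 : ℕ) = 5 * 7 by norm_num]
  exact Nat.Coprime.mul_right (((Nat.Prime.coprime_iff_not_dvd (by norm_num)).2 h5).symm)
    (((Nat.Prime.coprime_iff_not_dvd (by norm_num)).2 h7).symm)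

/-- centralizers of elements of order 5 and 7 -/
theorem card_five {x : PSL3} (hx : orderOf x = 5) : Nat.card ↥(centralizer ({x} : Set PSL3)) = 5 := by
  have h1 : centralizer ({x} : Set PSL3) = zpowers x := by
    apply le_antisymm
    · intro c hc
      obtain ⟨k, hk⟩ := PslFour.cent5 hx c (mem_centralizer_singleton_iff.1 hc)
      exact ⟨k, hk.symm⟩
    · rw [zpowers_le, mem_centralizer_singleton_iff]
  rw [h1, Nat.card_zpowers, hx]

theorem card_seven {x : PSL3} (hx : orderOf x = 7) : Nat.card ↥(centralizer ({x} : Set PSL3)) = 7 := by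
  have h1 : centralizer ({x} : Set PSL3) = zpowers x := by
    apply le_antisymm
    · intro c hc
      obtain ⟨k, hk⟩ := PslFour.cent7 hx c (mem_centralizer_singleton_iff.1 hc)
      exact ⟨k, hk.symm⟩
    · rw [zpowers_le, mem_centralizer_singleton_iff]
  rw [h1, Nat.card_zpowers, hx]

end Cfsg.Agent.BpSpor.LFour

end

-- merged: Cfsg.Agent.BpSpor.HeThree
section

/-!
# `He`, `p = 3`: orders of `C(t) ∩ C(x)`, `t` an involution, `x` of order 3
-/

set_option autoImplicit false

namespace Cfsg.Agent.BpSpor.HeThree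

open Subgroup Cfsg Cfsg.Agent.KFacts.TwoSix.SheetDef

/-- a perfect group of order 168: centralizers of elements of order 3 -/
theorem card_cent_168 {Y : Type*} [Group Y] [Finite Y] (hperf : commutator Y = ⊤) (hY : Nat.card Y = 168) {y : Y}
    (hy : orderOf y = 3) : Nat.card ↥(centralizer ({y} : Set Y)) ∣ 12 := by
  have h3 : Fact (Nat.Prime 3) := ⟨Nat.prime_three⟩
  have h7 : Fact (Nat.Prime 7) := ⟨by norm_num⟩
  obtain ⟨c, r, s, hc, hm, hr1, hr, hs1, hs⟩ := SylowData.data hperf (by rw [hY]; norm_num) hy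
  have hr2 : r = 2 := by
    have h4 : r ≤ 2 := Nat.le_of_dvd (by norm_num) hr
    interval_cases r
    · simp at hr
    · exact absurd rfl hr1
    · rfl
  subst hr2
  rw [hY] at hm
  have hcs : c * s = 28 := by
    have h4 : 6 * (c * s) = 6 * 28 := by
      calc 6 * (c * s) = 3 * c * 2 * s := by ring
        _ = 6 * 28 := by rw [hm]
    exact Nat.eq_of_mul_eq_mul_left (by norm_num) h4
  have hcd : c ∣ 28 := Dvd.intro s hcs
  have hc7 : ¬ 7 ∣ c := by
    intro hd
    have h4 : 7 ∣ Nat.card ↥(centralizer ({y} : Set Y)) := by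
      rw [hc]
      exact Dvd.dvd.mul_left hd 3
    obtain ⟨w, hw⟩ := exists_prime_orderOf_dvd_card' 7 h4
    have hw' : orderOf (w : Y) = 7 := by rw [Subgroup.orderOf_coe]; exact hw
    obtain ⟨c', r', s', hc', hm', hr1', hr', hs1', hs'⟩ := SylowData.data hperf (by rw [hY]; norm_num) hw'
    rw [hY] at hm'
    have h5 : c' * r' * s' = 24 := by
      have h6 : 7 * (c' * r' * s') = 7 * 24 := by
        calc 7 * (c' * r' * s') = 7 * c' * r' * s' := by ring
          _ = 7 * 24 := by rw [hm']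
      exact Nat.eq_of_mul_eq_mul_left (by norm_num) h6
    have h6 : s' ∣ 24 := Dvd.intro_left _ h5
    have h7' : s' ≤ 24 := Nat.le_of_dvd (by norm_num) h6
    have h8 : s' = 8 := by
      interval_cases s' <;> first | rfl | (exfalso; omega)
    subst h8
    have h9 : c' * r' = 3 := by omega
    have h10 : c' ∣ 3 := Dvd.intro _ h9
    have h11 : c' = 1 := by
      rcases (Nat.dvd_prime Nat.prime_three).1 h10 with h | h
      · exact h
      · exfalso
        rw [h] at h9
        exact hr1' (by omega)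
    have h12 : orderOf y ∣ Nat.card ↥(centralizer ({(w : Y)} : Set Y)) := by
      have h13 : y ∈ centralizer ({(w : Y)} : Set Y) :=
        mem_centralizer_singleton_iff.2 (mem_centralizer_singleton_iff.1 w.2).symm
      have h14 := orderOf_dvd_natCard (⟨y, h13⟩ : ↥(centralizer ({(w : Y)} : Set Y)))
      rwa [Subgroup.orderOf_mk] at h14
    rw [hy, hc', h11] at h12
    norm_num at h12
  have hc4 : c ∣ 4 := by
    have h4 : c ∣ 4 * 7 := by simpa using hcd
    exact (((Nat.Prime.coprime_iff_not_dvd (by norm_num)).2 hc7).symm).dvd_of_dvd_mul_right h4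
  rw [hc]
  exact Nat.mul_dvd_mul_left 3 hc4

section Sheet

variable {G : Type*} [Group G] [Finite G] {z : G} {P R E E' : Subgroup G}

theorem order_mk {Y : Type*} [Group Y] [Finite Y] (N : Subgroup Y) [N.Normal] {n : ℕ} (hN : Nat.card N = 2 ^ n) {x : Y}
    (hx : orderOf x = 3) : orderOf (QuotientGroup.mk' N x) = 3 := by
  have h3 : Fact (Nat.Prime 3) := ⟨Nat.prime_three⟩
  refine orderOf_eq_prime ?_ ?_
  · rw [← map_pow, ← hx, pow_orderOf_eq_one, map_one]
  · intro h
    rw [← MonoidHom.mem_ker, QuotientGroup.ker_mk'] at h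
    exact Cen.not_mem_of_card Nat.prime_three (by norm_num) hN hx h

/-- `C(z) ∩ C(x)` for `x` of order 3 in `C(z) = 2^{1+6}:L3(2)` -/
theorem card_sheet_three (S : Sheet z P R E E') (hP : P = centralizer ({z} : Set G)) {x : G} (hx : orderOf x = 3)
    (hxz : x * z = z * x) : Nat.card ↥(centralizer ({z} : Set G) ⊓ centralizer ({x} : Set G)) ∣ 96 := by
  have h3 : Fact (Nat.Prime 3) := ⟨Nat.prime_three⟩
  have hxP : x ∈ P := by rw [hP]; exact mem_centralizer_singleton_iff.2 hxz
  rw [← hP]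
  have hEP : E ≤ P := S.h1.ER.trans S.RP
  set E1 : Subgroup ↥P := E.subgroupOf P with hE1
  set R1 : Subgroup ↥P := R.subgroupOf P with hR1
  have hE1n : E1.Normal := ⟨fun e he p => mem_subgroupOf.2 (S.h1.norE p p.2 e he)⟩
  have hR1n : R1.Normal := ⟨fun e he p => mem_subgroupOf.2 (S.norR p p.2 e he)⟩
  have cE1 : Nat.card E1 = 16 := by
    rw [Nat.card_congr (subgroupOfEquivOfLe hEP).toEquiv, S.h1.cardE]
  have cR1 : Nat.card R1 = 128 := by
    rw [Nat.card_congr (subgroupOfEquivOfLe S.RP).toEquiv, S.cardR]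
  -- `E`
  have k1 : Nat.card ↥(E ⊓ centralizer ({x} : Set G)) ∣ 4 := by
    obtain ⟨i, hi, hie, hm⟩ := Cen.exists_fix (N := E) (n := 4) (by rw [S.h1.cardE]; norm_num) hx
      (fun y hy => S.h1.norE x hxP y hy) (fun h => by
        have h1 := S.h1.cE x hxP h
        exact Cen.not_mem_of_card Nat.prime_three (by norm_num) (n := 4) (by rw [S.h1.cardE]; norm_num) hx h1)
    rw [hie]
    interval_cases i
    · norm_num
    · exact absurd hm (by decide)
    · norm_num
    · exact absurd hm (by decide)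
  let q1 : ↥P →* ↥P ⧸ E1 := QuotientGroup.mk' E1
  let x1 : ↥P := ⟨x, hxP⟩
  have hx1 : orderOf x1 = 3 := by rw [← Subgroup.orderOf_coe]; exact hx
  have k2 := Cen.card_inf_dvd (C := P) (N := E) q1 (fun c hc => by
    have h1 : c ∈ q1.ker := hc
    rw [QuotientGroup.ker_mk'] at h1
    exact mem_subgroupOf.1 h1) x1
  -- `R / E`
  set R2 : Subgroup (↥P ⧸ E1) := R1.map q1 with hR2
  have hR2n : R2.Normal := hR1n.map q1 (QuotientGroup.mk'_surjective _)
  have hER1 : E1 ≤ R1 := fun e he => mem_subgroupOf.2 (S.h1.ER (mem_subgroupOf.1 he))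
  have cR2 : Nat.card R2 = 8 := by
    have h1 : Nat.card E1 * Nat.card R2 = Nat.card R1 := by
      have h4 : Nat.card R2 = E1.relIndex R1 := by
        have h5 := Subgroup.relIndex_ker (f := q1) (K := R1)
        rw [QuotientGroup.ker_mk'] at h5
        exact h5.symm
      rw [h4]
      have h5 := (E1.subgroupOf R1).card_mul_index
      rwa [Nat.card_congr (subgroupOfEquivOfLe hER1).toEquiv] at h5
    rw [cE1, cR1] at h1
    omega
  have hx2 : orderOf (q1 x1) = 3 := order_mk E1 (n := 4) (by rw [cE1]; norm_num) hx1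
  have k3 : Nat.card ↥(R2 ⊓ centralizer ({q1 x1} : Set (↥P ⧸ E1))) ∣ 2 := by
    obtain ⟨i, hi, hie, hm⟩ := Cen.exists_fix (N := R2) (n := 3) (by rw [cR2]; norm_num) hx2
      (fun y hy => hR2n.conj_mem y hy _) (fun h => by
        have h1 : x ∈ R := by
          refine S.h1.tR x hxP fun r hr => ?_
          have h4 : q1 (x1 * ⟨r, S.RP hr⟩ * x1⁻¹ * (⟨r, S.RP hr⟩ : ↥P)⁻¹) = 1 := by
            have h5 := h (q1 ⟨r, S.RP hr⟩) ⟨_, hr, rfl⟩
            rw [map_mul, map_mul, map_mul, map_inv, map_inv, h5]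
            group
          have h5 : x1 * ⟨r, S.RP hr⟩ * x1⁻¹ * (⟨r, S.RP hr⟩ : ↥P)⁻¹ ∈ q1.ker := h4
          rw [QuotientGroup.ker_mk'] at h5
          exact mem_subgroupOf.1 h5
        exact Cen.not_mem_of_card Nat.prime_three (by norm_num) (n := 7) (by rw [S.cardR]; norm_num) hx h1)
    rw [hie]
    interval_cases i
    · exact absurd hm (by decide)
    · norm_num
    · exact absurd hm (by decide)
  -- `P / R`
  let q2 : (↥P ⧸ E1) →* (↥P ⧸ E1) ⧸ R2 := QuotientGroup.mk' R2
  have cY : Nat.card ((↥P ⧸ E1) ⧸ R2) = 168 := by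
    have h1 : Nat.card (↥P ⧸ E1) * Nat.card E1 = Nat.card ↥P := (Subgroup.card_eq_card_quotient_mul_card_subgroup E1).symm
    have h4 : Nat.card ((↥P ⧸ E1) ⧸ R2) * Nat.card R2 = Nat.card (↥P ⧸ E1) :=
      (Subgroup.card_eq_card_quotient_mul_card_subgroup R2).symm
    rw [S.cardP, cE1] at h1
    rw [cR2] at h4
    omega
  have hperf : commutator ((↥P ⧸ E1) ⧸ R2) = ⊤ := by
    have h1 : commutator ↥P = ⊤ := by
      have h4 : (commutator ↥P).map P.subtype = ⁅P, P⁆ := by
        rw [commutator_def, Subgroup.map_commutator]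
        rw [← MonoidHom.range_eq_map, Subgroup.range_subtype]
      rw [S.perf] at h4
      have h5 : (commutator ↥P).map P.subtype = (⊤ : Subgroup ↥P).map P.subtype := by
        rw [h4, ← MonoidHom.range_eq_map, Subgroup.range_subtype]
      exact Subgroup.map_injective P.subtype_injective h5
    have hs : Function.Surjective (q2.comp q1) :=
      (QuotientGroup.mk'_surjective _).comp (QuotientGroup.mk'_surjective _)
    have h4 : (commutator ↥P).map (q2.comp q1) = commutator ((↥P ⧸ E1) ⧸ R2) := by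
      rw [commutator_def, Subgroup.map_commutator, commutator_def, ← MonoidHom.range_eq_map,
        MonoidHom.range_eq_top.2 hs]
    rw [← h4, h1, ← MonoidHom.range_eq_map, MonoidHom.range_eq_top.2 hs]
  have hx3 : orderOf (q2 (q1 x1)) = 3 := order_mk R2 (n := 3) (by rw [cR2]; norm_num) hx2
  have k4 := card_cent_168 hperf cY hx3
  have k5 := Cen.card_inf_dvd (C := (⊤ : Subgroup (↥P ⧸ E1))) (N := R2) (q2.comp (⊤ : Subgroup (↥P ⧸ E1)).subtype)
    (fun c hc => by
      have h1 : (c : ↥P ⧸ E1) ∈ q2.ker := hc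
      rwa [QuotientGroup.ker_mk'] at h1) ⟨q1 x1, mem_top _⟩
  rw [top_inf_eq] at k5
  have k6 : Nat.card ↥(centralizer ({q1 x1} : Set (↥P ⧸ E1))) ∣ 2 * 12 := k5.trans (Nat.mul_dvd_mul k3 k4)
  exact k2.trans ((Nat.mul_dvd_mul k1 k6).trans (by norm_num))

end Sheet

section TwoA

open Cfsg.Spor.He Cfsg.Agent.SporadicB.HePerm Cfsg.Agent.FixBN.HeStab
open Cfsg.Agent.KFacts.He.Lv Cfsg.Agent.KFacts.He.TwoACent Cfsg.Agent.KFacts.He.TwoAPlane
open Cfsg.Agent.ONType.Psl (PSL3)

theorem finite_he : Finite Spor.He := Nat.finite_of_card_ne_zero (by rw [KFacts.He.Classes.card_he]; norm_num)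

theorem mem_L {x : Spor.He} (hx : orderOf x = 3) (hxa : x * gn .a = gn .a * x) : x ∈ L := by
  have h1 : x * x ∈ L := by
    rcases two hxa hxa with h | h | h
    · exact L.mul_mem h h
    · exact L.mul_mem h h
    · exact h
  have h2 : x = (x * x) * (x * x) := by
    have h3 : x ^ 3 = 1 := by rw [← hx, pow_orderOf_eq_one]
    calc x = x ^ 3 * x := by rw [h3, one_mul]
      _ = (x * x) * (x * x) := by rw [← pow_succ, ← pow_two, ← pow_two, ← pow_mul]
  rw [h2]
  exact L.mul_mem h1 h1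

theorem card_a_three {x : Spor.He} (hx : orderOf x = 3) (hxa : x * gn .a = gn .a * x) :
    Nat.card ↥(centralizer ({gn .a} : Set Spor.He) ⊓ centralizer ({x} : Set Spor.He)) ∣ 72 := by
  have := finite_he
  have hfin : Finite PSL3 := Cfsg.Agent.CpAut.SmallP.PslFour.finite_PSL3
  have hxL := mem_L hx hxa
  set D := centralizer ({gn .a} : Set Spor.He) ⊓ centralizer ({x} : Set Spor.He) with hD
  have h1 := Cen.card_of_two D L fun c hc d hd =>
    two (mem_centralizer_singleton_iff.1 hc.1) (mem_centralizer_singleton_iff.1 hd.1)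
  have h2 : Nat.card ↥(D ⊓ L) ∣ Nat.card ↥(L ⊓ centralizer ({x} : Set Spor.He)) :=
    card_dvd_of_le fun c hc => ⟨hc.2, hc.1.2⟩
  have ho : orderOf (Th ⟨x, hxL⟩) = 3 := by
    have h3 : Fact (Nat.Prime 3) := ⟨Nat.prime_three⟩
    refine orderOf_eq_prime ?_ ?_
    · rw [← map_pow]
      have h4 : (⟨x, hxL⟩ : ↥L) ^ 3 = 1 := Subtype.ext (by rw [Subgroup.coe_pow, ← hx]; exact pow_orderOf_eq_one x)
      rw [h4, map_one]
    · intro h
      have h4 : (⟨x, hxL⟩ : ↥L) ∈ Th.ker := h
      rw [ker_Th] at h4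
      exact Cen.not_mem_of_card Nat.prime_three (by norm_num) (N := V) (n := 2) (by rw [card_V]; norm_num) hx
        (mem_subgroupOf.1 h4)
  have h3 := Cen.card_inf_dvd (C := L) (N := V) Th (fun c hc => by
    have h4 : c ∈ Th.ker := hc
    rw [ker_Th] at h4
    exact mem_subgroupOf.1 h4) ⟨x, hxL⟩
  have h4 := LFour.card_three ho
  have h5 : Nat.card ↥(V ⊓ centralizer ({x} : Set Spor.He)) ∣ 4 := by
    rw [← card_V]
    exact card_dvd_of_le inf_le_left
  exact h1.trans ((Nat.mul_dvd_mul_left 2 (h2.trans (h3.trans (Nat.mul_dvd_mul h5 h4)))).trans (by norm_num))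

theorem classes {t : Spor.He} (ht : t * t = 1) (h1 : t ≠ 1) :
    IsConj KFacts.He.Bound.z t ∨ IsConj (gn .a) t := by
  rcases KFacts.He.Classes.two_classes_a ht h1 with ⟨g, hg⟩ | ⟨g, hg⟩
  · exact Or.inl (isConj_iff.2 ⟨g, hg⟩)
  · exact Or.inr (isConj_iff.2 ⟨g, hg⟩)

theorem bd_z : Cen.Bd 3 KFacts.He.Bound.z := by
  have := finite_he
  intro x hx hxz
  have S := KFacts.TwoSix.Sheet.sheet_of KFacts.He.Hyp.hyp.inj
  rw [KFacts.He.Hyp.hyp.map_zz] at S
  refine ⟨1, (card_sheet_three S ?_ hx hxz).trans (by norm_num)⟩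
  rw [KFacts.He.Hyp.hyp.range]

theorem bd_a : Cen.Bd 3 (gn .a) := by
  intro x hx hxa
  exact ⟨2, (card_a_three hx hxa).trans (by norm_num)⟩

/-- all involutions of `He` -/
theorem bd (t : Spor.He) (ht : orderOf t = 2) : Cen.Bd 3 t := by
  have htt : t * t = 1 := by rw [← pow_two, ← ht, pow_orderOf_eq_one]
  have ht1 : t ≠ 1 := by
    rintro rfl
    rw [orderOf_one] at ht
    omega
  rcases classes htt ht1 with h | h
  · exact bd_z.conj h
  · exact bd_a.conj h

end TwoA

end Cfsg.Agent.BpSpor.HeThree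

end
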