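import Mathlib
import Cfsg.Prelude.Def_CaseTheorems
import Cfsg.Agent.Lib.Cores
import Cfsg.Agent.BpTab.Base
import Cfsg.Agent.BpNum.Num
import Cfsg.Agent.CpAut.Base

-- merged: Cfsg.Agent.BpSpor.TwoPart
section

/-!
# S1332, sporadic rows: the 2-part of the centralizer of an element of odd order (helper77)

* `exists_pow` : `K` of characteristic 2 type, `g` of odd prime order `p`, `2 ∣ |C_K(g)|`, `P` a Sylow 2-subgroup of
  `C_K(g)`: there is `j ≥ 1` with `p ∣ 2 ^ j - 1` and `|P| * 2 ^ j ∣ |K|`.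
* `not_dvd_of_charTwo` : numerical form.
-/

set_option autoImplicit false

namespace Cfsg.Agent.BpSpor.TwoPart

open Subgroup Cfsg

/-- an element of prime order `p` acting on a `2`-group `R` (inside a group): `|R| = |C_R(g)| mod p` -/
theorem card_modEq {G : Type*} [Group G] [Finite G] {p : ℕ} [Fact p.Prime] {g : G} (hg : orderOf g = p)
    {R : Subgroup G} (hR : g ∈ normalizer (R : Set G)) :
    Nat.card R ≡ Nat.card ↥(R ⊓ centralizer ({g} : Set G)) [MOD p] := by
  have hz : IsPGroup p (zpowers g) := IsPGroup.of_card (n := 1) (by rw [Nat.card_zpowers, hg, pow_one])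
  let _ : MulAction (zpowers g) R :=
    { smul := fun a x => ⟨(a : G) * x * (a : G)⁻¹, by
        have h1 : (a : G) ∈ normalizer (R : Set G) := (zpowers_le.2 hR) a.2
        exact (mem_normalizer_iff.1 h1 x).1 x.2⟩
      one_smul := fun x => Subtype.ext (by
        change ((1 : zpowers g) : G) * x * ((1 : zpowers g) : G)⁻¹ = x
        rw [coe_one, one_mul, inv_one, mul_one])
      mul_smul := fun a b x => Subtype.ext (by
        change ((a * b : zpowers g) : G) * x * ((a * b : zpowers g) : G)⁻¹ = a * (b * x * (b : G)⁻¹) * (a : G)⁻¹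
        rw [coe_mul, mul_inv_rev]
        group) }
  have hs : ∀ (a : zpowers g) (x : R), ((a • x : R) : G) = (a : G) * x * (a : G)⁻¹ := fun _ _ => rfl
  have h1 := hz.card_modEq_card_fixedPoints R
  have h2 : Nat.card (MulAction.fixedPoints (zpowers g) R) = Nat.card ↥(R ⊓ centralizer ({g} : Set G)) := by
    refine Nat.card_congr ⟨fun x => ⟨x.1.1, x.1.2, ?_⟩, fun x => ⟨⟨x.1, x.2.1⟩, ?_⟩, fun x => rfl, fun x => rfl⟩
    · have h3 := congrArg Subtype.val (x.2 ⟨g, mem_zpowers g⟩)
      rw [hs] at h3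
      refine mem_centralizer_singleton_iff.2 ?_
      exact eq_mul_inv_iff_mul_eq.1 h3.symm
    · intro a
      apply Subtype.ext
      rw [hs]
      have h3 := mem_centralizer_singleton_iff.1 x.2.2
      have h4 : ∀ b ∈ zpowers g, b * (x : G) = x * b := by
        intro b hb
        have : b ∈ centralizer ({(x : G)} : Set G) :=
          (zpowers_le.2 (mem_centralizer_singleton_iff.2 h3.symm)) hb
        exact mem_centralizer_singleton_iff.1 this
      change (a : G) * (x : G) * (a : G)⁻¹ = x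
      rw [h4 a a.2, mul_assoc, mul_inv_cancel, mul_one]
  rwa [h2] at h1

/-- the abstract step: `P` a Sylow 2-subgroup of `C(g)` (given as subgroup of `K`), `R` a 2-group containing `P`,
normalized but not centralized by `g` -/
theorem exists_pow_of {K : Type*} [Group K] [Finite K] {p : ℕ} [hp : Fact p.Prime] (hp2 : p ≠ 2) {g : K}
    (hg : orderOf g = p) (P : Sylow 2 ↥(centralizer ({g} : Set K))) {R : Subgroup K} (hR : IsPGroup 2 R)
    (hPR : (P : Subgroup ↥(centralizer ({g} : Set K))).map (centralizer ({g} : Set K)).subtype ≤ R)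
    (hn : g ∈ normalizer (R : Set K)) (hc : g ∉ centralizer (R : Set K)) :
    ∃ j, 1 ≤ j ∧ p ∣ 2 ^ j - 1 ∧ Nat.card P * 2 ^ j ∣ Nat.card K := by
  have h2 : Fact (Nat.Prime 2) := ⟨Nat.prime_two⟩
  -- `C_R(g) = P`
  have h3 : R ⊓ centralizer ({g} : Set K) = (P : Subgroup ↥(centralizer ({g} : Set K))).map (centralizer ({g} : Set K)).subtype := by
    apply le_antisymm
    · have h4 : IsPGroup 2 ((R ⊓ centralizer ({g} : Set K)).subgroupOf (centralizer ({g} : Set K))) := by
        refine (hR.to_le inf_le_left : IsPGroup 2 ↥(R ⊓ centralizer ({g} : Set K))).of_equiv (subgroupOfEquivOfLe inf_le_right).symm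
      have h5 : (P : Subgroup ↥(centralizer ({g} : Set K))) ≤
          (R ⊓ centralizer ({g} : Set K)).subgroupOf (centralizer ({g} : Set K)) := by
        intro x hx
        rw [mem_subgroupOf]
        exact ⟨hPR ⟨x, hx, rfl⟩, x.2⟩
      have h6 := P.3 h4 h5
      intro x hx
      refine ⟨⟨x, hx.2⟩, ?_, rfl⟩
      rw [← h6]
      exact hx
    · refine le_inf hPR ?_
      rintro _ ⟨x, -, rfl⟩
      exact x.2
  have hPc : Nat.card ↥((P : Subgroup ↥(centralizer ({g} : Set K))).map (centralizer ({g} : Set K)).subtype) =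
      Nat.card P := card_map_of_injective (centralizer ({g} : Set K)).subtype_injective
  have h7 := card_modEq hg hn
  rw [h3, hPc] at h7
  obtain ⟨m, hm⟩ := IsPGroup.iff_card.1 hR
  obtain ⟨n, hn'⟩ := IsPGroup.iff_card.1 P.2
  have h8 : Nat.card P ∣ Nat.card R := by
    rw [← hPc]
    exact card_dvd_of_le hPR
  rw [hm, hn'] at h8 h7
  have hnm : n ≤ m := (Nat.pow_dvd_pow_iff_le_right (by norm_num)).1 h8
  have hne : n ≠ m := by
    intro h
    have h9 : (P : Subgroup ↥(centralizer ({g} : Set K))).map (centralizer ({g} : Set K)).subtype = R := by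
      refine eq_of_le_of_card_ge hPR ?_
      rw [hPc, hm, hn', h]
    apply hc
    rw [mem_centralizer_iff]
    intro r hr
    rw [← h9] at hr
    obtain ⟨x, -, rfl⟩ := hr
    exact mem_centralizer_singleton_iff.1 x.2
  refine ⟨m - n, by omega, ?_, ?_⟩
  · have h10 : 2 ^ m = 2 ^ n * 2 ^ (m - n) := by rw [← pow_add]; congr 1; omega
    rw [h10] at h7
    have h11 : 2 ^ n * 2 ^ (m - n) ≡ 2 ^ n * 1 [MOD p] := by rwa [mul_one]
    have hcop : Nat.Coprime p (2 ^ n) := by
      apply Nat.Coprime.pow_right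
      rw [Nat.coprime_primes hp.out Nat.prime_two]
      exact hp2
    have h12 : 2 ^ (m - n) ≡ 1 [MOD p] := Nat.ModEq.cancel_left_of_coprime hcop h11
    exact (Nat.modEq_iff_dvd' (Nat.one_le_two_pow)).1 h12.symm
  · rw [hn', ← pow_add]
    have h13 : n + (m - n) = m := by omega
    rw [h13, ← hm]
    exact card_subgroup_dvd_card R

/-- **characteristic 2 type** -/
theorem exists_pow {K : Type*} [Group K] [Finite K] (hK : IsCharacteristicTwoType K) {p : ℕ} [hp : Fact p.Prime]
    (hp2 : p ≠ 2) {g : K} (hg : orderOf g = p) (P : Sylow 2 ↥(centralizer ({g} : Set K)))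
    (h2 : 2 ∣ Nat.card ↥(centralizer ({g} : Set K))) :
    ∃ j, 1 ≤ j ∧ p ∣ 2 ^ j - 1 ∧ Nat.card P * 2 ^ j ∣ Nat.card K := by
  have hf2 : Fact (Nat.Prime 2) := ⟨Nat.prime_two⟩
  let T : Subgroup K := (P : Subgroup ↥(centralizer ({g} : Set K))).map (centralizer ({g} : Set K)).subtype
  have hT2 : IsPGroup 2 T := P.2.map _
  have hT1 : T ≠ ⊥ := by
    intro h
    have h1 : Nat.card P = 1 := by
      have h0 : Nat.card T = Nat.card P := card_map_of_injective (centralizer ({g} : Set K)).subtype_injective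
      rw [← h0, h, card_bot]
    have h3 := P.card_eq_multiplicity
    have h4 : 1 ≤ (Nat.card ↥(centralizer ({g} : Set K))).factorization 2 :=
      (Nat.Prime.dvd_iff_one_le_factorization Nat.prime_two Nat.card_pos.ne').1 h2
    rw [h1] at h3
    have h5 : 2 ^ 1 ≤ 2 ^ (Nat.card ↥(centralizer ({g} : Set K))).factorization 2 := Nat.pow_le_pow_right (by norm_num) h4
    rw [← h3] at h5
    omega
  let N : Subgroup K := normalizer (T : Set K)
  have hch := hK.2 T hT2 hT1
  have hgC : ∀ t ∈ T, g * t = t * g := by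
    rintro _ ⟨x, -, rfl⟩
    exact (mem_centralizer_singleton_iff.1 x.2).symm
  have hgT : g ∈ centralizer (T : Set K) := by
    rw [mem_centralizer_iff]
    intro t ht
    exact (hgC t ht).symm
  have hgN : g ∈ N := centralizer_le_normalizer _ hgT
  let R : Subgroup K := (pCore 2 ↥N).map N.subtype
  have hR2 : IsPGroup 2 R := (Lib.Cores.pCore_isPGroup 2).map _
  have hRn : (pCore 2 ↥N).Normal := Lib.Cores.pCore_normal 2
  have hTR : T ≤ R := by
    have h1 : T.subgroupOf N ≤ pCore 2 ↥N := by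
      refine Lib.Cores.le_pCore ?_ ?_
      · exact normal_in_normalizer
      · exact hT2.of_equiv (subgroupOfEquivOfLe le_normalizer).symm
    intro t ht
    exact ⟨⟨t, le_normalizer ht⟩, h1 (mem_subgroupOf.2 ht), rfl⟩
  refine exists_pow_of hp2 hg P hR2 hTR ?_ ?_
  · rw [mem_normalizer_iff]
    intro h
    constructor
    · rintro ⟨x, hx, rfl⟩
      exact ⟨⟨g, hgN⟩ * x * ⟨g, hgN⟩⁻¹, hRn.conj_mem x hx _, rfl⟩
    · rintro ⟨x, hx, hx'⟩
      refine ⟨⟨g, hgN⟩⁻¹ * x * ⟨g, hgN⟩, ?_, ?_⟩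
      · have := hRn.conj_mem x hx ⟨g, hgN⟩⁻¹
        rwa [inv_inv] at this
      · change g⁻¹ * (x : K) * g = h
        rw [show (x : K) = g * h * g⁻¹ from hx']
        group
  · intro hcon
    have h1 : (⟨g, hgN⟩ : ↥N) ∈ centralizer (pCore 2 ↥N : Set ↥N) := by
      rw [mem_centralizer_iff]
      intro x hx
      apply Subtype.ext
      exact (mem_centralizer_iff.1 hcon) x ⟨x, hx, rfl⟩
    have h3 := hch h1
    obtain ⟨k, hk⟩ := IsPGroup.iff_orderOf.1 (Lib.Cores.pCore_isPGroup (G := ↥N) 2) ⟨_, h3⟩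
    have h4 : orderOf (⟨g, hgN⟩ : ↥N) = p := by rw [Subgroup.orderOf_mk]; exact hg
    rw [Subgroup.orderOf_mk, h4] at hk
    have h5 : p ∣ 2 ^ k := hk ▸ dvd_rfl
    have h6 := hp.out.dvd_of_dvd_pow h5
    exact hp2 ((Nat.prime_dvd_prime_iff_eq hp.out Nat.prime_two).1 h6)

/-- numerical form: `2 ^ (k + j)` does not divide `|K|` for any `j ≥ 1` with `p ∣ 2 ^ j - 1` -/
theorem not_dvd_of_charTwo {K : Type*} [Group K] [Finite K] (hK : IsCharacteristicTwoType K) {p : ℕ}
    [hp : Fact p.Prime] (hp2 : p ≠ 2) {g : K} (hg : orderOf g = p) {k : ℕ} (hk : 1 ≤ k)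
    (hn : ∀ j, 1 ≤ j → p ∣ 2 ^ j - 1 → ¬ 2 ^ (k + j) ∣ Nat.card K) :
    ¬ 2 ^ k ∣ Nat.card ↥(centralizer ({g} : Set K)) := by
  intro h
  have hf2 : Fact (Nat.Prime 2) := ⟨Nat.prime_two⟩
  have P : Sylow 2 ↥(centralizer ({g} : Set K)) := default
  obtain ⟨j, h1, h3, h4⟩ := exists_pow hK hp2 hg P ((dvd_pow_self 2 (by omega)).trans h)
  refine hn j h1 h3 ?_
  refine dvd_trans ?_ h4
  rw [pow_add]
  exact mul_dvd_mul_right (P.pow_dvd_card_of_pow_dvd_card h) _

end Cfsg.Agent.BpSpor.TwoPart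

end

-- merged: Cfsg.Agent.BpSpor.RowTool
section

/-!
# S1332, sporadic rows: tools (helper77)

* `bps_of_inner` : all automorphisms of order `p` are inner, the centralizers of elements of order `p` are good;
* `no_sq` : `r ^ 2 ∤ 2 ^ a * 3 ^ b * 5 ^ c * 7 ^ d * t` for `t` squarefree and a prime `r ≥ 11`;
* `good_cent` : the numerical criterion for a centralizer, the numbers for `K`, the power of 2 for `C(g)`;
* `bps_of_charTwo` : the row for a group of characteristic 2 type;
* `autInner_of_card` : `|Aut X| = n |X|`, `n` prime to `p`.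
-/

set_option autoImplicit false

namespace Cfsg.Agent.BpSpor.RowTool

open Subgroup Cfsg Cfsg.Agent.BpTab
open Cfsg.Agent.CpAut (AutInner)

theorem bps_of_inner {X : Type*} [Group X] {p : ℕ} (hc : center X = ⊥) (hi : AutInner p X)
    (h : ∀ g : X, orderOf g = p → Good p ↥(centralizer ({g} : Set X))) : BpS p X := by
  intro x hx
  obtain ⟨g, rfl⟩ := hi x hx
  rw [CpAut.orderOf_conj hc] at hx
  rw [CpAut.fixedSubgroup_conj]
  exact h g hx

theorem squarefree_prod {l : List ℕ} (hl : ∀ q ∈ l, q.Prime) (hn : l.Nodup) : Squarefree l.prod := by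
  induction l with
  | nil => simp
  | cons a l ih =>
    rw [List.prod_cons]
    have ha : a.Prime := hl a (by simp)
    have hl' : ∀ q ∈ l, q.Prime := fun q hq => hl q (List.mem_cons_of_mem _ hq)
    obtain ⟨hal, hnl⟩ := List.nodup_cons.1 hn
    have hco : a.Coprime l.prod := by
      rw [ha.coprime_iff_not_dvd]
      intro hd
      obtain ⟨b, hb, hab⟩ := (Prime.dvd_prod_iff ha.prime).1 hd
      exact hal (((Nat.prime_dvd_prime_iff_eq ha (hl' b hb)).1 hab) ▸ hb)
    exact (Nat.squarefree_mul hco).2 ⟨ha.prime.squarefree, ih hl' hnl⟩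

theorem no_sq {N : ℕ} (a b c d : ℕ) (l : List ℕ) (hN : N = 2 ^ a * 3 ^ b * 5 ^ c * 7 ^ d * l.prod)
    (hl : ∀ q ∈ l, q.Prime) (hn : l.Nodup) : ∀ r : ℕ, r.Prime → 11 ≤ r → ¬ r ^ 2 ∣ N := by
  intro r hr h11 hd
  have hco : ∀ q : ℕ, q.Prime → q < 11 → ∀ k, (r ^ 2).Coprime (q ^ k) := fun q hq hlt k =>
    Nat.Coprime.pow _ _ ((Nat.coprime_primes hr hq).2 (by omega))
  rw [hN] at hd
  have h1 : r ^ 2 ∣ l.prod := by
    refine ((((hco 2 (by norm_num) (by norm_num) a).mul_right (hco 3 (by norm_num) (by norm_num) b)).mul_right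
      (hco 5 (by norm_num) (by norm_num) c)).mul_right (hco 7 (by norm_num) (by norm_num) d)).dvd_of_dvd_mul_left hd
  have h2 := squarefree_prod hl hn r (by rwa [← pow_two])
  exact hr.one_lt.ne' (Nat.isUnit_iff.1 h2)

/-- The numerical criterion for a subgroup of `K`, with the numbers for `K` (except the power of 2). -/
theorem good_sub {K : Type*} [Group K] [Finite K] {p : ℕ} [hp : Fact p.Prime] (C : Subgroup K)
    (h2 : p ≠ 2 → ¬ 64 ∣ Nat.card C)
    (h3 : p ≠ 3 → ¬ 81 ∣ Nat.card K) (h5 : p ≠ 5 → ¬ 125 ∣ Nat.card K) (h7 : p ≠ 7 → ¬ 343 ∣ Nat.card K)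
    (h11 : ∀ r : ℕ, r.Prime → 11 ≤ r → r ≠ p → ¬ r ^ 2 ∣ Nat.card K) : Good p C := by
  have hd := card_subgroup_dvd_card C
  exact BpNum.good_of_card h2 (fun h h' => h3 h (h'.trans hd)) (fun h h' => h5 h (h'.trans hd))
    (fun h h' => h7 h (h'.trans hd)) (fun r hr h h' h'' => h11 r hr h h' (h''.trans hd))

/-- The row of a group of characteristic 2 type. -/
theorem bps_of_charTwo {K : Type*} [Group K] [Finite K] {p : ℕ} [hp : Fact p.Prime] (hp2 : p ≠ 2)
    (hc : center K = ⊥) (hi : AutInner p K) (hK : IsCharacteristicTwoType K)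
    (hn : ∀ j : ℕ, 1 ≤ j → p ∣ 2 ^ j - 1 → ¬ 2 ^ (6 + j) ∣ Nat.card K)
    (h3 : p ≠ 3 → ¬ 81 ∣ Nat.card K) (h5 : p ≠ 5 → ¬ 125 ∣ Nat.card K) (h7 : p ≠ 7 → ¬ 343 ∣ Nat.card K)
    (h11 : ∀ r : ℕ, r.Prime → 11 ≤ r → r ≠ p → ¬ r ^ 2 ∣ Nat.card K) : BpS p K := by
  refine bps_of_inner hc hi fun g hg => good_sub _ (fun _ => ?_) h3 h5 h7 h11
  exact TwoPart.not_dvd_of_charTwo (k := 6) hK hp2 hg (by norm_num) hn

theorem card_range_conj {X : Type*} [Group X] (hc : center X = ⊥) :
    Nat.card (MulAut.conj : X →* MulAut X).range = Nat.card X := by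
  have hinj : Function.Injective (MulAut.conj : X →* MulAut X) := by
    rw [← MonoidHom.ker_eq_bot_iff, eq_bot_iff, ← hc]
    intro a ha
    rw [mem_center_iff]
    intro b
    have h1 := congrArg (fun f : MulAut X => f b) (MonoidHom.mem_ker.1 ha)
    change a * b * a⁻¹ = b at h1
    exact (mul_inv_eq_iff_eq_mul.1 h1).symm
  exact (Nat.card_congr (MonoidHom.ofInjective hinj).toEquiv).symm

theorem normal_range_conj (X : Type*) [Group X] : (MulAut.conj : X →* MulAut X).range.Normal := by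
  constructor
  rintro _ ⟨a, rfl⟩ α
  refine ⟨α a, ?_⟩
  ext b
  change α a * b * (α a)⁻¹ = α (a * α.symm b * a⁻¹)
  rw [map_mul, map_mul, map_inv, MulEquiv.apply_symm_apply]

theorem autInner_of_card {X : Type*} [Group X] [Finite X] {p n : ℕ} (hc : center X = ⊥)
    (h : Nat.card (MulAut X) = n * Nat.card X) (hn : n.Coprime p) : AutInner p X := by
  refine CpAut.autInner_of_index ?_ (normal_range_conj X)
  have h1 := (MulAut.conj : X →* MulAut X).range.card_mul_index
  rw [card_range_conj hc, h, mul_comm n] at h1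
  rwa [Nat.eq_of_mul_eq_mul_left Nat.card_pos h1]

end Cfsg.Agent.BpSpor.RowTool

end
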