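import Mathlib
import Cfsg.Agent.BpSpor.RowTool
import Cfsg.Agent.CpAut.SporThree.MEleven
import Cfsg.Agent.CoThreeStd.M12.Out
import Cfsg.Agent.QTNorm.SporM12
import Cfsg.Agent.Omega.TwoF.RowM12
import Cfsg.Agent.Mrg.Omega.TwoF.RowM11
import Cfsg.Agent.KFacts.M23.OutOne
import Cfsg.Agent.OddHalf.Small.Mathieu
import Cfsg.Agent.HNType.Alt
import Cfsg.Agent.SporadicA.OctadFix
import Cfsg.Agent.SporadicA.GolayWeight
import Cfsg.Agent.S0363
import Cfsg.Agent.KFacts.M24Two.Out
import Cfsg.Agent.SporadicA.M24Trans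
import Cfsg.Agent.S0365
import Cfsg.Agent.BpSpor.RowAll
import Cfsg.Agent.J4Type.POuter
import Cfsg.Agent.J4Type.NonAb
import Cfsg.Agent.SporadicA.MathieuRecog
import Cfsg.Agent.J4Type.TauF
import Cfsg.Agent.KFacts.J4.SheetJ4
import Cfsg.Agent.BpSpor.Act
import Cfsg.Agent.CpAutJ4.Isol
import Cfsg.Agent.Lib.SolvableNormalP
import Cfsg.Agent.Lib.Cores
import Cfsg.Agent.UniqSheet.Large
import Cfsg.Agent.J4Type.OctadFixTrans
import Cfsg.Agent.J4Type.NormE
import Cfsg.Agent.S1703
import Cfsg.Agent.BpSpor.NoComp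
import Cfsg.Agent.S0205

-- merged: Cfsg.Agent.BpSpor.Mathieu
section

/-!
# S1332: the rows `M11`, `M12`, `M22`, `M23`, `p = 3` (helper77)

The order is prime to `2^6` (`M11`), a Sylow 2-subgroup is self-normalizing (`M12`), characteristic 2 type
(`M22`, `M23`).
-/

set_option autoImplicit false

namespace Cfsg.Agent.BpSpor.Mathieu

open Subgroup Cfsg Cfsg.Agent.BpTab Cfsg.Agent.BpSpor.RowTool
open Cfsg.Agent.CpAut (AutInner)

instance fact_three : Fact (Nat.Prime 3) := ⟨Nat.prime_three⟩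

/-! ### M11 -/

theorem bps_m11 : BpS 3 Spor.M11 := by
  have hcard : Nat.card Spor.M11 = 7920 := HNType.Alt.card_M11
  have hfin : Finite Spor.M11 := Nat.finite_of_card_ne_zero (by rw [hcard]; norm_num)
  have hc : center Spor.M11 = ⊥ := (Omega.TwoF.RowM11.facts (K := Spor.M11) ⟨MulEquiv.refl _⟩).2.2.1
  have hi : AutInner 3 Spor.M11 := CpAut.SporThree.MEleven.autInner.congr Schreier.MEleven.equiv
  refine bps_of_inner hc hi fun g _ => good_sub _ (fun _ h => ?_) ?_ ?_ ?_ ?_
  · have h1 := h.trans (card_subgroup_dvd_card _)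
    rw [hcard] at h1
    norm_num at h1
  · intro h; exact absurd rfl h
  · intro _; rw [hcard]; norm_num
  · intro _; rw [hcard]; norm_num
  · intro r hr h11 _
    exact no_sq 4 2 1 0 [11] (hcard.trans (by norm_num)) (by simp; norm_num) (by simp) r hr h11

/-! ### M12 -/

/-- a self-normalizing Sylow 2-subgroup is not centralized by elements of odd order -/
theorem not_dvd_of_selfN {K : Type*} [Group K] [Finite K] (h : QTNorm.SelfN K) {k : ℕ}
    (hk : (Nat.card K).factorization 2 ≤ k) {p : ℕ} (hp : p.Prime) (hp2 : p ≠ 2) {g : K} (hg : orderOf g = p) :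
    ¬ 2 ^ k ∣ Nat.card ↥(centralizer ({g} : Set K)) := by
  intro hd
  have h2 : Fact (Nat.Prime 2) := ⟨Nat.prime_two⟩
  obtain ⟨P, hP⟩ := Sylow.exists_subgroup_card_pow_prime 2 hd
  set Q : Subgroup K := P.map (centralizer ({g} : Set K)).subtype with hQ
  have hQc : Nat.card Q = 2 ^ k := by
    rw [hQ, card_map_of_injective (subtype_injective _), hP]
  have hQp : IsPGroup 2 Q := IsPGroup.of_card hQc
  obtain ⟨T, hT⟩ := hQp.exists_le_sylow
  have hTc : Nat.card T = 2 ^ (Nat.card K).factorization 2 := T.card_eq_multiplicity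
  have hQT : Q = (T : Subgroup K) := by
    apply Subgroup.eq_of_le_of_card_ge hT
    rw [hTc, hQc]
    exact Nat.pow_le_pow_right (by norm_num) hk
  have hgN : g ∈ normalizer ((T : Subgroup K) : Set K) := by
    rw [← hQT]
    apply (centralizer_le_normalizer (Q : Set K))
    rw [mem_centralizer_iff]
    rintro _ ⟨a, -, rfl⟩
    exact (mem_centralizer_singleton_iff.1 a.2)
  have hgT : g ∈ (T : Subgroup K) := h T hgN
  obtain ⟨m, hm⟩ := (IsPGroup.iff_orderOf.1 T.2) ⟨g, hgT⟩
  rw [← orderOf_coe] at hm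
  change orderOf g = 2 ^ m at hm
  rw [hg] at hm
  have h3 : p ∣ 2 := hp.dvd_of_dvd_pow (dvd_of_eq hm)
  exact hp2 ((Nat.prime_dvd_prime_iff_eq hp Nat.prime_two).1 h3)

theorem bps_m12 : BpS 3 Spor.M12 := by
  have hcard : Nat.card Spor.M12 = 95040 := Omega.TwoF.RowM12.card_M12
  have hi : AutInner 3 Spor.M12 := by
    intro x hx
    have h1 : x ^ 3 = 1 := by rw [← hx]; exact pow_orderOf_eq_one x
    obtain ⟨g, hg⟩ := CoThreeStd.M12.Out.inner_of_odd_of_equiv CoThreeStd.M12.equiv (by decide) h1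
    exact ⟨g, hg.symm⟩
  refine bps_of_inner Omega.TwoF.RowM12.center_eq hi fun g hg => good_sub _ (fun _ => ?_) ?_ ?_ ?_ ?_
  · refine not_dvd_of_selfN (k := 6) (QTNorm.selfN_m12 ⟨MulEquiv.refl _⟩) ?_ Nat.prime_three (by norm_num) hg
    by_contra hcon
    have h1 : 2 ^ 7 ∣ Nat.card Spor.M12 :=
      (Nat.prime_two.pow_dvd_iff_le_factorization (by rw [hcard]; norm_num)).2 (by omega)
    rw [hcard] at h1
    norm_num at h1
  · intro h; exact absurd rfl h
  · intro _; rw [hcard]; norm_num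
  · intro _; rw [hcard]; norm_num
  · intro r hr h11 _
    exact no_sq 6 3 1 0 [11] (hcard.trans (by norm_num)) (by simp; norm_num) (by simp) r hr h11

/-! ### M22 -/

theorem pow_of {N k : ℕ} (hN : ¬ 2 ^ k ∣ N) {m : ℕ} (h : k ≤ m) : ¬ 2 ^ m ∣ N :=
  fun h' => hN ((pow_dvd_pow 2 h).trans h')

theorem two_le_of_three {j : ℕ} (h : 1 ≤ j) (h3 : 3 ∣ 2 ^ j - 1) : 2 ≤ j := by
  rcases Nat.lt_or_ge 1 j with h1 | h1
  · exact h1
  · have : j = 1 := by omega
    subst this
    norm_num at h3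

theorem bps_m22 : BpS 3 Spor.M22 := by
  have hcard : Nat.card Spor.M22 = 443520 := SporadicA.MathieuRecog.card_M22
  have hfin : Finite Spor.M22 := Nat.finite_of_card_ne_zero (by rw [hcard]; norm_num)
  refine bps_of_charTwo (by norm_num) Omega.TwoF.RowM23.center22
    (autInner_of_card (n := 2) Omega.TwoF.RowM23.center22 (by rw [Omega.TwoF.RowM23.card_mulAut22, hcard])
      (by norm_num)) OddHalf.Small.Mathieu.charTwo_M22 ?_ ?_ ?_ ?_ ?_
  · intro j h1 h3
    rw [hcard]
    exact pow_of (k := 8) (by norm_num) (by have := two_le_of_three h1 h3; omega)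
  · intro h; exact absurd rfl h
  · intro _; rw [hcard]; norm_num
  · intro _; rw [hcard]; norm_num
  · intro r hr h11 _
    exact no_sq 7 2 1 1 [11] (hcard.trans (by norm_num)) (by simp; norm_num) (by simp) r hr h11

/-! ### M23 -/

theorem bps_m23 : BpS 3 Spor.M23 := by
  have hcard : Nat.card Spor.M23 = 10200960 := SporadicA.MathieuRecog.card_M23
  have hfin : Finite Spor.M23 := Nat.finite_of_card_ne_zero (by rw [hcard]; norm_num)
  refine bps_of_charTwo (by norm_num) Omega.TwoF.RowM23.center23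
    (fun x _ => KFacts.M23.OutOne.exists_conj x) OddHalf.Small.Mathieu.charTwo_M23 ?_ ?_ ?_ ?_ ?_
  · intro j h1 h3
    rw [hcard]
    exact pow_of (k := 8) (by norm_num) (by have := two_le_of_three h1 h3; omega)
  · intro h; exact absurd rfl h
  · intro _; rw [hcard]; norm_num
  · intro _; rw [hcard]; norm_num
  · intro r hr h11 _
    exact no_sq 7 2 1 1 [11, 23] (hcard.trans (by norm_num)) (by simp; norm_num) (by simp) r hr h11

end Cfsg.Agent.BpSpor.Mathieu

end

-- merged: Cfsg.Agent.BpSpor.MathieuB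
section

/-!
# S1332: the row `M24`, `p = 3` (helper77)

* `fixed_le` : an element of order 3 of `M24` fixes at most six points (two five-sets of fixed points meeting in
  three points lie in invariant octads meeting in `0 mod 3` points);
* `card_le` : a 2-subgroup centralizing an element of order 3 has order at most 24 (it is faithful on the fixed
  points, or semiregular on the 24 points).
-/

set_option autoImplicit false

namespace Cfsg.Agent.BpSpor.MathieuB

open Subgroup Cfsg Cfsg.Agent.BpTab Cfsg.Agent.BpSpor.RowTool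
open Cfsg.Agent.SporadicA.GolayBase Cfsg.Agent.SporadicA.GolayPerm Cfsg.Agent.SporadicA.OctadFix
open scoped Pointwise

/-- the fixed points -/
def fx (g : Equiv.Perm GolayPt) : Finset GolayPt := Finset.univ.filter fun x => g x = x

theorem mem_fx {g : Equiv.Perm GolayPt} {x : GolayPt} : x ∈ fx g ↔ g x = x := by
  simp [fx]

theorem card_modEq {g : Equiv.Perm GolayPt} (hg : g ^ 3 = 1) (S : Finset GolayPt) (hS : ∀ x ∈ S, g x ∈ S) :
    S.card ≡ (S ∩ fx g).card [MOD 3] := by
  classical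
  have h3 : Fact (Nat.Prime 3) := ⟨Nat.prime_three⟩
  let f : Function.End S := fun x => ⟨g x, hS x x.2⟩
  have hf : f ^ 3 ^ 1 = 1 := by
    funext x
    apply Subtype.ext
    have h1 : (g ^ 3) (x : GolayPt) = x := by rw [hg]; rfl
    exact h1
  have h1 := Equiv.Perm.card_fixedPoints_modEq (p := 3) (n := 1) hf
  have h2 : Fintype.card (Function.fixedPoints f) = (S ∩ fx g).card := by
    rw [← Fintype.card_coe]
    refine Fintype.card_congr ⟨fun x => ⟨x.1.1, Finset.mem_inter.2 ⟨x.1.2, mem_fx.2 (congrArg Subtype.val x.2)⟩⟩,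
      fun x => ⟨⟨x.1, (Finset.mem_inter.1 x.2).1⟩, Subtype.ext (mem_fx.1 (Finset.mem_inter.1 x.2).2)⟩,
      fun x => rfl, fun x => rfl⟩
  rw [h2, Fintype.card_coe] at h1
  exact h1

/-- an octad containing five fixed points is invariant and has exactly these fixed points -/
theorem octad_of_five {g : Equiv.Perm GolayPt} (hM : g ∈ M24) (hg : g ^ 3 = 1) (h1 : g ≠ 1) {A : Finset GolayPt}
    (hA : A.card = 5) (hF : A ⊆ fx g) : ∃ o ∈ octads, A ⊆ o ∧ (∀ x ∈ o, g x ∈ o) ∧ o ∩ fx g = A := by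
  classical
  have hSt : IsSteinerSystem 5 8 octads := S0363.result
  obtain ⟨o, ⟨ho, hAo⟩, hu⟩ := hSt.2 A hA
  have hgA : ∀ x ∈ A, g x = x := fun x hx => mem_fx.1 (hF hx)
  have hgo : g • o = o := by
    apply hu
    refine ⟨(smul_mem_octads hM).2 ho, fun x hx => ?_⟩
    rw [← hgA x hx]
    exact (mem_smul_iff g o x).2 (hAo hx)
  have hinv : ∀ x ∈ o, g x ∈ o := fun x hx => by
    have := (mem_smul_iff g o x).2 hx
    rwa [hgo] at this
  have hsub : A ⊆ o ∩ fx g := Finset.subset_inter hAo hF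
  refine ⟨o, ho, hAo, hinv, ?_⟩
  have h8 : o.card = 8 := octad_card ho
  have hmod := card_modEq hg o hinv
  have hle : (o ∩ fx g).card ≤ 8 := h8 ▸ Finset.card_le_card Finset.inter_subset_left
  have hge : 5 ≤ (o ∩ fx g).card := hA ▸ Finset.card_le_card hsub
  have hcard : (o ∩ fx g).card = 5 ∨ (o ∩ fx g).card = 8 := by
    rw [h8] at hmod
    unfold Nat.ModEq at hmod
    omega
  rcases hcard with h | h
  · exact (Finset.eq_of_subset_of_card_le hsub (by rw [h, hA])).symm
  · exfalso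
    have ho' : o ∩ fx g = o := Finset.eq_of_subset_of_card_le Finset.inter_subset_left (by rw [h, h8])
    have hfo : g ∈ fixOct o := mem_fixOct.2 ⟨hM, fun x hx => by
      rw [← ho'] at hx
      exact mem_fx.1 (Finset.mem_inter.1 hx).2⟩
    have h2 := fixOct_sq ho hfo
    apply h1
    have h3 : g ^ 3 = g * g * g := by rw [pow_succ, pow_two]
    rw [h3, h2, one_mul] at hg
    exact hg

/-- an element of order 3 fixes at most six points -/
theorem fixed_le {g : Equiv.Perm GolayPt} (hM : g ∈ M24) (hg : g ^ 3 = 1) (h1 : g ≠ 1) : (fx g).card ≤ 6 := by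
  classical
  by_contra hcon
  have h7 : 7 ≤ (fx g).card := by omega
  -- a set `S` of 7 fixed points, `T ⊆ S` with 3 points, `A = T ∪ U`, `B = T ∪ V`
  obtain ⟨S, hSF, hS⟩ := Finset.exists_subset_card_eq h7
  obtain ⟨T, hTS, hT⟩ := Finset.exists_subset_card_eq (show 3 ≤ S.card by omega)
  have hD : (S \ T).card = 4 := by rw [Finset.card_sdiff_of_subset hTS]; omega
  obtain ⟨U, hUS, hU⟩ := Finset.exists_subset_card_eq (show 2 ≤ (S \ T).card by omega)
  set V := (S \ T) \ U with hV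
  have hVc : V.card = 2 := by rw [hV, Finset.card_sdiff_of_subset hUS]; omega
  have hVS : V ⊆ S \ T := Finset.sdiff_subset
  have hTU : Disjoint T U := Finset.disjoint_left.2 fun x hx hx' => (Finset.mem_sdiff.1 (hUS hx')).2 hx
  have hTV : Disjoint T V := Finset.disjoint_left.2 fun x hx hx' => (Finset.mem_sdiff.1 (hVS hx')).2 hx
  have hUV : Disjoint U V := Finset.disjoint_left.2 fun x hx hx' => (Finset.mem_sdiff.1 (hV ▸ hx')).2 hx
  have hsub : ∀ W ⊆ S \ T, T ∪ W ⊆ fx g := fun W hW =>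
    Finset.union_subset (hTS.trans hSF) ((hW.trans Finset.sdiff_subset).trans hSF)
  obtain ⟨o, ho, hAo, hoi, hof⟩ := octad_of_five hM hg h1 (A := T ∪ U)
    (by rw [Finset.card_union_of_disjoint hTU, hT, hU]) (hsub U hUS)
  obtain ⟨o', ho', hBo, hoi', hof'⟩ := octad_of_five hM hg h1 (A := T ∪ V)
    (by rw [Finset.card_union_of_disjoint hTV, hT, hVc]) (hsub V hVS)
  have hI : (o ∩ o') ∩ fx g = T := by
    have h2 : (o ∩ o') ∩ fx g = (o ∩ fx g) ∩ (o' ∩ fx g) := by
      ext x
      simp only [Finset.mem_inter]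
      tauto
    rw [h2, hof, hof', ← Finset.union_inter_distrib_left, Finset.disjoint_iff_inter_eq_empty.1 hUV,
      Finset.union_empty]
  have hmod := card_modEq hg (o ∩ o') (fun x hx => Finset.mem_inter.2
    ⟨hoi x (Finset.mem_inter.1 hx).1, hoi' x (Finset.mem_inter.1 hx).2⟩)
  rw [hI, hT] at hmod
  have hne : o ≠ o' := by
    rintro rfl
    have h2 : T ∪ U = T ∪ V := hof.symm.trans hof'
    have h3 : U ⊆ V := by
      intro x hx
      have h4 : x ∈ T ∪ V := h2 ▸ Finset.mem_union_right _ hx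
      rcases Finset.mem_union.1 h4 with h5 | h5
      · exact absurd hx (Finset.disjoint_left.1 hTU h5)
      · exact h5
    obtain ⟨x, hx⟩ : U.Nonempty := Finset.card_pos.1 (by omega)
    exact Finset.disjoint_left.1 hUV hx (h3 hx)
  have hle : (o ∩ o').card < 5 := by
    by_contra h5
    exact hne (octad_unique ho ho' (by omega))
  have heven : Even (o ∩ o').card := by
    obtain ⟨v, hv, rfl⟩ := ho.1
    obtain ⟨w, hw, rfl⟩ := ho'.1
    exact SporadicA.GolayWeight.even_card_inter hv hw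
  have hge : 3 ≤ (o ∩ o').card := by
    rw [← hT]
    exact Finset.card_le_card (hI ▸ Finset.inter_subset_left)
  obtain ⟨m, hm⟩ := heven
  unfold Nat.ModEq at hmod
  omega

/-- a power of a non-trivial element of a 2-group is an involution -/
theorem exists_invol {G : Type*} [Group G] {P : Subgroup G} (hP : IsPGroup 2 P) {u : G} (hu : u ∈ P) (h1 : u ≠ 1) :
    ∃ n : ℕ, u ^ n * u ^ n = 1 ∧ u ^ n ≠ 1 := by
  obtain ⟨m, hm⟩ := hP ⟨u, hu⟩
  have hm' : u ^ 2 ^ m = 1 := congrArg Subtype.val hm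
  have hex : ∃ k, u ^ 2 ^ k = 1 := ⟨m, hm'⟩
  classical
  have hk := Nat.find_spec hex
  set k := Nat.find hex with hkd
  have h0 : k ≠ 0 := by
    intro h0
    rw [h0, pow_zero, pow_one] at hk
    exact h1 hk
  obtain ⟨j, hj⟩ := Nat.exists_eq_succ_of_ne_zero h0
  refine ⟨2 ^ j, ?_, ?_⟩
  · rw [← pow_add, ← two_mul, ← pow_succ', ← Nat.succ_eq_add_one, ← hj, hk]
  · exact Nat.find_min hex (show j < k by omega)

theorem pow_fix {u : Equiv.Perm GolayPt} {x : GolayPt} (h : u x = x) (n : ℕ) : (u ^ n) x = x := by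
  induction n with
  | zero => rfl
  | succ n ih => rw [pow_succ, Equiv.Perm.mul_apply, h, ih]

/-- the fixed points of an involution `t` commuting with `g`, having a fixed point -/
theorem mod_of_invol {g : Equiv.Perm GolayPt} (hg : g ^ 3 = 1) {t : Equiv.Perm GolayPt} (ht : t ∈ M24)
    (h2 : t * t = 1) (h1 : t ≠ 1) (hc : t * g = g * t) {p : GolayPt} (hp : t p = p) :
    8 ≡ ((fx t) ∩ fx g).card [MOD 3] := by
  obtain ⟨o, ho, hfix⟩ := OddHalf.Small.Mathieu.exists_fix_octad ht h2 h1 hp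
  have ho' : fx t = o := by
    ext x
    rw [mem_fx, hfix x]
  rw [ho', ← octad_card ho]
  apply card_modEq hg
  intro x hx
  rw [← hfix]
  have h3 : t x = x := (hfix x).2 hx
  calc t (g x) = (t * g) x := rfl
    _ = (g * t) x := by rw [hc]
    _ = g (t x) := rfl
    _ = g x := by rw [h3]

theorem false_of_card {g : Equiv.Perm GolayPt} (hM : g ∈ M24) (hg : g ^ 3 = 1) (h1 : g ≠ 1)
    (P : Subgroup (Equiv.Perm GolayPt)) (hP : P ≤ M24) (hc : ∀ t ∈ P, t * g = g * t) (h64 : Nat.card P = 64) :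
    False := by
  classical
  have hP2 : IsPGroup 2 P := IsPGroup.of_card (n := 6) (by rw [h64]; norm_num)
  have h24 : Fintype.card GolayPt = 24 := by decide +kernel
  have huniv := card_modEq hg Finset.univ (fun x _ => Finset.mem_univ _)
  rw [Finset.univ_inter, Finset.card_univ, h24] at huniv
  rcases Finset.eq_empty_or_nonempty (fx g) with he | ⟨p, hp⟩
  · -- semiregular
    have key : ∀ u ∈ P, u none = none → u = 1 := by
      intro u hu hun
      by_contra hu1
      obtain ⟨n, h2, hn⟩ := exists_invol hP2 hu hu1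
      have h3 := mod_of_invol hg (hP (P.pow_mem hu n)) h2 hn (hc _ (P.pow_mem hu n)) (pow_fix hun n)
      rw [he, Finset.inter_empty] at h3
      exact absurd h3 (by decide)
    have hinj : Function.Injective (fun u : P => (u : Equiv.Perm GolayPt) none) := by
      intro u v huv
      have h4 : ((v : Equiv.Perm GolayPt)⁻¹ * u) none = none := by
        change (v : Equiv.Perm GolayPt)⁻¹ ((u : Equiv.Perm GolayPt) none) = none
        rw [show (u : Equiv.Perm GolayPt) none = (v : Equiv.Perm GolayPt) none from huv]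
        exact Equiv.symm_apply_apply _ _
      have h5 := key _ (P.mul_mem (P.inv_mem v.2) u.2) h4
      exact Subtype.ext (inv_mul_eq_one.1 h5).symm
    have h6 := Nat.card_le_card_of_injective _ hinj
    rw [h64, Nat.card_eq_fintype_card, h24] at h6
    omega
  · -- faithful on the fixed points
    have hst : ∀ t ∈ P, ∀ x, x ∈ fx g → t x ∈ fx g := by
      intro t ht x hx
      rw [mem_fx] at hx ⊢
      calc g (t x) = (g * t) x := rfl
        _ = (t * g) x := by rw [hc t ht]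
        _ = t (g x) := rfl
        _ = t x := by rw [hx]
    have hst' : ∀ t ∈ P, ∀ x, t x ∈ fx g ↔ x ∈ fx g := by
      intro t ht x
      refine ⟨fun h => ?_, hst t ht x⟩
      have h3 := hst _ (P.inv_mem ht) _ h
      rwa [show t⁻¹ (t x) = x from Equiv.symm_apply_apply t x] at h3
    let f : P →* Equiv.Perm {x // x ∈ fx g} :=
      { toFun := fun t => (t : Equiv.Perm GolayPt).subtypePerm (fun x => hst' t t.2 x)
        map_one' := rfl
        map_mul' := fun a b => rfl }
    have hf : Function.Injective f := by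
      rw [injective_iff_map_eq_one]
      intro u hu
      by_contra hu1
      have hu1' : (u : Equiv.Perm GolayPt) ≠ 1 := fun h => hu1 (Subtype.ext h)
      have hfix : ∀ x ∈ fx g, (u : Equiv.Perm GolayPt) x = x := by
        intro x hx
        have h3 := congrArg (fun e : Equiv.Perm {x // x ∈ fx g} => (e ⟨x, hx⟩ : GolayPt)) hu
        exact h3
      obtain ⟨n, h2, hn⟩ := exists_invol hP2 u.2 hu1'
      have h3 := mod_of_invol hg (hP (P.pow_mem u.2 n)) h2 hn (hc _ (P.pow_mem u.2 n)) (pow_fix (hfix p hp) n)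
      have h4 : fx ((u : Equiv.Perm GolayPt) ^ n) ∩ fx g = fx g :=
        Finset.inter_eq_right.2 fun x hx => mem_fx.2 (pow_fix (hfix x hx) n)
      rw [h4] at h3
      unfold Nat.ModEq at h3 huniv
      omega
    have h5 := Subgroup.card_dvd_of_injective f hf
    rw [h64, Nat.card_eq_fintype_card, Fintype.card_perm, Fintype.card_coe] at h5
    have h6 := fixed_le hM hg h1
    have h7 : (64 : ℕ) ∣ (6 : ℕ).factorial := h5.trans (Nat.factorial_dvd_factorial h6)
    revert h7
    decide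

/-! ### the row -/

theorem bps_m24 : BpS 3 M24 := by
  have hcard : Nat.card M24 = 244823040 := SporadicA.M24Trans.card_M24
  have hfin : Finite M24 := Nat.finite_of_card_ne_zero (by rw [hcard]; norm_num)
  refine bps_of_inner (center_eq_bot_of_card Cfsg.Agent.S0365.result (by rw [hcard]; norm_num)) (fun x _ => KFacts.M24Two.Out.exists_conj x)
    fun g hg => good_sub _ (fun _ hd => ?_) ?_ ?_ ?_ ?_
  · have h2 : Fact (Nat.Prime 2) := ⟨Nat.prime_two⟩
    obtain ⟨Q, hQ⟩ := Sylow.exists_subgroup_card_pow_prime 2 (n := 6) (by simpa using hd)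
    have hg3 : (g : Equiv.Perm GolayPt) ^ 3 = 1 := by
      have h3 : g ^ 3 = 1 := by rw [← hg]; exact pow_orderOf_eq_one g
      exact congrArg Subtype.val h3
    have hg1 : (g : Equiv.Perm GolayPt) ≠ 1 := by
      intro h
      have h3 : g = 1 := Subtype.ext h
      rw [h3, orderOf_one] at hg
      omega
    refine false_of_card g.2 hg3 hg1 ((Q.map (centralizer ({g} : Set M24)).subtype).map M24.subtype) ?_ ?_ ?_
    · rintro _ ⟨a, -, rfl⟩
      exact a.2
    · rintro _ ⟨_, ⟨a, -, rfl⟩, rfl⟩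
      exact congrArg Subtype.val (mem_centralizer_singleton_iff.1 a.2)
    · rw [card_map_of_injective (subtype_injective _), card_map_of_injective (subtype_injective _), hQ]
      norm_num
  · intro h; exact absurd rfl h
  · intro _; rw [hcard]; norm_num
  · intro _; rw [hcard]; norm_num
  · intro r hr h11 _
    exact no_sq 10 3 1 1 [11, 23] (hcard.trans (by norm_num)) (by simp; norm_num) (by simp) r hr h11

end Cfsg.Agent.BpSpor.MathieuB

end

-- merged: Cfsg.Agent.BpSpor.JFourM24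
section

/-!
# S1332, the row `J₄`, `p = 3`: permutations (helper26)

* `exists_pow` : the elements of order 3 of a group of order not divisible by 27 containing two commuting elements `a`,
  `b` of order 3 (independent) are conjugate to some `a ^ i * b ^ j`;
* `exists_conj_s` : the elements of order 3 of `M22` are conjugate in `M22`;
* `w0` (the scalar `ω` of the hexacode), `m1`, `m2`, `m3` in `C(w0)`: `m1 = (0 1 2)`, `m2 = (3 4 5)`, `m3 = (2 3 4)` on the
  six tetrads; `w0 ^ i * m1` is conjugate to `w0` in `M24`;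
* `eq_w0` : elements of order 3 of `M24` fixing the tetrads and the six points `mog i 0`.
-/

set_option autoImplicit false

namespace Cfsg.Agent.BpSpor.J4

open Cfsg Cfsg.Agent.SporadicA.GolayBase Cfsg.Agent.SporadicA.GolayPerm
open Cfsg.Agent.J4Type Cfsg.Agent.J4Type.CocodeMask Cfsg.Agent.J4Type.POuter
open scoped Pointwise

/-! ### groups of order not divisible by 27 -/

theorem pow_red {G : Type*} [Group G] {a : G} (ha : a ^ 3 = 1) (n : ℕ) : a ^ n = a ^ (n % 3) := by
  conv_lhs => rw [← Nat.div_add_mod n 3, pow_add, pow_mul, ha, one_pow, one_mul]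

theorem exists_pow {G : Type*} [Group G] [Finite G] {a b x : G} (ha : a ^ 3 = 1) (hb : b ^ 3 = 1)
    (hab : a * b = b * a) (ha1 : a ≠ 1) (hb1 : b ≠ 1) (hne : b ≠ a) (hne2 : b ≠ a ^ 2) (h27 : ¬ 27 ∣ Nat.card G)
    (hx : x ^ 3 = 1) : ∃ g : G, ∃ i < 3, ∃ j < 3, g * x * g⁻¹ = a ^ i * b ^ j := by
  have hp : Fact (Nat.Prime 3) := ⟨Nat.prime_three⟩
  have hc : Commute a b := hab
  let E : Subgroup G :=
    { carrier := {g | ∃ i j : ℕ, g = a ^ i * b ^ j}
      one_mem' := ⟨0, 0, by rw [pow_zero, pow_zero, one_mul]⟩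
      mul_mem' := by
        rintro _ _ ⟨i, j, rfl⟩ ⟨k, l, rfl⟩
        refine ⟨i + k, j + l, ?_⟩
        have h2 := (hc.pow_pow k j).eq
        calc a ^ i * b ^ j * (a ^ k * b ^ l) = a ^ i * (b ^ j * a ^ k) * b ^ l := by group
          _ = a ^ i * (a ^ k * b ^ j) * b ^ l := by rw [h2]
          _ = _ := by rw [pow_add, pow_add]; simp only [mul_assoc]
      inv_mem' := by
        rintro _ ⟨i, j, rfl⟩
        refine ⟨2 * i, 2 * j, ?_⟩
        rw [inv_eq_iff_mul_eq_one]
        have h1 : a ^ i * b ^ j * (a ^ (2 * i) * b ^ (2 * j)) = (a ^ i * a ^ (2 * i)) * (b ^ j * b ^ (2 * j)) := by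
          have h2 := (hc.pow_pow (2 * i) j).eq
          calc a ^ i * b ^ j * (a ^ (2 * i) * b ^ (2 * j)) = a ^ i * (b ^ j * a ^ (2 * i)) * b ^ (2 * j) := by group
            _ = a ^ i * (a ^ (2 * i) * b ^ j) * b ^ (2 * j) := by rw [h2]
            _ = _ := by group
        rw [h1, ← pow_add, ← pow_add, show i + 2 * i = 3 * i by ring, show j + 2 * j = 3 * j by ring, pow_mul, pow_mul,
          ha, hb, one_pow, one_pow, one_mul] }
  have haE : a ∈ E := ⟨1, 0, by rw [pow_one, pow_zero, mul_one]⟩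
  have hbE : b ∈ E := ⟨0, 1, by rw [pow_one, pow_zero, one_mul]⟩
  have hE3 : IsPGroup 3 E := by
    rintro ⟨_, i, j, rfl⟩
    refine ⟨1, Subtype.ext ?_⟩
    change (a ^ i * b ^ j) ^ 3 ^ 1 = 1
    rw [pow_one, (hc.pow_pow i j).mul_pow, ← pow_mul, ← pow_mul, mul_comm i, mul_comm j, pow_mul, pow_mul, ha, hb,
      one_pow, one_pow, one_mul]
  have h9 : 9 ∣ Nat.card E := by
    have h1 := NonAb.nine_dvd ha hb hab ha1 hb1 hne hne2
    refine h1.trans (Subgroup.card_dvd_of_le ?_)
    rw [Subgroup.closure_le]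
    rintro y (rfl | rfl) <;> assumption
  obtain ⟨P0, hP0⟩ := hE3.exists_le_sylow
  have hP0E : (P0 : Subgroup G) = E := by
    symm
    apply Subgroup.eq_of_le_of_card_ge hP0
    obtain ⟨k, hk⟩ := IsPGroup.iff_card.1 P0.isPGroup'
    have hk2 : k ≤ 2 := by
      by_contra hcon
      apply h27
      have h1 : 3 ^ 3 ∣ Nat.card (P0 : Subgroup G) := by rw [hk]; exact pow_dvd_pow 3 (by omega)
      exact h1.trans (Subgroup.card_subgroup_dvd_card _)
    have h2 : Nat.card (P0 : Subgroup G) ≤ 9 := by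
      rw [hk]
      exact Nat.pow_le_pow_right (by norm_num) hk2
    exact h2.trans (Nat.le_of_dvd Nat.card_pos h9)
  have hX : IsPGroup 3 (Subgroup.zpowers x) := by
    by_cases h1 : x = 1
    · rw [h1, Subgroup.zpowers_one_eq_bot]
      exact IsPGroup.of_bot
    · exact IsPGroup.of_card (n := 1) (by rw [Nat.card_zpowers, orderOf_eq_prime hx h1, pow_one])
  obtain ⟨P1, hP1⟩ := hX.exists_le_sylow
  obtain ⟨g, hg⟩ := MulAction.exists_smul_eq G P1 P0
  have h1 : g * x * g⁻¹ ∈ (g • P1 : Sylow 3 G) := by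
    rw [Sylow.smul_def]
    exact ⟨x, hP1 (Subgroup.mem_zpowers x), rfl⟩
  rw [hg] at h1
  have h2 : g * x * g⁻¹ ∈ E := by rw [← hP0E]; exact h1
  obtain ⟨i, j, h3⟩ := h2
  exact ⟨g, i % 3, Nat.mod_lt _ (by norm_num), j % 3, Nat.mod_lt _ (by norm_num), by
    rw [h3, pow_red ha, pow_red hb]⟩

/-! ### `M22` -/

/-- conjugators: `W i j` conjugates `s` to `s ^ i * s' ^ j` -/
noncomputable def W01 : M24 := mk 961084845295059645748310013364352480 (by decide +kernel)
noncomputable def W02 : M24 := mk 974056445370116930039155354356558432 (by decide +kernel)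
noncomputable def W10 : M24 := mk 964047153136528238632070594795538560 (by decide +kernel)
noncomputable def W11 : M24 := mk 976276881719958416183961576046907712 (by decide +kernel)
noncomputable def W12 : M24 := mk 973619688912755810814686491894255680 (by decide +kernel)
noncomputable def W20 : M24 := mk 974419822437953083829865303938516096 (by decide +kernel)
noncomputable def W21 : M24 := mk 976607456807732067548877666573914656 (by decide +kernel)
noncomputable def W22 : M24 := mk 966541175943265153031039510299464000 (by decide +kernel)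

theorem conj01 : W01 * s = s' * W01 := eq_of_tab ((isTab_mk _ _).mul tab_s) (tab_s'.mul (isTab_mk _ _)) (by decide +kernel)
theorem conj02 : W02 * s = s' * s' * W02 :=
  eq_of_tab ((isTab_mk _ _).mul tab_s) ((tab_s'.mul tab_s').mul (isTab_mk _ _)) (by decide +kernel)
theorem conj10 : W10 * s = s * W10 := eq_of_tab ((isTab_mk _ _).mul tab_s) (tab_s.mul (isTab_mk _ _)) (by decide +kernel)
theorem conj11 : W11 * s = s * s' * W11 :=
  eq_of_tab ((isTab_mk _ _).mul tab_s) ((tab_s.mul tab_s').mul (isTab_mk _ _)) (by decide +kernel)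
theorem conj12 : W12 * s = s * (s' * s') * W12 :=
  eq_of_tab ((isTab_mk _ _).mul tab_s) ((tab_s.mul (tab_s'.mul tab_s')).mul (isTab_mk _ _)) (by decide +kernel)
theorem conj20 : W20 * s = s * s * W20 :=
  eq_of_tab ((isTab_mk _ _).mul tab_s) ((tab_s.mul tab_s).mul (isTab_mk _ _)) (by decide +kernel)
theorem conj21 : W21 * s = s * s * s' * W21 :=
  eq_of_tab ((isTab_mk _ _).mul tab_s) (((tab_s.mul tab_s).mul tab_s').mul (isTab_mk _ _)) (by decide +kernel)
theorem conj22 : W22 * s = s * s * (s' * s') * W22 :=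
  eq_of_tab ((isTab_mk _ _).mul tab_s) (((tab_s.mul tab_s).mul (tab_s'.mul tab_s')).mul (isTab_mk _ _))
    (by decide +kernel)

theorem mem22 {g : M24} {P : ℕ} (hg : IsTab g P) (h1 : papp P 23 = 23) (h2 : papp P 0 = 0) :
    (g : Equiv.Perm GolayPt) ∈ Spor.M22 := by
  rw [Cfsg.Agent.SporadicA.MathieuRecog.mem_M22_iff]
  exact ⟨g.2, apply_eq hg h1, apply_eq hg h2⟩

/-- **the elements of order 3 of `M22` are conjugate** -/
theorem exists_conj_s {x : Equiv.Perm GolayPt} (hx : x ∈ Spor.M22) (h3 : x ^ 3 = 1) (h1 : x ≠ 1) :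
    ∃ w ∈ Spor.M22, w * x * w⁻¹ = (s : Equiv.Perm GolayPt) := by
  have hcard : Nat.card Spor.M22 = 443520 := Cfsg.Agent.SporadicA.MathieuRecog.card_M22
  have hfin : Finite Spor.M22 := Nat.finite_of_card_ne_zero (by rw [hcard]; norm_num)
  let S : Spor.M22 := ⟨(s : Equiv.Perm GolayPt), s_mem⟩
  let S' : Spor.M22 := ⟨(s' : Equiv.Perm GolayPt), s'_mem⟩
  have hv : ∀ {g h : M24}, g = h → (g : Equiv.Perm GolayPt) = h := fun e => congrArg Subtype.val e
  have hn : ∀ {g h : M24}, g ≠ h → (g : Equiv.Perm GolayPt) ≠ h := fun e e' => e (Subtype.ext e')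
  obtain ⟨g, i, hi, j, hj, hg⟩ := exists_pow (G := Spor.M22) (a := S) (b := S') (x := ⟨x, hx⟩)
    (Subtype.ext (hv s_cube)) (Subtype.ext (hv s'_cube)) (Subtype.ext (hv s_comm))
    (fun h => hn s_ne (congrArg (fun y : Spor.M22 => (y : Equiv.Perm GolayPt)) h))
    (fun h => hn s'_ne (congrArg (fun y : Spor.M22 => (y : Equiv.Perm GolayPt)) h))
    (fun h => hn s'_ne_s (congrArg (fun y : Spor.M22 => (y : Equiv.Perm GolayPt)) h))
    (fun h => hn s'_ne_s2 (congrArg (fun y : Spor.M22 => (y : Equiv.Perm GolayPt)) h))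
    (by rw [hcard]; norm_num) (Subtype.ext h3)
  have hg' : (g : Equiv.Perm GolayPt) * x * (g : Equiv.Perm GolayPt)⁻¹ =
      (s : Equiv.Perm GolayPt) ^ i * (s' : Equiv.Perm GolayPt) ^ j := congrArg Subtype.val hg
  have key : ∀ (w : M24), (w : Equiv.Perm GolayPt) ∈ Spor.M22 →
      (w : Equiv.Perm GolayPt) * s = (s : Equiv.Perm GolayPt) ^ i * (s' : Equiv.Perm GolayPt) ^ j * w →
      ∃ w ∈ Spor.M22, w * x * w⁻¹ = (s : Equiv.Perm GolayPt) := by
    intro w hw h
    refine ⟨(w : Equiv.Perm GolayPt)⁻¹ * g, Spor.M22.mul_mem (Spor.M22.inv_mem hw) g.2, ?_⟩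
    calc (w : Equiv.Perm GolayPt)⁻¹ * g * x * ((w : Equiv.Perm GolayPt)⁻¹ * g)⁻¹
        = (w : Equiv.Perm GolayPt)⁻¹ * ((g : Equiv.Perm GolayPt) * x * (g : Equiv.Perm GolayPt)⁻¹) * w := by group
      _ = (w : Equiv.Perm GolayPt)⁻¹ * ((w : Equiv.Perm GolayPt) * s) := by rw [hg', h, mul_assoc]
      _ = s := by group
  interval_cases i <;> interval_cases j
  · exfalso
    apply h1
    rw [pow_zero, pow_zero, one_mul] at hg'
    calc x = (g : Equiv.Perm GolayPt)⁻¹ * ((g : Equiv.Perm GolayPt) * x * (g : Equiv.Perm GolayPt)⁻¹) * g := by group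
      _ = 1 := by rw [hg']; group
  · exact key W01 (mem22 (isTab_mk _ _) (by decide +kernel) (by decide +kernel)) (by
      rw [pow_zero, one_mul, pow_one]; exact hv conj01)
  · exact key W02 (mem22 (isTab_mk _ _) (by decide +kernel) (by decide +kernel)) (by
      rw [pow_zero, one_mul, pow_two]; exact hv conj02)
  · exact key W10 (mem22 (isTab_mk _ _) (by decide +kernel) (by decide +kernel)) (by
      rw [pow_zero, mul_one, pow_one]; exact hv conj10)
  · exact key W11 (mem22 (isTab_mk _ _) (by decide +kernel) (by decide +kernel)) (by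
      rw [pow_one, pow_one]; exact hv conj11)
  · exact key W12 (mem22 (isTab_mk _ _) (by decide +kernel) (by decide +kernel)) (by
      rw [pow_one, pow_two]; exact hv conj12)
  · exact key W20 (mem22 (isTab_mk _ _) (by decide +kernel) (by decide +kernel)) (by
      rw [pow_two, pow_zero, mul_one]; exact hv conj20)
  · exact key W21 (mem22 (isTab_mk _ _) (by decide +kernel) (by decide +kernel)) (by
      rw [pow_two, pow_one]; exact hv conj21)
  · exact key W22 (mem22 (isTab_mk _ _) (by decide +kernel) (by decide +kernel)) (by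
      rw [pow_two, pow_two]; exact hv conj22)

/-! ### the centralizer of `w0` -/

/-- the scalar `ω` -/
noncomputable def w0 : M24 := mk 973047580892981701841065988820402241 (by decide +kernel)
/-- the scalar `ω²` -/
noncomputable def wi : M24 := mk 976407453246317410417703175176946690 (by decide +kernel)
noncomputable def m1 : M24 := mk 127474531739629244221854885702944197 (by decide +kernel)
noncomputable def m2 : M24 := mk 976531636853126291160407323722221600 (by decide +kernel)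
noncomputable def m3 : M24 := mk 979416905286026856737440949975746592 (by decide +kernel)
noncomputable def k0 : M24 := mk 357201665476826090278746034572345793 (by decide +kernel)
noncomputable def k1 : M24 := mk 528846132829466376341609422722907444 (by decide +kernel)
noncomputable def k2 : M24 := mk 513458722804467891213433928739509459 (by decide +kernel)

theorem w0_mul_wi : w0 * wi = 1 := eq_of_tab ((isTab_mk _ _).mul (isTab_mk _ _)) isTab_one (by decide +kernel)
theorem w0_cube : w0 * w0 * w0 = 1 :=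
  eq_of_tab (((isTab_mk _ _).mul (isTab_mk _ _)).mul (isTab_mk _ _)) isTab_one (by decide +kernel)
theorem m1_cube : m1 * m1 * m1 = 1 :=
  eq_of_tab (((isTab_mk _ _).mul (isTab_mk _ _)).mul (isTab_mk _ _)) isTab_one (by decide +kernel)
theorem comm1 : w0 * m1 = m1 * w0 :=
  eq_of_tab ((isTab_mk _ _).mul (isTab_mk _ _)) ((isTab_mk _ _).mul (isTab_mk _ _)) (by decide +kernel)
theorem comm2 : w0 * m2 = m2 * w0 :=
  eq_of_tab ((isTab_mk _ _).mul (isTab_mk _ _)) ((isTab_mk _ _).mul (isTab_mk _ _)) (by decide +kernel)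
theorem comm3 : w0 * m3 = m3 * w0 :=
  eq_of_tab ((isTab_mk _ _).mul (isTab_mk _ _)) ((isTab_mk _ _).mul (isTab_mk _ _)) (by decide +kernel)
theorem k0_conj : k0 * w0 = m1 * k0 :=
  eq_of_tab ((isTab_mk _ _).mul (isTab_mk _ _)) ((isTab_mk _ _).mul (isTab_mk _ _)) (by decide +kernel)
theorem k1_conj : k1 * w0 = w0 * m1 * k1 :=
  eq_of_tab ((isTab_mk _ _).mul (isTab_mk _ _)) (((isTab_mk _ _).mul (isTab_mk _ _)).mul (isTab_mk _ _))
    (by decide +kernel)
theorem k2_conj : k2 * w0 = w0 * w0 * m1 * k2 :=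
  eq_of_tab ((isTab_mk _ _).mul (isTab_mk _ _))
    ((((isTab_mk _ _).mul (isTab_mk _ _)).mul (isTab_mk _ _)).mul (isTab_mk _ _)) (by decide +kernel)

/-- multiplication by the powers of `ω` -/
def rot (e : Fin 3) (c : Fin 4) : Fin 4 := (![![0, 1, 2, 3], ![0, 2, 3, 1], ![0, 3, 1, 2]] : Fin 3 → Fin 4 → Fin 4) e c

theorem rot_rot : ∀ e f c, rot e (rot f c) = rot (e + f) c := by decide

theorem rot_zero : ∀ c, rot 0 c = c := by decide

theorem exists_rot : ∀ τ : Fin 4 → Fin 4, τ 0 = 0 → (∀ c, τ (τ (τ c)) = c) → ∃ e, ∀ c, τ c = rot e c := by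
  decide +kernel

theorem mog_inj : ∀ i c c', mog i c = mog i c' → c = c' := by decide +kernel

theorem exists_mog : ∀ p : GolayPt, ∃ i c, p = mog i c := by decide +kernel

theorem mem_tet {i : Fin 6} {p : GolayPt} : p ∈ tet i ↔ ∃ c, mog i c = p := by
  unfold tet
  rw [Finset.mem_image]
  simp

theorem card_tet : ∀ i, (tet i).card = 4 := by decide +kernel

theorem smul_tet {g : Equiv.Perm GolayPt} {i j : Fin 6} (h : ∀ c, ∃ c', g (mog i c) = mog j c') :
    g • tet i = tet j := by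
  apply Finset.eq_of_subset_of_card_le
  · intro p hp
    obtain ⟨q, hq, rfl⟩ := Finset.mem_smul_finset.1 hp
    obtain ⟨c, rfl⟩ := mem_tet.1 hq
    obtain ⟨c', hc⟩ := h c
    exact mem_tet.2 ⟨c', hc.symm⟩
  · rw [Finset.card_smul_finset, card_tet, card_tet]

theorem w0_mog (i : Fin 6) (c : Fin 4) : (w0 : Equiv.Perm GolayPt) (mog i c) = mog i (rot 1 c) :=
  apply_eq (isTab_mk _ _) (by revert i c; decide +kernel)

theorem wi_mog (i : Fin 6) (c : Fin 4) : (wi : Equiv.Perm GolayPt) (mog i c) = mog i (rot 2 c) :=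
  apply_eq (isTab_mk _ _) (by revert i c; decide +kernel)

/-- the permutations of the tetrads -/
def s1 : Fin 6 → Fin 6 := ![1, 2, 0, 3, 4, 5]
def s2 : Fin 6 → Fin 6 := ![0, 1, 2, 4, 5, 3]
def s3 : Fin 6 → Fin 6 := ![0, 1, 3, 4, 2, 5]

theorem m1_mog (i : Fin 6) (c : Fin 4) :
    (m1 : Equiv.Perm GolayPt) (mog i c) = mog (s1 i) (rot ((![0, 0, 0, 0, 2, 1] : Fin 6 → Fin 3) i) c) :=
  apply_eq (isTab_mk _ _) (by revert i c; decide +kernel)

theorem m2_mog (i : Fin 6) (c : Fin 4) :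
    (m2 : Equiv.Perm GolayPt) (mog i c) = mog (s2 i) (rot ((![0, 1, 2, 0, 0, 0] : Fin 6 → Fin 3) i) c) :=
  apply_eq (isTab_mk _ _) (by revert i c; decide +kernel)

theorem m3_mog (i : Fin 6) (c : Fin 4) :
    (m3 : Equiv.Perm GolayPt) (mog i c) = mog (s3 i) (rot ((![0, 2, 1, 2, 0, 1] : Fin 6 → Fin 3) i) c) :=
  apply_eq (isTab_mk _ _) (by revert i c; decide +kernel)

/-- nine points -/
def nine (i : Fin 6) : Finset GolayPt := tet i ∪ Finset.univ.image (fun j : Fin 6 => mog j 0)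

theorem card_nine : ∀ i, (nine i).card = 9 := by decide +kernel

theorem eq_one_of_nine {h : M24} (h3 : h ^ 3 = 1) {i : Fin 6}
    (hf : ∀ c, (h : Equiv.Perm GolayPt) (mog i c) = mog i c)
    (hp : ∀ j, (h : Equiv.Perm GolayPt) (mog j 0) = mog j 0) : h = 1 := by
  by_contra h1
  have h2 := MathieuB.fixed_le h.2 (congrArg (fun y : M24 => (y : Equiv.Perm GolayPt)) h3)
    (fun e => h1 (Subtype.ext e))
  have h4 : nine i ⊆ MathieuB.fx (h : Equiv.Perm GolayPt) := by
    intro p hp'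
    rw [MathieuB.mem_fx]
    rcases Finset.mem_union.1 hp' with h5 | h5
    · obtain ⟨c, rfl⟩ := mem_tet.1 h5
      exact hf c
    · obtain ⟨j, -, rfl⟩ := Finset.mem_image.1 h5
      exact hp j
  have h5 := Finset.card_le_card h4
  rw [card_nine] at h5
  omega

/-- the elements of order 3 of `M24` fixing the tetrads and the points `mog i 0` -/
theorem eq_w0 {g : M24} (h3 : g ^ 3 = 1) (h1 : g ≠ 1) (hp : ∀ i, (g : Equiv.Perm GolayPt) (mog i 0) = mog i 0)
    (ht : ∀ i, (g : Equiv.Perm GolayPt) • tet i = tet i) : g = w0 ∨ g = wi := by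
  have hg3 : ∀ p, (g : Equiv.Perm GolayPt) ((g : Equiv.Perm GolayPt) ((g : Equiv.Perm GolayPt) p)) = p := by
    intro p
    have h2 := congrArg (fun y : M24 => (y : Equiv.Perm GolayPt) p) h3
    exact h2
  have hrot : ∀ i, ∃ e, ∀ c, (g : Equiv.Perm GolayPt) (mog i c) = mog i (rot e c) := by
    intro i
    have h2 : ∀ c, ∃ c', (g : Equiv.Perm GolayPt) (mog i c) = mog i c' := by
      intro c
      have h4 : (g : Equiv.Perm GolayPt) (mog i c) ∈ (g : Equiv.Perm GolayPt) • tet i :=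
        Finset.smul_mem_smul_finset (mem_tet.2 ⟨c, rfl⟩)
      rw [ht] at h4
      obtain ⟨c', hc⟩ := mem_tet.1 h4
      exact ⟨c', hc.symm⟩
    choose τ hτ using h2
    obtain ⟨e, he⟩ := exists_rot τ (mog_inj i _ _ (by rw [← hτ, hp])) fun c => mog_inj i _ _ (by
      rw [← hτ, ← hτ, ← hτ, hg3])
    exact ⟨e, fun c => by rw [hτ, he]⟩
  choose e he using hrot
  by_cases h0 : ∃ i, e i = 0
  · obtain ⟨i, hi⟩ := h0
    exact absurd (eq_one_of_nine h3 (i := i) (fun c => by rw [he, hi, rot_zero]) hp) h1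
  by_cases h2 : ∃ i, e i = 1
  · left
    obtain ⟨i, hi⟩ := h2
    have hh : ∀ j c, ((g * wi : M24) : Equiv.Perm GolayPt) (mog j c) = mog j (rot (e j + 2) c) := by
      intro j c
      change (g : Equiv.Perm GolayPt) ((wi : Equiv.Perm GolayPt) (mog j c)) = _
      rw [wi_mog, he, rot_rot]
    have hh3 : (g * wi) ^ 3 = 1 := by
      apply Subtype.ext
      apply Equiv.ext
      intro p
      obtain ⟨j, c, rfl⟩ := exists_mog p
      change ((g * wi : M24) : Equiv.Perm GolayPt) (((g * wi : M24) : Equiv.Perm GolayPt)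
        (((g * wi : M24) : Equiv.Perm GolayPt) (mog j c))) = mog j c
      rw [hh, hh, hh, rot_rot, rot_rot]
      have h4 : ∀ a : Fin 3, a + a + a = 0 := by decide
      rw [h4, rot_zero]
    have h4 := eq_one_of_nine hh3 (i := i) (fun c => by rw [hh, hi]; exact congrArg _ (rot_zero c)) (fun j => by
      rw [hh]
      have h5 : ∀ a : Fin 3, rot a 0 = 0 := by decide
      rw [h5])
    calc g = (g * wi) * wi⁻¹ := by group
      _ = w0 := by rw [h4, one_mul]; exact inv_eq_of_mul_eq_one_left w0_mul_wi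
  · right
    apply Subtype.ext
    apply Equiv.ext
    intro p
    obtain ⟨j, c, rfl⟩ := exists_mog p
    rw [he, wi_mog]
    have h4 : e j = 2 := by
      have h5 : e j ≠ 0 := fun h => h0 ⟨j, h⟩
      have h6 : e j ≠ 1 := fun h => h2 ⟨j, h⟩
      revert h5 h6
      generalize e j = a
      revert a
      decide
    rw [h4]

end Cfsg.Agent.BpSpor.J4

end

-- merged: Cfsg.Agent.BpSpor.JFourFrame
section

/-!
# S1332, the row `J₄`, `p = 3`: the elements of order 3 (helper26)

`conj_rho` : in a finite group with the structure `J4Type.Compl`, of order not divisible by 81, in which the index of the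
centralizer of `z` is prime to 3, all elements of order 3 are conjugate to `ρ` or `ρ⁻¹`.
-/

set_option autoImplicit false

open scoped Pointwise

namespace Cfsg.Agent.BpSpor.J4

open Subgroup Cfsg Cfsg.Agent.J4Type Cfsg.Agent.J4Type.FusionCent Cfsg.Agent.J4Type.TauF

variable {K : Type*} [Group K]

section Frame

variable (F : J4Type.Compl K)

/-- the involutions `ε {mog i 0, mog j 0}` -/
theorem conj_ff {m : M24} {i j i' j' : Fin 6} (hi : (m : Equiv.Perm GolayPt) (mog i 0) = mog i' 0)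
    (hj : (m : Equiv.Perm GolayPt) (mog j 0) = mog j' 0) (hij : i ≠ j) :
    F.φ m * ff F.toFrame i j * (F.φ m)⁻¹ = ff F.toFrame i' j' := by
  have h0 : m0 i ≠ m0 j := fun h => hij (m0_inj h)
  have h1 := FinalGen.Compl.conj_ε F m (S := {m0 i, m0 j}) (by rw [Finset.card_pair h0]; decide)
  unfold ff
  rw [h1, Finset.smul_finset_insert, Finset.smul_finset_singleton]
  have h2 : (m : Equiv.Perm GolayPt) • m0 i = m0 i' := hi
  have h3 : (m : Equiv.Perm GolayPt) • m0 j = m0 j' := hj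
  rw [h2, h3]

theorem phi_z {m : M24} {i : Fin 6} (h : (m : Equiv.Perm GolayPt) • tet 0 = tet i) : F.φ m * F.z = F.z * F.φ m := by
  have h1 := FinalGen.Compl.conj_ε F m (S := tet 0) (by rw [card_tet]; decide)
  rw [h, F.ε_tet, F.ε_tet] at h1
  calc F.φ m * F.z = F.φ m * F.z * (F.φ m)⁻¹ * F.φ m := by group
    _ = F.z * F.φ m := by rw [h1]

theorem phi_inj : Function.Injective F.φ := by
  intro g h hgh
  have h1 : (⟨F.φ g, F.φ_mem g⟩ : normalizer (F.E hex0 : Set K)) = ⟨F.φ h, F.φ_mem h⟩ := Subtype.ext hgh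
  rw [← F.π_φ g, ← F.π_φ h, h1]

theorem rho3 : F.ρ ^ 3 = 1 := by rw [← F.ρ_order]; exact pow_orderOf_eq_one _

/-- `ρ = φ(w₀)` or `φ(w₀⁻¹)` -/
theorem exists_g : ∃ g : M24, F.φ g = F.ρ ∧ (g = w0 ∨ g = wi) := by
  obtain ⟨g, hg⟩ := F.φ_ρ
  refine ⟨g, hg, ?_⟩
  have h1 := F.ρ_tet ⟨F.φ g, F.φ_mem g⟩ hg
  rw [F.π_φ] at h1
  have h3 : g ^ 3 = 1 := by
    apply phi_inj F
    rw [map_pow, hg, rho3, map_one]
  have hne : g ≠ 1 := by
    rintro rfl
    rw [map_one] at hg
    have := F.ρ_order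
    rw [← hg, orderOf_one] at this
    norm_num at this
  exact eq_w0 h3 hne (fun i => (h1 i).1) fun i => (h1 i).2

theorem wi_eq : wi = w0⁻¹ := (inv_eq_of_mul_eq_one_right w0_mul_wi).symm

theorem comm_g {g m : M24} (hg : g = w0 ∨ g = wi) (h : w0 * m = m * w0) : g * m = m * g := by
  rcases hg with rfl | rfl
  · exact h
  · rw [wi_eq]
    exact (show Commute w0 m from h).inv_left

theorem phi_rho {m : M24} (h : w0 * m = m * w0) : F.φ m * F.ρ = F.ρ * F.φ m := by
  obtain ⟨g, hg, hg'⟩ := exists_g F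
  rw [← hg, ← map_mul, ← map_mul, comm_g hg' h]

theorem rho_ff (i j : Fin 6) (hij : i ≠ j) : F.ρ * ff F.toFrame i j = ff F.toFrame i j * F.ρ := by
  obtain ⟨g, hg, -⟩ := exists_g F
  have h1 := F.ρ_tet ⟨F.φ g, F.φ_mem g⟩ hg
  rw [F.π_φ] at h1
  have h2 := conj_ff F (h1 i).1 (h1 j).1 hij
  rw [hg] at h2
  calc F.ρ * ff F.toFrame i j = F.ρ * ff F.toFrame i j * F.ρ⁻¹ * F.ρ := by group
    _ = _ := by rw [h2]

theorem z_ff (i j : Fin 6) (hij : i ≠ j) : ff F.toFrame i j * F.z = F.z * ff F.toFrame i j :=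
  (F.E_elem _ HexMax.hex0_isHex).2 _ (ff_mem F.toFrame i j hij) _ (F.z_mem_E _ HexMax.hex0_isHex)

theorem m1_tet : (m1 : Equiv.Perm GolayPt) • tet 0 = tet 1 := smul_tet fun c => ⟨_, m1_mog 0 c⟩
theorem m2_tet : (m2 : Equiv.Perm GolayPt) • tet 0 = tet 0 := smul_tet fun c => ⟨_, m2_mog 0 c⟩
theorem m3_tet : (m3 : Equiv.Perm GolayPt) • tet 0 = tet 0 := smul_tet fun c => ⟨_, m3_mog 0 c⟩

/-- the element `φ(m₁)` of `C(z)` -/
noncomputable def y1 : centralizer ({F.z} : Set K) := ⟨F.φ m1, mem_centralizer_singleton_iff.2 (phi_z F m1_tet)⟩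

theorem hp_inj : Function.Injective hp := by
  intro i j h
  revert i j
  decide +kernel

/-- `P(φ(m₁)) ≠ 1` -/
theorem P_y1 : F.P (y1 F) ≠ 1 := by
  intro h
  let d : (i j : Fin 6) → i ≠ j → centralizer ({F.z} : Set K) := fun i j hij =>
    ⟨ff F.toFrame i j, mem_centralizer_singleton_iff.2 (z_ff F i j hij)⟩
  have h03 : (0 : Fin 6) ≠ 3 := by decide
  have h13 : (1 : Fin 6) ≠ 3 := by decide
  have h1 : y1 F * d 0 3 h03 * (y1 F)⁻¹ = d 1 3 h13 := Subtype.ext
    (conj_ff F (m := m1) (i := 0) (j := 3) (i' := 1) (j' := 3) (m1_mog 0 0) (m1_mog 3 0) h03)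
  have h2 := congrArg F.P h1
  rw [map_mul, map_mul, map_inv, h, one_mul, inv_one, mul_one] at h2
  have hm : ∀ i, mog i 0 ∈ tet i := fun i => mem_tet.2 ⟨0, rfl⟩
  have h3 := F.P_ε (d 0 3 h03) 0 3 h03 _ (hm 0) _ (hm 3) rfl
  have h4 := F.P_ε (d 1 3 h13) 1 3 h13 _ (hm 1) _ (hm 3) rfl
  rw [← h2] at h4
  exact absurd (hp_inj ((F.P (d 0 3 h03)).injective (h3.trans h4.symm))) (by decide)

theorem y1_cube : (y1 F) ^ 3 = 1 := by
  apply Subtype.ext
  change (F.φ m1) ^ 3 = 1
  rw [← map_pow, pow_succ, pow_two, m1_cube, map_one]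

end Frame

/-! ### the centralizer of `z` -/

section Cent

variable (C : Cent K)

/-- elements of odd order of `C(z)` have image in `M22` -/
theorem mem22_of_cube {c : centralizer ({C.z} : Set K)} (h : (C.P c) ^ 3 = 1) : C.P c ∈ Spor.M22 := by
  rw [Cfsg.Agent.SporadicA.MathieuRecog.mem_M22_iff]
  rcases KFacts.J4.Easy.P_cases C c with h1 | ⟨h1, h2⟩
  · exact ⟨(P_mem C c).1, h1.1, h1.2⟩
  · exfalso
    have h3 := congrArg (fun g : Equiv.Perm GolayPt => g none) h
    change C.P c (C.P c (C.P c none)) = none at h3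
    rw [h1, h2, h1] at h3
    exact absurd h3 (by decide)

/-- the kernel of `P` -/
theorem card_ker [Finite K] : ¬ 9 ∣ Nat.card C.P.ker := by
  intro h9
  let QC : Subgroup (centralizer ({C.z} : Set K)) := C.Q.subgroupOf _
  have hQle : QC ≤ C.P.ker := fun c hc => P_of_mem_Q C c hc
  have hQc : Nat.card QC = 2 ^ 13 := by
    rw [← C.Q_card]
    exact Nat.card_congr (subgroupOfEquivOfLe C.Q_le).toEquiv
  have h1 : 2 ^ 13 ∣ Nat.card C.P.ker := hQc ▸ card_dvd_of_le hQle
  have h2 : 2 ^ 13 * 9 ∣ Nat.card C.P.ker := Nat.Coprime.mul_dvd_of_dvd_of_dvd (by norm_num) h1 h9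
  have h3 : Nat.card C.P.ker ≤ Nat.card (C.Q × Fin 3) := by
    have hρ3 : C.ρ ^ 3 = 1 := by rw [← C.ρ_order]; exact pow_orderOf_eq_one _
    have hex : ∀ c : C.P.ker, ∃ q : C.Q, ∃ i : Fin 3, ((c : centralizer ({C.z} : Set K)) : K) = q * C.ρ ^ (i : ℕ) := by
      intro c
      obtain ⟨q, hq, i, h⟩ := (C.P_ker c).1 c.2
      exact ⟨⟨q, hq⟩, ⟨i % 3, Nat.mod_lt _ (by norm_num)⟩, by rw [h, pow_red hρ3]⟩
    choose q i hqi using hex
    apply Nat.card_le_card_of_injective (fun c => (q c, i c))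
    intro a b hab
    have h4 : q a = q b := congrArg Prod.fst hab
    have h5 : i a = i b := congrArg Prod.snd hab
    exact Subtype.ext (Subtype.ext (by rw [hqi, hqi, h4, h5]))
  rw [Nat.card_prod, C.Q_card, Nat.card_fin] at h3
  have h4 := Nat.le_of_dvd Nat.card_pos h2
  omega

/-- an element of order 3 with image 1 is conjugate to `ρ` or `ρ⁻¹` -/
theorem conj_of_P_one {c : centralizer ({C.z} : Set K)} (h3 : c ^ 3 = 1) (h1 : c ≠ 1) (hP : C.P c = 1) :
    ∃ g : K, g * c * g⁻¹ = C.ρ ∨ g * c * g⁻¹ = C.ρ⁻¹ := by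
  have hρ3 : C.ρ ^ 3 = 1 := by rw [← C.ρ_order]; exact pow_orderOf_eq_one _
  have hc3 : (c : K) ^ 3 = 1 := congrArg Subtype.val h3
  obtain ⟨q, hq, i, h⟩ := (C.P_ker c).1 hP
  rw [pow_red hρ3] at h
  have hi : i % 3 < 3 := Nat.mod_lt _ (by norm_num)
  interval_cases i % 3
  · exfalso
    rw [pow_zero, mul_one] at h
    apply h1
    apply Subtype.ext
    change (c : K) = 1
    rw [h] at hc3 ⊢
    obtain ⟨n, hn⟩ := KFacts.J4.Easy.Q2 C ⟨q, hq⟩
    have hn' : q ^ 2 ^ n = 1 := congrArg Subtype.val hn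
    have h4 : orderOf q ∣ Nat.gcd (2 ^ n) 3 :=
      Nat.dvd_gcd (orderOf_dvd_of_pow_eq_one hn') (orderOf_dvd_of_pow_eq_one hc3)
    rw [Nat.Coprime.pow_left n (by norm_num)] at h4
    exact orderOf_eq_one_iff.1 (Nat.dvd_one.1 h4)
  · rw [pow_one] at h
    obtain ⟨x, -, hx⟩ := NormRho.exists_conj_rho C hq (by rw [← h]; exact hc3)
    exact ⟨x, Or.inl (by rw [h, hx])⟩
  · have h5 : (c : K)⁻¹ = (C.ρ * q⁻¹ * C.ρ⁻¹) * C.ρ := by
      rw [h, mul_inv_rev]
      have : (C.ρ ^ 2)⁻¹ = C.ρ := by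
        rw [inv_eq_iff_mul_eq_one, ← pow_succ]
        exact hρ3
      rw [this]
      group
    obtain ⟨x, -, hx⟩ := NormRho.exists_conj_rho C (NormRho.rho_mem C (C.Q.inv_mem hq))
      (by rw [← h5, inv_pow, hc3, inv_one])
    refine ⟨x, Or.inr ?_⟩
    rw [← h5] at hx
    rw [← hx]
    group

end Cent

section Conj

variable (F : J4Type.Compl K)

/-- `ρ ^ i y₁` is conjugate to `ρ` or `ρ⁻¹` -/
theorem conj_rho_y (i : ℕ) (hi : i < 3) : ∃ g : K, g * (F.ρ ^ i * y1 F) * g⁻¹ = F.ρ ∨ g * (F.ρ ^ i * y1 F) * g⁻¹ = F.ρ⁻¹ := by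
  obtain ⟨g0, hg0, hg⟩ := exists_g F
  have hww : w0 * w0 = wi := by
    rw [wi_eq]
    exact eq_inv_of_mul_eq_one_left w0_cube
  have hwi : wi * wi = w0 := by
    rw [wi_eq, ← mul_inv_rev, hww, wi_eq, inv_inv]
  have h1 : ∃ g : M24, g * (g0 ^ i * m1) * g⁻¹ = w0 := by
    have key : ∀ k x : M24, k * w0 = x * k → ∃ g : M24, g * x * g⁻¹ = w0 := fun k x h => ⟨k⁻¹, by
      calc k⁻¹ * x * k⁻¹⁻¹ = k⁻¹ * (x * k) := by group
        _ = w0 := by rw [← h]; group⟩
    rcases hg with rfl | rfl <;> interval_cases i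
    · rw [pow_zero, one_mul]; exact key k0 _ k0_conj
    · rw [pow_one]; exact key k1 _ k1_conj
    · rw [pow_two]; exact key k2 _ k2_conj
    · rw [pow_zero, one_mul]; exact key k0 _ k0_conj
    · rw [pow_one, ← hww]; exact key k2 _ k2_conj
    · rw [pow_two, hwi]; exact key k1 _ k1_conj
  obtain ⟨g, h2⟩ := h1
  refine ⟨F.φ g, ?_⟩
  have h3 : F.φ g * (F.ρ ^ i * y1 F) * (F.φ g)⁻¹ = F.φ w0 := by
    rw [← h2, map_mul, map_mul, map_mul, map_inv, map_pow, hg0]
    rfl
  rw [h3]
  rcases hg with rfl | rfl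
  · exact Or.inl hg0
  · right
    rw [← hg0, wi_eq, map_inv, inv_inv]

/-- the elements of order 3 of `C(z)` -/
theorem conj_cent [Finite K] {c : centralizer ({F.z} : Set K)} (h3 : c ^ 3 = 1) (h1 : c ≠ 1) :
    ∃ g : K, g * c * g⁻¹ = F.ρ ∨ g * c * g⁻¹ = F.ρ⁻¹ := by
  by_cases hP : F.P c = 1
  · exact conj_of_P_one F.toCent h3 h1 hP
  have hc3 : (F.P c) ^ 3 = 1 := by rw [← map_pow, h3, map_one]
  have hy3 : (F.P (y1 F)) ^ 3 = 1 := by rw [← map_pow, y1_cube, map_one]
  obtain ⟨v, hv, hv'⟩ := exists_conj_s (mem22_of_cube F.toCent hc3) hc3 hP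
  obtain ⟨w, hw, hw'⟩ := exists_conj_s (mem22_of_cube F.toCent hy3) hy3 (P_y1 F)
  have hwv : w⁻¹ * v ∈ F.P.range := by
    rw [F.P_range]
    have h4 := (Cfsg.Agent.SporadicA.MathieuRecog.mem_M22_iff _).1 (Spor.M22.mul_mem (Spor.M22.inv_mem hw) hv)
    refine ⟨h4.1, ?_⟩
    change (w⁻¹ * v) • base = base
    rw [base, Finset.smul_finset_insert, Finset.smul_finset_singleton]
    change ({(w⁻¹ * v) none, (w⁻¹ * v) (some 0)} : Finset GolayPt) = _
    rw [h4.2.1, h4.2.2]
  obtain ⟨d, hd⟩ := hwv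
  let c' := d * c * d⁻¹
  have hPc' : F.P c' = F.P (y1 F) := by
    change F.P (d * c * d⁻¹) = _
    rw [map_mul, map_mul, map_inv, hd]
    calc w⁻¹ * v * F.P c * (w⁻¹ * v)⁻¹ = w⁻¹ * (v * F.P c * v⁻¹) * w := by group
      _ = w⁻¹ * (w * F.P (y1 F) * w⁻¹) * w := by rw [hv', hw']
      _ = F.P (y1 F) := by group
  have hc'3 : c' ^ 3 = 1 := by
    change (d * c * d⁻¹) ^ 3 = 1
    rw [conj_pow, h3, mul_one, mul_inv_cancel]
  -- the group `B`
  let B : Subgroup (centralizer ({F.z} : Set K)) := (zpowers (F.P (y1 F))).comap F.P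
  have hB27 : ¬ 27 ∣ Nat.card B := by
    intro h27
    let f : B →* Equiv.Perm GolayPt := F.P.comp B.subtype
    have h4 : Nat.card B = Nat.card f.ker * Nat.card f.range := by
      rw [← card_mul_index f.ker, index_ker]
    have h5 : Nat.card f.range ∣ 3 := by
      have h6 : f.range ≤ zpowers (F.P (y1 F)) := by
        rintro _ ⟨b, rfl⟩
        exact b.2
      have h7 := card_dvd_of_le h6
      rw [Nat.card_zpowers] at h7
      exact h7.trans (orderOf_dvd_of_pow_eq_one hy3)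
    have h6 : Nat.card f.ker ∣ Nat.card F.P.ker := by
      have h7 : f.ker.map B.subtype ≤ F.P.ker := by
        rintro _ ⟨b, hb, rfl⟩
        exact hb
      have h8 := card_dvd_of_le h7
      rwa [card_map_of_injective (subtype_injective B)] at h8
    have h7 : 9 * 3 ∣ Nat.card F.P.ker * 3 := by
      have h8 : Nat.card B ∣ Nat.card F.P.ker * 3 := h4 ▸ Nat.mul_dvd_mul h6 h5
      exact h27.trans h8
    exact card_ker F.toCent (Nat.dvd_of_mul_dvd_mul_right (by norm_num) h7)
  have hρC : F.ρ ∈ centralizer ({F.z} : Set K) := mem_centralizer_singleton_iff.2 F.ρ_comm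
  have hPρ : F.P ⟨F.ρ, hρC⟩ = 1 := (F.P_ker _).2 ⟨1, F.Q.one_mem, 1, by rw [one_mul, pow_one]⟩
  have hρB : (⟨F.ρ, hρC⟩ : centralizer ({F.z} : Set K)) ∈ B := by
    change F.P _ ∈ zpowers _
    rw [hPρ]; exact one_mem _
  have hyB : y1 F ∈ B := mem_zpowers _
  have hcB : c' ∈ B := by
    change F.P _ ∈ zpowers _
    rw [hPc']; exact mem_zpowers _
  have hρ1 : F.ρ ≠ 1 := by
    intro h
    have h4 := F.ρ_order
    rw [h, orderOf_one] at h4
    norm_num at h4
  obtain ⟨g, i, hi, j, hj, hg⟩ := exists_pow (G := B) (a := ⟨⟨F.ρ, hρC⟩, hρB⟩) (b := ⟨y1 F, hyB⟩) (x := ⟨c', hcB⟩)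
    (Subtype.ext (Subtype.ext (rho3 F))) (Subtype.ext (y1_cube F))
    (Subtype.ext (Subtype.ext (phi_rho F comm1).symm))
    (fun h => hρ1 (congrArg (fun b : B => ((b : centralizer ({F.z} : Set K)) : K)) h))
    (fun h => P_y1 F (by
      have h4 : y1 F = 1 := congrArg Subtype.val h
      rw [h4, map_one]))
    (fun h => P_y1 F (by
      have h4 : y1 F = ⟨F.ρ, hρC⟩ := congrArg Subtype.val h
      rw [h4, hPρ]))
    (fun h => P_y1 F (by
      have h4 : y1 F = ⟨F.ρ, hρC⟩ ^ 2 := congrArg Subtype.val h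
      rw [h4, map_pow, hPρ, one_pow]))
    hB27 (Subtype.ext hc'3)
  have hg' : (g : centralizer ({F.z} : Set K)) * c' * (g : centralizer ({F.z} : Set K))⁻¹ = ⟨F.ρ, hρC⟩ ^ i * y1 F ^ j :=
    congrArg Subtype.val hg
  have hj1 : j = 1 := by
    have h4 : F.P g * F.P c' * (F.P g)⁻¹ = (F.P ⟨F.ρ, hρC⟩) ^ i * (F.P (y1 F)) ^ j := by
      rw [← map_inv, ← map_mul, ← map_mul, ← map_pow, ← map_pow, ← map_mul, hg']
    rw [hPρ, one_pow, one_mul, hPc'] at h4
    obtain ⟨n, hn⟩ := mem_zpowers_iff.1 g.2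
    have h5 : F.P g * F.P (y1 F) * (F.P g)⁻¹ = F.P (y1 F) := by
      have h6 : Commute (F.P g) (F.P (y1 F)) := by
        rw [← hn]
        exact (Commute.refl _).zpow_left n
      rw [h6.eq, mul_inv_cancel_right]
    rw [h5] at h4
    interval_cases j
    · rw [pow_zero] at h4
      exact absurd h4 (P_y1 F)
    · rfl
    · exfalso
      apply P_y1 F
      rw [pow_two] at h4
      exact (mul_eq_left.1 h4.symm)
  subst hj1
  rw [pow_one] at hg'
  obtain ⟨k, hk⟩ := conj_rho_y F i hi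
  have h4 : ((g : centralizer ({F.z} : Set K)) : K) * (d * c * (d : K)⁻¹) * ((g : centralizer ({F.z} : Set K)) : K)⁻¹ =
    F.ρ ^ i * y1 F := congrArg Subtype.val hg'
  have h5 : k * ((g : centralizer ({F.z} : Set K)) : K) * d * c * (k * ((g : centralizer ({F.z} : Set K)) : K) * d)⁻¹ =
      k * (F.ρ ^ i * y1 F) * k⁻¹ := by
    rw [← h4]
    group
  exact ⟨k * ((g : centralizer ({F.z} : Set K)) : K) * d, by rw [h5]; exact hk⟩

/-- **one class of subgroups of order 3** -/
theorem conj_rho [Finite K] (hi : ¬ 3 ∣ (centralizer ({F.z} : Set K)).index) {x : K} (hx : orderOf x = 3) :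
    ∃ g : K, g * x * g⁻¹ = F.ρ ∨ g * x * g⁻¹ = F.ρ⁻¹ := by
  have : Fact (Nat.Prime 3) := ⟨Nat.prime_three⟩
  have hX : IsPGroup 3 (zpowers x) := IsPGroup.of_card (n := 1) (by rw [Nat.card_zpowers, hx, pow_one])
  obtain ⟨q, hq⟩ := hX.nonempty_fixed_point_of_prime_not_dvd_card (K ⧸ centralizer ({F.z} : Set K)) hi
  obtain ⟨g, rfl⟩ := QuotientGroup.mk_surjective q
  have h1 : (⟨x, mem_zpowers x⟩ : zpowers x) • (QuotientGroup.mk g : K ⧸ centralizer ({F.z} : Set K)) =
    QuotientGroup.mk g := hq ⟨x, mem_zpowers x⟩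
  have h2 : (QuotientGroup.mk (x * g) : K ⧸ centralizer ({F.z} : Set K)) = QuotientGroup.mk g := h1
  rw [QuotientGroup.eq] at h2
  have h3 : g⁻¹ * x * g ∈ centralizer ({F.z} : Set K) := by
    have h4 := inv_mem h2
    have h5 : ((x * g)⁻¹ * g)⁻¹ = g⁻¹ * x * g := by group
    rwa [h5] at h4
  have hx3 : x ^ 3 = 1 := by rw [← hx]; exact pow_orderOf_eq_one x
  obtain ⟨k, hk⟩ := conj_cent F (c := ⟨g⁻¹ * x * g, h3⟩) (Subtype.ext (by
      change (g⁻¹ * x * g) ^ 3 = 1
      have h4 : g⁻¹ * x * g = g⁻¹ * x * g⁻¹⁻¹ := by group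
      rw [h4, conj_pow, hx3]; group))
    (fun h => by
      have h4 : g⁻¹ * x * g = 1 := congrArg Subtype.val h
      have h5 : x = 1 := by
        calc x = g * (g⁻¹ * x * g) * g⁻¹ := by group
          _ = 1 := by rw [h4]; group
      rw [h5, orderOf_one] at hx
      norm_num at hx)
  refine ⟨k * g⁻¹, ?_⟩
  have h4 : k * g⁻¹ * x * (k * g⁻¹)⁻¹ = k * (g⁻¹ * x * g) * k⁻¹ := by group
  rw [h4]
  exact hk

end Conj

end Cfsg.Agent.BpSpor.J4

end

-- merged: Cfsg.Agent.BpSpor.CoreZ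
section

/-!
# S1332, sporadic rows: the `p'`-core of a group with an involution centralizer of type `2.p.S` (helper26)

`core_le` : `H` finite, `ρ` central of order `p` (odd), `z` an involution, `f : C_H(z) → S` onto a simple group of order
divisible by `p` with kernel contained in `⟨z, ρ⟩`, `z` in the commutator subgroup of `C_H(z)`; `|S|` divides no
`r ^ M * ∏ (r ^ d - r ^ i)` with `r ^ d ∣ |H|`, `r ≠ 2, p`. Then `O_{p'}(H) ≤ ⟨z⟩`, and `H` is good.
-/

set_option autoImplicit false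
set_option linter.style.haveILetI false

namespace Cfsg.Agent.BpSpor

open Subgroup Cfsg Cfsg.Agent.Lib Cfsg.Agent.BpTab

universe u v

theorem mem_zpowers_two {H : Type*} [Group H] {z : H} (hz : orderOf z = 2) : ∀ y, y ∈ zpowers z → y = 1 ∨ y = z := by
  have hz2 : z * z = 1 := by rw [← pow_two, ← hz]; exact pow_orderOf_eq_one z
  intro y hy
  obtain ⟨k, rfl⟩ := mem_zpowers_iff.1 hy
  rcases Int.even_or_odd' k with ⟨m, rfl | rfl⟩
  · left
    rw [zpow_mul]
    have : z ^ (2 : ℤ) = 1 := by exact_mod_cast (by rw [pow_two]; exact hz2 : z ^ 2 = 1)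
    rw [this, one_zpow]
  · right
    rw [zpow_add, zpow_mul, zpow_one]
    have : z ^ (2 : ℤ) = 1 := by exact_mod_cast (by rw [pow_two]; exact hz2 : z ^ 2 = 1)
    rw [this, one_zpow, one_mul]

/-- `V = W ⟨z⟩` with `C_W(z) ≤ ⟨z⟩` is solvable -/
theorem isSolvable_of_cent_le {H : Type u} [Group H] [Finite H]
    (FT : ∀ (K : Type u) [Group K] [Finite K], Odd (Nat.card K) → Group.IsSolvable K)
    {z : H} (hz : orderOf z = 2) (W : Subgroup H) [W.Normal]
    (hC : ∀ w ∈ W, w * z = z * w → w ∈ zpowers z) : Group.IsSolvable ↥W := by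
  have hz2 : z * z = 1 := by rw [← pow_two, ← hz]; exact pow_orderOf_eq_one z
  have hz1 : z ≠ 1 := by
    rintro rfl
    rw [orderOf_one] at hz
    norm_num at hz
  have hzp : ∀ y, y ∈ zpowers z → y = 1 ∨ y = z := mem_zpowers_two hz
  let V : Subgroup H := W ⊔ zpowers z
  have hzV : z ∈ V := (le_sup_right : zpowers z ≤ V) (mem_zpowers z)
  -- the elements of `V` commuting with `z`
  have hVc : ∀ t ∈ V, t * z = z * t → t = 1 ∨ t = z := by
    intro t ht htz
    obtain ⟨w, hw, y, hy, rfl⟩ := Subgroup.mem_sup_of_normal_left.1 ht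
    have hyz : y * z = z * y := by
      rcases hzp y hy with rfl | rfl
      · rw [one_mul, mul_one]
      · rfl
    have hwz : w * z = z * w := by
      have h1 : w * z * y = z * w * y := by
        calc w * z * y = w * (z * y) := by rw [mul_assoc]
          _ = w * y * z := by rw [← hyz, mul_assoc]
          _ = z * w * y := by rw [htz, mul_assoc]
      exact mul_right_cancel h1
    exact hzp _ ((zpowers z).mul_mem (hC w hw hwz) hy)
  have hs : Group.IsSolvable ↥V := by
    refine CpAutJ4.isSolvable_of_isolated FT (⟨z, hzV⟩ : ↥V) (by rw [Subgroup.orderOf_mk, hz]) ?_ ?_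
    · intro t ht htz
      rcases hVc t t.2 (congrArg Subtype.val htz) with h | h
      · exfalso
        have h1 : t = 1 := Subtype.ext h
        rw [h1, orderOf_one] at ht
        norm_num at ht
      · exact Subtype.ext h
    · apply Group.isSolvable_of_comm
      rintro ⟨a, ha⟩ ⟨b, hb⟩
      apply Subtype.ext
      have ha' := congrArg Subtype.val (mem_centralizer_singleton_iff.1 ha)
      have hb' := congrArg Subtype.val (mem_centralizer_singleton_iff.1 hb)
      apply Subtype.ext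
      change (a : H) * b = b * a
      rcases hVc a a.2 ha' with h | h <;> rcases hVc b b.2 hb' with h' | h' <;> rw [h, h'] <;> group
  exact Group.isSolvable_of_isSolvable_injective (f := Subgroup.inclusion (le_sup_left : W ≤ V))
    (Subgroup.inclusion_injective _)

/-- **the `p'`-core** -/
theorem core_le {H : Type u} [Group H] [Finite H]
    (FT : ∀ (K : Type u) [Group K] [Finite K], Odd (Nat.card K) → Group.IsSolvable K)
    {p : ℕ} (hp : p.Prime) (hp2 : p ≠ 2) {z ρ : H} (hz : orderOf z = 2) (hρ : ρ ^ p = 1) (hρc : ρ ∈ center H)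
    {S : Type v} [Group S] [Finite S] [IsSimpleGroup S] (hpS : p ∣ Nat.card S)
    (f : ↥(centralizer ({z} : Set H)) →* S) (hf : Function.Surjective f)
    (hker : ∀ c, f c = 1 → ∃ i j : ℕ, (c : H) = z ^ i * ρ ^ j)
    (hzz : (⟨z, mem_centralizer_singleton_iff.2 rfl⟩ : ↥(centralizer ({z} : Set H))) ∈
      commutator ↥(centralizer ({z} : Set H)))
    (hord : ∀ r k : ℕ, r.Prime → r ≠ 2 → r ≠ p → r ^ k ∣ Nat.card H → ∀ d ≤ k, ∀ M,
      ¬ Nat.card S ∣ r ^ M * ∏ i : Fin d, (r ^ d - r ^ (i : ℕ))) :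
    ∀ w ∈ pPrimeCore p H, w ∈ zpowers z := by
  have hz2 : z * z = 1 := by rw [← pow_two, ← hz]; exact pow_orderOf_eq_one z
  have hz1 : z ≠ 1 := by
    rintro rfl
    rw [orderOf_one] at hz
    norm_num at hz
  have hρg : ∀ g : H, g * ρ = ρ * g := fun g => mem_center_iff.1 hρc g
  set W := pPrimeCore p H with hWdef
  have hWn : W.Normal := Cores.pPrimeCore_normal p
  have hWp : (Nat.card W).Coprime p := Cores.pPrimeCore_coprime p
  let C : Subgroup H := centralizer ({z} : Set H)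
  -- `C_W(z) ≤ ⟨z⟩`
  have hCW : ∀ w ∈ W, w * z = z * w → w ∈ zpowers z := by
    intro w hw hwz
    have hwC : w ∈ C := mem_centralizer_singleton_iff.2 hwz
    have hn : ((W.subgroupOf C).map f).Normal := (hWn.subgroupOf C).map f hf
    have hbot : (W.subgroupOf C).map f = ⊥ := by
      rcases hn.eq_bot_or_eq_top with h | h
      · exact h
      · exfalso
        have h1 : p ∣ Nat.card ((W.subgroupOf C).map f) := by rw [h, Subgroup.card_top]; exact hpS
        have h2 : Nat.card ((W.subgroupOf C).map f) ∣ Nat.card (W.subgroupOf C) := Subgroup.card_map_dvd _ _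
        have h3 : Nat.card (W.subgroupOf C) ∣ Nat.card W := by
          rw [← Subgroup.card_map_of_injective (Subgroup.subtype_injective C), Subgroup.subgroupOf_map_subtype]
          exact Subgroup.card_dvd_of_le inf_le_left
        have h4 : p ∣ Nat.gcd (Nat.card W) p := Nat.dvd_gcd ((h1.trans h2).trans h3) dvd_rfl
        rw [hWp] at h4
        exact hp.one_lt.ne' (Nat.dvd_one.1 h4)
    have h1 : f ⟨w, hwC⟩ = 1 := by
      have h2 : f ⟨w, hwC⟩ ∈ (W.subgroupOf C).map f := ⟨_, hw, rfl⟩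
      rw [hbot] at h2
      exact h2
    obtain ⟨i, j, h2⟩ := hker _ h1
    change w = z ^ i * ρ ^ j at h2
    -- `ρ ^ j = 1`
    have hc : Commute (z ^ i) (ρ ^ j) := (show Commute z ρ from hρg z).pow_pow i j
    have h3 : w ^ 2 = ρ ^ (2 * j) := by
      rw [h2, hc.mul_pow, ← pow_mul, ← pow_mul, mul_comm i 2, pow_mul z, pow_two z, hz2, one_pow, one_mul, mul_comm j 2]
    have h4 : ρ ^ (2 * j) = 1 := by
      have h5 : orderOf (ρ ^ (2 * j)) ∣ p := by
        apply orderOf_dvd_of_pow_eq_one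
        rw [← pow_mul, mul_comm, pow_mul, hρ, one_pow]
      have h6 : orderOf (ρ ^ (2 * j)) ∣ Nat.card W := by
        have h7 : ρ ^ (2 * j) ∈ W := by rw [← h3]; exact W.pow_mem hw 2
        have h8 := orderOf_dvd_natCard (⟨_, h7⟩ : W)
        rwa [Subgroup.orderOf_mk] at h8
      have h7 := Nat.dvd_gcd h6 h5
      rw [hWp] at h7
      exact orderOf_eq_one_iff.1 (Nat.dvd_one.1 h7)
    have h5 : ρ ^ j = 1 := by
      obtain ⟨m, hm⟩ := hp.eq_two_or_odd'.resolve_left hp2
      have h6 : ρ ^ (p * j) = 1 := by rw [pow_mul, hρ, one_pow]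
      have h7 : ρ ^ (p * j) = (ρ ^ (2 * j)) ^ m * ρ ^ j := by
        rw [← pow_mul, ← pow_add]
        congr 1
        rw [hm]; ring
      rw [h7, h4, one_pow, one_mul] at h6
      exact h6
    rw [h2, h5, mul_one]
    exact (zpowers z).pow_mem (mem_zpowers z) i
  intro w0 hw0
  by_contra hw0z
  have hsW : Group.IsSolvable ↥W := isSolvable_of_cent_le FT hz W hCW
  -- `z` is not central
  have hnc : ∃ g : H, g * z ≠ z * g := by
    by_contra hcon
    push Not at hcon
    exact hw0z (hCW w0 hw0 (hcon w0))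
  have hnt : Nontrivial ↥W := ⟨⟨⟨w0, hw0⟩, 1, fun h => hw0z (by
    have h1 : w0 = 1 := congrArg Subtype.val h
    rw [h1]; exact (zpowers z).one_mem)⟩⟩
  have hzp : ∀ y, y ∈ zpowers z → y = 1 ∨ y = z := mem_zpowers_two hz
  -- an abelian normal `r`-subgroup
  obtain ⟨A, hAc, hAm, hA⟩ := SolvableNormalP.exists_comm_characteristic ↥W
  haveI := hAc
  let AH : Subgroup H := A.map W.subtype
  haveI hAHn : AH.Normal := inferInstanceAs (A.map W.subtype).Normal
  have hAHW : AH ≤ W := Subgroup.map_subtype_le _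
  have hAHc : ∀ x y : AH, x * y = y * x := by
    rintro ⟨_, x, hx, rfl⟩ ⟨_, y, hy, rfl⟩
    apply Subtype.ext
    exact congrArg (fun a : A => ((a : ↥W) : H)) (hAm.is_comm.comm ⟨x, hx⟩ ⟨y, hy⟩)
  have hAH1 : AH ≠ ⊥ := by
    intro h
    apply hA
    exact (Subgroup.map_eq_bot_iff_of_injective _ (Subgroup.subtype_injective W)).1 h
  have hcard : Nat.card AH ≠ 1 := by
    rw [Ne, Subgroup.card_eq_one]; exact hAH1
  obtain ⟨r, hr, hrd⟩ := Nat.exists_prime_and_dvd hcard
  have : Fact r.Prime := ⟨hr⟩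
  obtain ⟨P⟩ : Nonempty (Sylow r AH) := inferInstance
  have hPn : (P : Subgroup AH).Normal := ⟨fun n hn g => by rwa [hAHc g n, mul_inv_cancel_right]⟩
  haveI hPc : (P : Subgroup AH).Characteristic := P.characteristic_of_normal hPn
  have hP1 : (P : Subgroup AH) ≠ ⊥ := P.ne_bot_of_dvd_card hrd
  let N : Subgroup H := (P : Subgroup AH).map AH.subtype
  haveI hNn : N.Normal := inferInstanceAs ((P : Subgroup AH).map AH.subtype).Normal
  have hNA : N ≤ AH := Subgroup.map_subtype_le _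
  have hNW : N ≤ W := hNA.trans hAHW
  have hNc : ∀ x ∈ N, ∀ y ∈ N, x * y = y * x := fun x hx y hy =>
    congrArg Subtype.val (hAHc ⟨x, hNA hx⟩ ⟨y, hNA hy⟩)
  have hN1 : N ≠ ⊥ := by
    intro h
    apply hP1
    exact (Subgroup.map_eq_bot_iff_of_injective _ (Subgroup.subtype_injective AH)).1 h
  have hNr : IsPGroup r ↥N := P.2.map _
  obtain ⟨k, hk⟩ := hNr.exists_card_eq
  have hk1 : 1 ≤ k := by
    by_contra hcon
    obtain rfl : k = 0 := by omega
    rw [pow_zero, Subgroup.card_eq_one] at hk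
    exact hN1 hk
  -- `z ∉ N`
  have hzN : z ∉ N := by
    intro hzN
    obtain ⟨g, hg⟩ := hnc
    apply hg
    have h1 : g * z * g⁻¹ ∈ N := hNn.conj_mem z hzN g
    rcases hzp _ (hCW _ (hNW h1) (hNc _ h1 z hzN)) with h2 | h2
    · exfalso
      apply hz1
      calc z = g⁻¹ * (g * z * g⁻¹) * g := by group
        _ = 1 := by rw [h2]; group
    · calc g * z = g * z * g⁻¹ * g := by group
        _ = z * g := by rw [h2]
  -- `C_N(z) = 1`
  have hCN : ∀ x ∈ N, x * z = z * x → x = 1 := by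
    intro x hx hxz
    rcases hzp _ (hCW x (hNW hx) hxz) with h | h
    · exact h
    · exact absurd (h ▸ hx) hzN
  have hr2 : r ≠ 2 := by
    rintro rfl
    have h1 := CpAutJ4.card_fix hz (N : Set H) (fun a ha => hNn.conj_mem a ha z)
    have h2 : Nat.card {a : H // a ∈ (N : Set H) ∧ z * a = a * z} = 1 := by
      rw [Nat.card_eq_one_iff_unique]
      refine ⟨⟨fun a b => Subtype.ext ?_⟩, ⟨⟨1, N.one_mem, by rw [mul_one, one_mul]⟩⟩⟩
      rw [hCN a a.2.1 a.2.2.symm, hCN b b.2.1 b.2.2.symm]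
    rw [h2] at h1
    have h3 : Nat.card ↥(N : Set H) = 2 ^ k := hk
    rw [h3] at h1
    have h4 : 2 ∣ 2 ^ k := dvd_pow_self 2 (by omega)
    have h5 := (Nat.modEq_zero_iff_dvd.2 h4).symm.trans h1
    exact absurd h5 (by decide)
  have hrp : r ≠ p := by
    rintro rfl
    have h1 : r ∣ Nat.card W := hrd.trans (Subgroup.card_dvd_of_le hAHW)
    have h4 : r ∣ Nat.gcd (Nat.card W) r := Nat.dvd_gcd h1 dvd_rfl
    rw [hWp] at h4
    exact hp.one_lt.ne' (Nat.dvd_one.1 h4)
  -- the action of `C` on `N`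
  let α : ↥C →* MulAut ↥N := MulAut.conjNormal.comp C.subtype
  have hα : ∀ (c : ↥C) (x : ↥N), ((α c x : ↥N) : H) = (c : H) * x * (c : H)⁻¹ := fun c x => MulAut.conjNormal_apply _ _
  let zC : ↥C := ⟨z, mem_centralizer_singleton_iff.2 rfl⟩
  have hzα : α zC ≠ 1 := by
    intro h
    apply hN1
    rw [eq_bot_iff]
    intro x hx
    rw [Subgroup.mem_bot]
    apply hCN x hx
    have h1 := hα zC ⟨x, hx⟩
    rw [h] at h1
    change x = z * x * z⁻¹ at h1
    calc x * z = z * x * z⁻¹ * z := by rw [← h1]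
      _ = z * x := by group
  have hKn : (α.ker.map f).Normal := α.normal_ker.map f hf
  rcases hKn.eq_bot_or_eq_top with hbot | htop
  · -- `|S|` divides `|MulAut N|`
    have hle : α.ker ≤ f.ker := by
      intro c hc
      have h1 : f c ∈ α.ker.map f := Subgroup.mem_map_of_mem f hc
      rw [hbot] at h1
      exact h1
    have h1 : f.ker.index ∣ α.ker.index := Subgroup.index_dvd_of_le hle
    have h2 : f.ker.index = Nat.card S := by
      rw [Subgroup.index_ker, MonoidHom.range_eq_top.2 hf, Subgroup.card_top]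
    have h3 : α.ker.index ∣ Nat.card (MulAut ↥N) := by
      rw [Subgroup.index_ker]
      exact Subgroup.card_subgroup_dvd_card _
    obtain ⟨d, M, hdk, -, hM⟩ := card_mulAut_dvd hNr hk
    refine hord r k hr hr2 hrp ?_ d hdk M ?_
    · rw [← hk]; exact Subgroup.card_subgroup_dvd_card _
    · rw [← h2]
      exact (h1.trans h3).trans hM
  · -- `C = K₀ ⟨z, ρ⟩`
    have hdec : ∀ c : ↥C, ∃ u : ↥C, (∀ v : ↥C, u * v = v * u) ∧ α c = α u := by
      intro c
      have h1 : f c ∈ α.ker.map f := htop ▸ Subgroup.mem_top _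
      obtain ⟨k0, hk0, h2⟩ := h1
      have h3 : f (c * k0⁻¹) = 1 := by rw [map_mul, map_inv, h2, mul_inv_cancel]
      obtain ⟨i, j, h4⟩ := hker _ h3
      refine ⟨c * k0⁻¹, ?_, ?_⟩
      · intro v
        apply Subtype.ext
        change ((c * k0⁻¹ : ↥C) : H) * v = v * ((c * k0⁻¹ : ↥C) : H)
        rw [h4]
        have hv : Commute z (v : H) := (mem_centralizer_singleton_iff.1 v.2).symm
        have hv2 : Commute ρ (v : H) := (hρg v).symm
        exact ((hv.pow_left i).mul_left (hv2.pow_left j)).eq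
      · rw [map_mul, map_inv, MonoidHom.mem_ker.1 hk0, inv_one, mul_one]
    have hle : commutator ↥C ≤ α.ker := by
      rw [_root_.commutator_def, Subgroup.commutator_le]
      intro c1 _ c2 _
      obtain ⟨u1, hu1, h1⟩ := hdec c1
      obtain ⟨u2, hu2, h2⟩ := hdec c2
      rw [MonoidHom.mem_ker, map_commutatorElement, h1, h2, ← map_commutatorElement,
        commutatorElement_eq_one_iff_mul_comm.2 (hu1 u2), map_one]
    exact hzα (hle hzz)

/-- **the conclusion** -/
theorem good_of_core_le {H : Type u} [Group H] [Finite H] {p : ℕ} {z : H} (hz : orderOf z = 2)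
    (h : ∀ w ∈ pPrimeCore p H, w ∈ zpowers z) : Good p H := by
  have hWn : (pPrimeCore p H).Normal := Cores.pPrimeCore_normal p
  have hWc : pPrimeCore p H ≤ center H := by
    intro w hw
    rw [mem_center_iff]
    intro g
    have h1 : g * w * g⁻¹ ∈ pPrimeCore p H := hWn.conj_mem w hw g
    rcases mem_zpowers_two hz _ (h _ hw) with rfl | rfl
    · rw [mul_one, one_mul]
    · rcases mem_zpowers_two hz _ (h _ h1) with h2 | h2
      · have h3 : w = 1 := by
          calc w = g⁻¹ * (g * w * g⁻¹) * g := by group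
            _ = 1 := by rw [h2]; group
        rw [h3, mul_one, one_mul]
      · calc g * w = g * w * g⁻¹ * g := by group
          _ = w * g := by rw [h2]
  unfold Good
  exact commutator_eq_bot_iff_le_centralizer.2 (le_centralizer_iff.1 (hWc.trans (center_le_centralizer _)))

end Cfsg.Agent.BpSpor

end

-- merged: Cfsg.Agent.UniqSheet.J4
section

/-!
# S1808, the row `J₄` (helper87)

`nun` : no normalizer of a Sylow 2-subgroup of `J₄` lies in exactly one maximal 2-local subgroup;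
`C(z) = 2¹⁺¹².3.M₂₂:2` and `N(E) = 2¹¹:M₂₄`.
-/

set_option autoImplicit false

namespace Cfsg.Agent.UniqSheet.J4

open Subgroup Cfsg Cfsg.Agent.J4Type Cfsg.Agent.KFacts.J4 Cfsg.Agent.KFacts.J4.Base Cfsg.Agent.UniqLoc
open Cfsg.Agent.SporadicA.OctadFix
open scoped Pointwise

variable {K : Type*} [Group K]

/-- `O₂(C(z)) = Q` -/
theorem rmax [Finite K] (F : Full K) {B : Subgroup K} (hB2 : IsPGroup 2 B)
    (hB : B ≤ centralizer ({F.C.z} : Set K))
    (hn : ∀ x ∈ centralizer ({F.C.z} : Set K), ∀ b ∈ B, x * b * x⁻¹ ∈ B) : B ≤ F.C.Q := by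
  have h1 : B ⊓ MM F.C.toCent ≤ F.C.Q := by
    refine AutP.rmax inf_le_right (hB2.to_le inf_le_left) fun x hx b hb => ?_
    exact ⟨hn x (MM_le _ hx) b hb.1, (MM F.C.toCent).mul_mem ((MM F.C.toCent).mul_mem hx hb.2)
      ((MM F.C.toCent).inv_mem hx)⟩
  intro b hb
  have hbC := hB hb
  have h2 : F.C.P ⟨b, hbC⟩ = 1 := by
    apply Aut22.eq_one_of_centralizes (PreHexA.P_mem _)
    intro m
    obtain ⟨y, rfl⟩ := AutP.pi_surjective F.C.toCent m
    have h2 : (y : K)⁻¹ * (b * y * b⁻¹) ∈ F.C.Q := by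
      apply h1
      constructor
      · have h3 := hn (y : K)⁻¹ (inv_mem (MM_le _ y.2)) b hb
        have h4 : (y : K)⁻¹ * (b * y * b⁻¹) = ((y : K)⁻¹ * b * (y : K)⁻¹⁻¹) * b⁻¹ := by group
        rw [h4]
        exact B.mul_mem h3 (B.inv_mem hb)
      · exact (MM F.C.toCent).mul_mem ((MM F.C.toCent).inv_mem y.2)
          (conj_mem (mem_centralizer_singleton_iff.1 hbC) y.2)
    have h3 : F.C.P (⟨y, MM_le _ y.2⟩⁻¹ * (⟨b, hbC⟩ * ⟨y, MM_le _ y.2⟩ * ⟨b, hbC⟩⁻¹)) = 1 :=
      (F.C.P_ker _).2 ⟨_, h2, 0, by rw [pow_zero, mul_one]; rfl⟩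
    rw [map_mul, map_mul, map_mul, map_inv, map_inv, inv_mul_eq_one] at h3
    exact h3.symm
  obtain ⟨q, hq, i, h3⟩ := (F.C.P_ker _).1 h2
  have h3' : b = q * F.C.ρ ^ i := h3
  obtain ⟨k, hk⟩ := hB2 ⟨b, hb⟩
  have h4 : b ^ 2 ^ k = 1 := congrArg Subtype.val hk
  rw [h3'] at h4
  have h5 := AutP.mem_Q_of_two hq h4
  rw [h3', h5, mul_one]
  exact hq

/-- the pointwise stabilizers of two hexads generate no 2-group -/
theorem eq_of_twoGroup {O O' : Finset GolayPt} (hO : IsHex O) (hO' : IsHex O')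
    {D : Subgroup (Equiv.Perm GolayPt)} (hD : IsPGroup 2 D) (h1 : fixOct O ≤ D) (h2 : fixOct O' ≤ D) : O = O' := by
  have hp : Fact (Nat.Prime 2) := ⟨Nat.prime_two⟩
  by_contra hne
  have hle : ∀ {U : Finset GolayPt}, IsHex U → fixOct U ≤ Spor.M22 := by
    intro U hU a ha
    obtain ⟨h3, h4⟩ := mem_fixOct.1 ha
    rw [Cfsg.Agent.SporadicA.MathieuRecog.mem_M22_iff]
    exact ⟨h3, h4 _ (hU.2 (by simp [base])), h4 _ (hU.2 (by simp [base]))⟩
  have hX : Nat.card ↥(fixOct O ⊔ fixOct O') ∣ 443520 := by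
    rw [← Cfsg.Agent.SporadicA.MathieuRecog.card_M22]
    exact card_dvd_of_le (sup_le (hle hO) (hle hO'))
  obtain ⟨k, hk⟩ := IsPGroup.iff_card.1 (hD.to_le (sup_le h1 h2))
  have hinj : Nat.card (↥(fixOct O) × ↥(fixOct O')) ≤ Nat.card ↥(fixOct O ⊔ fixOct O') := by
    refine Nat.card_le_card_of_injective (fun p => ⟨(p.1 : Equiv.Perm GolayPt) * (p.2 : Equiv.Perm GolayPt),
      mul_mem (mem_sup_left p.1.2) (mem_sup_right p.2.2)⟩) ?_
    rintro ⟨a, b⟩ ⟨a', b'⟩ hab
    have h3 : (a : Equiv.Perm GolayPt) * b = a' * b' := congrArg Subtype.val hab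
    have h4 : (a' : Equiv.Perm GolayPt)⁻¹ * a = b' * (b : Equiv.Perm GolayPt)⁻¹ := by
      rw [inv_mul_eq_iff_eq_mul, ← mul_assoc, ← h3, mul_inv_cancel_right]
    have h5 : (a' : Equiv.Perm GolayPt)⁻¹ * a = 1 := by
      refine OctadFixTrans.fix_inf hO.1 hO'.1 hne (mul_mem (inv_mem a'.2) a.2) ?_
      rw [h4]
      exact mul_mem b'.2 (inv_mem b.2)
    have h6 : (a : Equiv.Perm GolayPt) = a' := (inv_mul_eq_one.1 h5).symm
    rw [h6] at h3
    exact Prod.ext (Subtype.ext h6) (Subtype.ext (mul_left_cancel h3))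
  rw [Nat.card_prod, card_fixOct hO.1, card_fixOct hO'.1, hk] at hinj
  have h8 : 8 ≤ k := by
    by_contra hlt
    have h9 : 2 ^ k ≤ 2 ^ 7 := Nat.pow_le_pow_right (by norm_num) (by omega)
    omega
  rw [hk] at hX
  have h10 := (pow_dvd_pow 2 h8).trans hX
  norm_num at h10

theorem hex0_hex : IsHex hex0 := HexMax.hex0_isHex

/-- `N_G(T) ≤ N(E)` -/
theorem normalizer_le [Finite K] (C : Hex K) (T : Sylow 2 K)
    (hT : (T : Subgroup K) ≤ normalizer (C.E hex0 : Set K) ⊓ centralizer ({C.z} : Set K))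
    (hN : normalizer ((T : Subgroup K) : Set K) ≤ centralizer ({C.z} : Set K)) :
    normalizer ((T : Subgroup K) : Set K) ≤ normalizer (C.E hex0 : Set K) := by
  intro g hg
  have hgC := hN hg
  have key := NormE.mem_normalizer_iff C hex0_hex ⟨g, hgC⟩
  change g ∈ normalizer (C.E hex0 : Set K) ↔ _ at key
  rw [key]
  have hO : IsHex (C.P ⟨g, hgC⟩ • hex0) := NormE.isHex_P_smul C _ hex0_hex
  have hE2 : IsPGroup 2 (C.E hex0) := IsPGroup.of_card (C.E_card _ hex0_hex)
  have hET : C.E hex0 ≤ T := by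
    have h8 : IsPGroup 2 ↥((T : Subgroup K) ⊔ C.E hex0) :=
      T.isPGroup'.to_sup_of_normal_right' hE2 (hT.trans inf_le_left)
    have h9 := T.is_maximal' h8 le_sup_left
    rw [← SetLike.coe_subset_coe]
    change C.E hex0 ≤ (T : Subgroup K)
    rw [← h9]
    exact le_sup_right
  have hE'T : C.E (C.P ⟨g, hgC⟩ • hex0) ≤ T := by
    rw [NormE.E_smul C hex0_hex]
    rintro _ ⟨a, ha, rfl⟩
    exact (Subgroup.mem_normalizer_iff.1 hg a).1 (hET ha)
  have hD : IsPGroup 2 ↥(((T : Subgroup K).subgroupOf (centralizer ({C.z} : Set K))).map C.P) :=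
    (T.isPGroup'.comap_subtype).map _
  have hle : ∀ {U : Finset GolayPt}, IsHex U → C.E U ≤ T →
      fixOct U ≤ ((T : Subgroup K).subgroupOf (centralizer ({C.z} : Set K))).map C.P := by
    intro U hU hUT a ha
    obtain ⟨c, hc, hca⟩ := (C.E_map U hU a).2 (mem_fixOct.1 ha)
    exact ⟨c, hUT hc, hca⟩
  exact (eq_of_twoGroup hex0_hex hO hD (hle hex0_hex hET) (hle hO hE'T)).symm

theorem not_le (C : J4Type.Compl K) : ¬ normalizer (C.E hex0 : Set K) ≤ centralizer ({C.z} : Set K) := by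
  intro h
  let X : M24 := ⟨Cfsg.Agent.J4.M24Hom.X, Cfsg.Agent.J4.M24Hom.X_mem⟩
  have h1 : C.φ X * C.z * (C.φ X)⁻¹ = C.ε ((X : Equiv.Perm GolayPt) • tet 0) := by
    rw [← C.ε_tet 0, FinalGen.Compl.conj_ε C X (by rw [FinalGen.tet_card]; decide)]
  have h2 : C.φ X * C.z = C.z * C.φ X := mem_centralizer_singleton_iff.1 (h (C.φ_mem X))
  have h3 : C.φ X * C.z * (C.φ X)⁻¹ = C.z := by rw [h2, mul_inv_cancel_right]
  have h4 : C.ε ((X : Equiv.Perm GolayPt) • tet 0) ∈ C.Q := by
    rw [← h1, h3]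
    exact C.z_mem_Q
  rw [C.A_iff _ (by rw [Finset.card_smul_finset, FinalGen.tet_card]; decide)] at h4
  rcases h4 with h | h
  · exact absurd h (by decide +kernel)
  · exact absurd h (by decide +kernel)

theorem card_eq {G : Type*} [Group G] (h : Spor.IsoJ4 G) : Nat.card G = 86775571046077562880 := by
  obtain ⟨e⟩ := h
  rw [Nat.card_congr e.toEquiv]
  exact Cfsg.Agent.S1703.result.2

/-- **The row `J₄`.** -/
theorem nun {G : Type*} [Group G] (h : Spor.IsoJ4 G) : NUN G := by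
  obtain ⟨hfin, hsim, ⟨F⟩⟩ := Base.exists_full h
  have hcard := card_eq h
  have h2 : Fact (Nat.Prime 2) := ⟨Nat.prime_two⟩
  have hs := SheetJ4.sheet F
  -- the Sylow 2-subgroup
  obtain ⟨T, hT⟩ : ∃ T : Sylow 2 G, (T : Subgroup G) ≤
      normalizer (F.C.E hex0 : Set G) ⊓ centralizer ({F.C.z} : Set G) := by
    have hH := NormE.card_normalizer_inf F.C.toHex hex0_hex
    set H := normalizer (F.C.E hex0 : Set G) ⊓ centralizer ({F.C.z} : Set G) with hHdef
    have hodd : ¬ 2 ∣ H.index := by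
      intro h5
      have h6 := H.card_mul_index
      rw [hH, hcard] at h6
      omega
    obtain ⟨P⟩ : Nonempty (Sylow 2 ↥H) := inferInstance
    have h3 : ¬ 2 ∣ ((P : Subgroup ↥H).map H.subtype).index := by
      rw [index_map_subtype]
      intro h
      rcases (Nat.prime_two.dvd_mul).1 h with h | h
      · exact P.not_dvd_index h
      · exact hodd h
    exact ⟨(P.isPGroup'.map _).toSylow h3, map_subtype_le _⟩
  have hTz : ∀ x ∈ (T : Subgroup G), x * F.C.z = F.C.z * x :=
    fun x hx => mem_centralizer_singleton_iff.1 (hT hx).2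
  have hRT : F.C.Q ≤ (T : Subgroup G) := by
    have hn : (T : Subgroup G) ≤ normalizer (F.C.Q : Set G) := by
      intro x hx
      exact mem_normalizer_fintype fun n hn => F.C.Q_conj x (hTz x hx) n hn
    have h8 : IsPGroup 2 ↥((T : Subgroup G) ⊔ F.C.Q) := T.isPGroup'.to_sup_of_normal_right' hs.R2 hn
    have h9 := T.is_maximal' h8 le_sup_left
    rw [← h9]
    exact le_sup_right
  have hN : normalizer ((T : Subgroup G) : Set G) ≤ centralizer ({F.C.z} : Set G) := by
    refine normalizer_le_centralizer hs.z1 (hRT hs.zR) hTz fun y hy hyc => ?_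
    exact F.C.Q_cent y fun q hq => (hyc q (hRT hq)).symm
  refine nun_of_large hs.z1 hs.zz T hN (normalizer_le F.C.toHex T hT hN) ?_
    (fun B hB hBC hBn => rmax F hB hBC hBn) (fun B hBR hBn => ?_) ?_ ?_ (not_le F.C) (R := F.C.Q)
  · intro x hx
    have h3 : ∀ r ∈ F.C.Q, (x * F.C.z * x⁻¹) * r = r * (x * F.C.z * x⁻¹) := by
      intro r hr
      have hmem : x⁻¹ * r * x ∈ F.C.Q := by
        have hxn : x ∈ normalizer (F.C.Q : Set G) := mem_normalizer_fintype fun n hn => hx n hn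
        have := (Subgroup.mem_normalizer_iff.1 (inv_mem hxn) r).1 hr
        rwa [inv_inv] at this
      have h5 : (x⁻¹ * r * x) * F.C.z = F.C.z * (x⁻¹ * r * x) :=
        mem_centralizer_singleton_iff.1 (F.C.Q_le hmem)
      calc (x * F.C.z * x⁻¹) * r = x * (F.C.z * (x⁻¹ * r * x)) * x⁻¹ := by group
        _ = x * ((x⁻¹ * r * x) * F.C.z) * x⁻¹ := by rw [h5]
        _ = r * (x * F.C.z * x⁻¹) := by group
    rcases F.C.Q_cent _ h3 with h | h
    · exfalso
      apply hs.z1
      have : F.C.z = x⁻¹ * (x * F.C.z * x⁻¹) * x := by group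
      rw [this, h]
      group
    · exact h
  · exact hs.Rmin B hBR fun x hx b hb => hBn x (MM_le _ hx) b hb
  · exact IsPGroup.of_card (F.C.E_card _ hex0_hex)
  · intro h
    have h3 := F.C.E_card _ hex0_hex
    rw [h, card_bot] at h3
    norm_num at h3

end Cfsg.Agent.UniqSheet.J4

end

-- merged: Cfsg.Agent.BpSpor.JFourThree
section

/-!
# S1332, the row `J₄`, `p = 3` (helper26)

`bps_three : BpS 3 Spor.J4`.  Every element of order 3 is conjugate to `ρ` or `ρ⁻¹`; in `H = C(ρ)` the centralizer of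
`z` is an extension of `⟨z, ρ⟩` by `M22` with `z` in the commutator subgroup (`[φ(m), ε(S)] = ε(mS) ε(S)`), and
`core_le` gives `O_{3'}(H) ≤ ⟨z⟩`.
-/

set_option autoImplicit false

open scoped Pointwise commutatorElement

namespace Cfsg.Agent.BpSpor.J4

open Subgroup Cfsg Cfsg.Agent.J4Type Cfsg.Agent.J4Type.FusionCent Cfsg.Agent.J4Type.TauF Cfsg.Agent.BpTab

universe u

/-! ### arithmetic -/

theorem not_dvd_aux {r M P : ℕ} (hr : r.Prime) (hr2 : r ≠ 2) (hP : ¬ 128 ∣ P) : ¬ 443520 ∣ r ^ M * P := by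
  intro h
  apply hP
  have h1 : 2 ^ 7 ∣ r ^ M * P := (by norm_num : 2 ^ 7 ∣ 443520).trans h
  have h2 : Nat.Coprime (2 ^ 7) (r ^ M) :=
    Nat.Coprime.pow _ _ ((Nat.coprime_primes Nat.prime_two hr).2 (Ne.symm hr2))
  exact h2.dvd_of_dvd_mul_left h1

theorem arith {r k : ℕ} (hr : r.Prime) (hr2 : r ≠ 2) (hr3 : r ≠ 3) (hk : r ^ k ∣ 86775571046077562880) :
    ∀ d ≤ k, ∀ M, ¬ 443520 ∣ r ^ M * ∏ i : Fin d, (r ^ d - r ^ (i : ℕ)) := by
  intro d hd M
  apply not_dvd_aux hr hr2
  have hN : 86775571046077562880 = 2 ^ 21 * (3 ^ 3 * (11 ^ 3 * (5 * (7 * (23 * (29 * (31 * (37 * 43)))))))) := by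
    norm_num
  by_cases hk0 : k = 0
  · obtain rfl : d = 0 := by omega
    simp
  have h11 : r = 11 → ¬ 128 ∣ ∏ i : Fin d, (r ^ d - r ^ (i : ℕ)) := by
    rintro rfl
    have hk3 : k ≤ 3 := by
      by_contra hcon
      have h1 : 11 ^ 4 ∣ 86775571046077562880 := (pow_dvd_pow 11 (by omega)).trans hk
      norm_num at h1
    have hd3 : d ≤ 3 := hd.trans hk3
    interval_cases d <;> simp [Fin.prod_univ_succ]
  by_cases h : r = 11
  · exact h11 h
  have h1 : r ∣ 86775571046077562880 := (dvd_pow_self r hk0).trans hk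
  rw [hN] at h1
  have hk1 : ¬ r ^ 2 ∣ 86775571046077562880 → d ≤ 1 := by
    intro h2
    by_contra hcon
    exact h2 ((pow_dvd_pow r (by omega)).trans hk)
  have hprime : ∀ q : ℕ, q.Prime → r ∣ q → r = q := fun q hq hrq => (Nat.prime_dvd_prime_iff_eq hr hq).1 hrq
  have key : ∀ q : ℕ, r = q → ¬ q ^ 2 ∣ 86775571046077562880 → ¬ 128 ∣ q - 1 →
      ¬ 128 ∣ ∏ i : Fin d, (r ^ d - r ^ (i : ℕ)) := by
    rintro q rfl hq1 hq2
    have hd1 := hk1 hq1
    interval_cases d
    · simp
    · simpa [Fin.prod_univ_succ] using hq2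
  rcases (Nat.Prime.dvd_mul hr).1 h1 with h2 | h1
  · exact absurd (hprime 2 Nat.prime_two (hr.dvd_of_dvd_pow h2)) hr2
  rcases (Nat.Prime.dvd_mul hr).1 h1 with h2 | h1
  · exact absurd (hprime 3 Nat.prime_three (hr.dvd_of_dvd_pow h2)) hr3
  rcases (Nat.Prime.dvd_mul hr).1 h1 with h2 | h1
  · exact absurd (hprime 11 (by norm_num) (hr.dvd_of_dvd_pow h2)) h
  rcases (Nat.Prime.dvd_mul hr).1 h1 with h2 | h1
  · exact key _ (hprime 5 (by norm_num) h2) (by norm_num) (by norm_num)
  rcases (Nat.Prime.dvd_mul hr).1 h1 with h2 | h1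
  · exact key _ (hprime 7 (by norm_num) h2) (by norm_num) (by norm_num)
  rcases (Nat.Prime.dvd_mul hr).1 h1 with h2 | h1
  · exact key _ (hprime 23 (by norm_num) h2) (by norm_num) (by norm_num)
  rcases (Nat.Prime.dvd_mul hr).1 h1 with h2 | h1
  · exact key _ (hprime 29 (by norm_num) h2) (by norm_num) (by norm_num)
  rcases (Nat.Prime.dvd_mul hr).1 h1 with h2 | h1
  · exact key _ (hprime 31 (by norm_num) h2) (by norm_num) (by norm_num)
  rcases (Nat.Prime.dvd_mul hr).1 h1 with h2 | h2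
  · exact key _ (hprime 37 (by norm_num) h2) (by norm_num) (by norm_num)
  · exact key _ (hprime 43 (by norm_num) h2) (by norm_num) (by norm_num)

/-! ### the centralizer of `ρ` -/

section Rho

variable {K : Type u} [Group K] (F : J4Type.Compl K)

/-- the elements of `C(z) ∩ C(ρ)` have image in `M22` -/
theorem mem22_of_comm {c : centralizer ({F.z} : Set K)} (h : (c : K) * F.ρ = F.ρ * c) : F.P c ∈ Spor.M22 := by
  rw [Cfsg.Agent.SporadicA.MathieuRecog.mem_M22_iff]
  by_cases hc : F.P c none = none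
  · rcases KFacts.J4.Easy.P_cases F.toCent c with h1 | ⟨h1, h2⟩
    · exact ⟨(P_mem F.toCent c).1, h1.1, h1.2⟩
    · rw [h1] at hc
      exact absurd hc (by decide)
  · exfalso
    obtain ⟨q, hq, h1⟩ := F.P_outer c hc
    have h2 : F.ρ ^ 2 = q := by
      have h3 : (c : K) * F.ρ * (c : K)⁻¹ = F.ρ := by rw [h, mul_inv_cancel_right]
      rw [h3] at h1
      calc F.ρ ^ 2 = F.ρ * F.ρ := pow_two _
        _ = q * F.ρ⁻¹ * F.ρ := by rw [← h1]
        _ = q := by group
    obtain ⟨n, hn⟩ := KFacts.J4.Easy.Q2 F.toCent ⟨q, hq⟩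
    have hn' : q ^ 2 ^ n = 1 := congrArg Subtype.val hn
    rw [← h2, ← pow_mul] at hn'
    have h4 : 3 ∣ 2 * 2 ^ n := by
      rw [← F.ρ_order]
      exact orderOf_dvd_of_pow_eq_one hn'
    have h5 : 3 ∣ 2 ^ (n + 1) := by rwa [pow_succ, mul_comm]
    have h6 := Nat.Prime.dvd_of_dvd_pow Nat.prime_three h5
    norm_num at h6

/-- the centralizer of `ρ` -/
abbrev HH : Subgroup K := centralizer ({F.ρ} : Set K)

theorem z_mem_HH : F.z ∈ HH F := mem_centralizer_singleton_iff.2 F.ρ_comm.symm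

/-- `z` in `C(ρ)` -/
def zH : HH F := ⟨F.z, z_mem_HH F⟩

/-- `ρ` in `C(ρ)` -/
def rH : HH F := ⟨F.ρ, mem_centralizer_singleton_iff.2 rfl⟩

theorem mem_DD {c : HH F} : c ∈ centralizer ({zH F} : Set (HH F)) ↔ (c : K) * F.z = F.z * c := by
  rw [mem_centralizer_singleton_iff]
  exact ⟨fun h => congrArg Subtype.val h, fun h => Subtype.ext h⟩

/-- an element of `C(ρ) ∩ C(z)` -/
def mkD {c : K} (h1 : c * F.ρ = F.ρ * c) (h2 : c * F.z = F.z * c) : centralizer ({zH F} : Set (HH F)) :=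
  ⟨⟨c, mem_centralizer_singleton_iff.2 h1⟩, (mem_DD F).2 h2⟩

/-- the element of `C(z)` -/
def toC (c : centralizer ({zH F} : Set (HH F))) : centralizer ({F.z} : Set K) :=
  ⟨((c : HH F) : K), mem_centralizer_singleton_iff.2 ((mem_DD F).1 c.2)⟩

theorem toC_comm (c : centralizer ({zH F} : Set (HH F))) : ((toC F c : centralizer ({F.z} : Set K)) : K) * F.ρ = F.ρ * toC F c :=
  mem_centralizer_singleton_iff.1 (c : HH F).2

/-- the homomorphism onto `M22` -/
def fM : centralizer ({zH F} : Set (HH F)) →* Spor.M22 where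
  toFun c := ⟨F.P (toC F c), mem22_of_comm F (toC_comm F c)⟩
  map_one' := Subtype.ext (map_one F.P)
  map_mul' a b := Subtype.ext (map_mul F.P (toC F a) (toC F b))

theorem fM_surj : Function.Surjective (fM F) := by
  rintro ⟨w, hw⟩
  have h4 := (Cfsg.Agent.SporadicA.MathieuRecog.mem_M22_iff _).1 hw
  have hwr : w ∈ F.P.range := by
    rw [F.P_range]
    refine ⟨h4.1, ?_⟩
    change w • base = base
    rw [base, Finset.smul_finset_insert, Finset.smul_finset_singleton]
    change ({w none, w (some 0)} : Finset GolayPt) = _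
    rw [h4.2.1, h4.2.2]
  obtain ⟨c, rfl⟩ := hwr
  obtain ⟨x, hx, h⟩ := NormRho.exists_comm F.toCent c h4.2.1
  have hxC : x ∈ centralizer ({F.z} : Set K) := F.Q_le hx
  have h1 : (x * c) * F.z = F.z * (x * c) :=
    mem_centralizer_singleton_iff.1 (mul_mem hxC c.2)
  refine ⟨mkD F h h1, Subtype.ext ?_⟩
  change F.P (⟨x, hxC⟩ * c) = F.P c
  rw [map_mul, P_of_mem_Q F.toCent ⟨x, hxC⟩ hx, one_mul]

theorem fM_ker (c : centralizer ({zH F} : Set (HH F))) (h : fM F c = 1) :
    ∃ i j : ℕ, (c : HH F) = zH F ^ i * rH F ^ j := by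
  have h1 : F.P (toC F c) = 1 := congrArg Subtype.val h
  obtain ⟨q, hq, j, h2⟩ := (F.P_ker _).1 h1
  change ((c : HH F) : K) = q * F.ρ ^ j at h2
  have hcρ : ((c : HH F) : K) * F.ρ = F.ρ * ((c : HH F) : K) := toC_comm F c
  have hqc : F.ρ * q = q * F.ρ := by
    have h3 : q = ((c : HH F) : K) * (F.ρ ^ j)⁻¹ := by rw [h2]; group
    have h4 : Commute F.ρ ((c : HH F) : K) := hcρ.symm
    have h5 : Commute F.ρ (F.ρ ^ j)⁻¹ := ((Commute.refl F.ρ).pow_right j).inv_right
    rw [h3]
    exact (h4.mul_right h5).eq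
  rcases F.ρ_fix q hq hqc with h3 | h3
  · exact ⟨0, j, Subtype.ext (by
      change ((c : HH F) : K) = F.z ^ 0 * F.ρ ^ j
      rw [h2, h3, pow_zero])⟩
  · exact ⟨1, j, Subtype.ext (by
      change ((c : HH F) : K) = F.z ^ 1 * F.ρ ^ j
      rw [h2, h3, pow_one])⟩

/-- `ff i j` in `C(ρ) ∩ C(z)` -/
noncomputable def ffD (i j : Fin 6) (h : i ≠ j) : centralizer ({zH F} : Set (HH F)) :=
  mkD F (rho_ff F i j h).symm (z_ff F i j h)

/-- `φ m` in `C(ρ) ∩ C(z)` -/
noncomputable def phiD (m : M24) (i : Fin 6) (h : (m : Equiv.Perm GolayPt) • tet 0 = tet i) (h' : w0 * m = m * w0) :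
    centralizer ({zH F} : Set (HH F)) :=
  mkD F (phi_rho F h') (phi_z F h)

theorem z_mem_commutator : (⟨zH F, mem_centralizer_singleton_iff.2 rfl⟩ : centralizer ({zH F} : Set (HH F))) ∈
    commutator (centralizer ({zH F} : Set (HH F))) := by
  have key : ∀ (m : M24) (t : Fin 6) (h : (m : Equiv.Perm GolayPt) • tet 0 = tet t) (h' : w0 * m = m * w0)
      (i j k : Fin 6) (hik : i ≠ k) (hjk : j ≠ k) (hij : i ≠ j),
      (m : Equiv.Perm GolayPt) (mog i 0) = mog j 0 → (m : Equiv.Perm GolayPt) (mog k 0) = mog k 0 →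
      ffD F j i hij.symm ∈ commutator (centralizer ({zH F} : Set (HH F))) := by
    intro m t h h' i j k hik hjk hij hi hk
    have h1 : ⁅phiD F m t h h', ffD F i k hik⁆ = ffD F j i hij.symm := by
      apply Subtype.ext
      apply Subtype.ext
      change F.φ m * ff F.toFrame i k * (F.φ m)⁻¹ * (ff F.toFrame i k)⁻¹ = ff F.toFrame j i
      rw [conj_ff F hi hk hik, inv_eq_of_mul_eq_one_left (ff_sq F.toFrame i k hik), ff_symm F.toFrame i k,
        ff_mul F.toFrame hjk hik.symm hij.symm]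
    rw [← h1, _root_.commutator_def]
    exact commutator_mem_commutator (mem_top _) (mem_top _)
  have h10 := key m1 1 m1_tet comm1 0 1 3 (by decide) (by decide) (by decide) (m1_mog 0 0) (m1_mog 3 0)
  have h32 := key m3 0 m3_tet comm3 2 3 0 (by decide) (by decide) (by decide) (m3_mog 2 0) (m3_mog 0 0)
  have h54 := key m2 0 m2_tet comm2 4 5 0 (by decide) (by decide) (by decide) (m2_mog 4 0) (m2_mog 0 0)
  have h1 : (⟨zH F, mem_centralizer_singleton_iff.2 rfl⟩ : centralizer ({zH F} : Set (HH F))) =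
      ffD F 1 0 (by decide) * ffD F 3 2 (by decide) * ffD F 5 4 (by decide) := by
    apply Subtype.ext
    apply Subtype.ext
    change F.z = ff F.toFrame 1 0 * ff F.toFrame 3 2 * ff F.toFrame 5 4
    rw [ff_match F.toFrame (by decide)]
  rw [h1]
  exact mul_mem (mul_mem h10 h32) h54

/-- **the centralizer of `ρ` is good** -/
theorem good_rho [Finite K] (hK : Nat.card K = 86775571046077562880) : Good 3 (HH F) := by
  have : Fact (Nat.Prime 3) := ⟨Nat.prime_three⟩
  have hs := Cfsg.Agent.SporadicA.MathieuRecog.simple_M22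
  have hc := Cfsg.Agent.SporadicA.MathieuRecog.card_M22
  have hfin : Finite Spor.M22 := inferInstance
  have hz : orderOf (zH F) = 2 := by
    unfold zH
    rw [Subgroup.orderOf_mk, F.z_order]
  refine good_of_core_le hz (core_le (fun L _ _ h => Cfsg.Agent.S0205.result h) Nat.prime_three (by norm_num) hz
    (ρ := rH F) (Subtype.ext (rho3 F)) ?_ (S := Spor.M22) (by rw [hc]; norm_num) (fM F) (fM_surj F) (fM_ker F)
    (z_mem_commutator F) ?_)
  · rw [mem_center_iff]
    intro g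
    exact Subtype.ext (mem_centralizer_singleton_iff.1 g.2)
  · intro r k hr hr2 hr3 hk
    rw [hc]
    exact arith hr hr2 hr3 (hK ▸ hk.trans (card_subgroup_dvd_card _))

end Rho

/-- conjugate elements -/
def centEquiv {K : Type*} [Group K] (g x : K) : centralizer ({x} : Set K) ≃* centralizer ({g * x * g⁻¹} : Set K) where
  toFun y := ⟨g * y * g⁻¹, by
    rw [mem_centralizer_singleton_iff]
    have h := mem_centralizer_singleton_iff.1 y.2
    calc g * (y : K) * g⁻¹ * (g * x * g⁻¹) = g * (y * x) * g⁻¹ := by group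
      _ = g * (x * y) * g⁻¹ := by rw [h]
      _ = g * x * g⁻¹ * (g * y * g⁻¹) := by group⟩
  invFun y := ⟨g⁻¹ * y * g, by
    rw [mem_centralizer_singleton_iff]
    have h := mem_centralizer_singleton_iff.1 y.2
    calc g⁻¹ * (y : K) * g * x = g⁻¹ * (y * (g * x * g⁻¹)) * g := by group
      _ = g⁻¹ * (g * x * g⁻¹ * y) * g := by rw [h]
      _ = x * (g⁻¹ * y * g) := by group⟩
  left_inv y := Subtype.ext (by
    change g⁻¹ * (g * (y : K) * g⁻¹) * g = y
    group)
  right_inv y := Subtype.ext (by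
    change g * (g⁻¹ * (y : K) * g) * g⁻¹ = y
    group)
  map_mul' a b := Subtype.ext (by
    change g * ((a : K) * b) * g⁻¹ = g * a * g⁻¹ * (g * b * g⁻¹)
    group)

theorem centralizer_inv {K : Type*} [Group K] (x : K) : centralizer ({x⁻¹} : Set K) = centralizer ({x} : Set K) := by
  ext y
  rw [mem_centralizer_singleton_iff, mem_centralizer_singleton_iff]
  constructor
  · intro h
    exact (Commute.inv_right_iff.1 (show Commute y x⁻¹ from h)).eq
  · intro h
    exact (show Commute y x from h).inv_right.eq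

/-- **the row** -/
theorem bps_three : BpS 3 Spor.J4 := by
  have : Fact (Nat.Prime 3) := ⟨Nat.prime_three⟩
  obtain ⟨hfin, hsim, ⟨F⟩⟩ := KFacts.J4.Base.exists_full (K := Cfsg.Spor.J4) ⟨MulEquiv.refl _⟩
  have hcard : Nat.card Spor.J4 = 86775571046077562880 := UniqSheet.J4.card_eq ⟨MulEquiv.refl _⟩
  refine bpS_of_inner ?_ ?_ ?_
  · refine CpAut.center_eq_bot_of_simple ?_
    intro hc
    have h3 := F.C.ρ_order
    rcases F.C.Q_cent F.C.ρ (fun q _ => hc.is_comm.comm _ _) with h1 | h1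
    · rw [h1, orderOf_one] at h3
      exact absurd h3 (by norm_num)
    · rw [h1, F.C.z_order] at h3
      exact absurd h3 (by norm_num)
  · intro α _
    exact KFacts.J4.SheetJ4.inner F α
  · intro x hx
    have hidx : ¬ 3 ∣ (centralizer ({F.C.z} : Set Spor.J4)).index := by
      intro h3
      -- `27 ∣ |C(z)|`
      have h9 : 9 ∣ Nat.card F.C.P.range := by
        have hle : Spor.M22 ≤ F.C.P.range := by
          intro w hw
          rw [F.C.P_range]
          have h4 := (Cfsg.Agent.SporadicA.MathieuRecog.mem_M22_iff _).1 hw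
          refine ⟨h4.1, ?_⟩
          change w • base = base
          rw [base, Finset.smul_finset_insert, Finset.smul_finset_singleton]
          change ({w none, w (some 0)} : Finset GolayPt) = _
          rw [h4.2.1, h4.2.2]
        refine dvd_trans ?_ (card_dvd_of_le hle)
        rw [Cfsg.Agent.SporadicA.MathieuRecog.card_M22]
        norm_num
      have hk3 : 3 ∣ Nat.card F.C.P.ker := by
        have hρC : F.C.ρ ∈ centralizer ({F.C.z} : Set Spor.J4) := mem_centralizer_singleton_iff.2 F.C.ρ_comm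
        have hPρ : (⟨F.C.ρ, hρC⟩ : centralizer ({F.C.z} : Set Spor.J4)) ∈ F.C.P.ker :=
          (F.C.P_ker _).2 ⟨1, F.C.Q.one_mem, 1, by rw [one_mul, pow_one]⟩
        have h4 := orderOf_dvd_natCard (⟨⟨F.C.ρ, hρC⟩, hPρ⟩ : F.C.P.ker)
        rwa [Subgroup.orderOf_mk, Subgroup.orderOf_mk, F.C.ρ_order] at h4
      have h27 : 27 ∣ Nat.card (centralizer ({F.C.z} : Set Spor.J4)) := by
        rw [← card_mul_index F.C.P.ker, index_ker]
        exact (show 27 = 3 * 9 by norm_num) ▸ Nat.mul_dvd_mul hk3 h9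
      have h81 : 27 * 3 ∣ Nat.card Spor.J4 := by
        rw [← card_mul_index (centralizer ({F.C.z} : Set Spor.J4))]
        exact Nat.mul_dvd_mul h27 h3
      rw [hcard] at h81
      norm_num at h81
    obtain ⟨g, hg⟩ := conj_rho F.C hidx hx
    have hgood := good_rho F.C hcard
    rw [good_congr (centEquiv g x)]
    rcases hg with hg | hg
    · rw [hg]; exact hgood
    · rw [hg, centralizer_inv]; exact hgood

end Cfsg.Agent.BpSpor.J4

end
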