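import Cfsg.Agent.BpSpor.Four
import Cfsg.Agent.BpNum.Num
import Cfsg.Agent.CpAut.TwoCov

/-!
# S1332, sporadic rows: criteria from one involution centralizer (helper25)

`H` finite, `s` an involution of `H`, `p` an odd prime.

* `solvable_of_unique` : `s` is the only involution of `C_H(s)`, `C_H(s)` solvable: `H` is solvable;
* `solvable_of_central` : `z` central of order `p`, `|Y| ∣ q ^ a * r ^ b * p`: `Y` is solvable;
* `good_of_cent` : all involutions of `H` are conjugate to `s`, `|C_H(s)| ∣ 2 ^ a * p ^ b`, a subgroup `E` of `C_H(s)`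
  generated by involutions, such that `1`, `s` are the only 2-elements of `C_H(s)` centralising `E`, a four-group:
  `Good p H`.
-/

set_option autoImplicit false

namespace Cfsg.Agent.BpSpor

open Subgroup Cfsg
open Cfsg.Agent.BpTab Cfsg.Agent.Lib

universe u

section Solv

variable {H : Type u} [Group H] [Finite H]

/-- `N ⊔ C = ⊤`, `N` and `C` solvable -/
theorem solvable_of_sup {N C : Subgroup H} [N.Normal] (hN : Group.IsSolvable ↥N) (hC : Group.IsSolvable ↥C)
    (h : N ⊔ C = ⊤) : Group.IsSolvable H := by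
  have h1 : Function.Surjective ((QuotientGroup.mk' N).comp C.subtype) := by
    intro q
    obtain ⟨g, rfl⟩ := QuotientGroup.mk'_surjective N q
    have hg : g ∈ N ⊔ C := by rw [h]; exact mem_top g
    obtain ⟨n, hn, c, hc, rfl⟩ := mem_sup_of_normal_left.1 hg
    refine ⟨⟨c, hc⟩, ?_⟩
    change QuotientGroup.mk' N c = QuotientGroup.mk' N (n * c)
    rw [map_mul]
    have h2 : QuotientGroup.mk' N n = 1 := (QuotientGroup.eq_one_iff _).2 hn
    rw [h2, one_mul]
  have h2 : Group.IsSolvable (H ⧸ N) := Group.isSolvable_of_surjective h1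
  exact Group.isSolvable_of_ker_le_range N.subtype (QuotientGroup.mk' N) (by rw [QuotientGroup.ker_mk', range_subtype])

/-- **`s` is the only involution of `C_H(s)`, which is solvable: `H` is solvable.** -/
theorem solvable_of_unique (FT : ∀ (K : Type u) [Group K] [Finite K], Odd (Nat.card K) → Group.IsSolvable K) {s : H}
    (hs : orderOf s = 2) (h : ∀ u : H, orderOf u = 2 → u * s = s * u → u = s)
    (hC : Group.IsSolvable ↥(centralizer ({s} : Set H))) : Group.IsSolvable H := by
  obtain ⟨N, hN, hodd, hsup⟩ := CpAut.TwoCov.exists_odd_sup hs (fun u hu hc => by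
    by_cases h1 : u = 1
    · exact Or.inl h1
    · have : Fact (Nat.Prime 2) := ⟨Nat.prime_two⟩
      exact Or.inr (h u (orderOf_eq_prime (by rw [pow_two, hu]) h1) hc))
  exact solvable_of_sup (FT ↥N hodd) hC hsup

/-- a central element of order `p` and an order `q ^ a * r ^ b * p` -/
theorem solvable_of_central {p q r a b : ℕ} (hp : 0 < p) (hq : q.Prime) (hr : r.Prime) {z : H} (hz : z ∈ center H)
    (hzp : orderOf z = p) (h : Nat.card H ∣ q ^ a * r ^ b * p) : Group.IsSolvable H := by
  have hn : (zpowers z).Normal := by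
    refine ⟨fun x hx g => ?_⟩
    have h1 : x ∈ center H := (zpowers_le.2 hz) hx
    have h2 : g * x * g⁻¹ = x := by rw [(mem_center_iff.1 h1 g), mul_inv_cancel_right]
    rwa [h2]
  have h1 : Group.IsSolvable ↥(zpowers z) := Group.isSolvable_of_comm fun a b => by
    have h2 : (a : H) ∈ center H := (zpowers_le.2 hz) a.2
    exact Subtype.ext (mem_center_iff.1 h2 b).symm
  have h2 : Group.IsSolvable (H ⧸ zpowers z) := by
    refine BpNum.solvable_of_dvd hq hr (a := a) (b := b) ?_
    have h3 := card_eq_card_quotient_mul_card_subgroup (zpowers z)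
    rw [Nat.card_zpowers, hzp] at h3
    rw [h3] at h
    exact Nat.dvd_of_mul_dvd_mul_right hp h
  exact Group.isSolvable_of_ker_le_range (zpowers z).subtype (QuotientGroup.mk' (zpowers z))
    (by rw [QuotientGroup.ker_mk', range_subtype])

end Solv

section Cent

variable {H : Type u} [Group H] [Finite H] {p : ℕ}

/-- the order of the centralizer of a conjugate element -/
theorem card_cent_of_conj {Y : Type*} [Group Y] {u v c : Y} (h : c * u * c⁻¹ = v) :
    Nat.card ↥(centralizer ({v} : Set Y)) = Nat.card ↥(centralizer ({u} : Set Y)) := by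
  have h1 : (centralizer ({u} : Set Y)).map (MulAut.conj c).toMonoidHom = centralizer ({v} : Set Y) := by
    ext w
    constructor
    · rintro ⟨a, ha, rfl⟩
      rw [SetLike.mem_coe, mem_centralizer_singleton_iff] at ha
      rw [mem_centralizer_singleton_iff, ← h]
      change c * a * c⁻¹ * (c * u * c⁻¹) = c * u * c⁻¹ * (c * a * c⁻¹)
      calc c * a * c⁻¹ * (c * u * c⁻¹) = c * (a * u) * c⁻¹ := by group
        _ = c * u * c⁻¹ * (c * a * c⁻¹) := by rw [ha]; group
    · intro hw
      rw [mem_centralizer_singleton_iff, ← h] at hw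
      refine ⟨c⁻¹ * w * c, ?_, ?_⟩
      · rw [SetLike.mem_coe, mem_centralizer_singleton_iff]
        calc c⁻¹ * w * c * u = c⁻¹ * (w * (c * u * c⁻¹)) * c := by group
          _ = u * (c⁻¹ * w * c) := by rw [hw]; group
      · change c * (c⁻¹ * w * c) * c⁻¹ = w
        group
  rw [← h1]
  exact card_map_of_injective (MulAut.conj c).injective

/-- conjugate elements have isomorphic centralizers -/
theorem good_of_conj [Fact p.Prime] {u v c : H} (h : c * u * c⁻¹ = v)
    (hg : Good p ↥(centralizer ({u} : Set H))) : Good p ↥(centralizer ({v} : Set H)) := by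
  have h1 : (centralizer ({u} : Set H)).map (MulAut.conj c).toMonoidHom = centralizer ({v} : Set H) := by
    ext w
    constructor
    · rintro ⟨a, ha, rfl⟩
      rw [SetLike.mem_coe, mem_centralizer_singleton_iff] at ha
      rw [mem_centralizer_singleton_iff, ← h]
      change c * a * c⁻¹ * (c * u * c⁻¹) = c * u * c⁻¹ * (c * a * c⁻¹)
      calc c * a * c⁻¹ * (c * u * c⁻¹) = c * (a * u) * c⁻¹ := by group
        _ = c * u * c⁻¹ * (c * a * c⁻¹) := by rw [ha]; group
    · intro hw
      rw [mem_centralizer_singleton_iff, ← h] at hw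
      refine ⟨c⁻¹ * w * c, ?_, ?_⟩
      · rw [SetLike.mem_coe, mem_centralizer_singleton_iff]
        calc c⁻¹ * w * c * u = c⁻¹ * (w * (c * u * c⁻¹)) * c := by group
          _ = u * (c⁻¹ * w * c) := by rw [hw]; group
      · change c * (c⁻¹ * w * c) * c⁻¹ = w
        group
  exact hg.congr (((centralizer ({u} : Set H)).equivMapOfInjective (MulAut.conj c).toMonoidHom
    (MulAut.conj c).injective).trans (MulEquiv.subgroupCongr h1))

/-- a Sylow 2-subgroup with `s` in its centre, if all involutions are conjugate -/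
theorem exists_sylow_cent {s : H} (hs : orderOf s = 2) (hconj : ∀ u : H, orderOf u = 2 → ∃ g : H, g * u * g⁻¹ = s) :
    ∃ P : Sylow 2 H, (P : Subgroup H) ≤ centralizer ({s} : Set H) := by
  have : Fact (Nat.Prime 2) := ⟨Nat.prime_two⟩
  obtain ⟨P⟩ : Nonempty (Sylow 2 H) := inferInstance
  have h2 : 2 ∣ Nat.card H := hs ▸ orderOf_dvd_natCard s
  have hP2 : 2 ∣ Nat.card ↥(P : Subgroup H) := P.dvd_card_of_dvd_card h2
  have hnt : Nontrivial ↥(P : Subgroup H) := by
    by_contra hcon
    rw [not_nontrivial_iff_subsingleton] at hcon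
    rw [Nat.card_unique] at hP2
    omega
  have hcen : Nontrivial (center ↥(P : Subgroup H)) := P.isPGroup'.center_nontrivial
  have h3 : 2 ∣ Nat.card (center ↥(P : Subgroup H)) := by
    obtain ⟨n, hn⟩ := (P.isPGroup'.to_subgroup (center ↥(P : Subgroup H))).exists_card_eq
    have h4 : 1 < Nat.card (center ↥(P : Subgroup H)) := Finite.one_lt_card
    rw [hn] at h4 ⊢
    exact dvd_pow_self 2 (by rintro rfl; simp at h4)
  obtain ⟨c, hc⟩ := exists_prime_orderOf_dvd_card' 2 h3
  obtain ⟨g, hg⟩ := hconj ((c : ↥(P : Subgroup H)) : H) (by rw [Subgroup.orderOf_coe, Subgroup.orderOf_coe, hc])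
  refine ⟨g • P, ?_⟩
  intro y hy
  obtain ⟨t, ht, rfl⟩ := hy
  change g * t * g⁻¹ ∈ _
  rw [mem_centralizer_singleton_iff, ← hg]
  have h5 : ((c : ↥(P : Subgroup H)) : H) * t = t * c := by
    have h6 := mem_center_iff.1 c.2 ⟨t, ht⟩
    exact (congrArg Subtype.val h6).symm
  calc g * t * g⁻¹ * (g * c * g⁻¹) = g * (t * c) * g⁻¹ := by group
    _ = g * c * g⁻¹ * (g * t * g⁻¹) := by rw [← h5]; group

/-- **The criterion.** -/
theorem good_of_cent (hp : p.Prime) {s : H} (hs : orderOf s = 2)
    (hconj : ∀ u : H, orderOf u = 2 → ∃ g : H, g * u * g⁻¹ = s) {a b : ℕ}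
    (hC : Nat.card ↥(centralizer ({s} : Set H)) ∣ 2 ^ a * p ^ b) {t : H} (ht : orderOf t = 2) (hts : t ≠ s)
    (htc : t * s = s * t) (X : Set H) (hX : ∀ e ∈ X, orderOf e = 2 ∧ e * s = s * e)
    (hE : ∀ (y : H) (k : ℕ), y ^ 2 ^ k = 1 → y * s = s * y → (∀ e ∈ X, y * e = e * y) → y = 1 ∨ y = s) :
    Good p H := by
  have h2 : Fact (Nat.Prime 2) := ⟨Nat.prime_two⟩
  have hpF : Fact p.Prime := ⟨hp⟩
  have hn := Cores.pPrimeCore_normal (G := H) p
  have hco := Cores.pPrimeCore_coprime (G := H) p
  have hs1 : s ≠ 1 := by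
    rintro rfl
    rw [orderOf_one] at hs
    norm_num at hs
  have hs2 : s * s = 1 := by rw [← pow_two, ← hs, pow_orderOf_eq_one]
  have ht2 : t * t = 1 := by rw [← pow_two, ← ht, pow_orderOf_eq_one]
  have hcop : Nat.Coprime (Nat.card ↥(pPrimeCore p H)) (p ^ b) := hco.pow_right b
  rcases Nat.even_or_odd (Nat.card ↥(pPrimeCore p H)) with he | ho
  · -- all involutions are in the core
    obtain ⟨r, hr⟩ := exists_prime_orderOf_dvd_card' 2 (even_iff_two_dvd.1 he)
    have hsR : s ∈ pPrimeCore p H := by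
      obtain ⟨g, hg⟩ := hconj (r : H) (by rw [Subgroup.orderOf_coe, hr])
      rw [← hg]
      exact hn.conj_mem _ r.2 g
    have hinv : ∀ u : H, orderOf u = 2 → u ∈ pPrimeCore p H := by
      intro u hu
      obtain ⟨g, hg⟩ := hconj u hu
      have h3 : u = g⁻¹ * s * g⁻¹⁻¹ := by rw [← hg]; group
      rw [h3]
      exact hn.conj_mem _ hsR _
    -- a Sylow 2-subgroup of the core
    obtain ⟨P0, hP0⟩ := exists_sylow_cent hs hconj
    obtain ⟨T⟩ : Nonempty (Sylow 2 ↥(pPrimeCore p H)) := inferInstance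
    set T' : Subgroup H := (T : Subgroup ↥(pPrimeCore p H)).map (pPrimeCore p H).subtype with hT'
    have hT'p : IsPGroup 2 ↥T' := T.2.map _
    obtain ⟨P1, hP1⟩ := hT'p.exists_le_sylow
    obtain ⟨g, hgP⟩ := MulAction.exists_smul_eq H P0 P1
    set s' : H := g * s * g⁻¹ with hs'
    have hTs : T' ≤ centralizer ({s'} : Set H) := by
      intro y hy
      have h3 : y ∈ (P1 : Subgroup H) := hP1 hy
      rw [← hgP] at h3
      obtain ⟨t, ht, rfl⟩ := h3
      change g * t * g⁻¹ ∈ _
      have h5 : t * s = s * t := mem_centralizer_singleton_iff.1 (hP0 ht)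
      rw [mem_centralizer_singleton_iff, hs']
      calc g * t * g⁻¹ * (g * s * g⁻¹) = g * (t * s) * g⁻¹ := by group
        _ = g * s * g⁻¹ * (g * t * g⁻¹) := by rw [h5]; group
    have hcard : Nat.card ↥(centralizer ({s'} : Set H)) ∣ 2 ^ a * p ^ b := by
      rw [card_cent_of_conj (u := s) (v := s') (c := g) rfl]
      exact hC
    set U : Subgroup H := pPrimeCore p H ⊓ centralizer ({s'} : Set H) with hU
    have hUp : IsPGroup 2 ↥U := by
      have h3 : Nat.card ↥U ∣ 2 ^ a := by
        have h4 : Nat.card ↥U ∣ 2 ^ a * p ^ b := (card_dvd_of_le inf_le_right).trans hcard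
        have h5 : Nat.Coprime (Nat.card ↥U) (p ^ b) := hcop.coprime_dvd_left (card_dvd_of_le inf_le_left)
        exact h5.dvd_of_dvd_mul_right h4
      obtain ⟨n, -, hn⟩ := (Nat.dvd_prime_pow Nat.prime_two).1 h3
      exact IsPGroup.of_card hn
    have hUT : U ≤ T' := by
      have h3 : (T : Subgroup ↥(pPrimeCore p H)) ≤ U.subgroupOf (pPrimeCore p H) := by
        intro y hy
        rw [mem_subgroupOf]
        exact ⟨y.2, hTs ⟨y, hy, rfl⟩⟩
      have h4 : IsPGroup 2 ↥(U.subgroupOf (pPrimeCore p H)) :=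
        hUp.comap_of_injective (pPrimeCore p H).subtype (pPrimeCore p H).subtype_injective
      have h5 := T.3 h4 h3
      intro y hy
      refine ⟨⟨y, hy.1⟩, ?_, rfl⟩
      change (⟨y, hy.1⟩ : ↥(pPrimeCore p H)) ∈ (T : Subgroup ↥(pPrimeCore p H))
      rw [← h5, mem_subgroupOf]
      exact hy
    have hs'T : s' ∈ T' := hUT ⟨hn.conj_mem _ hsR g, mem_centralizer_singleton_iff.2 rfl⟩
    have hNC : normalizer (T' : Set H) ≤ centralizer ({s'} : Set H) := by
      intro y hy
      have h3 : y * s' * y⁻¹ ∈ T' := (mem_normalizer_iff.1 hy s').1 hs'T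
      have h4 : ∀ z ∈ T', y * s' * y⁻¹ * z = z * (y * s' * y⁻¹) := by
        intro z hz
        have h5 : y⁻¹ * z * y ∈ T' := (mem_normalizer_iff''.1 hy z).1 hz
        have h6 : y⁻¹ * z * y * s' = s' * (y⁻¹ * z * y) := mem_centralizer_singleton_iff.1 (hTs h5)
        calc y * s' * y⁻¹ * z = y * (s' * (y⁻¹ * z * y)) * y⁻¹ := by group
          _ = z * (y * s' * y⁻¹) := by rw [← h6]; group
      have h5 : g⁻¹ * (y * s' * y⁻¹) * g * s = s * (g⁻¹ * (y * s' * y⁻¹) * g) := by
        have h6 := h4 s' hs'T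
        calc g⁻¹ * (y * s' * y⁻¹) * g * s = g⁻¹ * (y * s' * y⁻¹ * (g * s * g⁻¹)) * g := by group
          _ = g⁻¹ * (g * s * g⁻¹ * (y * s' * y⁻¹)) * g := by rw [h6]
          _ = _ := by group
      rcases hE (g⁻¹ * (y * s' * y⁻¹) * g) 1 (by
        have h6 : g⁻¹ * (y * s' * y⁻¹) * g = (g⁻¹ * y * g) * s * (g⁻¹ * y * g)⁻¹ := by rw [hs']; group
        rw [h6, pow_one, conj_pow, pow_two, hs2, mul_one, mul_inv_cancel]) h5 (by
        intro e he
        obtain ⟨he2, hes⟩ := hX e he
        have h6 : g * e * g⁻¹ ∈ T' := by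
          refine hUT ⟨hn.conj_mem _ (hinv e he2) g, mem_centralizer_singleton_iff.2 ?_⟩
          calc g * e * g⁻¹ * (g * s * g⁻¹) = g * (e * s) * g⁻¹ := by group
            _ = g * s * g⁻¹ * (g * e * g⁻¹) := by rw [hes]; group
        have h7 := h4 _ h6
        calc g⁻¹ * (y * s' * y⁻¹) * g * e = g⁻¹ * (y * s' * y⁻¹ * (g * e * g⁻¹)) * g := by group
          _ = g⁻¹ * (g * e * g⁻¹ * (y * s' * y⁻¹)) * g := by rw [h7]
          _ = _ := by group) with h6 | h6
      · exfalso
        apply hs1
        have h7 : (g⁻¹ * y * g) * s * (g⁻¹ * y * g)⁻¹ = 1 := by rw [← h6, hs']; group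
        exact conj_eq_one_iff.1 h7
      · rw [mem_centralizer_singleton_iff]
        have h7 : y * s' * y⁻¹ = s' := by
          have h8 : g * (g⁻¹ * (y * s' * y⁻¹) * g) * g⁻¹ = g * s * g⁻¹ := by rw [h6]
          calc y * s' * y⁻¹ = g * (g⁻¹ * (y * s' * y⁻¹) * g) * g⁻¹ := by group
            _ = s' := h8
        exact mul_inv_eq_iff_eq_mul.1 h7
    have hNs : Group.IsSolvable ↥(normalizer (T' : Set H)) := by
      have h3 : Group.IsSolvable ↥(centralizer ({s'} : Set H)) := BpNum.solvable_of_dvd Nat.prime_two hp hcard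
      exact Group.isSolvable_of_isSolvable_injective (inclusion_injective hNC)
    have hsup : normalizer (T' : Set H) ⊔ pPrimeCore p H = ⊤ := Sylow.normalizer_sup_eq_top T
    have hq : Group.IsSolvable (H ⧸ pPrimeCore p H) := by
      have h1 : Function.Surjective ((QuotientGroup.mk' (pPrimeCore p H)).comp (normalizer (T' : Set H)).subtype) := by
        intro q
        obtain ⟨g, rfl⟩ := QuotientGroup.mk'_surjective (pPrimeCore p H) q
        have hg : g ∈ normalizer (T' : Set H) ⊔ pPrimeCore p H := by rw [hsup]; exact mem_top g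
        obtain ⟨c, hc, n, hn, rfl⟩ := mem_sup_of_normal_right.1 hg
        refine ⟨⟨c, hc⟩, ?_⟩
        change QuotientGroup.mk' (pPrimeCore p H) c = QuotientGroup.mk' (pPrimeCore p H) (c * n)
        rw [map_mul]
        have h2 : QuotientGroup.mk' (pPrimeCore p H) n = 1 := (QuotientGroup.eq_one_iff _).2 hn
        rw [h2, mul_one]
      exact Group.isSolvable_of_surjective h1
    refine good_of_none fun K hK => ?_
    have h3 := hK.2.1.2
    exact SignalizersComponents.Components.quasisimple_not_isSolvable h3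
      (Group.isSolvable_of_isSolvable_injective (subtype_injective _))
  · -- odd core
    have hodd2 : Nat.Coprime (Nat.card ↥(pPrimeCore p H)) (2 ^ a) := (Nat.coprime_two_right.2 ho).pow_right a
    have hN : Nat.Coprime (Nat.card ↥(pPrimeCore p H)) (2 ^ a * p ^ b) := Nat.Coprime.mul_right hodd2 hcop
    have key : ∀ e : H, orderOf e = 2 → pPrimeCore p H ⊓ centralizer ({e} : Set H) = ⊥ := by
      intro e he
      obtain ⟨g, hg⟩ := hconj e he
      refine fix_eq_bot_of_dvd (N := 2 ^ a * p ^ b) ?_ hN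
      rw [← card_cent_of_conj hg]
      exact hC
    refine good_of_core (core_eq_bot_of_four ho hs2 ht2 htc.symm (key s hs) (key t ht) (key (s * t) ?_))
    refine orderOf_eq_prime ?_ ?_
    · rw [pow_two, mul_assoc, ← mul_assoc t s t, htc, mul_assoc s t t, ht2, mul_one, hs2]
    · intro h3
      apply hts
      rw [eq_inv_of_mul_eq_one_right h3]
      exact inv_eq_of_mul_eq_one_right hs2

end Cent

end Cfsg.Agent.BpSpor
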