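import Cfsg.Agent.BpSpor.Sec
import Cfsg.Agent.BpSpor.Arith
import Mathlib.GroupTheory.FixedPointFree

/-!
# S1332, Monster, `p = 11`, `13`: tools (helper12)

* `good_of_inverted` : `H` finite, `x` central of order `p`, `p²` does not divide `|C_H(t)|` for the involutions `t`, no
  elementary abelian 2-subgroup of `H` admits a nontrivial `p`-automorphism, and for one involution `z` the odd
  normal `p'`-subgroups of `C_H(z)` are trivial. Then `Good p H`.
-/

set_option autoImplicit false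
set_option linter.unusedSectionVars false

open scoped commutatorElement

namespace Cfsg.Agent.BpSpor.MBig

open Subgroup Cfsg Cfsg.Agent.Lib Cfsg.Agent.SignalizersComponents Cfsg.Agent.BpTab
open Cfsg.Agent.Intrinsic.Charac

universe u

/-- commuting subgroups -/
theorem mul_card_dvd_of_comm {Q : Type*} [Group Q] [Finite Q] (K Z R : Subgroup Q)
    (hc : ∀ a ∈ K, ∀ b ∈ Z, a * b = b * a) (hK : K ≤ R) (hZ : Z ≤ R) :
    Nat.card Z * Nat.card (K ⧸ center K) ∣ Nat.card R := by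
  have hcomm : ∀ (a : ↥K) (b : ↥Z), Commute (K.subtype a) (Z.subtype b) := fun a b => hc a a.2 b b.2
  let ψ : ↥K × ↥Z →* Q := MonoidHom.noncommCoprod K.subtype Z.subtype hcomm
  have hψ : ∀ a b, ψ (a, b) = (a : Q) * b := fun a b => rfl
  have h1 : Nat.card ↥K * Nat.card ↥Z = Nat.card ψ.ker * Nat.card ψ.range := by
    rw [← Nat.card_prod, ← card_mul_index ψ.ker, index_ker]
  have h2 : Nat.card ψ.ker ∣ Nat.card (center ↥K) := by
    let j : ↥ψ.ker →* ↥(center ↥K) := ((MonoidHom.fst ↥K ↥Z).comp ψ.ker.subtype).codRestrict (center ↥K) (by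
      rintro ⟨⟨a, b⟩, hab⟩
      rw [MonoidHom.mem_ker, hψ] at hab
      change a ∈ center ↥K
      rw [mem_center_iff]
      intro c
      apply Subtype.ext
      have ha : (a : Q) = (b : Q)⁻¹ := eq_inv_of_mul_eq_one_left hab
      change (c : Q) * (a : Q) = (a : Q) * (c : Q)
      rw [ha]
      exact hc c c.2 _ (inv_mem b.2))
    refine card_dvd_of_injective j ?_
    rintro ⟨⟨a, b⟩, hab⟩ ⟨⟨a', b'⟩, hab'⟩ h
    have h3 : a = a' := congrArg Subtype.val h
    rw [MonoidHom.mem_ker, hψ] at hab hab'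
    subst h3
    have h4 : b = b' := Subtype.ext (mul_left_cancel (hab.trans hab'.symm))
    subst h4
    rfl
  have h3 : Nat.card ↥K = Nat.card (K ⧸ center K) * Nat.card (center ↥K) :=
    card_eq_card_quotient_mul_card_subgroup _
  obtain ⟨c, hc'⟩ := h2
  have h4 : Nat.card ψ.range = Nat.card ↥Z * Nat.card (K ⧸ center K) * c := by
    have h5 : Nat.card ψ.ker * Nat.card ψ.range = Nat.card ψ.ker * (Nat.card ↥Z * Nat.card (K ⧸ center K) * c) := by
      rw [← h1, h3, hc']
      ring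
    exact Nat.eq_of_mul_eq_mul_left Nat.card_pos h5
  refine (Dvd.intro _ h4.symm).trans (card_dvd_of_le ?_)
  rintro _ ⟨⟨a, b⟩, rfl⟩
  exact mul_mem (hK a.2) (hZ b.2)

variable {H : Type u} [Group H] [Finite H] {p : ℕ} [hp : Fact p.Prime]

/-- the simple quotient of a `p`-component has order divisible by `p` -/
theorem dvd_card_simple {L : Subgroup H} (hL : IsPComponent p L) :
    p ∣ Nat.card (↥(L.map (QuotientGroup.mk' (pPrimeCore p H))) ⧸
        center ↥(L.map (QuotientGroup.mk' (pPrimeCore p H)))) := by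
  have hqs : IsQuasisimple ↥(L.map (QuotientGroup.mk' (pPrimeCore p H))) := hL.2.1.2
  obtain ⟨-, -, hgen⟩ := isPComponent_iff.1 hL
  by_contra hnd
  have h1 := not_dvd_of_perfect hqs.1 hnd
  have h2 : PComponents.pElem p (L.map (QuotientGroup.mk' (pPrimeCore p H))) =
      L.map (QuotientGroup.mk' (pPrimeCore p H)) := by
    apply le_antisymm
    · exact PComponents.pElem_le _
    · conv_lhs => rw [← hgen]
      exact pElem_map_le (QuotientGroup.mk' (pPrimeCore p H)) L
  have h3 : L.map (QuotientGroup.mk' (pPrimeCore p H)) = ⊥ := eq_bot_of_coprime_of_pElem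
    ((Nat.Prime.coprime_iff_not_dvd hp.out).2 h1).symm h2
  have h4 := Components.quasisimple_nontrivial hqs
  rw [h3] at h4
  exact not_nontrivial _ h4

/-- a subgroup of the quotient containing a component and the image of the central element of order `p` -/
theorem sq_dvd {x : H} (hx : orderOf x = p) (hxc : x ∈ center H) {L : Subgroup H} (hL : IsPComponent p L)
    {R : Subgroup (H ⧸ pPrimeCore p H)} (hLR : L.map (QuotientGroup.mk' (pPrimeCore p H)) ≤ R)
    (hxR : QuotientGroup.mk' (pPrimeCore p H) x ∈ R) : p ^ 2 ∣ Nat.card R := by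
  have hOc := Cores.pPrimeCore_coprime (G := H) p
  set q := QuotientGroup.mk' (pPrimeCore p H) with hq
  have hqx : orderOf (q x) = p := by
    refine orderOf_eq_prime ?_ ?_
    · have hxp : x ^ p = 1 := by
        have := pow_orderOf_eq_one x
        rwa [hx] at this
      rw [← map_pow, hxp, map_one]
    · intro h
      have h1 : x ∈ pPrimeCore p H := (QuotientGroup.eq_one_iff x).1 h
      have h2 : orderOf (⟨x, h1⟩ : ↥(pPrimeCore p H)) ∣ Nat.card ↥(pPrimeCore p H) := orderOf_dvd_natCard _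
      rw [← Subgroup.orderOf_coe, hx] at h2
      exact (Nat.Prime.coprime_iff_not_dvd hp.out).1 hOc.symm h2
  have h1 := mul_card_dvd_of_comm (L.map q) (zpowers (q x)) R (by
    rintro a - _ ⟨k, rfl⟩
    obtain ⟨a, rfl⟩ := QuotientGroup.mk'_surjective _ a
    show q a * (q x) ^ k = (q x) ^ k * q a
    rw [← map_zpow, ← map_mul, ← map_mul, mem_center_iff.1 (zpow_mem hxc k) a]) hLR (zpowers_le.2 hxR)
  rw [Nat.card_zpowers, hqx] at h1
  refine dvd_trans ?_ h1
  rw [pow_two]
  exact mul_dvd_mul_left p (dvd_card_simple hL)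

/-- `p² ∣ |H / O_{p'}(H)|` -/
theorem sq_dvd_quotient {x : H} (hx : orderOf x = p) (hxc : x ∈ center H) {L : Subgroup H} (hL : IsPComponent p L) :
    p ^ 2 ∣ Nat.card (H ⧸ pPrimeCore p H) := by
  have h := sq_dvd hx hxc hL (R := ⊤) le_top (mem_top _)
  rwa [card_top] at h

/-- An element inverting a normal subgroup of odd order: its centralizer covers the centralizer in the quotient. -/
theorem exists_cent {O : Subgroup H} (hO : O.Normal) (hodd : Odd (Nat.card ↥O)) {z : H}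
    (hinv : ∀ o ∈ O, z * o * z⁻¹ = o⁻¹) {h : H} (hh : h * z * h⁻¹ * z⁻¹ ∈ O) :
    ∃ o ∈ O, (o * h) * z = z * (o * h) := by
  obtain ⟨k, hk⟩ := hodd
  obtain ⟨o, ho⟩ : ∃ o, o = z⁻¹ * (h * z * h⁻¹) := ⟨_, rfl⟩
  have hoO : o ∈ O := by
    have h1 := hO.conj_mem _ hh z⁻¹
    have h2 : z⁻¹ * (h * z * h⁻¹ * z⁻¹) * z⁻¹⁻¹ = o := by rw [ho]; group
    rwa [h2] at h1
  have hon : o ^ Nat.card ↥O = 1 := by
    have : (⟨o, hoO⟩ : ↥O) ^ Nat.card ↥O = 1 := pow_card_eq_one'
    exact congrArg Subtype.val this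
  obtain ⟨r, hr⟩ : ∃ r, r = o ^ (k + 1) := ⟨_, rfl⟩
  have hrO : r ∈ O := hr ▸ pow_mem hoO _
  have hrr : r * r = o := by
    rw [hr, ← pow_add, show k + 1 + (k + 1) = Nat.card ↥O + 1 by omega, pow_succ, hon, one_mul]
  refine ⟨r, hrO, ?_⟩
  have h1 : h * z * h⁻¹ = z * o := by rw [ho]; group
  have h2 : z * r = r⁻¹ * z := by
    have := hinv r hrO
    rw [mul_inv_eq_iff_eq_mul] at this
    exact this
  -- `r (h z h⁻¹) r⁻¹ = r z r = z`
  have h3 : r * h * z * (r * h)⁻¹ = z := by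
    calc r * h * z * (r * h)⁻¹ = r * (h * z * h⁻¹) * r⁻¹ := by group
      _ = r * (z * (r * r)) * r⁻¹ := by rw [h1, hrr]
      _ = r * (z * r) := by group
      _ = z := by rw [h2]; group
  rwa [mul_inv_eq_iff_eq_mul] at h3

/-- The odd core is inverted and abelian: the conclusion. -/
theorem good_of_inv {x : H} (hx : orderOf x = p) (hxc : x ∈ center H) (hodd : Odd (Nat.card ↥(pPrimeCore p H)))
    {z : H} (hinv : ∀ o ∈ pPrimeCore p H, z * o * z⁻¹ = o⁻¹)
    (hz : ¬ p ^ 2 ∣ Nat.card ↥(centralizer ({z} : Set H))) : Good p H := by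
  have hOn := Cores.pPrimeCore_normal (G := H) p
  rw [good_iff]
  intro L hL
  have hgen := PComponents.pElem_pcomp hL
  set O := pPrimeCore p H with hO
  set q := QuotientGroup.mk' O with hq
  have hcomp : IsComponent (L.map q) := hL.2.1
  have hqO : ∀ x, q x = 1 ↔ x ∈ O := fun x => QuotientGroup.eq_one_iff x
  -- `O` is abelian
  have hab : ∀ a ∈ O, ∀ b ∈ O, a * b = b * a := by
    intro a ha b hb
    have h1 := hinv (a * b) (mul_mem ha hb)
    have h2 : z * (a * b) * z⁻¹ = (z * a * z⁻¹) * (z * b * z⁻¹) := by group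
    rw [h2, hinv a ha, hinv b hb, mul_inv_rev] at h1
    -- `a⁻¹ b⁻¹ = b⁻¹ a⁻¹`
    have h3 := congrArg (fun t => t⁻¹) h1
    simp only [mul_inv_rev, inv_inv] at h3
    exact h3.symm
  set C := centralizer (O : Set H) with hC
  have hCn : C.Normal := by rw [hC]; infer_instance
  -- commutators with `z` centralise `O`
  have hcz : ∀ h : H, h * z * h⁻¹ * z⁻¹ ∈ C := by
    intro h
    rw [hC, mem_centralizer_iff]
    intro o ho
    have h1 := hinv o ho
    have h2 : z⁻¹ * o * z = o⁻¹ := by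
      have h3 := hinv o⁻¹ (inv_mem ho)
      rw [inv_inv] at h3
      calc z⁻¹ * o * z = z⁻¹ * (z * o⁻¹ * z⁻¹) * z := by rw [h3]
        _ = o⁻¹ := by group
    have h3 : ∀ o' ∈ O, h * z * h⁻¹ * o' * (h * z * h⁻¹)⁻¹ = o'⁻¹ := by
      intro o' ho'
      have h4 := hinv _ (hOn.conj_mem o' ho' h⁻¹)
      calc h * z * h⁻¹ * o' * (h * z * h⁻¹)⁻¹ = h * (z * (h⁻¹ * o' * h⁻¹⁻¹) * z⁻¹) * h⁻¹ := by group
        _ = o'⁻¹ := by rw [h4]; group
    have h4 := h3 o⁻¹ (inv_mem ho)
    rw [inv_inv] at h4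
    have h5 : h * z * h⁻¹ * z⁻¹ * o * (h * z * h⁻¹ * z⁻¹)⁻¹ = o := by
      calc h * z * h⁻¹ * z⁻¹ * o * (h * z * h⁻¹ * z⁻¹)⁻¹
          = h * z * h⁻¹ * (z⁻¹ * o * z) * (h * z * h⁻¹)⁻¹ := by group
        _ = o := by rw [h2, h4]
    rw [mul_inv_eq_iff_eq_mul] at h5
    exact h5.symm
  rw [commutator_eq_bot_iff_le_centralizer]
  have hCq : (C.map q).Normal := hCn.map q (QuotientGroup.mk'_surjective _)
  rcases Components.component_le_or_commutator_eq_bot_of_le_normalizer hcomp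
    (H := C.map q) (by rw [normalizer_eq_top_iff.2 hCq]; exact le_top) with h | h
  · -- `L ≤ C`
    intro l hl
    obtain ⟨c, hc, hcl⟩ := h (mem_map_of_mem q hl)
    have h1 : c⁻¹ * l ∈ O := by rw [← hqO, map_mul, map_inv, hcl, inv_mul_cancel]
    have h2 : l = c * (c⁻¹ * l) := by group
    rw [h2]
    exact mul_mem hc (mem_centralizer_iff.2 fun o ho => hab o ho _ h1)
  · exfalso
    -- `z` centralises the component
    have hK : ⁅zpowers (q z), L.map q⁆ = ⊥ := by
      refine Components.commutator_eq_bot_of_commutator_commutator_eq_bot hcomp.2.1 ?_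
      rw [eq_bot_iff, ← h, commutator_comm]
      refine commutator_mono le_rfl ?_
      rw [commutator_le]
      rintro _ ⟨k, rfl⟩ _ ⟨l, -, rfl⟩
      have h1 : ⁅z ^ k, l⁆ ∈ C := by
        let π := QuotientGroup.mk' C
        have h2 : ∀ g, π g * π z = π z * π g := by
          intro g
          have h3 : π (g * z * g⁻¹ * z⁻¹) = 1 := (QuotientGroup.eq_one_iff _).2 (hcz g)
          rw [map_mul, map_mul, map_mul, map_inv, map_inv, mul_inv_eq_one, mul_inv_eq_iff_eq_mul] at h3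
          exact h3
        rw [← QuotientGroup.ker_mk' C, MonoidHom.mem_ker, map_commutatorElement, commutatorElement_eq_one_iff_mul_comm,
          map_zpow]
        exact ((show Commute (π l) (π z) from h2 l).zpow_right k).symm.eq
      have h2 := mem_map_of_mem q h1
      rw [map_commutatorElement, map_zpow] at h2
      exact h2
    -- `C_H(z)` covers
    set R := (centralizer ({z} : Set H)).map q with hR
    have hcov : ∀ h : H, q h * q z = q z * q h → q h ∈ R := by
      intro h hh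
      have h1 : h * z * h⁻¹ * z⁻¹ ∈ O := by
        rw [← hqO, map_mul, map_mul, map_mul, map_inv, map_inv, hh]
        group
      obtain ⟨o, ho, hc⟩ := exists_cent hOn hodd hinv h1
      refine ⟨o * h, mem_centralizer_singleton_iff.2 hc, ?_⟩
      rw [map_mul, (hqO o).2 ho, one_mul]
    have h1 : L.map q ≤ R := by
      rintro _ ⟨l, hl, rfl⟩
      apply hcov
      have h2 : ⁅q z, q l⁆ = 1 := by
        have h3 : ⁅q z, q l⁆ ∈ ⁅zpowers (q z), L.map q⁆ :=
          commutator_mem_commutator (mem_zpowers _) (mem_map_of_mem q hl)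
        rwa [hK, mem_bot] at h3
      exact (commutatorElement_eq_one_iff_mul_comm.1 h2).symm
    have h2 : q x ∈ R := by
      refine ⟨x, mem_centralizer_singleton_iff.2 ?_, rfl⟩
      exact (mem_center_iff.1 hxc z).symm
    have h3 := sq_dvd hx hxc hL h1 h2
    exact hz (h3.trans (card_map_dvd _ q))


/-- `Ω₁(Z(U))` of a 2-subgroup -/
def omegaZ (U : Subgroup H) : Subgroup H where
  carrier := {x | x ∈ U ∧ x * x = 1 ∧ ∀ u ∈ U, x * u = u * x}
  one_mem' := ⟨one_mem _, by group, fun u _ => by group⟩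
  mul_mem' := by
    rintro a b ⟨ha, ha2, hac⟩ ⟨hb, hb2, hbc⟩
    refine ⟨mul_mem ha hb, ?_, fun u hu => ?_⟩
    · calc a * b * (a * b) = a * (b * a) * b := by group
        _ = a * (a * b) * b := by rw [hbc a ha]
        _ = (a * a) * (b * b) := by group
        _ = 1 := by rw [ha2, hb2, mul_one]
    · rw [mul_assoc, hbc u hu, ← mul_assoc, hac u hu, mul_assoc]
  inv_mem' := by
    rintro a ⟨ha, ha2, hac⟩
    have e : a⁻¹ = a := inv_eq_of_mul_eq_one_left ha2
    rw [e]
    exact ⟨ha, ha2, hac⟩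

omit [Finite H] in
theorem mem_omegaZ {U : Subgroup H} {x : H} :
    x ∈ omegaZ U ↔ x ∈ U ∧ x * x = 1 ∧ ∀ u ∈ U, x * u = u * x := Iff.rfl

omit [Finite H] in
theorem norm_omegaZ (U : Subgroup H) : normalizer (U : Set H) ≤ normalizer ((omegaZ U : Subgroup H) : Set H) := by
  have key : ∀ n ∈ normalizer (U : Set H), ∀ x ∈ omegaZ U, n * x * n⁻¹ ∈ omegaZ U := by
    rintro n hn x ⟨hx, hx2, hxc⟩
    refine ⟨(mem_normalizer_iff.1 hn x).1 hx, ?_, fun u hu => ?_⟩
    · calc n * x * n⁻¹ * (n * x * n⁻¹) = n * (x * x) * n⁻¹ := by group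
        _ = 1 := by rw [hx2]; group
    · have h1 : n⁻¹ * u * n ∈ U := by
        have h2 := (mem_normalizer_iff.1 (inv_mem hn) u).1 hu
        rwa [inv_inv] at h2
      calc n * x * n⁻¹ * u = n * (x * (n⁻¹ * u * n)) * n⁻¹ := by group
        _ = n * ((n⁻¹ * u * n) * x) * n⁻¹ := by rw [hxc _ h1]
        _ = u * (n * x * n⁻¹) := by group
  intro n hn
  rw [mem_normalizer_iff]
  intro x
  refine ⟨key n hn x, fun hx => ?_⟩
  have h1 := key n⁻¹ (inv_mem hn) _ hx
  have e : n⁻¹ * (n * x * n⁻¹) * n⁻¹⁻¹ = x := by group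
  rwa [e] at h1

theorem exists_omegaZ {U : Subgroup H} (hU : IsPGroup 2 ↥U) (hU1 : U ≠ ⊥) : ∃ t ∈ omegaZ U, orderOf t = 2 := by
  have : Fact (Nat.Prime 2) := ⟨Nat.prime_two⟩
  have hnt : Nontrivial ↥U := (Subgroup.nontrivial_iff_ne_bot U).2 hU1
  have hZ := hU.center_nontrivial
  have hZp : IsPGroup 2 ↥(center ↥U) := hU.to_subgroup _
  obtain ⟨z, hz⟩ : ∃ z : ↥(center ↥U), orderOf z = 2 := by
    apply exists_prime_orderOf_dvd_card' 2
    obtain ⟨n, hn⟩ := IsPGroup.iff_card.1 hZp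
    have h1 : n ≠ 0 := by
      rintro rfl
      rw [pow_zero] at hn
      exact (Finite.one_lt_card (α := ↥(center ↥U))).ne' hn
    rw [hn]
    exact dvd_pow_self 2 h1
  have ho : orderOf (((z : ↥(center ↥U)) : ↥U) : H) = 2 := by
    rw [Subgroup.orderOf_coe, Subgroup.orderOf_coe, hz]
  refine ⟨_, ⟨(z : ↥U).2, ?_, fun u hu => ?_⟩, ho⟩
  · rw [← pow_two]
    have := pow_orderOf_eq_one (((z : ↥(center ↥U)) : ↥U) : H)
    rwa [ho] at this
  · exact (congrArg Subtype.val (mem_center_iff.1 z.2 ⟨u, hu⟩)).symm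

/-- no `p`-element acts nontrivially on an elementary abelian 2-subgroup -/
def NoTwo (p : ℕ) (H : Type u) [Group H] : Prop :=
  ∀ A : Subgroup H, (∀ a ∈ A, a * a = 1) → ∀ m, 1 ≤ m → 2 ^ m ∣ Nat.card ↥A → ¬ p ∣ 2 ^ m - 1

/-- **The core has odd order.** -/
theorem odd_core {x : H} (hp2 : p ≠ 2) (hx : orderOf x = p) (hxc : x ∈ center H) {L : Subgroup H}
    (hL : IsPComponent p L) (ha : ∀ t : H, orderOf t = 2 → ¬ p ^ 2 ∣ Nat.card ↥(centralizer ({t} : Set H)))
    (hb : NoTwo p H) : Odd (Nat.card ↥(pPrimeCore p H)) := by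
  have hOn := Cores.pPrimeCore_normal (G := H) p
  have : Fact (Nat.Prime 2) := ⟨Nat.prime_two⟩
  by_contra hodd
  rw [Nat.not_odd_iff_even] at hodd
  set O := pPrimeCore p H with hO
  obtain ⟨P⟩ : Nonempty (Sylow 2 ↥O) := inferInstance
  set P' : Subgroup H := (P : Subgroup ↥O).map O.subtype with hP'
  have hP2 : IsPGroup 2 ↥P' := P.2.map _
  have hP1 : P' ≠ ⊥ := by
    intro h
    rw [hP', map_eq_bot_iff_of_injective _ O.subtype_injective] at h
    have h1 := P.card_eq_multiplicity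
    rw [h, card_bot] at h1
    have h2 : 2 ^ 1 ∣ 2 ^ (Nat.card ↥O).factorization 2 := by
      refine pow_dvd_pow 2 ?_
      exact (Nat.prime_two.dvd_iff_one_le_factorization Nat.card_pos.ne').1 hodd.two_dvd
    rw [← h1] at h2
    norm_num at h2
  obtain ⟨t, htA, ht⟩ := exists_omegaZ hP2 hP1
  set N := normalizer (P' : Set H) with hN
  have htop : N ⊔ O = ⊤ := Sylow.normalizer_sup_eq_top P
  -- `|H/O|` divides `|N|`
  have hmap : N.map (QuotientGroup.mk' O) = ⊤ := by
    rw [eq_top_iff]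
    rintro y -
    obtain ⟨h, rfl⟩ := QuotientGroup.mk'_surjective _ y
    have h1 : h ∈ N ⊔ O := htop ▸ mem_top h
    rw [mem_sup_of_normal_right] at h1
    obtain ⟨n, hn, o, ho, rfl⟩ := h1
    refine ⟨n, hn, ?_⟩
    rw [map_mul, show QuotientGroup.mk' O o = 1 from (QuotientGroup.eq_one_iff o).2 ho, mul_one]
  have hdvd : p ^ 2 ∣ Nat.card ↥N := by
    have h1 : p ^ 2 ∣ Nat.card (H ⧸ O) := sq_dvd_quotient hx hxc hL
    have h2 : Nat.card ↥(N.map (QuotientGroup.mk' O)) = Nat.card (H ⧸ O) := by rw [hmap, card_top]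
    rw [← h2] at h1
    exact h1.trans (card_map_dvd _ _)
  obtain ⟨Y, hY⟩ := Sylow.exists_subgroup_card_pow_prime p hdvd
  set Y' : Subgroup H := Y.map N.subtype with hY'
  have hYc : Nat.card ↥Y' = p ^ 2 := by rw [hY', card_map_of_injective N.subtype_injective, hY]
  have hYN : Y' ≤ N := map_subtype_le Y
  refine ha t ht ?_
  rw [← hYc]
  apply card_dvd_of_le
  intro y hy
  have hyp : ∃ n, y ^ p ^ n = 1 := by
    have h1 : (⟨y, hy⟩ : ↥Y') ^ Nat.card ↥Y' = 1 := pow_card_eq_one'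
    rw [hYc] at h1
    exact ⟨2, congrArg Subtype.val h1⟩
  obtain ⟨n, hn⟩ := hyp
  have hA2 : IsPGroup 2 ↥(omegaZ P') := by
    rintro ⟨a, ha⟩
    refine ⟨1, Subtype.ext ?_⟩
    show a ^ 2 ^ 1 = 1
    rw [pow_one, pow_two, ha.2.1]
  have h1 := Arith.cent_of_index (p := p) hp.out hn Nat.prime_two (Ne.symm hp2) hA2 (norm_omegaZ P' (hYN hy))
    (fun m hm hmd _ => hb (omegaZ P') (fun a ha => ha.2.1) m hm hmd)
  exact mem_centralizer_singleton_iff.2 (mem_centralizer_singleton_iff.1 (h1 htA)).symm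

/-- an involution without fixed points inverts -/
theorem inv_of_fpf {O : Subgroup H} (hO : O.Normal) {z : H} (hz : z * z = 1)
    (h : ∀ o ∈ O, o * z = z * o → o = 1) : ∀ o ∈ O, z * o * z⁻¹ = o⁻¹ := by
  let φ : ↥O →* ↥O := (MulAut.conjNormal z).toMonoidHom
  have hφ : ∀ o : ↥O, ((φ o : ↥O) : H) = z * o * z⁻¹ := fun o => MulAut.conjNormal_apply z o
  have hf : MonoidHom.FixedPointFree φ := by
    intro o ho
    have h1 : z * (o : H) * z⁻¹ = o := by rw [← hφ, ho]
    rw [mul_inv_eq_iff_eq_mul] at h1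
    exact Subtype.ext (h o o.2 h1.symm)
  have hi : Function.Involutive φ := by
    intro o
    apply Subtype.ext
    rw [hφ, hφ]
    have hz' : z⁻¹ = z := inv_eq_of_mul_eq_one_left hz
    calc z * (z * (o : H) * z⁻¹) * z⁻¹ = (z * z) * o * (z⁻¹ * z⁻¹) := by group
      _ = o := by rw [hz', hz, one_mul, mul_one]
  intro o ho
  have h1 := congrFun (MonoidHom.FixedPointFree.coe_eq_inv_of_involutive hf hi) ⟨o, ho⟩
  have h2 := congrArg (fun y : ↥O => (y : H)) h1
  exact (hφ ⟨o, ho⟩).symm.trans h2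

/-- **The criterion.** -/
theorem good_of_inverted {x : H} (hp2 : p ≠ 2) (hx : orderOf x = p) (hxc : x ∈ center H)
    (ha : ∀ t : H, orderOf t = 2 → ¬ p ^ 2 ∣ Nat.card ↥(centralizer ({t} : Set H))) (hb : NoTwo p H)
    {z : H} (hz : orderOf z = 2)
    (hc : ∀ N : Subgroup H, N ≤ centralizer ({z} : Set H) → (∀ c : H, c * z = z * c → ∀ n ∈ N, c * n * c⁻¹ ∈ N) →
      Odd (Nat.card ↥N) → ¬ p ∣ Nat.card ↥N → N = ⊥) : Good p H := by
  have hOn := Cores.pPrimeCore_normal (G := H) p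
  have hOc := Cores.pPrimeCore_coprime (G := H) p
  by_cases hex : ∃ L : Subgroup H, IsPComponent p L
  swap
  · exact good_of_none fun K hK => hex ⟨K, hK⟩
  obtain ⟨L, hL⟩ := hex
  have hodd := odd_core hp2 hx hxc hL ha hb
  have hzz : z * z = 1 := by
    rw [← pow_two]
    have := pow_orderOf_eq_one z
    rwa [hz] at this
  have h1 : pPrimeCore p H ⊓ centralizer ({z} : Set H) = ⊥ := by
    refine hc _ inf_le_right ?_ ?_ ?_
    · rintro c hcz n ⟨hn, hnz⟩
      refine ⟨hOn.conj_mem n hn c, mem_centralizer_singleton_iff.2 ?_⟩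
      have h2 : n * z = z * n := mem_centralizer_singleton_iff.1 hnz
      have h3 : c⁻¹ * z = z * c⁻¹ := by
        rw [inv_mul_eq_iff_eq_mul, ← mul_assoc, hcz, mul_inv_cancel_right]
      calc c * n * c⁻¹ * z = c * n * (c⁻¹ * z) := by group
        _ = c * (n * z) * c⁻¹ := by rw [h3]; group
        _ = c * z * n * c⁻¹ := by rw [h2]; group
        _ = z * (c * n * c⁻¹) := by rw [hcz]; group
    · exact Odd.of_dvd_nat hodd (card_dvd_of_le inf_le_left)
    · intro hd
      exact (Nat.Prime.coprime_iff_not_dvd hp.out).1 hOc.symm (hd.trans (card_dvd_of_le inf_le_left))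
  refine good_of_inv hx hxc hodd (z := z) ?_ (ha z hz)
  refine inv_of_fpf hOn hzz fun o ho hoz => ?_
  have h2 : o ∈ pPrimeCore p H ⊓ centralizer ({z} : Set H) := ⟨ho, mem_centralizer_singleton_iff.2 hoz⟩
  rwa [h1, mem_bot] at h2

end Cfsg.Agent.BpSpor.MBig
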