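import Cfsg.Agent.LThreeM.SigRow
import Cfsg.Agent.BabyComp.BaseTwo
import Cfsg.Agent.LThreeB.Row
import Cfsg.Agent.BpSpor.MBigCo
import Cfsg.Agent.BpSpor.MBigTool
import Cfsg.Agent.BpSpor.LocalCrit
import Cfsg.Agent.BpSpor.Inn.M
import Cfsg.Agent.BpSpor.RowAll
import Cfsg.Agent.MFive.Rho
import Cfsg.Agent.MonsterX.MainOrder
import Cfsg.Agent.MFive.KPair
import Cfsg.Agent.S0205

-- merged: Cfsg.Agent.BpSpor.MBigPure
section

/-!
# Elementary abelian 2-subgroups of the Monster of order 16 contain elements of the class `2B` (helper12)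

* `three` : in the Baby Monster `t`, `b`, `c`, `t b`, `t c`, `b c`, `t b c` are not all transpositions;
* `conj_q` : the image of `f₁` in the Baby Monster is a transposition;
* `not_pure` : an elementary abelian subgroup of order at least 16 of the model contains a conjugate of `z`.
-/

set_option autoImplicit false
set_option linter.constructorNameAsVariable false
set_option maxRecDepth 100000

open Subgroup

namespace Cfsg.Agent.BpSpor.MBigPure

open Cfsg Cfsg.Lie Cfsg.Agent.Bimonster Cfsg.Agent.Bimonster.Tits Cfsg.Agent.BabyU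
open Cfsg.Agent.MonsterX.KSide Cfsg.Agent.MonsterX.KLift Cfsg.Agent.MonsterX.KModel
open Cfsg.Agent.MonsterX.Model Cfsg.Agent.MonsterX.MainPack Cfsg.Agent.MonsterX.MainSimple
open Cfsg.Agent.MonsterX.MainBasic Cfsg.Agent.MonsterU.Assembly Cfsg.Agent.MonsterN.Lit Cfsg.Agent.MonsterN
open Cfsg.Agent.MonsterN.LitInst Cfsg.Agent.MonsterU.Lam2 Cfsg.Agent.MonsterU.TwoCls
open Cfsg.Agent.BabyComp Cfsg.Agent.R01.Lifts

/-- Three independent commuting transpositions. -/
theorem three {X : Type*} [Group X] {t : X} {M₁ : Subgroup X} (B : BaseTwo.Base2 t M₁) {b c : X}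
    (hb : IsConj t b) (hc : IsConj t c) (htb : b * t = t * b) (htc : c * t = t * c) (hbt : b ≠ t) (hct : c ≠ t)
    (hbct : b * c ≠ t) (hbc : IsConj t (b * c)) (h1 : IsConj t (t * b)) (h2 : IsConj t (t * c))
    (h3 : IsConj t (t * (b * c))) : False := by
  by_cases hbM : b ∈ M₁
  · exact B.prod_ne b hb hbM hbt h1
  by_cases hcM : c ∈ M₁
  · exact B.prod_ne c hc hcM hct h2
  exact B.prod_ne _ hbc (B.M_index b c htb htc hbM hcM) hbct h3

theorem exists_notMem {G : Type*} [Group G] (A : Subgroup G) (l : List G) (h : l.length < Nat.card ↥A) :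
    ∃ a ∈ A, a ∉ l := by
  classical
  by_contra hcon
  push Not at hcon
  have hfin : Finite ↥A := Nat.finite_of_card_ne_zero (by omega)
  let f : ↥A → {x // x ∈ l.toFinset} := fun a => ⟨a, List.mem_toFinset.2 (hcon a a.2)⟩
  have hf : Function.Injective f := fun a b hab => Subtype.ext (congrArg (fun x : {x // x ∈ l.toFinset} => (x : G)) hab)
  have h1 := Nat.card_le_card_of_injective f hf
  rw [Nat.card_eq_fintype_card (α := {x // x ∈ l.toFinset}), Fintype.card_coe] at h1
  have h2 := List.toFinset_card_le l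
  omega

/-- an element of order 19 modulo the kernel -/
theorem nineteen_dvd {X B : Type*} [Group X] [Finite X] [Group B] [Finite B] {q : X →* B} {z : X} (hq : Ext q z) {y : X}
    (h : 19 ∣ Nat.card ↥(centralizer ({q y} : Set B))) : 19 ∣ Nat.card ↥(centralizer ({y} : Set X)) := by
  have : Fact (Nat.Prime 19) := ⟨by norm_num⟩
  obtain ⟨g, hg⟩ := exists_prime_orderOf_dvd_card' 19 h
  obtain ⟨k, hk⟩ := hq.surj (g : B)
  have hgc : (g : B) * q y = q y * g := mem_centralizer_singleton_iff.1 g.2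
  have hgo : orderOf (g : B) = 19 := by rw [Subgroup.orderOf_coe, hg]
  have h1 : q (k * y * k⁻¹ * y⁻¹) = 1 := by
    rw [map_mul, map_mul, map_mul, map_inv, map_inv, hk, hgc]
    group
  have h2 : k * k * y = y * (k * k) := by
    have hkz := hq.comm k
    rcases (hq.ker _).1 h1 with h3 | h3
    · have h4 : k * y = y * k := by
        calc k * y = (k * y * k⁻¹ * y⁻¹) * (y * k) := by group
          _ = y * k := by rw [h3, one_mul]
      rw [mul_assoc, h4, ← mul_assoc, h4, mul_assoc]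
    · have h4 : k * y = z * (y * k) := by
        calc k * y = (k * y * k⁻¹ * y⁻¹) * (y * k) := by group
          _ = z * (y * k) := by rw [h3]
      calc k * k * y = k * (k * y) := by group
        _ = k * z * (y * k) := by rw [h4]; group
        _ = z * (k * y) * k := by rw [hkz]; group
        _ = (z * z) * y * k * k := by rw [h4]; group
        _ = y * (k * k) := by rw [hq.zz]; group
  have hm : k * k ∈ centralizer ({y} : Set X) := mem_centralizer_singleton_iff.2 h2
  have h3 : orderOf (q (k * k)) = 19 := by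
    have h4 : q (k * k) = (g : B) ^ 2 := by rw [map_mul, hk, pow_two]
    rw [h4, orderOf_pow, hgo]
    norm_num
  have h4 : 19 ∣ orderOf (k * k) := by
    rw [← h3]
    exact orderOf_map_dvd q _
  rw [← Subgroup.orderOf_mk _ hm] at h4
  exact h4.trans (orderOf_dvd_natCard _)

variable {V P W : Type} [AddCommGroup V] [Module ℚ V] [Group P] [AddCommGroup W] [Module ℚ W]
  {D : MData V} {M : KS ↥D.G V P W} {x₀ : P} {θ : leechLattice → P} {K₀ : Type} [Group K₀]

/-- **`f₁` is a transposition modulo `t`.** -/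
theorem exists_q (A : All D K₀) (H : Link D M x₀) (L : Lift M θ) {y : ℕ → D.G} (hP : PRel y) (hne : y 0 ≠ y 1)
    (hy : ∃ g : D.G, g * tG A.hG A.hR * g⁻¹ = y 10) {f₁ f₂ f₃ f₄ : BB M x₀}
    (Fc : FusionType.Facts (tb M x₀) f₁ f₂ f₃ f₄)
    (hcz : ∀ h, IsConj (tb M x₀ * (f₁ * f₂)) (⟨M.z, h⟩ : BB M x₀))
    (hcd : IsConj M.z ((f₁ * f₂ * f₃ : BB M x₀) : D.G)) :
    ∃ (q : BB M x₀ →* Spor.BabyMonster) (M₁ : Subgroup Spor.BabyMonster), Ext q (tb M x₀) ∧
      BaseTwo.Base2 (q f₁) M₁ := by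
  have hfin : Finite D.G := G_finite A.hO
  have hfB : Finite Spor.BabyMonster := Nat.finite_of_card_ne_zero (by rw [BM.KHAll.card_B]; norm_num)
  obtain ⟨⟨h1, h2, h3⟩, h43⟩ := ModelB.fieldsKS A H L hP hne hy Cfsg.Agent.S1704.result H.x₀_mem
  have hzm : M.z ∈ BB M x₀ := mem_centralizer_singleton_iff.2 (by
    show M.ι M.zc * M.ι x₀ = M.ι x₀ * M.ι M.zc
    rw [← map_mul, ← map_mul, M.zc_comm])
  have hE : Emb (BB M x₀).subtype M.z (tb M x₀) f₁ f₂ f₃ :=
    ⟨Subtype.val_injective, nineteen H A, ((BB M x₀).subtype.map_isConj (hcz hzm)).symm, hcd⟩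
  obtain ⟨q, hq⟩ := NodesLit.exists_ext h1 h3 Fc.cen Fc.t_ne
  obtain ⟨yB, hyB, h10, hπ, -⟩ := LiftB.exists_pre_of_perfect fi_facts hq h2
  have hy4 : q (yB 4) = PresentedGroup.of Spor.BabyMonster.Gen.t1 := hπ .t1
  have hcard : Nat.card (centralizer ({PresentedGroup.of Spor.BabyMonster.Gen.t1} : Set Spor.BabyMonster)) =
    306129918735099415756800 := BM.KHAll.card_cent .t1
  have hne1 : q (yB 4) ≠ 1 := by
    intro e
    have h3 : centralizer ({1} : Set Spor.BabyMonster) = ⊤ := by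
      rw [eq_top_iff]
      intro x _
      rw [mem_centralizer_singleton_iff, mul_one, one_mul]
    rw [← hy4, e, h3, card_top, BM.KHAll.card_B] at hcard
    norm_num at hcard
  have hf : IsConj f₁ (yB 4) := by
    refine conj_of_nineteen Fc hE (hyB.sq 4 (by norm_num) (by norm_num)) ?_ ?_ ?_
    · intro e; exact hne1 (by rw [e, map_one])
    · intro e; exact hne1 (by rw [e, hq.mapz])
    · refine nineteen_dvd hq ?_
      rw [hy4, hcard]
      norm_num
  have hqf : IsConj (q f₁) (PresentedGroup.of Spor.BabyMonster.Gen.t1 : Spor.BabyMonster) := by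
    rw [← hy4]
    exact q.map_isConj hf
  obtain ⟨M₁, hM₁⟩ := BaseTwo.exists_base2 hqf
  exact ⟨q, M₁, hq, hM₁⟩

/-- Type `A`: `w` and `t w` are conjugate to `t`. -/
theorem type_a (A : All D K₀) (H : Link D M x₀) (L : Lift M θ) {f₁ f₂ f₃ f₄ : BB M x₀}
    (Fc : FusionType.Facts (tb M x₀) f₁ f₂ f₃ f₄)
    (hcz : ∀ h, IsConj (tb M x₀ * (f₁ * f₂)) (⟨M.z, h⟩ : BB M x₀))
    (hcd : IsConj M.z ((f₁ * f₂ * f₃ : BB M x₀) : D.G)) {w : BB M x₀} (hw : w * w = 1) (hw1 : w ≠ 1)
    (hwt : w ≠ tb M x₀) (hc : IsConj (M.ι x₀) (w : D.G)) (hct : IsConj (M.ι x₀) (M.ι x₀ * (w : D.G))) :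
    IsConj f₁ w := by
  have hnc := LThreeM.SigPar.not_conj A H L
  have hzm : M.z ∈ BB M x₀ := mem_centralizer_singleton_iff.2 (by
    show M.ι M.zc * M.ι x₀ = M.ι x₀ * M.ι M.zc
    rw [← map_mul, ← map_mul, M.zc_comm])
  rcases Fc.classes w hw hw1 hwt with h | h | h | h
  · exact h
  · exfalso
    have h1 := FusionType.conj_mul_t Fc.cen h
    have h2 := (BB M x₀).subtype.map_isConj ((hcz hzm).symm.trans h1)
    exact hnc (h2.trans hct.symm)
  · exfalso
    have h2 := (BB M x₀).subtype.map_isConj ((hcz hzm).symm.trans h)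
    exact hnc (h2.trans hc.symm)
  · exfalso
    have h2 := (BB M x₀).subtype.map_isConj h
    exact hnc ((hcd.trans h2).trans hc.symm)

/-- **No elementary abelian subgroup of order 16 all of whose involutions are conjugate to `ι x₀`.** -/
theorem not_pure_t (A : All D K₀) (H : Link D M x₀) (L : Lift M θ) {τ : D.G} {y' : P}
    (T : Cfsg.Agent.MonsterU.InvTwo.TauHyp M θ ⊤ τ y') {y : ℕ → D.G} (hP : PRel y) (hne : y 0 ≠ y 1)
    (hy : ∃ g : D.G, g * tG A.hG A.hR * g⁻¹ = y 10) (E : Subgroup D.G) (hE : ∀ a ∈ E, a * a = 1)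
    (hc : 16 ≤ Nat.card ↥E) (ht : M.ι x₀ ∈ E) : ∃ w ∈ E, w ≠ 1 ∧ ¬ IsConj (M.ι x₀) w := by
  by_contra hcon
  push Not at hcon
  obtain ⟨f₁, f₂, f₃, f₄, Fc, hcz, hcd, -⟩ := FusInst.exists_facts A H L T H.x₀_mem
  obtain ⟨q, M₁, hq, hB⟩ := exists_q A H L hP hne hy Fc hcz hcd
  set t := M.ι x₀ with ht'
  have htt : t * t = 1 := hE t ht
  -- `E` is abelian
  have hab : ∀ a ∈ E, ∀ b ∈ E, a * b = b * a := by
    intro a ha b hb
    have h1 := hE _ (mul_mem ha hb)
    have h2 : a * b = (a * b)⁻¹ := eq_inv_of_mul_eq_one_left h1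
    have ha' : a⁻¹ = a := inv_eq_of_mul_eq_one_left (hE a ha)
    have hb' : b⁻¹ = b := inv_eq_of_mul_eq_one_left (hE b hb)
    rw [mul_inv_rev, ha', hb'] at h2
    exact h2
  obtain ⟨a, haE, ha⟩ := exists_notMem E [1, t] (by simp only [List.length]; omega)
  obtain ⟨b, hbE, hb⟩ := exists_notMem E [1, t, a, t * a] (by simp only [List.length]; omega)
  obtain ⟨c, hcE, hc⟩ := exists_notMem E [1, t, a, t * a, b, t * b, a * b, t * (a * b)]
    (by simp only [List.length]; omega)
  simp only [List.mem_cons, List.not_mem_nil, or_false, not_or] at ha hb hc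
  -- lift to `C(t)`
  have key : ∀ w ∈ E, w ≠ 1 → w ≠ t → ∃ w' : BB M x₀, (w' : D.G) = w ∧ IsConj f₁ w' := by
    intro w hw hw1 hwt
    have hm : w ∈ BB M x₀ := mem_centralizer_singleton_iff.2 (hab w hw t ht)
    refine ⟨⟨w, hm⟩, rfl, type_a A H L Fc hcz hcd (Subtype.ext (hE w hw)) ?_ ?_ (hcon w hw hw1)
      (hcon _ (mul_mem ht hw) ?_)⟩
    · intro h; exact hw1 (congrArg Subtype.val h)
    · intro h; exact hwt (congrArg Subtype.val h)
    · intro h
      apply hwt
      calc w = t * t * w := by rw [htt, one_mul]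
        _ = t * (t * w) := by group
        _ = t := by rw [h, mul_one]
  have sqm : ∀ u ∈ E, ∀ v ∈ E, u * v = 1 → v = u := by
    intro u hu v hv h
    calc v = u * u * v := by rw [hE u hu, one_mul]
      _ = u * (u * v) := by group
      _ = u := by rw [h, mul_one]
  have tqm : ∀ u ∈ E, ∀ v ∈ E, u * v = t → v = t * u := by
    intro u hu v hv h
    calc v = u * u * v := by rw [hE u hu, one_mul]
      _ = u * (u * v) := by group
      _ = t * u := by rw [h, hab u hu t ht]
  obtain ⟨a', ha', hfa⟩ := key a haE ha.1 ha.2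
  obtain ⟨b', hb', hfb⟩ := key b hbE hb.1 hb.2.1
  obtain ⟨c', hc', hfc⟩ := key c hcE hc.1 hc.2.1
  have hab1 : a * b ≠ 1 := fun h => hb.2.2.1 (sqm a haE b hbE h)
  have habt : a * b ≠ t := fun h => hb.2.2.2 (tqm a haE b hbE h)
  have hac1 : a * c ≠ 1 := fun h => hc.2.2.1 (sqm a haE c hcE h)
  have hact : a * c ≠ t := fun h => hc.2.2.2.1 (tqm a haE c hcE h)
  have hbc1 : b * c ≠ 1 := fun h => hc.2.2.2.2.1 (sqm b hbE c hcE h)
  have hbct : b * c ≠ t := fun h => hc.2.2.2.2.2.1 (tqm b hbE c hcE h)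
  have habc1 : a * (b * c) ≠ 1 := by
    intro h
    rw [← mul_assoc] at h
    exact hc.2.2.2.2.2.2.1 (sqm _ (mul_mem haE hbE) c hcE h)
  have habct : a * (b * c) ≠ t := by
    intro h
    rw [← mul_assoc] at h
    exact hc.2.2.2.2.2.2.2 (tqm _ (mul_mem haE hbE) c hcE h)
  -- the class of the products
  have hval : ∀ {u' v' : BB M x₀} {u v : D.G}, (u' : D.G) = u → (v' : D.G) = v → ((u' * v' : BB M x₀) : D.G) = u * v :=
    fun hu hv => by rw [Subgroup.coe_mul, hu, hv]
  have conj_prod : ∀ {u' : BB M x₀} {u : D.G}, (u' : D.G) = u → u ∈ E → u ≠ 1 → u ≠ t → IsConj f₁ u' := by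
    intro u' u hu huE hu1 hut
    obtain ⟨w', hw', h⟩ := key u huE hu1 hut
    have h1 : w' = u' := Subtype.ext (hw'.trans hu.symm)
    rwa [h1] at h
  have cab := conj_prod (hval ha' hb') (mul_mem haE hbE) hab1 habt
  have cac := conj_prod (hval ha' hc') (mul_mem haE hcE) hac1 hact
  have cbc := conj_prod (hval hb' hc') (mul_mem hbE hcE) hbc1 hbct
  have cabc := conj_prod (hval ha' (hval hb' hc')) (mul_mem haE (mul_mem hbE hcE)) habc1 habct
  obtain ⟨g, hg⟩ := isConj_iff.1 hfa.symm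
  -- conjugate by `g`
  have hgc : ∀ {u : BB M x₀}, IsConj f₁ u → IsConj (q f₁) (q (g * u * g⁻¹)) := fun h =>
    q.map_isConj (h.trans (isConj_iff.2 ⟨g, rfl⟩))
  have hqne : ∀ {u' : BB M x₀} {u : D.G}, (u' : D.G) = u → a * u ≠ 1 → a * u ≠ t → q (g * u' * g⁻¹) ≠ q f₁ := by
    intro u' u hu h1 h2 h
    have h3 : q (a' * u') = 1 := by
      rw [← hg, map_mul, map_mul, map_mul, map_mul, map_inv] at h
      have h4 : q u' = q a' := by
        exact mul_left_cancel (mul_right_cancel h)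
      have h5 : a' * a' = 1 := Subtype.ext (by rw [Subgroup.coe_mul, ha']; exact hE a haE)
      rw [map_mul, h4, ← map_mul, h5, map_one]
    rcases (hq.ker _).1 h3 with h4 | h4
    · exact h1 (by rw [← hval ha' hu, h4]; rfl)
    · exact h2 (by rw [← hval ha' hu, h4]; rfl)
  have hcomm : ∀ {u' : BB M x₀} {u : D.G}, (u' : D.G) = u → u ∈ E → q (g * u' * g⁻¹) * q f₁ = q f₁ * q (g * u' * g⁻¹) := by
    intro u' u hu huE
    have h1 : u' * a' = a' * u' := Subtype.ext (by rw [Subgroup.coe_mul, Subgroup.coe_mul, hu, ha']; exact hab u huE a haE)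
    rw [← hg, ← map_mul, ← map_mul]
    congr 1
    calc g * u' * g⁻¹ * (g * a' * g⁻¹) = g * (u' * a') * g⁻¹ := by group
      _ = g * (a' * u') * g⁻¹ := by rw [h1]
      _ = _ := by group
  have hprod : ∀ u' : BB M x₀, q f₁ * q (g * u' * g⁻¹) = q (g * (a' * u') * g⁻¹) := by
    intro u'
    rw [← hg, ← map_mul]
    congr 1
    group
  have hprod2 : q (g * b' * g⁻¹) * q (g * c' * g⁻¹) = q (g * (b' * c') * g⁻¹) := by
    rw [← map_mul]
    congr 1
    group
  refine three hB (b := q (g * b' * g⁻¹)) (c := q (g * c' * g⁻¹)) (hgc hfb) (hgc hfc) (hcomm hb' hbE) (hcomm hc' hcE)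
    (hqne hb' hab1 habt) (hqne hc' hac1 hact) ?_ ?_ ?_ ?_ ?_
  · rw [hprod2]
    exact hqne (hval hb' hc') habc1 habct
  · rw [hprod2]
    exact hgc cbc
  · rw [hprod]
    exact hgc cab
  · rw [hprod]
    exact hgc cac
  · rw [hprod2, hprod]
    exact hgc cabc

end Cfsg.Agent.BpSpor.MBigPure

end

-- merged: Cfsg.Agent.BpSpor.MBigModel
section

/-!
# The concrete model of the Monster: involutions (helper12)

* `cls` : the classes of involutions, `card_cent_z`, `card_cent_t`, `not_sq` : orders of their centralizers;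
* `exists_zconj` : an elementary abelian subgroup of order at least 16 contains a conjugate of `z`;
* `bps_of` : `BpS p Spor.Monster` from `Good p (C(x))` in the model.
-/

set_option autoImplicit false
set_option maxRecDepth 100000

namespace Cfsg.Agent.BpSpor.MBigModel

open Cfsg Cfsg.Agent.MonsterX Cfsg.Agent.MonsterX.InstData Cfsg.Agent.MonsterX.MainPack Cfsg.Agent.MonsterU
open Cfsg.Agent.MonsterP Cfsg.Agent.MonsterN Cfsg.Agent.LThreeMB
open Cfsg.Agent.MonsterX.MainBasic Cfsg.Agent.MonsterX.MainSimple Cfsg.Agent.MonsterX.Model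
open Cfsg.Agent.MonsterU.Lam2 Cfsg.Agent.MonsterU.TwoCls
open Cfsg.Agent.BpTab
open Cfsg.Spor (Co1)
open Subgroup (centralizer zpowers mem_centralizer_singleton_iff)

/-- the model of the Monster -/
abbrev MG : Type := ↥InstData.M.G

/-- the involution `z` -/
noncomputable abbrev zz : MG := KDone.K.z

/-- `C(z) → Co1` -/
noncomputable abbrev pi : centralizer ({zz} : Set MG) →* Co1 := KChart.pi LThreeB.Row.cent

theorem card_M : Nat.card MG = 808017424794512875886459904961710757005754368000000000 :=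
  MainOrder.card_G LitFin.all.hG LitFin.all.hR LitFin.all.hL LitFin.all.hO

theorem finite : Finite MG := G_finite LitFin.all.hO

theorem simple : IsSimpleGroup MG :=
  isSimple LitFin.all.hG LitFin.all.hR LitFin.all.hL LitFin.all.hO LitFin.all.hT

theorem chart : Ch.Chart KDone.K.ι.range zz (KChart.eta KDone.lft) pi := KChart.chart KDone.lft LThreeB.Row.cent

theorem zz_sq : zz * zz = 1 := chart.large.z_sq

theorem zz_ne : zz ≠ 1 := chart.large.z_ne

theorem orderOf_zz : orderOf zz = 2 := by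
  have : Fact (Nat.Prime 2) := ⟨Nat.prime_two⟩
  exact orderOf_eq_prime (by rw [pow_two, zz_sq]) zz_ne

theorem ta_iota {p : _} (hp : IsType 2 (clP KDone.lft p)) : LThreeB.Row.TA (KDone.K.ι p) := by
  obtain ⟨k, hk⟩ := ModelB.exists_conj_t LitFin.all.hG LitFin.all.hR KDone.lnk KDone.lft
    ((TwoCls.mem_Sh_iff KDone.lft p).2 hp)
  exact isConj_iff.2 ⟨k, hk⟩

/-- **The classes of involutions.** -/
theorem cls {v : MG} (hv : orderOf v = 2) : (∃ g : MG, g * zz * g⁻¹ = v) ∨ LThreeB.Row.TA v := by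
  have hz : zz = zG LitFin.all.hG := Subtype.ext KDone.lnk.z_eq.symm
  have hvv : v * v = 1 := by
    rw [← pow_two, ← hv, pow_orderOf_eq_one]
  have hv1 : v ≠ 1 := by
    rintro rfl
    rw [orderOf_one] at hv
    norm_num at hv
  rcases LitFin.all.classes v hvv hv1 with ⟨h, hh⟩ | ⟨h, hh⟩
  · left
    rw [hz]
    exact ⟨h, hh⟩
  · right
    exact isConj_iff.2 ⟨h, hh⟩

theorem card_cent_z : Nat.card ↥(centralizer ({zz} : Set MG)) = 2 ^ 25 * 4157776806543360000 :=
  LThreeM.SigPar.card_cent_z KDone.lnk LitFin.all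

theorem card_cent_t {v : MG} (hv : LThreeB.Row.TA v) :
    Nat.card ↥(centralizer ({v} : Set MG)) = 2 * 4154781481226426191177580544000000 := by
  have h1 : IsConj (tG LitFin.all.hG LitFin.all.hR) v := hv
  have h2 : IsConj (tG LitFin.all.hG LitFin.all.hR) _ := LThreeB.Par.ta_iota LitFin.all KDone.lnk KDone.lft
  obtain ⟨c, hc⟩ := isConj_iff.1 (h2.symm.trans h1)
  rw [← LThreeM.SigPar.card_cent_t LitFin.all KDone.lnk KDone.lft]
  exact BpSpor.card_cent_of_conj hc

/-- `p = 11`, `13`: the involution centralizers have cyclic Sylow `p`-subgroups -/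
theorem not_sq {p : ℕ} (hp : p = 11 ∨ p = 13) {v : MG} (hv : orderOf v = 2) :
    ¬ p ^ 2 ∣ Nat.card ↥(centralizer ({v} : Set MG)) := by
  rcases cls hv with ⟨g, hg⟩ | h
  · rw [BpSpor.card_cent_of_conj hg, card_cent_z]
    rcases hp with rfl | rfl <;> norm_num
  · rw [card_cent_t h]
    rcases hp with rfl | rfl <;> norm_num

/-- **A conjugate of `z` in an elementary abelian subgroup of order at least 16.** -/
theorem exists_zconj (E : Subgroup MG) (hE : ∀ a ∈ E, a * a = 1) (hc : 16 ≤ Nat.card ↥E) :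
    ∃ w ∈ E, ∃ g : MG, g * zz * g⁻¹ = w := by
  have hfin := finite
  have ho : ∀ w ∈ E, w ≠ 1 → orderOf w = 2 := by
    intro w hw hw1
    have : Fact (Nat.Prime 2) := ⟨Nat.prime_two⟩
    exact orderOf_eq_prime (by rw [pow_two, hE w hw]) hw1
  obtain ⟨u, hu, hu1⟩ := MBigPure.exists_notMem E [1] (by simp only [List.length]; omega)
  simp only [List.mem_cons, List.not_mem_nil, or_false] at hu1
  rcases cls (ho u hu hu1) with h | h
  · exact ⟨u, hu, h⟩
  · have h2 : IsConj (tG LitFin.all.hG LitFin.all.hR) _ := LThreeB.Par.ta_iota LitFin.all KDone.lnk KDone.lft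
    have h1 : IsConj (tG LitFin.all.hG LitFin.all.hR) u := h
    obtain ⟨c, hcu⟩ := isConj_iff.1 (h1.symm.trans h2)
    let E' : Subgroup MG := E.map (MulAut.conj c).toMonoidHom
    have hE' : ∀ a ∈ E', a * a = 1 := by
      rintro _ ⟨a, ha, rfl⟩
      rw [← map_mul, hE a ha, map_one]
    have hc' : 16 ≤ Nat.card ↥E' := by
      rw [Subgroup.card_map_of_injective (MulAut.conj c).injective]
      exact hc
    obtain ⟨w, ⟨v, hv, rfl⟩, hw1, hw⟩ := MBigPure.not_pure_t LitFin.all KDone.lnk KDone.lft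
      (TauInst.tauHyp (Final.cent InstanceFinal.mOrbit Instance.mTrans)) (NodesGrp.prel LitFin.H)
      (NodesNe.ne LitFin.H) LitFin.conj_ten E' hE' hc' ⟨u, hu, hcu⟩
    refine ⟨v, hv, ?_⟩
    have hv1 : v ≠ 1 := by
      rintro rfl
      exact hw1 (map_one _)
    rcases cls (ho v hv hv1) with h3 | h3
    · exact h3
    · exfalso
      apply hw
      have h4 : IsConj (tG LitFin.all.hG LitFin.all.hR) v := h3
      exact h2.symm.trans (h4.trans (isConj_iff.2 ⟨c, rfl⟩))

theorem center_model : Subgroup.center MG = ⊥ := by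
  have h1 := simple
  have h2 := finite
  exact BpSpor.center_eq_bot_of_card h1 (by rw [card_M]; norm_num)

/-- **The pair from the model.** -/
theorem bps_of {p : ℕ} (hp : p.Prime) (hp2 : p ≠ 2)
    (h : ∀ x : MG, orderOf x = p → Good p ↥(centralizer ({x} : Set MG))) : BpS p Spor.Monster := by
  have : Fact p.Prime := ⟨hp⟩
  have hfin := finite
  obtain ⟨e⟩ := MonsterP.Equiv.equiv
  have hfin' : Finite Spor.Monster := Finite.of_equiv MG e.symm.toEquiv
  refine bpS_congr e.symm (bpS_of_inner center_model ?_ h)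
  exact Inn.m_model Instance.mGroup Instance.mRep Instance.mLat InstanceFinal.mOrbit Instance.mTrans p hp hp2

end Cfsg.Agent.BpSpor.MBigModel

end

-- merged: Cfsg.Agent.BpSpor.MBigEleven
section

/-!
# S1332: the Monster, `p = 11` (helper12)

`x` of order 11 in the Monster (truth: `C(x) = 11 × M12`).

* `card_inf` : `|C(z) ∩ C(x)| ≤ 4224`;
* `comm_z` : if `C(x)` has even order, `x` commutes with a conjugate of `z`;
* `good_in` : `Good 11 (C(x))` for `x ∈ C(z)`;
* `bps_eleven : BpS 11 Spor.Monster`.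
-/

set_option autoImplicit false
set_option maxRecDepth 100000

namespace Cfsg.Agent.BpSpor.MBigEleven

open Cfsg Cfsg.Agent.MonsterU Cfsg.Agent.LThreeMB
open Cfsg.Agent.MonsterU.Lam2 Cfsg.Agent.MonsterU.TwoCls
open Cfsg.Agent.BpTab Cfsg.Agent.BpSpor.MBigModel Cfsg.Agent.BpSpor.MBig
open Cfsg.Agent.MonsterX Cfsg.Agent.MonsterX.MainBasic Cfsg.Agent.MonsterX.MainSimple Cfsg.Agent.MonsterX.Model
open Cfsg.Agent.MonsterX.MainPack
open Cfsg.Spor (Co1)
open Subgroup (centralizer zpowers mem_centralizer_singleton_iff)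

theorem prime11 : Nat.Prime 11 := by norm_num

/-- **The order of `C(z) ∩ C(x)`.** -/
theorem card_inf {x : centralizer ({zz} : Set MG)} (hx : orderOf x = 11) :
    Nat.card ↥(centralizer ({zz} : Set MG) ⊓ centralizer ({(x : MG)} : Set MG)) ≤ 4224 := by
  have hfin := finite
  have hfc := MBigCo.finite_co1
  have hx11 : x ^ 11 = 1 := by rw [← hx, pow_orderOf_eq_one]
  let f : ↥(centralizer ({zz} : Set MG) ⊓ centralizer ({(x : MG)} : Set MG)) →* Co1 :=
    pi.comp (Subgroup.inclusion inf_le_left)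
  have hpx : orderOf (pi x) = 11 := MFive.orderOf_pi chart prime11 (by decide) hx
  have h1 : Nat.card f.range ≤ 132 := by
    refine le_trans (Subgroup.card_le_of_le ?_) (MBigCo.card_cent hpx)
    rintro _ ⟨d, rfl⟩
    rw [mem_centralizer_singleton_iff]
    show pi (Subgroup.inclusion inf_le_left d) * pi x = pi x * pi (Subgroup.inclusion inf_le_left d)
    rw [← map_mul, ← map_mul]
    congr 1
    exact Subtype.ext (mem_centralizer_singleton_iff.1 d.2.2)
  have h2 : Nat.card f.ker ≤ 32 := by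
    have h3 := MFive.card_pre chart (by decide) hx11 (⊤ : AddSubgroup L2)
    have h4 : Nat.card {v : L2 // v ∈ (⊤ : AddSubgroup L2) ∧ pi x • v = v} = fr (pi x) :=
      Nat.card_congr (Equiv.subtypeEquivRight fun v => ⟨fun h => h.2, fun h => ⟨AddSubgroup.mem_top v, h⟩⟩)
    rw [h4] at h3
    have h5 := MBigCo.fr_le hpx
    have h6 : Nat.card f.ker ≤ Nat.card {q : MG // (q ∈ KDone.K.ι.range ∧ KChart.eta KDone.lft q ∈ (⊤ : AddSubgroup L2)) ∧
        (x : MG) * q = q * x} := by
      refine Nat.card_le_card_of_injective (fun d : f.ker => ⟨((d : ↥(centralizer ({zz} : Set MG) ⊓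
        centralizer ({(x : MG)} : Set MG))) : MG), ⟨?_, AddSubgroup.mem_top _⟩, ?_⟩) ?_
      · exact (chart.pi_eq_one _).1 ((MonoidHom.mem_ker).1 d.2)
      · exact (mem_centralizer_singleton_iff.1 d.1.2.2).symm
      · intro d d' h
        have h' := congrArg Subtype.val h
        exact Subtype.ext (Subtype.ext h')
    refine h6.trans (h3.le.trans ?_)
    omega
  have h3 : Nat.card ↥(centralizer ({zz} : Set MG) ⊓ centralizer ({(x : MG)} : Set MG)) =
      Nat.card f.ker * Nat.card f.range := by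
    rw [← Subgroup.card_mul_index f.ker, Subgroup.index_ker]
  rw [h3]
  calc Nat.card f.ker * Nat.card f.range ≤ 32 * 132 := Nat.mul_le_mul h2 h1
    _ = 4224 := by norm_num

/-- **No action of an element of order 11 on an elementary abelian 2-subgroup of `C(x)`.** -/
theorem noTwo {x : MG} (hx : orderOf x = 11) : NoTwo 11 ↥(centralizer ({x} : Set MG)) := by
  have hfin := finite
  intro A hA m hm hmd hd
  have hm10 : 10 ≤ m := by
    by_contra hlt
    push Not at hlt
    interval_cases m <;> revert hd <;> norm_num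
  have hcA : 2 ^ 10 ∣ Nat.card ↥A := (pow_dvd_pow 2 hm10).trans hmd
  let A' : Subgroup MG := A.map (centralizer ({x} : Set MG)).subtype
  have hcA' : Nat.card ↥A' = Nat.card ↥A := Subgroup.card_map_of_injective (centralizer ({x} : Set MG)).subtype_injective
  have hA' : ∀ a ∈ A', a * a = 1 := by
    rintro _ ⟨a, ha, rfl⟩
    rw [← map_mul, hA a ha, map_one]
  have hA'x : ∀ a ∈ A', a * x = x * a := by
    rintro _ ⟨a, -, rfl⟩
    exact mem_centralizer_singleton_iff.1 a.2
  have hpos : 0 < Nat.card ↥A := Nat.card_pos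
  have h16 : 16 ≤ Nat.card ↥A' := by
    rw [hcA']
    exact le_trans (by norm_num) (Nat.le_of_dvd hpos hcA)
  obtain ⟨w, hw, g, hg⟩ := exists_zconj A' hA' h16
  have hab : ∀ a ∈ A', ∀ b ∈ A', a * b = b * a := by
    intro a ha b hb
    have h1 := hA' _ (mul_mem ha hb)
    have h2 : a * b = (a * b)⁻¹ := eq_inv_of_mul_eq_one_left h1
    have ha' : a⁻¹ = a := inv_eq_of_mul_eq_one_left (hA' a ha)
    have hb' : b⁻¹ = b := inv_eq_of_mul_eq_one_left (hA' b hb)
    rw [mul_inv_rev, ha', hb'] at h2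
    exact h2
  -- conjugate by `g⁻¹`
  have hxz : (g⁻¹ * x * g) * zz = zz * (g⁻¹ * x * g) := by
    have h1 := hA'x w hw
    rw [← hg] at h1
    calc (g⁻¹ * x * g) * zz = g⁻¹ * (x * (g * zz * g⁻¹)) * g := by group
      _ = g⁻¹ * ((g * zz * g⁻¹) * x) * g := by rw [h1]
      _ = zz * (g⁻¹ * x * g) := by group
  let x' : centralizer ({zz} : Set MG) := ⟨g⁻¹ * x * g, mem_centralizer_singleton_iff.2 hxz⟩
  have hx' : orderOf x' = 11 := by
    rw [← Subgroup.orderOf_coe, ← hx]
    show orderOf (g⁻¹ * x * g) = orderOf x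
    have e : g⁻¹ * x * g = MulAut.conj g⁻¹ x := by rw [MulAut.conj_apply, inv_inv]
    rw [e, MulEquiv.orderOf_eq]
  have hle := card_inf hx'
  have hC := (Nat.card_pos (α := ↥(centralizer ({zz} : Set MG) ⊓ centralizer ({(x' : MG)} : Set MG))))
  have h1 : A'.map (MulAut.conj g⁻¹).toMonoidHom ≤
      centralizer ({zz} : Set MG) ⊓ centralizer ({(x' : MG)} : Set MG) := by
    rintro _ ⟨a, ha, rfl⟩
    change g⁻¹ * a * g⁻¹⁻¹ ∈ _
    rw [inv_inv]
    refine ⟨mem_centralizer_singleton_iff.2 ?_, mem_centralizer_singleton_iff.2 ?_⟩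
    · have h1 := hab a ha w hw
      rw [← hg] at h1
      calc (g⁻¹ * a * g) * zz = g⁻¹ * (a * (g * zz * g⁻¹)) * g := by group
        _ = g⁻¹ * ((g * zz * g⁻¹) * a) * g := by rw [h1]
        _ = zz * (g⁻¹ * a * g) := by group
    · show (g⁻¹ * a * g) * (g⁻¹ * x * g) = (g⁻¹ * x * g) * (g⁻¹ * a * g)
      calc (g⁻¹ * a * g) * (g⁻¹ * x * g) = g⁻¹ * (a * x) * g := by group
        _ = g⁻¹ * (x * a) * g := by rw [hA'x a ha]
        _ = _ := by group
  have h2 : 2 ^ 10 ∣ Nat.card ↥(centralizer ({zz} : Set MG) ⊓ centralizer ({(x' : MG)} : Set MG)) := by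
    refine dvd_trans ?_ (Subgroup.card_dvd_of_le h1)
    rw [Subgroup.card_map_of_injective (MulAut.conj g⁻¹).injective, hcA']
    exact hcA
  have h3 : 11 ∣ Nat.card ↥(centralizer ({zz} : Set MG) ⊓ centralizer ({(x' : MG)} : Set MG)) := by
    have hm : (x' : MG) ∈ centralizer ({zz} : Set MG) ⊓ centralizer ({(x' : MG)} : Set MG) :=
      ⟨x'.2, mem_centralizer_singleton_iff.2 rfl⟩
    have h4 : orderOf (x' : MG) = 11 := by rw [Subgroup.orderOf_coe, hx']
    rw [← h4, ← Subgroup.orderOf_mk _ hm]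
    exact orderOf_dvd_natCard _
  have h4 : 2 ^ 10 * 11 ∣ Nat.card ↥(centralizer ({zz} : Set MG) ⊓ centralizer ({(x' : MG)} : Set MG)) :=
    Nat.Coprime.mul_dvd_of_dvd_of_dvd (by norm_num) h2 h3
  have h5 := Nat.le_of_dvd hC h4
  omega

/-- the involution centralizers in `C(x)` -/
theorem not_sq_in {p : ℕ} (hp : p = 11 ∨ p = 13) {x : MG} (t : ↥(centralizer ({x} : Set MG))) (ht : orderOf t = 2) :
    ¬ p ^ 2 ∣ Nat.card ↥(centralizer ({t} : Set ↥(centralizer ({x} : Set MG)))) := by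
  have hfin := finite
  intro h
  have ht' : orderOf (t : MG) = 2 := by rw [Subgroup.orderOf_coe, ht]
  refine not_sq hp ht' (h.trans ?_)
  rw [← Subgroup.card_map_of_injective (centralizer ({x} : Set MG)).subtype_injective]
  refine Subgroup.card_dvd_of_le ?_
  rintro _ ⟨a, ha, rfl⟩
  exact mem_centralizer_singleton_iff.2 (congrArg Subtype.val (mem_centralizer_singleton_iff.1 ha))

/-- **`x` of order 11 commuting with `z`.** -/
theorem good_in {x : centralizer ({zz} : Set MG)} (hx : orderOf x = 11) :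
    Good 11 ↥(centralizer ({(x : MG)} : Set MG)) := by
  have hfin := finite
  have : Fact (Nat.Prime 11) := ⟨prime11⟩
  have hxo : orderOf (x : MG) = 11 := by rw [Subgroup.orderOf_coe, hx]
  have hx11 : x ^ 11 = 1 := by rw [← hx, pow_orderOf_eq_one]
  have hpx : orderOf (pi x) = 11 := MFive.orderOf_pi chart prime11 (by decide) hx
  have hxm : (x : MG) ∈ centralizer ({(x : MG)} : Set MG) := mem_centralizer_singleton_iff.2 rfl
  have hzm : zz ∈ centralizer ({(x : MG)} : Set MG) :=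
    mem_centralizer_singleton_iff.2 (mem_centralizer_singleton_iff.1 x.2).symm
  have h4 : ∀ q : MG, q ∈ KDone.K.ι.range → q ^ 4 = 1 := fun q hq => MFive.pow_four chart hq
  have hone : ∀ q : MG, q ∈ KDone.K.ι.range → ∀ m : ℕ, Odd m → q ^ m = 1 → q = 1 := fun q hq m hm hqm =>
    MFive.eq_one_of_pow hm hqm (h4 q hq)
  refine good_of_inverted (p := 11) (x := ⟨x, hxm⟩) (z := ⟨zz, hzm⟩) (by norm_num) ?_ ?_ ?_ (noTwo hxo) ?_ ?_
  · rw [Subgroup.orderOf_mk]; exact hxo
  · rw [Subgroup.mem_center_iff]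
    intro g
    exact Subtype.ext (mem_centralizer_singleton_iff.1 g.2)
  · exact fun t ht => not_sq_in (Or.inl rfl) t ht
  · rw [Subgroup.orderOf_mk]; exact orderOf_zz
  · intro N hNz hNn hodd h11
    rw [Subgroup.eq_bot_iff_forall]
    intro n hn
    -- the order of `n`
    have hnm : n ^ Nat.card ↥N = 1 := by
      have : (⟨n, hn⟩ : ↥N) ^ Nat.card ↥N = 1 := pow_card_eq_one'
      exact congrArg Subtype.val this
    have hnm' : (n : MG) ^ Nat.card ↥N = 1 := congrArg Subtype.val hnm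
    have hnz : (n : MG) * zz = zz * n := congrArg Subtype.val (mem_centralizer_singleton_iff.1 (hNz hn))
    let n' : centralizer ({zz} : Set MG) := ⟨n, mem_centralizer_singleton_iff.2 hnz⟩
    have hnx : (n : MG) * x = x * n := mem_centralizer_singleton_iff.1 n.2
    -- `n` commutes with `C_Q(x)`
    have hcomm : ∀ q : MG, q ∈ KDone.K.ι.range → q * (x : MG) = x * q → (n : MG) * q * (n : MG)⁻¹ = q := by
      intro q hq hqx
      have hqz : q * zz = zz * q := chart.large.comm_z q hq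
      have hqm : q ∈ centralizer ({(x : MG)} : Set MG) := mem_centralizer_singleton_iff.2 hqx
      have h1 := hNn ⟨q, hqm⟩ (Subtype.ext hqz) n⁻¹ (inv_mem hn)
      have h2 : n * (⟨q, hqm⟩ * n⁻¹ * (⟨q, hqm⟩ : ↥(centralizer ({(x : MG)} : Set MG)))⁻¹) ∈ N := mul_mem hn h1
      obtain ⟨c, hc⟩ : ∃ c, c = n * (⟨q, hqm⟩ * n⁻¹ * (⟨q, hqm⟩ : ↥(centralizer ({(x : MG)} : Set MG)))⁻¹) := ⟨_, rfl⟩
      rw [← hc] at h2
      have h3 : (c : MG) = (n : MG) * q * (n : MG)⁻¹ * q⁻¹ := by
        rw [hc]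
        show (n : MG) * (q * (n : MG)⁻¹ * q⁻¹) = _
        group
      have h5 : (c : MG) ∈ KDone.K.ι.range := by
        rw [h3]
        exact mul_mem (chart.large.conj_mem n hnz q hq) (inv_mem hq)
      have h6 : c ^ Nat.card ↥N = 1 := by
        have : (⟨c, h2⟩ : ↥N) ^ Nat.card ↥N = 1 := pow_card_eq_one'
        exact congrArg Subtype.val this
      have h7 : (c : MG) = 1 := hone c h5 _ hodd (congrArg Subtype.val h6)
      rw [h7] at h3
      exact mul_inv_eq_one.1 h3.symm
    have hfix : ∀ v : L2, pi x • v = v → pi n' • v = v := by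
      intro v hv
      obtain ⟨q, hq, hqx, rfl⟩ := MFive.exists_fix chart (by decide) hx11 hv
      have h1 := chart.eta_conj n' q hq
      have h2 : (n' : MG) * q * (n' : MG)⁻¹ = q := hcomm q hq hqx
      rw [h2] at h1
      exact h1.symm
    have hpn : pi n' = 1 := by
      refine MBigCo.eq_one_of_fix hpx hodd h11 ?_ ?_ hfix
      · rw [← map_pow]
        have : n' ^ Nat.card ↥N = 1 := Subtype.ext hnm'
        rw [this, map_one]
      · rw [← map_mul, ← map_mul]
        congr 1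
        exact Subtype.ext hnx
    have h1 := (chart.pi_eq_one n').1 hpn
    exact Subtype.ext (hone n h1 _ hodd hnm')

/-- **`x` commutes with a conjugate of `z`.** -/
theorem comm_z {x v : MG} (hx : orderOf x = 11) (hv : orderOf v = 2) (hxv : x * v = v * x) :
    ∃ g : MG, (g * zz * g⁻¹) * x = x * (g * zz * g⁻¹) := by
  have hfin := finite
  rcases cls hv with ⟨g, hg⟩ | ht
  · exact ⟨g, by rw [hg]; exact hxv.symm⟩
  -- an element of order 11 commuting with `z` and an element of the class of `v`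
  obtain ⟨x', hx', hpx'⟩ := MFive.KPair.exists_order chart prime11 (by decide) MBigCo.orderOf_s11
  obtain ⟨v₀, h2, hfix⟩ := MBigCo.exists_two MBigCo.orderOf_s11
  have hx11 : x' ^ 11 = 1 := by rw [← hx', pow_orderOf_eq_one]
  obtain ⟨w, hw, hwx, hwv⟩ := MFive.exists_fix chart (by decide) hx11 (v := v₀) (by rw [hpx']; exact hfix)
  obtain ⟨p, rfl⟩ := hw
  rw [KChart.eta_ι] at hwv
  have hTA : LThreeB.Row.TA (KDone.K.ι p) := ta_iota (by rw [hwv]; exact h2)
  have h3 : IsConj (tG MonsterN.LitFin.all.hG MonsterN.LitFin.all.hR) (KDone.K.ι p) := hTA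
  have h4 : IsConj (tG MonsterN.LitFin.all.hG MonsterN.LitFin.all.hR) v := ht
  obtain ⟨c, hc⟩ := isConj_iff.1 (h3.symm.trans h4)
  -- conjugate
  have hxz : (x' : MG) * zz = zz * x' := mem_centralizer_singleton_iff.1 x'.2
  have hyv : (c * x' * c⁻¹) * v = v * (c * x' * c⁻¹) := by
    rw [← hc]
    calc c * x' * c⁻¹ * (c * KDone.K.ι p * c⁻¹) = c * (x' * KDone.K.ι p) * c⁻¹ := by group
      _ = c * (KDone.K.ι p * x') * c⁻¹ := by rw [hwx]
      _ = _ := by group
  have hyz : (c * x' * c⁻¹) * (c * zz * c⁻¹) = (c * zz * c⁻¹) * (c * x' * c⁻¹) := by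
    calc c * x' * c⁻¹ * (c * zz * c⁻¹) = c * (x' * zz) * c⁻¹ := by group
      _ = c * (zz * x') * c⁻¹ := by rw [hxz]
      _ = _ := by group
  have hyo : orderOf (c * (x' : MG) * c⁻¹) = 11 := by
    rw [← MulAut.conj_apply, MulEquiv.orderOf_eq, Subgroup.orderOf_coe, hx']
  obtain ⟨g, -, k, hk⟩ := CpAutBig.Small.conj_of_sylow prime11 (centralizer ({v} : Set MG)) (not_sq (Or.inl rfl) hv) hx hyo
    (mem_centralizer_singleton_iff.2 hxv) (mem_centralizer_singleton_iff.2 hyv)
  have h5 : (g * x * g⁻¹) * (c * zz * c⁻¹) = (c * zz * c⁻¹) * (g * x * g⁻¹) := by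
    have h6 : Commute (c * (x' : MG) * c⁻¹) (c * zz * c⁻¹) := hyz
    have h7 := h6.zpow_left k
    have h8 : (c * (x' : MG) * c⁻¹) ^ k = g * x * g⁻¹ := hk
    rw [h8] at h7
    exact h7
  refine ⟨g⁻¹ * c, ?_⟩
  have e : g⁻¹ * c * zz * (g⁻¹ * c)⁻¹ = g⁻¹ * (c * zz * c⁻¹) * g := by group
  rw [e]
  calc g⁻¹ * (c * zz * c⁻¹) * g * x = g⁻¹ * ((c * zz * c⁻¹) * (g * x * g⁻¹)) * g := by group
    _ = g⁻¹ * ((g * x * g⁻¹) * (c * zz * c⁻¹)) * g := by rw [h5]
    _ = x * (g⁻¹ * (c * zz * c⁻¹) * g) := by group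

/-- **Every `x` of order 11.** -/
theorem good {x : MG} (hx : orderOf x = 11) : Good 11 ↥(centralizer ({x} : Set MG)) := by
  have hfin := finite
  have : Fact (Nat.Prime 11) := ⟨prime11⟩
  have : Fact (Nat.Prime 2) := ⟨Nat.prime_two⟩
  by_cases ho : Odd (Nat.card ↥(centralizer ({x} : Set MG)))
  · exact (NoComp.of_solvable (Cfsg.Agent.S0205.result ho)).good
  rw [Nat.not_odd_iff_even] at ho
  obtain ⟨v, hv⟩ := exists_prime_orderOf_dvd_card' 2 ho.two_dvd
  have hv' : orderOf (v : MG) = 2 := by rw [Subgroup.orderOf_coe, hv]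
  obtain ⟨g, hg⟩ := comm_z hx hv' (mem_centralizer_singleton_iff.1 v.2).symm
  have h1 : (g⁻¹ * x * g) * zz = zz * (g⁻¹ * x * g) := by
    calc (g⁻¹ * x * g) * zz = g⁻¹ * (x * (g * zz * g⁻¹)) * g := by group
      _ = g⁻¹ * ((g * zz * g⁻¹) * x) * g := by rw [hg]
      _ = zz * (g⁻¹ * x * g) := by group
  let x' : centralizer ({zz} : Set MG) := ⟨g⁻¹ * x * g, mem_centralizer_singleton_iff.2 h1⟩
  have hx' : orderOf x' = 11 := by
    rw [← Subgroup.orderOf_coe, ← hx]
    show orderOf (g⁻¹ * x * g) = orderOf x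
    have e : g⁻¹ * x * g = MulAut.conj g⁻¹ x := by rw [MulAut.conj_apply, inv_inv]
    rw [e, MulEquiv.orderOf_eq]
  refine good_of_conj (u := (x' : MG)) (c := g) ?_ (good_in hx')
  show g * (g⁻¹ * x * g) * g⁻¹ = x
  group

end Cfsg.Agent.BpSpor.MBigEleven

namespace Cfsg.Agent.BpSpor.M

/-- **The pair `(M, 11)`.** -/
theorem bps_eleven : Cfsg.Agent.BpTab.BpS 11 Cfsg.Spor.Monster :=
  Cfsg.Agent.BpSpor.MBigModel.bps_of Cfsg.Agent.BpSpor.MBigEleven.prime11 (by norm_num)
    fun _ hx => Cfsg.Agent.BpSpor.MBigEleven.good hx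

end Cfsg.Agent.BpSpor.M

end
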