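import Cfsg.Agent.BpSpor.RowTool
import Cfsg.Agent.CpAut.SmallP.TwoPart
import Cfsg.Agent.CpAut.SmallP.Inn
import Cfsg.Agent.KFacts.He.Outer
import Cfsg.Agent.KFacts.J2.SheetX
import Cfsg.Agent.S1620
import Cfsg.Agent.S1619
import Cfsg.Agent.CpAut.SmallP.RowMcL
import Cfsg.Agent.BpSpor.NoComp
import Cfsg.Agent.CpAut.SporThree.McL

-- merged: Cfsg.Agent.BpSpor.SmallFive
section

/-!
# S1332: the rows `J2` (`p = 5`), `He` (`p = 5, 7`) (helper91)

`good_of_four` : `p` odd and `|C_H(t)|` divides `4 p` for every involution `t` of `H`; then `H` is good: if there is a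
`p`-component, `O_{p'}(H)` has odd order and a four-group acts on it with trivial fixed points.
-/

set_option autoImplicit false
set_option linter.unusedSectionVars false

namespace Cfsg.Agent.BpSpor.SmallFive

open Subgroup Cfsg Cfsg.Agent.BpTab Cfsg.Agent.BpSpor.RowTool
open Cfsg.Agent.CpAut (AutInner)
open Cfsg.Agent.CpAut.SmallP (DD mem_DD)

universe u

section General

variable {H : Type u} [Group H] [Finite H] {p : ℕ}

/-- an involution without fixed points inverts a subgroup -/
theorem inverts {O : Subgroup H} {t : H} (ht : t * t = 1) (hO : ∀ a ∈ O, t * a * t⁻¹ ∈ O)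
    (hf : ∀ a ∈ O, t * a = a * t → a = 1) {c : H} (hc : c ∈ O) : t * c * t⁻¹ = c⁻¹ := by
  let f : ↥O → ↥O := fun a => ⟨(a : H)⁻¹ * (t * a * t⁻¹), O.mul_mem (O.inv_mem a.2) (hO a a.2)⟩
  have hinj : Function.Injective f := by
    intro a b hab
    have h1 : (a : H)⁻¹ * (t * a * t⁻¹) = (b : H)⁻¹ * (t * b * t⁻¹) := congrArg Subtype.val hab
    have h2 : t * ((b : H) * (a : H)⁻¹) = ((b : H) * (a : H)⁻¹) * t := by
      have h3 : (b : H) * (a : H)⁻¹ * (t * a * t⁻¹) = t * b * t⁻¹ := by
        calc (b : H) * (a : H)⁻¹ * (t * a * t⁻¹) = b * ((a : H)⁻¹ * (t * a * t⁻¹)) := by group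
          _ = b * ((b : H)⁻¹ * (t * b * t⁻¹)) := by rw [h1]
          _ = t * b * t⁻¹ := by group
      calc t * ((b : H) * (a : H)⁻¹) = (t * b * t⁻¹) * (t * (a : H)⁻¹) := by group
        _ = ((b : H) * (a : H)⁻¹ * (t * a * t⁻¹)) * (t * (a : H)⁻¹) := by rw [h3]
        _ = _ := by group
    have h4 := hf _ (O.mul_mem b.2 (O.inv_mem a.2)) h2
    exact Subtype.ext (mul_inv_eq_one.1 h4).symm
  obtain ⟨a, ha⟩ := (Finite.injective_iff_surjective.1 hinj) ⟨c, hc⟩
  have hca : c = (a : H)⁻¹ * (t * a * t⁻¹) := (congrArg Subtype.val ha).symm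
  have htt : t⁻¹ = t := inv_eq_of_mul_eq_one_left ht
  rw [hca]
  calc t * ((a : H)⁻¹ * (t * a * t⁻¹)) * t⁻¹ = (t * (a : H)⁻¹ * t⁻¹) * ((t * t) * a * (t * t)⁻¹) := by group
    _ = (t * (a : H)⁻¹ * t⁻¹) * a := by rw [ht]; group
    _ = ((a : H)⁻¹ * (t * a * t⁻¹))⁻¹ := by group

/-- **the criterion** -/
theorem good_of_four (hp : p.Prime) (hp2 : p ≠ 2)
    (h : ∀ t : H, t * t = 1 → t ≠ 1 → Nat.card ↥(centralizer ({t} : Set H)) ∣ 4 * p) : Good p H := by
  have hF : Fact p.Prime := ⟨hp⟩
  have h2 : Fact (Nat.Prime 2) := ⟨Nat.prime_two⟩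
  by_cases hs : Group.IsSolvable H
  · exact good_of_solvable hs
  -- two commuting involutions
  have hcs : ∀ t : H, t * t = 1 → t ≠ 1 → Group.IsSolvable ↥(centralizer ({t} : Set H)) := by
    intro t ht ht1
    -- `C(t) / ⟨t⟩` has order dividing `2 p`
    let C := centralizer ({t} : Set H)
    let t' : ↥C := ⟨t, mem_centralizer_singleton_iff.2 rfl⟩
    have hc : t' ∈ center ↥C := by
      rw [mem_center_iff]
      intro g
      exact Subtype.ext (mem_centralizer_singleton_iff.1 g.2)
    have hX : zpowers t' ≤ center ↥C := zpowers_le.2 hc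
    have hn : (zpowers t').Normal := ⟨fun y hy g => by
      rw [mem_center_iff.1 (hX hy) g, mul_inv_cancel_right]; exact hy⟩
    rw [Group.isSolvable_iff_subgroup_quotient (zpowers t')]
    refine ⟨Group.isSolvable_of_comm fun a b => Subtype.ext (mem_center_iff.1 (hX b.2) a), ?_⟩
    apply CpAut.SmallP.isSolvable_of_not_four_dvd
    intro h4
    have h1 := Subgroup.card_eq_card_quotient_mul_card_subgroup (zpowers t')
    have ht2 : orderOf t' = 2 := by
      rw [← Subgroup.orderOf_coe]
      exact orderOf_eq_prime (by rw [pow_two]; exact ht) ht1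
    rw [Nat.card_zpowers, ht2] at h1
    have h8 : 8 ∣ 4 * p := by
      refine dvd_trans ?_ (h t ht ht1)
      obtain ⟨k, hk⟩ := h4
      exact ⟨k, by change Nat.card ↥C = _; rw [h1, hk]; ring⟩
    have h9 : 2 ∣ p := by
      obtain ⟨k, hk⟩ := h8
      exact ⟨k, by omega⟩
    exact hp2 ((Nat.prime_dvd_prime_iff_eq Nat.prime_two hp).1 h9).symm
  obtain ⟨t, s, ht, ht1, hss, hs1, hst, hne⟩ : ∃ t s : H, t * t = 1 ∧ t ≠ 1 ∧ s * s = 1 ∧ s ≠ 1 ∧
      s * t = t * s ∧ s ≠ t := by
    by_contra hcon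
    apply hs
    refine CpAut.SmallP.isSolvable_of_two_rank_one (fun t s ht ht1 hs hs1 hst => ?_) hcs
    by_contra hne
    exact hcon ⟨t, s, ht, ht1, hs, hs1, hst, hne⟩
  -- the Sylow 2-subgroup has order 4
  have h8 : ¬ 8 ∣ Nat.card H := by
    intro h8
    have h9 := CpAut.SmallP.not_dvd_of_DD (K := H) (x := 1) (k := 3) (by norm_num) (fun t ht ht1 _ h8 => by
      have h3 : DD (1 : H) t = centralizer ({t} : Set H) := by
        ext y
        rw [mem_DD, mem_centralizer_singleton_iff]
        exact ⟨fun h => h.1, fun h => ⟨h, by rw [mul_one, one_mul]⟩⟩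
      rw [h3] at h8
      have h4 : 8 ∣ 4 * p := h8.trans (h t ht ht1)
      have h9 : 2 ∣ p := by
        obtain ⟨k, hk⟩ := h4
        exact ⟨k, by omega⟩
      exact hp2 ((Nat.prime_dvd_prime_iff_eq Nat.prime_two hp).1 h9).symm)
    apply h9
    have h5 : centralizer ({(1 : H)} : Set H) = ⊤ := by
      ext y
      rw [mem_centralizer_singleton_iff]
      simp
    rw [h5, card_top]
    exact h8
  -- `O` has odd order
  have hON := Lib.Cores.pPrimeCore_normal (G := H) p
  by_cases hL : pLayer p H = ⊥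
  · exact good_of_pLayer hL
  have hqs : ¬ Group.IsSolvable (H ⧸ pPrimeCore p H) := by
    intro hq
    apply hL
    rw [eq_bot_iff]
    refine sSup_le fun K hK => ?_
    exfalso
    exact SignalizersComponents.Components.quasisimple_not_isSolvable hK.2.1.2 inferInstance
  have h4q : 4 ∣ Nat.card (H ⧸ pPrimeCore p H) := by
    by_contra h4
    exact hqs (CpAut.SmallP.isSolvable_of_not_four_dvd h4)
  have hodd : ¬ 2 ∣ Nat.card ↥(pPrimeCore p H) := by
    intro hd
    apply h8
    have h1 := Subgroup.card_eq_card_quotient_mul_card_subgroup (pPrimeCore p H)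
    rw [h1]
    exact Nat.mul_dvd_mul h4q hd
  -- involutions act without fixed points
  have hfix : ∀ v : H, v * v = 1 → v ≠ 1 → ∀ a ∈ pPrimeCore p H, v * a = a * v → a = 1 := by
    intro v hv hv1 a ha hva
    have h1 : orderOf a ∣ Nat.card ↥(pPrimeCore p H) := by
      have h2 : orderOf (⟨a, ha⟩ : ↥(pPrimeCore p H)) ∣ Nat.card ↥(pPrimeCore p H) := orderOf_dvd_natCard _
      rwa [Subgroup.orderOf_mk] at h2
    have h2 : orderOf a ∣ 4 * p := by
      refine dvd_trans ?_ (h v hv hv1)
      have h3 : orderOf (⟨a, mem_centralizer_singleton_iff.2 hva.symm⟩ : ↥(centralizer ({v} : Set H))) ∣ _ :=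
        orderOf_dvd_natCard _
      rwa [Subgroup.orderOf_mk] at h3
    have h3 : (orderOf a).Coprime 4 := by
      have : (orderOf a).Coprime 2 := (Nat.prime_two.coprime_iff_not_dvd.2 fun h => hodd (h.trans h1)).symm
      exact Nat.Coprime.pow_right 2 this
    have h4 : (orderOf a).Coprime p := Nat.Coprime.coprime_dvd_left h1 (Lib.Cores.pPrimeCore_coprime (G := H) p)
    have h5 : orderOf a ∣ 1 := by
      have := (Nat.Coprime.mul_right h3 h4)
      exact Nat.dvd_one.2 (Nat.eq_one_of_dvd_coprimes this dvd_rfl h2)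
    exact orderOf_eq_one_iff.1 (Nat.dvd_one.1 h5)
  apply good_of_core
  rw [eq_bot_iff]
  intro a ha
  rw [mem_bot]
  have hti := inverts ht (fun a ha => hON.conj_mem a ha t) (hfix t ht ht1) ha
  have hsi := inverts hss (fun a ha => hON.conj_mem a ha s) (hfix s hss hs1) (hON.conj_mem a ha t)
  have hts1 : s * t ≠ 1 := by
    intro h
    apply hne
    calc s = s * (t * t) := by rw [ht, mul_one]
      _ = (s * t) * t := by group
      _ = t := by rw [h, one_mul]
  refine hfix (s * t) ?_ hts1 a ha ?_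
  · calc s * t * (s * t) = s * (t * s) * t := by group
      _ = s * (s * t) * t := by rw [hst]
      _ = (s * s) * (t * t) := by group
      _ = 1 := by rw [hss, ht, one_mul]
  · have h5 : s * (t * a * t⁻¹) * s⁻¹ = a := by rw [hsi, hti, inv_inv]
    calc s * t * a = (s * (t * a * t⁻¹) * s⁻¹) * (s * t) := by group
      _ = a * (s * t) := by rw [h5]

end General

/-! ### the centralizers -/

section Cent

variable {K : Type u} [Group K] [Finite K] {p : ℕ}

/-- the criterion for a centralizer -/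
theorem good_cent (hp : p.Prime) (hp2 : p ≠ 2) {x : K}
    (h : ∀ t : K, t * t = 1 → t ≠ 1 → t * x = x * t → Nat.card ↥(DD x t) ∣ 4 * p) :
    Good p ↥(centralizer ({x} : Set K)) := by
  refine good_of_four hp hp2 fun t ht ht1 => ?_
  have htx : (t : K) * x = x * t := mem_centralizer_singleton_iff.1 t.2
  have h1 := h t (congrArg Subtype.val ht) (fun h => ht1 (Subtype.ext h)) htx
  refine dvd_trans ?_ h1
  have h2 : (centralizer ({t} : Set ↥(centralizer ({x} : Set K)))).map (centralizer ({x} : Set K)).subtype ≤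
      DD x (t : K) := by
    rintro _ ⟨y, hy, rfl⟩
    refine mem_DD.2 ⟨?_, mem_centralizer_singleton_iff.1 y.2⟩
    exact congrArg Subtype.val (mem_centralizer_singleton_iff.1 hy)
  rw [← Subgroup.card_map_of_injective (K := centralizer ({t} : Set ↥(centralizer ({x} : Set K))))
    (centralizer ({x} : Set K)).subtype_injective]
  exact Subgroup.card_dvd_of_le h2

end Cent

theorem bps_simple {X : Type*} [Group X] [IsSimpleGroup X] {p : ℕ} (hp : p.Prime) (hi : AutInner p X)
    (h : ∀ g : X, orderOf g = p → Good p ↥(centralizer ({g} : Set X))) : BpS p X := by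
  by_cases hX : IsMulCommutative X
  · intro x hx
    exfalso
    obtain ⟨g, rfl⟩ := hi x hx
    have h1 : (MulAut.conj g : MulAut X) = 1 := by
      ext a
      change g * a * g⁻¹ = a
      rw [hX.is_comm.comm g a, mul_inv_cancel_right]
    rw [h1, orderOf_one] at hx
    exact hp.ne_one hx.symm
  · exact bps_of_inner (CpAut.center_eq_bot_of_simple hX) hi h

theorem autInner_of_two {X : Type*} [Group X] {p : ℕ} (hp : p.Prime) (hp2 : p ≠ 2)
    (hi : (MulAut.conj : X →* MulAut X).range.index = 1 ∨ (MulAut.conj : X →* MulAut X).range.index = 2) :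
    AutInner p X := by
  refine CpAut.autInner_of_sq hp hp2 fun α => ?_
  have h : α * α ∈ (MulAut.conj : X →* MulAut X).range := by
    rcases hi with e | e
    · rw [Subgroup.index_eq_one.1 e]; trivial
    · exact Subgroup.mul_self_mem_of_index_two e α
  obtain ⟨g, hg⟩ := h
  exact ⟨g, hg.symm⟩

/-- **J2, p = 5** -/
theorem j2_five : BpS 5 Spor.J2 := by
  have hs : IsSimpleGroup Spor.J2 := Cfsg.Agent.S1620.result.1
  have hf : Finite Spor.J2 := Nat.finite_of_card_ne_zero (by
    rw [Cfsg.Agent.S1619.result.2.2.2]; norm_num)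
  obtain ⟨t, u, Q, v, ρ, D⟩ := KFacts.J2.Facts.exists_dat_of (X := Spor.J2) ⟨MulEquiv.refl _⟩
  refine bps_simple (by norm_num) (autInner_of_two (by norm_num) (by norm_num) (KFacts.J2.SheetX.index_le D)) ?_
  intro x hx
  refine good_cent (by norm_num) (by norm_num) fun s hs hs1 hsx => ?_
  rcases D.F.cover s (orderOf_eq_prime (by rw [pow_two]; exact hs) hs1) with h1 | h1
  · exact CpAut.SmallP.card_DD_of_isConj h1 (CpAut.SmallP.J2.card_z D.F) hx hsx
  · exact CpAut.SmallP.card_DD_of_isConj h1 (CpAut.SmallP.J2.card_u D.F) hx hsx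

/-- **He, p = 5** -/
theorem he_five : BpS 5 Spor.He := by
  have hf := CpAut.SmallP.He.finite_he
  have hs : IsSimpleGroup Spor.He := inferInstance
  refine bps_simple (by norm_num) (autInner_of_two (by norm_num) (by norm_num)
    (KFacts.He.Outer.index_le_two ⟨MulEquiv.refl _⟩)) ?_
  intro x hx
  refine good_cent (by norm_num) (by norm_num) fun s hs hs1 hsx => ?_
  rcases KFacts.He.Classes.two_classes_a hs hs1 with ⟨g, hg⟩ | ⟨g, hg⟩
  · exact CpAut.SmallP.card_DD_of_isConj (isConj_iff.2 ⟨g, hg⟩)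
      (fun x hx hzx => (CpAut.SmallP.He.ok_z5 hx hzx).elim) hx hsx
  · exact CpAut.SmallP.card_DD_of_isConj (isConj_iff.2 ⟨g, hg⟩)
      (fun x hx hzx => CpAut.SmallP.He.card_a5 hx hzx) hx hsx

/-- **He, p = 7** -/
theorem he_seven : BpS 7 Spor.He := by
  have hf := CpAut.SmallP.He.finite_he
  have h7 : Fact (Nat.Prime 7) := ⟨by norm_num⟩
  have hs : IsSimpleGroup Spor.He := inferInstance
  have hcard : Nat.card Spor.He = 4030387200 := KFacts.He.Classes.card_he
  refine bps_simple (by norm_num) (autInner_of_two (by norm_num) (by norm_num)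
    (KFacts.He.Outer.index_le_two ⟨MulEquiv.refl _⟩)) ?_
  intro x hx
  refine good_sub _ (fun _ h => ?_) ?_ ?_ ?_ ?_
  · exact CpAut.SmallP.He.not_sixteen_seven ⟨MulEquiv.refl _⟩ hx ((by norm_num : 16 ∣ 64).trans h)
  · intro _; rw [hcard]; norm_num
  · intro _; rw [hcard]; norm_num
  · intro h; exact absurd rfl h
  · intro r hr h11 _
    exact no_sq 10 3 2 3 [17] (hcard.trans (by norm_num)) (by simp; norm_num) (by simp) r hr h11

end Cfsg.Agent.BpSpor.SmallFive

end

-- merged: Cfsg.Agent.BpSpor.McLFive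
section

/-!
# S1332: the row `McL`, `p = 5` (helper91)

The centralizers of the elements of order 5 of `McL` are solvable.
-/

set_option autoImplicit false

namespace Cfsg.Agent.BpSpor.McL

open Subgroup Cfsg Cfsg.Agent.BpTab

theorem bps_five : BpS 5 Spor.McL := by
  obtain ⟨hf, hs, -⟩ := TypeM.FactsMcL.exists_mt_mcl
  exact SmallFive.bps_simple (by norm_num) (CpAut.autInner_of_sq (by norm_num) (by norm_num) fun α => by
      obtain ⟨g, hg⟩ := CpAut.SmallP.McL.sq_inner α
      exact ⟨g, hg.symm⟩)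
    fun g hg => good_of_solvable (CpAut.SmallP.McL.isSolvable_five ⟨MulEquiv.refl _⟩ hg)

end Cfsg.Agent.BpSpor.McL

end

-- merged: Cfsg.Agent.BpSpor.McLThree
section

/-!
# S1332: the row `McL`, `p = 3` (helper91)

`C(x) / O_{3'}(C(x))` has no component (helper10).
-/

set_option autoImplicit false

namespace Cfsg.Agent.BpSpor.McL

open Subgroup Cfsg Cfsg.Agent.BpTab

theorem bps_three (FT : ∀ (K : Type) [Group K] [Finite K], Odd (Nat.card K) → Group.IsSolvable K)
    (hS : CpAut.AllKnown.{0}) (T : OrdDiv.OrderTable.{0}) : BpS 3 Spor.McL := by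
  obtain ⟨hf, hs, hcard, ⟨L⟩⟩ := TypeM.FactsMcL.facts (M := Spor.McL) ⟨MulEquiv.refl _⟩
  exact SmallFive.bps_simple Nat.prime_three (CpAut.autInner_of_sq Nat.prime_three (by norm_num) fun α => by
      obtain ⟨g, hg⟩ := CpAut.SmallP.McL.sq_inner α
      exact ⟨g, hg.symm⟩)
    fun g hg => NoComp.good (CpAut.SporThree.McL.no_comp L hcard CpAut.SporThree.McL.dvd_card FT hS T hg)

end Cfsg.Agent.BpSpor.McL

end
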