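import Mathlib
import Cfsg.Agent.BpSpor.GLTwo
import Cfsg.Agent.BpSpor.RowTool
import Cfsg.Agent.CpAut.SporThree.ON
import Cfsg.Agent.CpAutON.Seven
import Cfsg.Agent.S1693

/-!
# S1332: the row `O'N`, `p = 3` (helper77)

`16 ∤ |C(x)|` (helper10), the Sylow 7-subgroups of `O'N` are not abelian (`L_3(7) ≤ O'N`), and a nonsolvable group
of automorphisms of `7^2` has order divisible by 16.
-/

set_option autoImplicit false

namespace Cfsg.Agent.BpSpor.ONanThree

open Subgroup Cfsg Cfsg.Agent.BpTab Cfsg.Agent.BpSpor.RowTool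
open Matrix

/-! ### unitriangular matrices -/

/-- unitriangular matrix -/
def um (a b c : ZMod 7) : Matrix (Fin 3) (Fin 3) (ZMod 7) := !![1, a, c; 0, 1, b; 0, 0, 1]

theorem um_mul (a b c a' b' c' : ZMod 7) : um a b c * um a' b' c' = um (a + a') (b + b') (c + c' + a * b') := by
  ext i j
  fin_cases i <;> fin_cases j <;> simp [um, Matrix.mul_apply, Fin.sum_univ_three] <;> ring

theorem um_zero : um 0 0 0 = 1 := by
  ext i j
  fin_cases i <;> fin_cases j <;> simp [um]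

theorem det_um (a b c : ZMod 7) : (um a b c).det = 1 := by
  simp [um, Matrix.det_fin_three]

/-- in `SL_3(7)` -/
def U (a b c : ZMod 7) : SpecialLinearGroup (Fin 3) (ZMod 7) := ⟨um a b c, det_um a b c⟩

theorem U_mul (a b c a' b' c' : ZMod 7) : U a b c * U a' b' c' = U (a + a') (b + b') (c + c' + a * b') :=
  Subtype.ext (um_mul a b c a' b' c')

theorem U_zero : U 0 0 0 = 1 := Subtype.ext um_zero

theorem U_pow (a b c : ZMod 7) (n : ℕ) : U a b c ^ n = U (n * a) (n * b) (n * c + (n.choose 2 : ℕ) * (a * b)) := by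
  induction n with
  | zero => simp [U_zero]
  | succ n ih =>
    rw [pow_succ, ih, U_mul, Nat.choose_succ_succ' n 1, Nat.choose_one_right]
    congr 1
    · push_cast; ring
    · push_cast; ring
    · push_cast; ring

theorem U_seven (a b c : ZMod 7) : U a b c ^ 7 = 1 := by
  rw [U_pow, ← U_zero]
  have h7 : ((7 : ℕ) : ZMod 7) = 0 := by decide
  have h21 : ((Nat.choose 7 2 : ℕ) : ZMod 7) = 0 := by decide
  rw [h7, h21]
  congr 1 <;> ring

/-- the unitriangular group -/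
def uni : Subgroup (SpecialLinearGroup (Fin 3) (ZMod 7)) where
  carrier := {M | ∃ a b c, M = U a b c}
  mul_mem' := by
    rintro _ _ ⟨a, b, c, rfl⟩ ⟨a', b', c', rfl⟩
    exact ⟨_, _, _, U_mul _ _ _ _ _ _⟩
  one_mem' := ⟨0, 0, 0, U_zero.symm⟩
  inv_mem' := by
    rintro _ ⟨a, b, c, rfl⟩
    refine ⟨-a, -b, -c + a * b, inv_eq_of_mul_eq_one_right ?_⟩
    rw [U_mul, ← U_zero]
    congr 1 <;> ring

theorem isPGroup_uni : IsPGroup 7 uni := by
  rintro ⟨_, a, b, c, rfl⟩
  exact ⟨1, Subtype.ext (by simpa using U_seven a b c)⟩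

theorem comm_notMem : U 1 0 0 * U 0 1 0 * (U 0 1 0 * U 1 0 0)⁻¹ ∉ center (SpecialLinearGroup (Fin 3) (ZMod 7)) := by
  have h1 : U 1 0 0 * U 0 1 0 * (U 0 1 0 * U 1 0 0)⁻¹ = U 0 0 1 := by
    rw [mul_inv_eq_iff_eq_mul, U_mul, U_mul, U_mul]
    congr 1
  rw [h1, Matrix.SpecialLinearGroup.mem_center_iff]
  rintro ⟨r, -, hr⟩
  have h2 := congrFun (congrFun hr 0) 2
  have h3 : (U 0 0 1 : Matrix (Fin 3) (Fin 3) (ZMod 7)) 0 2 = 1 := rfl
  rw [h3, Matrix.scalar_apply, Matrix.diagonal_apply_ne _ (by decide)] at h2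
  exact absurd h2 (by decide)

/-! ### a non-abelian 7-subgroup of `O'N` -/

theorem exists_nonab : ∃ V : Subgroup Spor.ON, IsPGroup 7 V ∧ ∃ a ∈ V, ∃ b ∈ V, a * b ≠ b * a := by
  obtain ⟨N, -, -, ⟨e⟩⟩ := S1693.result
  let q : SpecialLinearGroup (Fin 3) (ZMod 7) →* Matrix.ProjectiveSpecialLinearGroup (Fin 3) (ZMod 7) :=
    QuotientGroup.mk' _
  let g : SpecialLinearGroup (Fin 3) (ZMod 7) →* Spor.ON :=
    (Subgroup.subtype _).comp (N.subtype.comp (e.symm.toMonoidHom.comp q))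
  have hg : ∀ x, g x = 1 → x ∈ center (SpecialLinearGroup (Fin 3) (ZMod 7)) := by
    intro x hx
    have h1 : e.symm (q x) = 1 := Subtype.ext (Subtype.ext hx)
    have h2 : q x = 1 := by
      rw [← map_one e.symm] at h1
      exact e.symm.injective h1
    exact (QuotientGroup.eq_one_iff _).1 h2
  refine ⟨uni.map g, isPGroup_uni.map g, g (U 1 0 0), ⟨_, ⟨1, 0, 0, rfl⟩, rfl⟩, g (U 0 1 0), ⟨_, ⟨0, 1, 0, rfl⟩, rfl⟩,
    fun h => comm_notMem (hg _ ?_)⟩
  rw [map_mul, map_inv, map_mul, map_mul, h, mul_inv_cancel]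

theorem card_ON : Nat.card Spor.ON = 460815505920 := KFacts.ON.Cent.hON.2

theorem not_abelian {E : Subgroup Spor.ON} (hE : Nat.card E = 7 ^ 3) (hc : ∀ a ∈ E, ∀ b ∈ E, a * b = b * a) : False := by
  have hfin : Finite Spor.ON := KFacts.ON.Cent.finite_ON
  have h7 : Fact (Nat.Prime 7) := ⟨by norm_num⟩
  obtain ⟨V, hV, a, ha, b, hb, hab⟩ := exists_nonab
  obtain ⟨P, hP⟩ := hV.exists_le_sylow
  obtain ⟨Q, hQ⟩ := (IsPGroup.of_card hE).exists_le_sylow
  have hfac : (Nat.card Spor.ON).factorization 7 = 3 := by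
    rw [card_ON, show (460815505920 : ℕ) = 7 ^ 3 * 1343485440 by norm_num,
      Nat.factorization_mul (by norm_num) (by norm_num), Finsupp.add_apply,
      Nat.factorization_eq_zero_of_not_dvd (by norm_num : ¬ 7 ∣ 1343485440),
      Nat.Prime.factorization_pow (by norm_num)]
    simp
  have hQc : Nat.card Q = 7 ^ 3 := by rw [Q.card_eq_multiplicity, hfac]
  have hEQ : E = (Q : Subgroup Spor.ON) := eq_of_le_of_card_ge hQ (by rw [hE, hQc])
  obtain ⟨g, hg⟩ := MulAction.exists_smul_eq Spor.ON Q P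
  have key : ∀ x ∈ V, ∃ y ∈ E, x = g * y * g⁻¹ := by
    intro x hx
    have h1 : x ∈ (P : Subgroup Spor.ON) := hP hx
    rw [← hg] at h1
    obtain ⟨y, hy, hyx⟩ := h1
    exact ⟨y, hEQ ▸ hy, hyx.symm⟩
  obtain ⟨a', ha', rfl⟩ := key a ha
  obtain ⟨b', hb', rfl⟩ := key b hb
  apply hab
  calc g * a' * g⁻¹ * (g * b' * g⁻¹) = g * (a' * b') * g⁻¹ := by group
    _ = g * (b' * a') * g⁻¹ := by rw [hc a' ha' b' hb']
    _ = g * b' * g⁻¹ * (g * a' * g⁻¹) := by group

/-! ### the row -/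

theorem bps_three : BpS 3 Spor.ON := by
  have hfin : Finite Spor.ON := KFacts.ON.Cent.finite_ON
  have h3 : Fact (Nat.Prime 3) := ⟨Nat.prime_three⟩
  refine bps_of_inner CpAutON.Seven.center_bot (CpAutON.Seven.autInner (by norm_num) (by norm_num)) fun x hx => ?_
  have hd : Nat.card ↥(centralizer ({x} : Set Spor.ON)) ∣ 460815505920 := card_ON ▸ card_subgroup_dvd_card _
  refine GLTwo.good_of_card' (CpAut.SporThree.ON.not_16 hx) (fun h => absurd rfl h) (fun _ h => ?_) (fun h => ?_)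
    (fun E hE hc => ?_) (fun r hr h11 _ h => ?_)
  · exact absurd (h.trans hd) (by norm_num)
  · exact absurd (h.trans hd) (by norm_num)
  · refine not_abelian (E := E.map (centralizer ({x} : Set Spor.ON)).subtype) ?_ ?_
    · rw [card_map_of_injective (subtype_injective _), hE]
    · rintro _ ⟨a, ha, rfl⟩ _ ⟨b, hb, rfl⟩
      exact congrArg Subtype.val (hc a ha b hb)
  · exact no_sq 9 4 1 3 [11, 19, 31] (by norm_num) (by simp; norm_num) (by simp) r hr h11 (h.trans hd)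

end Cfsg.Agent.BpSpor.ONanThree
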