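import Cfsg.Prelude.Def_Classification2
import Cfsg.Agent.BpTab.Base

/-!
# S1332: the list of the 54 sporadic (and Tits) pairs (helper5)

`Pairs` : `BpS p X` for the sporadic (and Tits) models `X` and the odd primes `p` with `p ^ 2 ∣ |X|`.
-/

set_option autoImplicit false

namespace Cfsg.Agent.BpSpor.Main

open Cfsg Cfsg.Agent.BpTab

/-- `BpS p X` for the models `X` and the odd primes `p` with `p ^ 2 ∣ |X|` -/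
structure Pairs : Prop where
  m11_3 : BpS 3 Spor.M11
  m12_3 : BpS 3 Spor.M12
  m22_3 : BpS 3 Spor.M22
  m23_3 : BpS 3 Spor.M23
  m24_3 : BpS 3 M24
  j2_3 : BpS 3 Spor.J2
  j2_5 : BpS 5 Spor.J2
  j3_3 : ∀ (F : Type) [Field F] [Fintype F] (ω : F), Fintype.card F = 4 → ω ^ 2 + ω + 1 = 0 →
    BpS 3 (Spor.J3 F ω)
  j4_3 : BpS 3 Spor.J4
  j4_11 : BpS 11 Spor.J4
  co1_3 : BpS 3 Spor.Co1
  co1_5 : BpS 5 Spor.Co1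
  co1_7 : BpS 7 Spor.Co1
  co2_3 : BpS 3 Spor.Co2
  co2_5 : BpS 5 Spor.Co2
  co3_3 : BpS 3 Spor.Co3
  co3_5 : BpS 5 Spor.Co3
  mcl_3 : BpS 3 Spor.McL
  mcl_5 : BpS 5 Spor.McL
  hs_3 : BpS 3 Spor.HS
  hs_5 : BpS 5 Spor.HS
  suz_3 : BpS 3 Spor.Suz
  suz_5 : BpS 5 Spor.Suz
  he_3 : BpS 3 Spor.He
  he_5 : BpS 5 Spor.He
  he_7 : BpS 7 Spor.He
  ru_3 : BpS 3 Spor.Ru
  ru_5 : BpS 5 Spor.Ru
  on_3 : BpS 3 Spor.ON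
  on_7 : BpS 7 Spor.ON
  ly_3 : BpS 3 Spor.Ly
  ly_5 : BpS 5 Spor.Ly
  fi22_3 : BpS 3 Spor.Fi22
  fi22_5 : BpS 5 Spor.Fi22
  fi23_3 : BpS 3 Spor.Fi23
  fi23_5 : BpS 5 Spor.Fi23
  fi24_3 : BpS 3 Spor.Fi24'
  fi24_5 : BpS 5 Spor.Fi24'
  fi24_7 : BpS 7 Spor.Fi24'
  hn_3 : BpS 3 Spor.HN
  hn_5 : BpS 5 Spor.HN
  th_3 : BpS 3 Spor.Th
  th_5 : BpS 5 Spor.Th
  th_7 : BpS 7 Spor.Th
  b_3 : BpS 3 Spor.BabyMonster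
  b_5 : BpS 5 Spor.BabyMonster
  b_7 : BpS 7 Spor.BabyMonster
  m_3 : BpS 3 Spor.Monster
  m_5 : BpS 5 Spor.Monster
  m_7 : BpS 7 Spor.Monster
  m_11 : BpS 11 Spor.Monster
  m_13 : BpS 13 Spor.Monster
  tits_3 : BpS 3 Lie.TitsGroup
  tits_5 : BpS 5 Lie.TitsGroup


end Cfsg.Agent.BpSpor.Main
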