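import Cfsg.Agent.KFacts.Ru.InvA
import Cfsg.Agent.BpSpor.Cen

-- merged: Cfsg.Agent.BpSpor.RuThreeA
section

/-!
# Elements of order 3 in the centralizer of a central involution of `Ru` (helper22)

`LocalData D 𝒵 R` with `|Σ(z)| = 5`: an element of order 3 commuting with `z` fixes exactly two members of `Σ(z)`.
-/

set_option autoImplicit false

namespace Cfsg.Agent.BpSpor.RuThree

open Subgroup Cfsg.Agent.Ru127.Form Cfsg.Agent.Ru127.Basic Cfsg.Agent.Ru127.Count Cfsg.Agent.Ru127.Five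
open Cfsg.Agent.Ru127.Xi

variable {W F : Type} [AddCommGroup W] [AddCommGroup F]
variable {G : Type*} [Group G]
variable {D : Set G} {R : RuForm W F} {𝒵 : Set (Subgroup G)}

section
variable (L : LocalData D 𝒵 R) [Finite G]
include L

/-- the square of an element of `C(c)` normalises the members of `Σ` -/
theorem sq_nor {z : G} (hz1 : z ≠ 1) {b c : Subgroup G} (hb : b ∈ 𝒵) (hzb : z ∈ b) (hc : c ∈ 𝒵) (hzc : z ∈ c)
    {q : G} (hq : q ∈ centralizer (c : Set G)) : cj (q * q) b = b := by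
  by_cases hbc : b = c
  · subst hbc
    exact cent_le_nor b (mul_mem hq hq)
  · obtain ⟨π, ζ, cc⟩ := L.coord c hc
    have h1 : q * q ∈ c := by
      rw [cc.sq q hq]
      exact ζ_mem cc _
    exact mem_nor_of_mem L hz1 hb hzb hc hzc hbc h1

/-- `C(c)` is transitive on the members of `Σ` different from `c` -/
theorem exists_move {z : G} (hz1 : z ≠ 1) (h5 : Nat.card (Sig 𝒵 z) = 5) {b b2 c : Subgroup G} (hb : b ∈ 𝒵)
    (hzb : z ∈ b) (hb2 : b2 ∈ 𝒵) (hzb2 : z ∈ b2) (hc : c ∈ 𝒵) (hzc : z ∈ c) (hbc : b ≠ c) (hb2c : b2 ≠ c) :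
    ∃ q ∈ centralizer (c : Set G), cj q b = b2 := by
  have hH : ∀ x ∈ Subgroup.centralizer (c : Set G), Commute x z := fun x hx =>
    ((Subgroup.mem_centralizer_iff.1 hx) z hzc).symm
  let _ := sigAct L z (Subgroup.centralizer (c : Set G)) hH
  obtain ⟨π, ζ, cc⟩ := L.coord c hc
  let b' : Sig 𝒵 z := ⟨b, hb, hzb⟩
  let c' : Sig 𝒵 z := ⟨c, hc, hzc⟩
  have hst : Nat.card (MulAction.stabilizer (Subgroup.centralizer (c : Set G)) b') = 512 := by
    rw [← card_K L hz1 hb hzb hc hzc hbc]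
    apply Nat.card_congr
    refine Equiv.ofBijective (fun x => ⟨x.1.1, x.1.2, ?_⟩) ⟨?_, ?_⟩
    · exact congrArg Subtype.val x.2
    · intro x y hxy
      have h0 := Subtype.ext_iff.1 hxy
      have h : x.1.1 = y.1.1 := h0
      exact Subtype.ext (Subtype.ext h)
    · rintro ⟨x, hx, hxb⟩
      exact ⟨⟨⟨x, hx⟩, Subtype.ext hxb⟩, rfl⟩
  have hidx : (MulAction.stabilizer (Subgroup.centralizer (c : Set G)) b').index = 4 := by
    have := Subgroup.card_mul_index (MulAction.stabilizer (Subgroup.centralizer (c : Set G)) b')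
    rw [hst, card_cent cc] at this
    omega
  rw [MulAction.index_stabilizer] at hidx
  have hnot : c' ∉ MulAction.orbit (Subgroup.centralizer (c : Set G)) b' := by
    rintro ⟨⟨g, hg⟩, h⟩
    have h1 : cj g b = c := congrArg Subtype.val h
    have h2 : cj g c = c := cent_le_nor c hg
    have h3 := congrArg (cj g⁻¹) (h1.trans h2.symm)
    rw [cj_inv_cj, cj_inv_cj] at h3
    exact hbc h3
  have hs : insert c' (MulAction.orbit (Subgroup.centralizer (c : Set G)) b') = Set.univ := by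
    apply Set.eq_of_subset_of_ncard_le (Set.subset_univ _) _ (Set.toFinite _)
    rw [Set.ncard_insert_of_notMem hnot (Set.toFinite _), hidx, Set.ncard_univ, h5]
  have hb2' : (⟨b2, hb2, hzb2⟩ : Sig 𝒵 z) ∈ insert c' (MulAction.orbit (Subgroup.centralizer (c : Set G)) b') := by
    rw [hs]; trivial
  rcases hb2' with h | ⟨⟨g, hg⟩, h⟩
  · exact absurd (congrArg Subtype.val h) hb2c
  · exact ⟨g, hg, congrArg Subtype.val h⟩

/-- an element of `C(c)` swapping two members of `Σ` different from `c` -/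
theorem exists_swap {z : G} (hz1 : z ≠ 1) (h5 : Nat.card (Sig 𝒵 z) = 5) {b b2 c : Subgroup G} (hb : b ∈ 𝒵)
    (hzb : z ∈ b) (hb2 : b2 ∈ 𝒵) (hzb2 : z ∈ b2) (hc : c ∈ 𝒵) (hzc : z ∈ c) (hbc : b ≠ c) (hb2c : b2 ≠ c) :
    ∃ q, Commute q z ∧ cj q c = c ∧ cj q b = b2 ∧ cj q b2 = b := by
  obtain ⟨q, hq, h1⟩ := exists_move L hz1 h5 hb hzb hb2 hzb2 hc hzc hbc hb2c
  refine ⟨q, ((Subgroup.mem_centralizer_iff.1 hq) z hzc).symm, cent_le_nor c hq, h1, ?_⟩
  rw [← h1, ← cj_mul, sq_nor L hz1 hb hzb hc hzc hq]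

/-- an element of `C(z)` permuting three members of `Σ` cyclically -/
theorem exists_cycle {z : G} (hz1 : z ≠ 1) (h5 : Nat.card (Sig 𝒵 z) = 5) :
    ∃ g a b c, Commute g z ∧ (a ∈ 𝒵 ∧ z ∈ a) ∧ (b ∈ 𝒵 ∧ z ∈ b) ∧ (c ∈ 𝒵 ∧ z ∈ c) ∧ a ≠ b ∧ a ≠ c ∧ b ≠ c ∧
      cj g a = b ∧ cj g b = c ∧ cj g c = a := by
  obtain ⟨e⟩ : Nonempty (Sig 𝒵 z ≃ Fin 5) := ⟨Finite.equivFinOfCardEq h5⟩
  obtain ⟨⟨a, ha, hza⟩, ha'⟩ : ∃ s, e s = 0 := e.surjective 0
  obtain ⟨⟨b, hb, hzb⟩, hb'⟩ : ∃ s, e s = 1 := e.surjective 1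
  obtain ⟨⟨c, hc, hzc⟩, hc'⟩ : ∃ s, e s = 2 := e.surjective 2
  have hab : a ≠ b := by
    rintro rfl
    exact absurd (ha'.symm.trans hb') (by decide)
  have hac : a ≠ c := by
    rintro rfl
    exact absurd (ha'.symm.trans hc') (by decide)
  have hbc : b ≠ c := by
    rintro rfl
    exact absurd (hb'.symm.trans hc') (by decide)
  -- `p` fixes `a`, swaps `b`, `c`; `q` fixes `b`, swaps `a`, `c`
  obtain ⟨p, hp0, hp1, hp2, hp3⟩ := exists_swap L hz1 h5 hb hzb hc hzc ha hza hab.symm hac.symm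
  obtain ⟨q, hq0, hq1, hq2, hq3⟩ := exists_swap L hz1 h5 ha hza hc hzc hb hzb hab hbc.symm
  refine ⟨p * q, a, b, c, hp0.mul_left hq0, ⟨ha, hza⟩, ⟨hb, hzb⟩, ⟨hc, hzc⟩, hab, hac, hbc, ?_, ?_, ?_⟩
  · rw [cj_mul, hq2, hp3]
  · rw [cj_mul, hq1, hp2]
  · rw [cj_mul, hq3, hp1]

/-- an element of order 3 commuting with `z` moves a member of `Σ` -/
theorem exists_moved {z : G} (hz1 : z ≠ 1) (h5 : Nat.card (Sig 𝒵 z) = 5) {x : G} (hx : orderOf x = 3)
    (hxz : Commute x z) : ∃ Y ∈ 𝒵, z ∈ Y ∧ cj x Y ≠ Y := by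
  classical
  by_contra hcon
  push Not at hcon
  obtain ⟨g, a, b, c, hg, ⟨ha, hza⟩, ⟨hb, hzb⟩, ⟨hc, hzc⟩, hab, hac, hbc, h1, h2, h3⟩ := exists_cycle L hz1 h5
  have hH : ∀ y ∈ Subgroup.centralizer ({z} : Set G), Commute y z := fun y hy =>
    ((Subgroup.mem_centralizer_iff.1 hy) z rfl).symm
  let _ := sigAct L z (Subgroup.centralizer ({z} : Set G)) hH
  let ρ := MulAction.toPermHom ↥(Subgroup.centralizer ({z} : Set G)) (Sig 𝒵 z)
  have hxC : x ∈ Subgroup.centralizer ({z} : Set G) := mem_centralizer_singleton_iff.2 hxz.eq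
  have hgC : g ∈ Subgroup.centralizer ({z} : Set G) := mem_centralizer_singleton_iff.2 hg.eq
  have hker : (⟨x, hxC⟩ : ↥(Subgroup.centralizer ({z} : Set G))) ∈ ρ.ker := by
    rw [MonoidHom.mem_ker]
    apply Equiv.ext
    rintro ⟨Y, hY, hzY⟩
    exact Subtype.ext (hcon Y hY hzY)
  have h3k : 3 ∣ Nat.card ρ.ker := by
    have h4 : orderOf (⟨⟨x, hxC⟩, hker⟩ : ρ.ker) ∣ Nat.card ρ.ker := orderOf_dvd_natCard _
    rwa [Subgroup.orderOf_mk, Subgroup.orderOf_mk, hx] at h4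
  set σ : Equiv.Perm (Sig 𝒵 z) := ρ ⟨g, hgC⟩ with hσ
  have s1 : σ ⟨a, ha, hza⟩ = ⟨b, hb, hzb⟩ := Subtype.ext h1
  have s2 : σ ⟨b, hb, hzb⟩ = ⟨c, hc, hzc⟩ := Subtype.ext h2
  have s3 : σ ⟨c, hc, hzc⟩ = ⟨a, ha, hza⟩ := Subtype.ext h3
  have s4 : ∀ n : ℕ, (σ ^ (3 * n)) ⟨a, ha, hza⟩ = ⟨a, ha, hza⟩ := by
    intro n
    induction n with
    | zero => rfl
    | succ n ih =>
      rw [show 3 * (n + 1) = 3 * n + 3 by ring, pow_add, Equiv.Perm.mul_apply, pow_succ, pow_two,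
        Equiv.Perm.mul_apply, Equiv.Perm.mul_apply, s1, s2, s3, ih]
  have s5 : 3 ∣ orderOf σ := by
    have h6 := pow_orderOf_eq_one σ
    have h7 : orderOf σ = 3 * (orderOf σ / 3) + orderOf σ % 3 := (Nat.div_add_mod _ _).symm
    have h8 : orderOf σ % 3 < 3 := Nat.mod_lt _ (by norm_num)
    have h9 : (σ ^ (orderOf σ % 3)) ⟨a, ha, hza⟩ = ⟨a, ha, hza⟩ := by
      have h10 := congrArg (fun τ : Equiv.Perm (Sig 𝒵 z) => τ ⟨a, ha, hza⟩) h6
      rw [h7, add_comm, pow_add] at h10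
      have h11 : (σ ^ (orderOf σ % 3) * σ ^ (3 * (orderOf σ / 3))) ⟨a, ha, hza⟩ = ⟨a, ha, hza⟩ := h10
      rwa [Equiv.Perm.mul_apply, s4] at h11
    have h12 : orderOf σ % 3 = 0 := by
      interval_cases h13 : orderOf σ % 3
      · rfl
      · rw [pow_one, s1] at h9
        exact absurd (congrArg Subtype.val h9).symm hab
      · rw [pow_two, Equiv.Perm.mul_apply, s1, s2] at h9
        exact absurd (congrArg Subtype.val h9).symm hac
    exact Nat.dvd_of_mod_eq_zero h12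
  have h3r : 3 ∣ Nat.card ρ.range := by
    have hσr : σ ∈ ρ.range := MonoidHom.mem_range.2 ⟨_, rfl⟩
    have h6 : orderOf (⟨σ, hσr⟩ : ρ.range) ∣ Nat.card ρ.range := orderOf_dvd_natCard _
    rw [Subgroup.orderOf_mk] at h6
    exact s5.trans h6
  have h9 : 3 * 3 ∣ Nat.card ↥(Subgroup.centralizer ({z} : Set G)) := by
    have h6 : Nat.card ↥(Subgroup.centralizer ({z} : Set G)) = Nat.card ρ.ker * Nat.card ρ.range := by
      rw [← card_mul_index ρ.ker, index_ker]
    rw [h6]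
    exact Nat.mul_dvd_mul h3k h3r
  rw [card_cent_z L hz1 ha hza, h5] at h9
  norm_num at h9

/-- an element of order 3 commuting with `z` fixes exactly two members of `Σ` -/
theorem fix_two {z : G} (hz1 : z ≠ 1) (h5 : Nat.card (Sig 𝒵 z) = 5) {x : G} (hx : orderOf x = 3)
    (hxz : Commute x z) : ∃ a b, (a ∈ 𝒵 ∧ z ∈ a) ∧ (b ∈ 𝒵 ∧ z ∈ b) ∧ a ≠ b ∧ cj x a = a ∧ cj x b = b ∧
      ∀ Y ∈ 𝒵, z ∈ Y → cj x Y = Y → Y = a ∨ Y = b := by
  classical
  have : Fact (Nat.Prime 3) := ⟨Nat.prime_three⟩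
  have hP : IsPGroup 3 (zpowers x) := by
    rw [IsPGroup.iff_card]
    exact ⟨1, by rw [Nat.card_zpowers, hx, pow_one]⟩
  have hH : ∀ y ∈ zpowers x, Commute y z := by
    intro y hy
    obtain ⟨k, rfl⟩ := Subgroup.mem_zpowers_iff.1 hy
    exact hxz.zpow_left k
  let _ := sigAct L z (zpowers x) hH
  have h1 := hP.card_modEq_card_fixedPoints (Sig 𝒵 z)
  rw [h5] at h1
  have hmem : ∀ s : Sig 𝒵 z, s ∈ MulAction.fixedPoints (zpowers x) (Sig 𝒵 z) ↔ cj x s.1 = s.1 := by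
    intro s
    constructor
    · intro h
      exact congrArg Subtype.val (h ⟨x, mem_zpowers x⟩)
    · rintro h ⟨y, hy⟩
      apply Subtype.ext
      show cj y s.1 = s.1
      have hle : zpowers x ≤ nor s.1 := by
        rw [zpowers_le]
        exact h
      exact hle hy
  have h2 : Nat.card (MulAction.fixedPoints (zpowers x) (Sig 𝒵 z)) < 5 := by
    rw [← h5]
    refine lt_of_le_of_ne (Nat.card_le_card_of_injective _ Subtype.val_injective) fun h => ?_
    obtain ⟨Y, hY, hzY, hne⟩ := exists_moved L hz1 h5 hx hxz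
    have h3 : MulAction.fixedPoints (zpowers x) (Sig 𝒵 z) = Set.univ := by
      apply Set.eq_of_subset_of_ncard_le (Set.subset_univ _) _ (Set.toFinite _)
      rw [Set.ncard_univ, ← h]
      exact le_of_eq (Nat.card_coe_set_eq _)
    have h4 : (⟨Y, hY, hzY⟩ : Sig 𝒵 z) ∈ MulAction.fixedPoints (zpowers x) (Sig 𝒵 z) := by
      rw [h3]; trivial
    exact hne ((hmem _).1 h4)
  have h3 : Nat.card (MulAction.fixedPoints (zpowers x) (Sig 𝒵 z)) = 2 := by
    have h4 : 5 % 3 = Nat.card (MulAction.fixedPoints (zpowers x) (Sig 𝒵 z)) % 3 := h1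
    omega
  rw [Nat.card_eq_two_iff] at h3
  obtain ⟨⟨a, ha⟩, ⟨b, hb⟩, hab, hu⟩ := h3
  refine ⟨a.1, b.1, a.2, b.2, fun h => hab (Subtype.ext (Subtype.ext h)), (hmem a).1 ha, (hmem b).1 hb, ?_⟩
  intro Y hY hzY hf
  have h4 : (⟨⟨Y, hY, hzY⟩, (hmem _).2 hf⟩ : ↥(MulAction.fixedPoints (zpowers x) (Sig 𝒵 z))) ∈
      ({⟨a, ha⟩, ⟨b, hb⟩} : Set ↥(MulAction.fixedPoints (zpowers x) (Sig 𝒵 z))) := by
    rw [hu]; trivial
  rcases h4 with h4 | h4
  · exact Or.inl (congrArg Subtype.val (congrArg Subtype.val h4))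
  · exact Or.inr (congrArg Subtype.val (congrArg Subtype.val h4))

end

end Cfsg.Agent.BpSpor.RuThree

end

-- merged: Cfsg.Agent.BpSpor.RuThreeB
section

/-!
# `|C(z) ∩ C(x)|` divides 96 for `x` of order 3 commuting with a central involution `z` of `Ru` (helper22)
-/

set_option autoImplicit false

namespace Cfsg.Agent.BpSpor.RuThree

open Subgroup Cfsg.Agent.Ru127.Form Cfsg.Agent.Ru127.Basic Cfsg.Agent.Ru127.Count Cfsg.Agent.Ru127.Five
open Cfsg.Agent.Ru127.Xi Cfsg.Agent.KFacts.Ru.InvA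

variable {W F : Type} [AddCommGroup W] [AddCommGroup F]
variable {G : Type*} [Group G]
variable {D : Set G} {R : RuForm W F} {𝒵 : Set (Subgroup G)}

/-- `v * v^x * v^(x^2)` -/
def pr (x v : G) : G := v * (x * v * x⁻¹) * (x * (x * v * x⁻¹) * x⁻¹)

theorem pr_mul {x : G} {Y : Subgroup G} (hc : ∀ a ∈ Y, ∀ b ∈ Y, a * b = b * a) (hx : ∀ a ∈ Y, x * a * x⁻¹ ∈ Y)
    {v w : G} (hv : v ∈ Y) (hw : w ∈ Y) : pr x (v * w) = pr x v * pr x w := by
  have e1 : x * (v * w) * x⁻¹ = (x * v * x⁻¹) * (x * w * x⁻¹) := by group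
  have e2 : x * ((x * v * x⁻¹) * (x * w * x⁻¹)) * x⁻¹ = (x * (x * v * x⁻¹) * x⁻¹) * (x * (x * w * x⁻¹) * x⁻¹) := by
    group
  have hc' := hx v hv
  have hd' := hx w hw
  have he' := hx _ hc'
  have hf' := hx _ hd'
  unfold pr
  rw [e1, e2]
  generalize x * (x * v * x⁻¹) * x⁻¹ = e at *
  generalize x * (x * w * x⁻¹) * x⁻¹ = f at *
  generalize x * v * x⁻¹ = c at *
  generalize x * w * x⁻¹ = d at *
  have k1 := hc w hw c hc'
  have k2 := hc d hd' e he'
  have k3 := hc w hw e he'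
  calc v * w * (c * d) * (e * f) = v * (w * c) * (d * e) * f := by simp only [mul_assoc]
    _ = v * (c * w) * (e * d) * f := by rw [k1, k2]
    _ = v * c * (w * e) * d * f := by simp only [mul_assoc]
    _ = v * c * (e * w) * d * f := by rw [k3]
    _ = v * c * e * (w * d * f) := by simp only [mul_assoc]

/-- the elements of `Y` with `v * v^x * v^(x^2) = 1` -/
def FF (x : G) (Y : Subgroup G) (hc : ∀ a ∈ Y, ∀ b ∈ Y, a * b = b * a) (hx : ∀ a ∈ Y, x * a * x⁻¹ ∈ Y) :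
    Subgroup G where
  carrier := {v | v ∈ Y ∧ pr x v = 1}
  mul_mem' := by
    rintro a b ⟨ha, ha1⟩ ⟨hb, hb1⟩
    refine ⟨mul_mem ha hb, ?_⟩
    rw [pr_mul hc hx ha hb, ha1, hb1, one_mul]
  one_mem' := ⟨one_mem _, by simp [pr]⟩
  inv_mem' := by
    rintro a ⟨ha, ha1⟩
    refine ⟨inv_mem ha, ?_⟩
    have h1 := pr_mul hc hx ha (inv_mem ha)
    rw [mul_inv_cancel, ha1, one_mul] at h1
    rw [← h1]
    simp [pr]

theorem x_cube {x : G} (hx : orderOf x = 3) (v : G) : x * (x * (x * v * x⁻¹) * x⁻¹) * x⁻¹ = v := by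
  have h1 : x * x * x = 1 := by
    have h2 := pow_orderOf_eq_one x
    rw [hx, pow_succ, pow_two] at h2
    exact h2
  calc x * (x * (x * v * x⁻¹) * x⁻¹) * x⁻¹ = (x * x * x) * v * (x * x * x)⁻¹ := by group
    _ = v := by rw [h1]; group

section
variable (L : LocalData D 𝒵 R) [Finite G]
include L

omit [Finite G] in
/-- the centralizer of a member is a 2-group -/
theorem pow_cent {Y : Subgroup G} (hY : Y ∈ 𝒵) {w : G} (hw : w ∈ centralizer (Y : Set G)) : w ^ 2 ^ 11 = 1 := by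
  obtain ⟨π, ζ, cc⟩ := L.coord Y hY
  have h1 := pow_card_eq_one' (x := (⟨w, hw⟩ : ↥(centralizer (Y : Set G))))
  rw [card_cent cc] at h1
  exact congrArg Subtype.val h1

omit [Finite G] in
theorem cent_of_cube {Y : Subgroup G} (hY : Y ∈ 𝒵) {w u : G} (hw : w ∈ centralizer (Y : Set G))
    (h : Commute (w ^ 3) u) : Commute w u := by
  have h1 := pow_cent L hY hw
  have h2 : w = ((w ^ 3) ^ 1365)⁻¹ := by
    rw [← mul_eq_one_iff_eq_inv, ← pow_mul, ← pow_succ', show 3 * 1365 + 1 = 2 ^ 11 * 2 by norm_num, pow_mul, h1,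
      one_pow]
  rw [h2]
  exact (h.pow_left _).inv_left

/-- fixed points of an element of order 3 on a member it normalises -/
theorem fixed_one {z : G} {x : G} (hx : orderOf x = 3) (hxz : Commute x z) (hz1 : z ≠ 1) {Y : Subgroup G}
    (hY : Y ∈ 𝒵) (hzY : z ∈ Y) (hxY : cj x Y = Y) {u : G} (hu : u ∈ Y) (hxu : Commute x u) : u = 1 ∨ u = z := by
  classical
  by_contra hcon
  push Not at hcon
  obtain ⟨hu1, huz⟩ := hcon
  have : Fact (Nat.Prime 3) := ⟨Nat.prime_three⟩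
  have h1 := Cen.card_fix hx (N := Y) fun n hn => conj_mem_of_mem_nor hxY hn
  set P : Subgroup G := Y ⊓ centralizer ({x} : Set G) with hP
  have hm : ∀ v ∈ Y, Commute x v → v ∈ P := fun v hv h => ⟨hv, mem_centralizer_singleton_iff.2 h.eq.symm⟩
  have h8 := card_mem L hY
  have hPd : Nat.card P ∣ 8 := h8 ▸ card_dvd_of_le inf_le_left
  have hzz := sq_mem L hY hzY
  have huu := sq_mem L hY hu
  -- `P` has at least three elements
  have h3 : 3 ≤ Nat.card P := by
    have hi : Function.Injective (fun i : Fin 3 => (![⟨1, one_mem P⟩, ⟨z, hm z hzY hxz⟩, ⟨u, hm u hu hxu⟩] : Fin 3 → P) i) := by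
      intro i j hij
      fin_cases i <;> fin_cases j <;> first
        | rfl
        | exact absurd (congrArg Subtype.val hij) hz1.symm
        | exact absurd (congrArg Subtype.val hij) hz1
        | exact absurd (congrArg Subtype.val hij) hu1.symm
        | exact absurd (congrArg Subtype.val hij) hu1
        | exact absurd (congrArg Subtype.val hij) huz.symm
        | exact absurd (congrArg Subtype.val hij) huz
    have h4 := Nat.card_le_card_of_injective _ hi
    rwa [Nat.card_eq_fintype_card, Fintype.card_fin] at h4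
  rw [h8] at h1
  have h2 : 8 % 3 = Nat.card P % 3 := h1
  have h4 : Nat.card P = 8 := by
    have h5 : Nat.card P ∈ Nat.divisors 8 := Nat.mem_divisors.2 ⟨hPd, by norm_num⟩
    rw [show Nat.divisors 8 = {1, 2, 4, 8} by decide +kernel] at h5
    simp only [Finset.mem_insert, Finset.mem_singleton] at h5
    omega
  have h5 : P = Y := eq_of_le_of_card_ge inf_le_left (by rw [h8, h4])
  have h6 : x ∈ centralizer (Y : Set G) := by
    rw [mem_centralizer_iff]
    intro y hy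
    have h7 : y ∈ P := by rw [h5]; exact hy
    exact mem_centralizer_singleton_iff.1 h7.2
  have h7 := orderOf_dvd_of_pow_eq_one (pow_cent L hY h6)
  rw [hx] at h7
  norm_num at h7

/-- the orbit of `C(z) ∩ C(x) ∩ N(Y)` on `Y` -/
theorem exists_u {z : G} {x : G} (hx : orderOf x = 3) (hxz : Commute x z) (hz1 : z ≠ 1) {Y : Subgroup G}
    (hY : Y ∈ 𝒵) (hzY : z ∈ Y) (hxY : cj x Y = Y) : ∃ u ∈ Y, ¬ Commute x u ∧
      (∀ d, Commute d z → Commute d x → cj d Y = Y →
        d * u * d⁻¹ = u ∨ d * u * d⁻¹ = x * u * x⁻¹ ∨ d * u * d⁻¹ = x * (x * u * x⁻¹) * x⁻¹) ∧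
      ∀ w, Commute w z → Commute w x → Commute w u → w ∈ centralizer (Y : Set G) := by
  classical
  have hcomm : ∀ a ∈ Y, ∀ b ∈ Y, a * b = b * a := fun a ha b hb => comm_mem L hY ha hb
  have hxc : ∀ a ∈ Y, x * a * x⁻¹ ∈ Y := fun a ha => conj_mem_of_mem_nor hxY ha
  have hzz := sq_mem L hY hzY
  have hzx : x * z * x⁻¹ = z := by rw [hxz.eq, mul_inv_cancel_right]
  have hprz : pr x z = z := by
    unfold pr
    rw [hzx, hzx, hzz, one_mul]
  -- the values of `pr`
  have hpr : ∀ v ∈ Y, pr x v = 1 ∨ pr x v = z := by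
    intro v hv
    have hv1 := hxc v hv
    have hv2 := hxc _ hv1
    refine fixed_one L hx hxz hz1 hY hzY hxY (mul_mem (mul_mem hv hv1) hv2) ?_
    have h1 : x * (v * (x * v * x⁻¹) * (x * (x * v * x⁻¹) * x⁻¹)) * x⁻¹ =
        (x * v * x⁻¹) * (x * (x * v * x⁻¹) * x⁻¹) * v := by
      have h2 := x_cube hx v
      calc x * (v * (x * v * x⁻¹) * (x * (x * v * x⁻¹) * x⁻¹)) * x⁻¹ =
          (x * v * x⁻¹) * (x * (x * v * x⁻¹) * x⁻¹) * (x * (x * (x * v * x⁻¹) * x⁻¹) * x⁻¹) := by group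
        _ = _ := by rw [h2]
    have h3 : (x * v * x⁻¹) * (x * (x * v * x⁻¹) * x⁻¹) * v = v * (x * v * x⁻¹) * (x * (x * v * x⁻¹) * x⁻¹) := by
      rw [hcomm _ (mul_mem hv1 hv2) v hv]
      simp only [mul_assoc]
    rw [h3] at h1
    exact mul_inv_eq_iff_eq_mul.1 h1
  obtain ⟨v, hv, hvn⟩ := exists_notMem (card_mem L hY) (s := {1, z}) (le_trans Finset.card_le_two (by norm_num))
  simp only [Finset.mem_insert, Finset.mem_singleton, not_or] at hvn
  obtain ⟨u, hu, hu1, huz, hpu⟩ : ∃ u ∈ Y, u ≠ 1 ∧ u ≠ z ∧ pr x u = 1 := by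
    rcases hpr v hv with h | h
    · exact ⟨v, hv, hvn.1, hvn.2, h⟩
    · refine ⟨v * z, mul_mem hv hzY, ?_, ?_, ?_⟩
      · intro h1
        apply hvn.2
        have h2 : v * z = z * z := by rw [h1, hzz]
        exact mul_right_cancel h2
      · intro h1
        exact hvn.1 (mul_eq_right.1 h1)
      · rw [pr_mul hcomm hxc hv hzY, h, hprz, hzz]
  have hnc : ¬ Commute x u := fun h => by
    rcases fixed_one L hx hxz hz1 hY hzY hxY hu h with h | h
    · exact hu1 h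
    · exact huz h
  set u1 := x * u * x⁻¹ with hu1d
  set u2 := x * u1 * x⁻¹ with hu2d
  have hm1 : u1 ∈ Y := hxc u hu
  have hm2 : u2 ∈ Y := hxc u1 hm1
  have hcub : x * u2 * x⁻¹ = u := x_cube hx u
  have n01 : u ≠ u1 := fun h => hnc (by
    show x * u = u * x
    rw [← mul_inv_eq_iff_eq_mul, ← hu1d, ← h])
  have n12 : u1 ≠ u2 := fun h => n01 (by
    have h1 : x * u * x⁻¹ = x * u1 * x⁻¹ := h
    have h2 := mul_right_cancel h1
    exact mul_left_cancel h2)
  have n02 : u ≠ u2 := fun h => n01 (by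
    have h1 : x * u * x⁻¹ = u := by rw [← h] at hcub; exact hcub
    exact h1.symm)
  have n1 : u1 ≠ 1 := fun h => hu1 (by
    have h1 : x * u * x⁻¹ = 1 := h
    rw [mul_inv_eq_one] at h1
    exact mul_eq_left.1 h1)
  have n2 : u2 ≠ 1 := fun h => n1 (by
    have h1 : x * u1 * x⁻¹ = 1 := h
    rw [mul_inv_eq_one] at h1
    exact mul_eq_left.1 h1)
  have hu2e : u * u1 = u2 := by
    have h1 : u * u1 * u2 = 1 := hpu
    have h2 := sq_mem L hY hm2
    calc u * u1 = u * u1 * (u2 * u2) := by rw [h2, mul_one]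
      _ = (u * u1 * u2) * u2 := by simp only [mul_assoc]
      _ = u2 := by rw [h1, one_mul]
  have nz1 : u1 ≠ z := fun h => huz (by
    have h1 : x * u * x⁻¹ = x * z * x⁻¹ := by rw [hzx]; exact h
    exact mul_left_cancel (mul_right_cancel h1))
  have nz2 : u2 ≠ z := fun h => nz1 (by
    have h1 : x * u1 * x⁻¹ = x * z * x⁻¹ := by rw [hzx]; exact h
    exact mul_left_cancel (mul_right_cancel h1))
  refine ⟨u, hu, hnc, ?_, ?_⟩
  · intro d hdz hdx hdY
    by_contra hcon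
    push Not at hcon
    obtain ⟨c0, c1, c2⟩ := hcon
    set w := d * u * d⁻¹ with hwd
    have hw : w ∈ Y := conj_mem_of_mem_nor hdY hu
    have hpw : pr x w = 1 := by
      have e1 : x * w * x⁻¹ = d * (x * u * x⁻¹) * d⁻¹ := by
        rw [hwd]
        have h1 : x * d = d * x := hdx.eq.symm
        have h2 : d⁻¹ * x⁻¹ = x⁻¹ * d⁻¹ := by rw [← mul_inv_rev, ← mul_inv_rev, h1]
        calc x * (d * u * d⁻¹) * x⁻¹ = (x * d) * u * (d⁻¹ * x⁻¹) := by simp only [mul_assoc]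
          _ = (d * x) * u * (x⁻¹ * d⁻¹) := by rw [h1, h2]
          _ = _ := by simp only [mul_assoc]
      have e2 : x * (d * (x * u * x⁻¹) * d⁻¹) * x⁻¹ = d * (x * (x * u * x⁻¹) * x⁻¹) * d⁻¹ := by
        have h1 : x * d = d * x := hdx.eq.symm
        have h2 : d⁻¹ * x⁻¹ = x⁻¹ * d⁻¹ := by rw [← mul_inv_rev, ← mul_inv_rev, h1]
        calc x * (d * (x * u * x⁻¹) * d⁻¹) * x⁻¹ = (x * d) * (x * u * x⁻¹) * (d⁻¹ * x⁻¹) := by simp only [mul_assoc]
          _ = (d * x) * (x * u * x⁻¹) * (x⁻¹ * d⁻¹) := by rw [h1, h2]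
          _ = _ := by simp only [mul_assoc]
      unfold pr
      rw [e1, e2]
      calc w * (d * (x * u * x⁻¹) * d⁻¹) * (d * (x * (x * u * x⁻¹) * x⁻¹) * d⁻¹) = d * pr x u * d⁻¹ := by
            rw [hwd, pr]; group
        _ = 1 := by rw [hpu]; group
    have hw1 : w ≠ 1 := by
      intro h
      apply hu1
      have h1 : d * u * d⁻¹ = 1 := h
      rw [mul_inv_eq_one] at h1
      exact mul_eq_left.1 h1
    have hF : FF x Y hcomm hxc = Y := by
      have m1 : u1 ∈ FF x Y hcomm hxc := by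
        refine ⟨hm1, ?_⟩
        have h1 : pr x u1 = x * pr x u * x⁻¹ := by
          change pr x (x * u * x⁻¹) = x * pr x u * x⁻¹
          unfold pr
          group
        rw [h1, hpu]; group
      have m2 : u2 ∈ FF x Y hcomm hxc := by
        refine ⟨hm2, ?_⟩
        have h1 : pr x u2 = x * (x * pr x u * x⁻¹) * x⁻¹ := by
          change pr x (x * (x * u * x⁻¹) * x⁻¹) = x * (x * pr x u * x⁻¹) * x⁻¹
          unfold pr
          group
        rw [h1, hpu]; group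
      refine eq_of_five (card_mem L hY) (fun a ha => ha.1) (one_mem _) (⟨hu, hpu⟩ : u ∈ FF x Y hcomm hxc) m1 m2
        (⟨hw, hpw⟩ : w ∈ FF x Y hcomm hxc) ?_
      simp only [List.nodup_cons, List.mem_cons, List.not_mem_nil, or_false, not_or, List.nodup_nil, and_true,
        not_false_eq_true]
      exact ⟨⟨hu1.symm, n1.symm, n2.symm, hw1.symm⟩, ⟨n01, n02, Ne.symm c0⟩, ⟨n12, Ne.symm c1⟩, Ne.symm c2⟩
    have h1 : z ∈ FF x Y hcomm hxc := by rw [hF]; exact hzY
    have h2 : pr x z = 1 := h1.2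
    rw [hprz] at h2
    exact hz1 h2
  · intro w hwz hwx hwu
    have hwu1 : Commute w u1 := by
      have h1 : Commute w x⁻¹ := hwx.inv_right
      exact (hwx.mul_right hwu).mul_right h1
    refine cent_of_two L hz1 hY hzY hwz hu hm1 hwu hwu1 hu1 huz n1 nz1 ?_ ?_
    · rw [hu2e]; exact n2
    · rw [hu2e]; exact nz2

end

end Cfsg.Agent.BpSpor.RuThree

end

-- merged: Cfsg.Agent.BpSpor.RuThreeC
section

/-!
# `|C(z) ∩ C(x)|` divides 96, end (helper22)
-/

set_option autoImplicit false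

namespace Cfsg.Agent.BpSpor.RuThree

open Subgroup Cfsg.Agent.Ru127.Form Cfsg.Agent.Ru127.Basic Cfsg.Agent.Ru127.Count Cfsg.Agent.Ru127.Five
open Cfsg.Agent.Ru127.Xi Cfsg.Agent.KFacts.Ru.InvA

variable {W F : Type} [AddCommGroup W] [AddCommGroup F]
variable {G : Type*} [Group G]
variable {D : Set G} {R : RuForm W F} {𝒵 : Set (Subgroup G)}

/-- the product of two commuting subgroups -/
def EE (a b : Subgroup G) (h : ∀ s ∈ a, ∀ t ∈ b, s * t = t * s) : Subgroup G where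
  carrier := {g | ∃ s ∈ a, ∃ t ∈ b, g = s * t}
  mul_mem' := by
    rintro _ _ ⟨s, hs, t, ht, rfl⟩ ⟨s', hs', t', ht', rfl⟩
    refine ⟨s * s', mul_mem hs hs', t * t', mul_mem ht ht', ?_⟩
    calc s * t * (s' * t') = s * (t * s') * t' := by simp only [mul_assoc]
      _ = s * (s' * t) * t' := by rw [h s' hs' t ht]
      _ = s * s' * (t * t') := by simp only [mul_assoc]
  one_mem' := ⟨1, one_mem _, 1, one_mem _, by simp⟩
  inv_mem' := by
    rintro _ ⟨s, hs, t, ht, rfl⟩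
    refine ⟨s⁻¹, inv_mem hs, t⁻¹, inv_mem ht, ?_⟩
    rw [mul_inv_rev]
    exact (h s⁻¹ (inv_mem hs) t⁻¹ (inv_mem ht)).symm

theorem card_relIndex {A B : Subgroup G} (h : A ≤ B) : Nat.card ↥A * A.relIndex B = Nat.card ↥B := by
  have h1 := relIndex_mul_relIndex ⊥ A B bot_le h
  rwa [relIndex_bot_left, relIndex_bot_left] at h1

theorem cj_inj {d : G} {a b : Subgroup G} (h : cj d a = cj d b) : a = b := by
  have h1 := congrArg (cj d⁻¹) h
  rwa [cj_inv_cj, cj_inv_cj] at h1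

section
variable (L : LocalData D 𝒵 R) [Finite G]
include L

/-- `|C(a) ∩ C(b)| ≤ 2^8` -/
theorem card_M_le {z : G} (hz1 : z ≠ 1) {a b : Subgroup G} (ha : a ∈ 𝒵) (hza : z ∈ a) (hb : b ∈ 𝒵) (hzb : z ∈ b)
    (hab : a ≠ b) : Nat.card ↥(centralizer (a : Set G) ⊓ centralizer (b : Set G)) ≤ 256 := by
  classical
  obtain ⟨e, he, hen⟩ := exists_notMem (card_mem L hb) (s := {1, z}) (le_trans Finset.card_le_two (by norm_num))
  simp only [Finset.mem_insert, Finset.mem_singleton, not_or] at hen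
  have hea : e ∈ centralizer (a : Set G) := le_cent_of_ne L hz1 hb hzb ha hza hab.symm he
  have hena : e ∉ a := fun h => by
    rcases inf_eq L hz1 hb hzb ha hza hab.symm he h with h | h
    · exact hen.1 h
    · exact hen.2 h
  obtain ⟨π, ζ, cc⟩ := L.coord a ha
  have hπ : π e ≠ 0 := fun h => hena ((cc.π_ker e hea).1 h)
  have h1 := card_conj_mul (centralizer (a : Set G)) e
  rw [card_cent cc] at h1
  have hfF : Finite F := Nat.finite_of_card_ne_zero (by rw [R.cardF]; norm_num)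
  have h2 : ∀ f : F, ∃ h ∈ centralizer (a : Set G), h * e * h⁻¹ = e * ζ f := by
    intro f
    obtain ⟨w, hw⟩ := R.q1 (π e) hπ f
    obtain ⟨q, hq, hqw⟩ := cc.π_surj w
    refine ⟨q, hq, ?_⟩
    have h3 := cc.comm e hea q hq
    rw [hqw, hw] at h3
    have h4 : ζ f * q = q * ζ f := comm_of_mem cc hq (ζ_mem cc f)
    have h5 : q * e = e * q * (ζ f)⁻¹ := by
      rw [← h3]; group
    have h6 : (ζ f)⁻¹ = ζ f := inv_eq_of_mul_eq_one_right (sq_Y cc (ζ_mem cc f))
    rw [mul_inv_eq_iff_eq_mul, h5, h6, mul_assoc, mul_assoc, h4]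
  have h3 : 8 ≤ Nat.card {y : G // ∃ h ∈ centralizer (a : Set G), h * e * h⁻¹ = y} := by
    rw [← R.cardF]
    refine Nat.card_le_card_of_injective (fun f : F => ⟨e * ζ f, h2 f⟩) fun f f' hff => ?_
    exact cc.ζ_inj (mul_left_cancel (congrArg Subtype.val hff))
  have h4 : Nat.card ↥(centralizer (a : Set G) ⊓ centralizer (b : Set G)) ≤
      Nat.card ↥(centralizer (a : Set G) ⊓ centralizer ({e} : Set G)) := by
    refine Nat.card_le_card_of_injective (Subgroup.inclusion (inf_le_inf_left _ ?_)) (inclusion_injective _)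
    intro w hw
    rw [mem_centralizer_singleton_iff]
    exact (mem_centralizer_iff.1 hw e he).symm
  have h5 : 8 * Nat.card ↥(centralizer (a : Set G) ⊓ centralizer ({e} : Set G)) ≤ 2 ^ 11 := by
    rw [← h1]
    exact Nat.mul_le_mul_right _ h3
  omega

/-- `|C(a) ∩ C(b) ∩ C(x)|` divides 16 -/
theorem card_M_dvd {z : G} (hz1 : z ≠ 1) {x : G} (hx : orderOf x = 3) (hxz : Commute x z) {a b : Subgroup G}
    (ha : a ∈ 𝒵) (hza : z ∈ a) (hb : b ∈ 𝒵) (hzb : z ∈ b) (hab : a ≠ b) (hxa : cj x a = a) (hxb : cj x b = b) :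
    Nat.card ↥((centralizer (a : Set G) ⊓ centralizer (b : Set G)) ⊓ centralizer ({x} : Set G)) ∣ 16 := by
  classical
  set M := centralizer (a : Set G) ⊓ centralizer (b : Set G) with hM
  set A := centralizer ({x} : Set G) with hA
  have hcab : ∀ s ∈ a, ∀ t ∈ b, s * t = t * s := fun s hs t ht =>
    mem_centralizer_iff.1 (le_cent_of_ne L hz1 hb hzb ha hza hab.symm ht) s hs
  set E := EE a b hcab with hE
  have haE : a ≤ E := fun s hs => ⟨s, hs, 1, one_mem _, by simp⟩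
  have hbE : b ≤ E := fun t ht => ⟨1, one_mem _, t, ht, by simp⟩
  have hEM : E ≤ M := by
    rintro _ ⟨s, hs, t, ht, rfl⟩
    refine mul_mem ⟨?_, ?_⟩ ⟨?_, ?_⟩
    · exact mem_centralizer_iff.2 fun y hy => comm_mem L ha hy hs
    · exact mem_centralizer_iff.2 fun y hy => (hcab s hs y hy).symm
    · exact mem_centralizer_iff.2 fun y hy => hcab y hy t ht
    · exact mem_centralizer_iff.2 fun y hy => comm_mem L hb hy ht
  have hz2 := sq_mem L ha hza
  -- the fixed points of `x` on `E`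
  have hfix : Nat.card ↥(E ⊓ A) ≤ 2 := by
    have hsub : ((E ⊓ A : Subgroup G) : Set G) ⊆ {1, z} := by
      rintro g ⟨⟨s, hs, t, ht, rfl⟩, hg⟩
      have hg1 : x * (s * t) * x⁻¹ = s * t := by
        rw [mul_inv_eq_iff_eq_mul]
        exact (mem_centralizer_singleton_iff.1 hg).symm
      have hs' : x * s * x⁻¹ ∈ a := conj_mem_of_mem_nor hxa hs
      have ht' : x * t * x⁻¹ ∈ b := conj_mem_of_mem_nor hxb ht
      have h1 : s⁻¹ * (x * s * x⁻¹) = t * (x * t * x⁻¹)⁻¹ := by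
        have h2 : x * (s * t) * x⁻¹ = (x * s * x⁻¹) * (x * t * x⁻¹) := by group
        rw [h2] at hg1
        rw [inv_mul_eq_iff_eq_mul, ← mul_assoc, eq_mul_inv_iff_mul_eq]
        exact hg1
      have h2 : s⁻¹ * (x * s * x⁻¹) ∈ a := mul_mem (inv_mem hs) hs'
      have h3 : s⁻¹ * (x * s * x⁻¹) ∈ b := by rw [h1]; exact mul_mem ht (inv_mem ht')
      have h4 : s⁻¹ * (x * s * x⁻¹) = 1 ∨ s⁻¹ * (x * s * x⁻¹) = z := inf_eq L hz1 ha hza hb hzb hab h2 h3
      have hzx : x * z * x⁻¹ = z := by rw [hxz.eq, mul_inv_cancel_right]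
      have h5 : s⁻¹ * (x * s * x⁻¹) = 1 := by
        rcases h4 with h | h
        · exact h
        · exfalso
          have k1 : x * s * x⁻¹ = s * z := by rw [← h]; group
          have k2 : x * (x * s * x⁻¹) * x⁻¹ = s * z * z := by
            rw [k1]
            calc x * (s * z) * x⁻¹ = (x * s * x⁻¹) * (x * z * x⁻¹) := by group
              _ = _ := by rw [k1, hzx]
          have k3 := x_cube hx s
          rw [k2, mul_assoc s z z, hz2, mul_one, k1] at k3
          exact hz1 (mul_eq_left.1 k3)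
      have h6 : x * s * x⁻¹ = s := by
        rw [inv_mul_eq_one] at h5
        exact h5.symm
      have h7 : Commute x s := mul_inv_eq_iff_eq_mul.1 h6
      have h8 : x * t * x⁻¹ = t := by
        rw [h5] at h1
        exact (mul_inv_eq_one.1 h1.symm).symm
      have h9 : Commute x t := mul_inv_eq_iff_eq_mul.1 h8
      have h10 := fixed_one L hx hxz hz1 ha hza hxa hs h7
      have h11 := fixed_one L hx hxz hz1 hb hzb hxb ht h9
      simp only [Set.mem_insert_iff, Set.mem_singleton_iff]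
      rcases h10 with rfl | rfl <;> rcases h11 with rfl | rfl
      · left; simp
      · right; simp
      · right; simp
      · left; exact hz2
    have h1 : Nat.card ↥(E ⊓ A) = ((E ⊓ A : Subgroup G) : Set G).ncard := Nat.card_coe_set_eq _
    rw [h1]
    exact (Set.ncard_le_ncard hsub (Set.toFinite _)).trans (Set.ncard_insert_le _ _ |>.trans (by simp))
  -- the order of `E`
  have hEc : 32 ≤ Nat.card ↥E := by
    have h1 : Nat.card ↥a * a.relIndex E = Nat.card ↥E := card_relIndex haE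
    have h2 : a.relIndex b ≤ a.relIndex E := relIndex_le_of_le_right hbE (by
      rw [relIndex]; exact index_ne_zero_of_finite)
    have h3 : Nat.card ↥(a ⊓ b) * (a ⊓ b).relIndex b = Nat.card ↥b := card_relIndex inf_le_right
    rw [inf_relIndex_right, card_mem L hb] at h3
    have h4 : Nat.card ↥(a ⊓ b) ≤ 2 := by
      have hsub : ((a ⊓ b : Subgroup G) : Set G) ⊆ {1, z} := by
        rintro g ⟨hg1, hg2⟩
        exact inf_eq L hz1 ha hza hb hzb hab hg1 hg2
      have h5 : Nat.card ↥(a ⊓ b) = ((a ⊓ b : Subgroup G) : Set G).ncard := Nat.card_coe_set_eq _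
      rw [h5]
      exact (Set.ncard_le_ncard hsub (Set.toFinite _)).trans (Set.ncard_insert_le _ _ |>.trans (by simp))
    rw [card_mem L ha] at h1
    have h5 : 4 ≤ a.relIndex b := by
      by_contra hlt
      have h6 : Nat.card ↥(a ⊓ b) * a.relIndex b ≤ 2 * 3 := Nat.mul_le_mul h4 (by omega)
      omega
    omega
  have hMc : Nat.card ↥M ≤ 256 := card_M_le L hz1 ha hza hb hzb hab
  have h1 : Nat.card ↥E * E.relIndex M = Nat.card ↥M := card_relIndex hEM
  have h2 : E.relIndex (M ⊓ A) ≤ E.relIndex M := relIndex_le_of_le_right inf_le_left (by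
    rw [relIndex]; exact index_ne_zero_of_finite)
  have h3 : Nat.card ↥(E ⊓ (M ⊓ A)) * (E ⊓ (M ⊓ A)).relIndex (M ⊓ A) = Nat.card ↥(M ⊓ A) :=
    card_relIndex inf_le_right
  rw [inf_relIndex_right] at h3
  have h4 : Nat.card ↥(E ⊓ (M ⊓ A)) ≤ 2 := by
    refine le_trans (Nat.card_le_card_of_injective (Subgroup.inclusion ?_) (inclusion_injective _)) hfix
    exact le_inf inf_le_left (inf_le_right.trans inf_le_right)
  have h5 : E.relIndex M ≤ 8 := by
    by_contra hlt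
    have h6 : 32 * 9 ≤ Nat.card ↥E * E.relIndex M := Nat.mul_le_mul hEc (by omega)
    rw [h1] at h6
    omega
  have h6 : Nat.card ↥(M ⊓ A) ≤ 16 := by
    rw [← h3]
    exact (Nat.mul_le_mul h4 (h2.trans h5)).trans (by norm_num)
  have h7 : Nat.card ↥(M ⊓ A) ∣ 2 ^ 11 := by
    obtain ⟨π, ζ, cc⟩ := L.coord a ha
    rw [← card_cent cc]
    exact card_dvd_of_le (inf_le_left.trans inf_le_left)
  obtain ⟨k, hk, hke⟩ := (Nat.dvd_prime_pow Nat.prime_two).1 h7
  rw [hke] at h6 ⊢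
  rw [show (16 : ℕ) = 2 ^ 4 by norm_num]
  refine pow_dvd_pow 2 ?_
  by_contra hlt
  have h8 : 2 ^ 5 ≤ 2 ^ k := Nat.pow_le_pow_right (by norm_num) (by omega)
  omega

/-- **`|C(z) ∩ C(x)|` divides 96** -/
theorem card_dvd {z : G} (hz1 : z ≠ 1) (h5 : Nat.card (Sig 𝒵 z) = 5) {x : G} (hx : orderOf x = 3)
    (hxz : Commute x z) : Nat.card ↥(centralizer ({z} : Set G) ⊓ centralizer ({x} : Set G)) ∣ 96 := by
  classical
  obtain ⟨a, b, ⟨ha, hza⟩, ⟨hb, hzb⟩, hab, hxa, hxb, huniq⟩ := fix_two L hz1 h5 hx hxz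
  set D0 := centralizer ({z} : Set G) ⊓ centralizer ({x} : Set G) with hD0
  have hDz : ∀ d ∈ D0, Commute d z := fun d hd => mem_centralizer_singleton_iff.1 hd.1
  have hDx : ∀ d ∈ D0, Commute d x := fun d hd => mem_centralizer_singleton_iff.1 hd.2
  have hmv : ∀ d ∈ D0, ∀ Y ∈ 𝒵, z ∈ Y → cj x Y = Y → cj d Y = a ∨ cj d Y = b := by
    intro d hd Y hY hzY hxY
    refine huniq _ (L.Z_conj _ hY _) (mem_cj_of_commute (hDz d hd) hzY) ?_
    rw [← cj_mul, ← (hDx d hd).eq, cj_mul, hxY]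
  have hmove : ∀ d ∈ D0, (cj d a = a ∧ cj d b = b) ∨ (cj d a = b ∧ cj d b = a) := by
    intro d hd
    rcases hmv d hd a ha hza hxa with h1 | h1 <;> rcases hmv d hd b hb hzb hxb with h2 | h2
    · exact absurd (cj_inj (h1.trans h2.symm)) hab
    · exact Or.inl ⟨h1, h2⟩
    · exact Or.inr ⟨h1, h2⟩
    · exact absurd (cj_inj (h1.trans h2.symm)) hab
  have h1 : Nat.card ↥D0 ∣ 2 * Nat.card ↥(D0 ⊓ nor a) := by
    refine Cen.card_of_two D0 (nor a) fun c hc d hd => ?_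
    rcases hmove c hc with h1 | h1
    · exact Or.inl h1.1
    · rcases hmove d hd with h2 | h2
      · exact Or.inr (Or.inl h2.1)
      · refine Or.inr (Or.inr ?_)
        show cj (c * d) a = a
        rw [cj_mul, h2.1, h1.2]
  obtain ⟨u, hu, hxu, horb, hcen⟩ := exists_u L hx hxz hz1 ha hza hxa
  obtain ⟨u', hu', hxu', horb', hcen'⟩ := exists_u L hx hxz hz1 hb hzb hxb
  have hxD : x ∈ D0 := ⟨mem_centralizer_singleton_iff.2 hxz.eq, mem_centralizer_singleton_iff.2 rfl⟩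
  have h2 : 3 * Nat.card ↥((D0 ⊓ nor a) ⊓ centralizer ({u} : Set G)) = Nat.card ↥(D0 ⊓ nor a) := by
    rw [← card_conj_mul (D0 ⊓ nor a) u]
    congr 1
    have e1 : {y : G | ∃ h ∈ D0 ⊓ nor a, h * u * h⁻¹ = y} = {u, x * u * x⁻¹, x * (x * u * x⁻¹) * x⁻¹} := by
      ext y
      simp only [Set.mem_ofPred_eq, Set.mem_insert_iff, Set.mem_singleton_iff]
      constructor
      · rintro ⟨d, ⟨hd, hda⟩, rfl⟩
        exact horb d (hDz d hd) (hDx d hd) hda
      · have hxn : x ∈ D0 ⊓ nor a := ⟨hxD, hxa⟩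
        rintro (rfl | rfl | rfl)
        · exact ⟨1, one_mem _, by group⟩
        · exact ⟨x, hxn, rfl⟩
        · exact ⟨x * x, mul_mem hxn hxn, by group⟩
    have n01 : u ≠ x * u * x⁻¹ := fun h => hxu (mul_inv_eq_iff_eq_mul.1 h.symm)
    have n12 : x * u * x⁻¹ ≠ x * (x * u * x⁻¹) * x⁻¹ := fun h => n01 (mul_left_cancel (mul_right_cancel h))
    have n02 : u ≠ x * (x * u * x⁻¹) * x⁻¹ := fun h => n01 (by
      have h3 := x_cube hx u
      rw [← h] at h3
      exact h3.symm)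
    have e2 : Nat.card {y : G // ∃ h ∈ D0 ⊓ nor a, h * u * h⁻¹ = y} =
        ({u, x * u * x⁻¹, x * (x * u * x⁻¹) * x⁻¹} : Set G).ncard := by
      rw [← e1]
      exact Nat.card_coe_set_eq _
    rw [e2]
    have e3 : ({u, x * u * x⁻¹, x * (x * u * x⁻¹) * x⁻¹} : Set G) =
        (({u, x * u * x⁻¹, x * (x * u * x⁻¹) * x⁻¹} : Finset G) : Set G) := by simp
    rw [e3, Set.ncard_coe_finset, Finset.card_insert_of_notMem, Finset.card_insert_of_notMem,
      Finset.card_singleton]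
    · simpa using n12
    · simp only [Finset.mem_insert, Finset.mem_singleton, not_or]
      exact ⟨n01, n02⟩
  have h3 : Nat.card ↥((D0 ⊓ nor a) ⊓ centralizer ({u} : Set G)) ∣ 16 := by
    refine dvd_trans (card_dvd_of_le ?_) (card_M_dvd L hz1 hx hxz ha hza hb hzb hab hxa hxb)
    rintro w ⟨⟨hw, hwa⟩, hwu⟩
    have hwz := hDz w hw
    have hwx := hDx w hw
    have hca : w ∈ centralizer (a : Set G) := hcen w hwz hwx (mem_centralizer_singleton_iff.1 hwu)
    have hwb : cj w b = b := by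
      rcases hmove w hw with h | h
      · exact h.2
      · exact absurd (hwa.symm.trans h.1) hab
    have hcu : Commute (w ^ 3) u' := by
      have hwi : w * x = x * w := hwx.eq
      have hwi' : x⁻¹ * w⁻¹ = w⁻¹ * x⁻¹ := by rw [← mul_inv_rev, ← mul_inv_rev, hwi]
      have hcx : ∀ v : G, w * (x * v * x⁻¹) * w⁻¹ = x * (w * v * w⁻¹) * x⁻¹ := by
        intro v
        calc w * (x * v * x⁻¹) * w⁻¹ = (w * x) * v * (x⁻¹ * w⁻¹) := by simp only [mul_assoc]
          _ = (x * w) * v * (w⁻¹ * x⁻¹) := by rw [hwi, hwi']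
          _ = _ := by simp only [mul_assoc]
      have h4 : w * (w * (w * u' * w⁻¹) * w⁻¹) * w⁻¹ = u' := by
        rcases horb' w hwz hwx hwb with h | h | h
        · simp only [h]
        · simp only [h, hcx, x_cube hx]
        · simp only [h, hcx, x_cube hx]
      have h6 : w ^ 3 * u' * (w ^ 3)⁻¹ = w * (w * (w * u' * w⁻¹) * w⁻¹) * w⁻¹ := by
        rw [pow_succ, pow_two]; group
      rw [h4] at h6
      exact mul_inv_eq_iff_eq_mul.1 h6
    exact ⟨⟨hca, hcen' w hwz hwx (cent_of_cube L ha hca hcu)⟩, mem_centralizer_singleton_iff.2 hwx.eq⟩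
  calc Nat.card ↥D0 ∣ 2 * Nat.card ↥(D0 ⊓ nor a) := h1
    _ ∣ 2 * (3 * 16) := by
      rw [← h2]
      exact Nat.mul_dvd_mul_left 2 (Nat.mul_dvd_mul_left 3 h3)
    _ = 96 := by norm_num

end

end Cfsg.Agent.BpSpor.RuThree

end
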