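import Cfsg.Agent.BpSpor.Cen
import Cfsg.Agent.Co2Type.Quad
import Cfsg.Agent.S0028

/-!
# An extraspecial group of order `2 ^ 7` with 55 involutions and an element of order 5 (helper70)

`Large Q z`, `|Q| = 2 ^ 7`, 56 elements of `Q` have square 1 (`2^{1+6}_-`); `x` of order 5 commutes with `z`:

* `not_three` : no element of order 3 of `C(z)` commutes with `x`;
* `card_two` : a 2-subgroup of `C(z) ∩ C(x)` has order dividing 32.
-/

set_option autoImplicit false

namespace Cfsg.Agent.BpSpor.SuzFive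

open Subgroup Cfsg.Agent.Co2Type.Quad

section

variable {K : Type*} [Group K] [Finite K]

/-- fixed points of an element of prime order on a set normalized by it -/
theorem card_fix_set {p : ℕ} [hp : Fact p.Prime] {S : Set K} {x : K} (hx : orderOf x = p)
    (hxS : ∀ n ∈ S, x * n * x⁻¹ ∈ S) :
    Nat.card ↥S ≡ Nat.card {y : K // y ∈ S ∧ x * y = y * x} [MOD p] := by
  classical
  let f : Function.End ↥S := fun y => ⟨x * y * x⁻¹, hxS y y.2⟩
  have hf : ∀ (m : ℕ) (y : ↥S), (((f ^ m) y : ↥S) : K) = x ^ m * y * (x ^ m)⁻¹ := by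
    intro m
    induction m with
    | zero =>
      intro y
      rw [pow_zero, pow_zero]
      change (y : K) = _
      group
    | succ m ih =>
      intro y
      rw [pow_succ' f]
      change x * (((f ^ m) y : ↥S) : K) * x⁻¹ = _
      rw [ih, pow_succ']
      group
  have hf1 : f ^ p ^ 1 = 1 := by
    funext y
    apply Subtype.ext
    rw [hf, pow_one, ← hx, pow_orderOf_eq_one]
    change 1 * (y : K) * 1⁻¹ = y
    group
  have hF : Fintype ↥S := Fintype.ofFinite ↥S
  have h1 := Equiv.Perm.card_fixedPoints_modEq (f := f) (p := p) (n := 1) hf1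
  rw [← Nat.card_eq_fintype_card, ← Nat.card_eq_fintype_card] at h1
  have h2 : Nat.card ↥(Function.fixedPoints f) = Nat.card {y : K // y ∈ S ∧ x * y = y * x} := by
    refine Nat.card_congr ⟨fun a => ⟨a.1, a.1.2, ?_⟩, fun b => ⟨⟨b.1, b.2.1⟩, ?_⟩, fun a => rfl, fun b => rfl⟩
    · have h3 : x * (a.1 : K) * x⁻¹ = a.1 := congrArg Subtype.val a.2
      exact mul_inv_eq_iff_eq_mul.1 h3
    · apply Subtype.ext
      change x * b.1 * x⁻¹ = b.1
      rw [b.2.2]
      group
  rwa [h2] at h1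

/-- the elements of square 1 -/
def sqs (A : Subgroup K) : Set K := {y | y ∈ A ∧ y * y = 1}

theorem card_sqs_le (A : Subgroup K) : Nat.card ↥(sqs A) ≤ Nat.card ↥A :=
  Nat.card_le_card_of_injective (fun y : ↥(sqs A) => (⟨y.1, y.2.1⟩ : ↥A)) fun a b hab => by
    apply Subtype.ext
    exact congrArg (fun u : ↥A => (u : K)) hab

/-- fixed points on the elements of square 1 -/
theorem card_sqs {p : ℕ} [hp : Fact p.Prime] {A : Subgroup K} {x : K} (hx : orderOf x = p)
    (hxA : ∀ n ∈ A, x * n * x⁻¹ ∈ A) :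
    Nat.card ↥(sqs A) ≡ Nat.card ↥(sqs (A ⊓ centralizer ({x} : Set K))) [MOD p] := by
  have h1 := card_fix_set (S := sqs A) hx fun n hn => ⟨hxA n hn.1, by
    calc x * n * x⁻¹ * (x * n * x⁻¹) = x * (n * n) * x⁻¹ := by group
      _ = 1 := by rw [hn.2]; group⟩
  have h2 : Nat.card {y : K // y ∈ sqs A ∧ x * y = y * x} = Nat.card ↥(sqs (A ⊓ centralizer ({x} : Set K))) := by
    refine Nat.card_congr ⟨fun a => ⟨a.1, ⟨a.2.1.1, mem_centralizer_singleton_iff.2 a.2.2.symm⟩, a.2.1.2⟩,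
      fun b => ⟨b.1, ⟨b.2.1.1, b.2.2⟩, (mem_centralizer_singleton_iff.1 b.2.1.2).symm⟩, fun a => rfl, fun b => rfl⟩
  rwa [h2] at h1

variable {Q : Subgroup K} {z x : K} (h : Large Q z) (hQ : Nat.card ↥Q = 2 ^ 7) (hN : Nat.card ↥(sqs Q) = 56)

include h hQ in
/-- `|C_Q(x)| = 8` -/
theorem card_A (hx : orderOf x = 5) (hxz : x * z = z * x) : Nat.card ↥(Q ⊓ centralizer ({x} : Set K)) = 8 := by
  have h5 : Fact (Nat.Prime 5) := ⟨by norm_num⟩
  have hxQ : x ∉ Q := Cen.not_mem_of_card (p := 5) (by norm_num) (by norm_num) hQ hx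
  obtain ⟨i, hi, hie, hm⟩ := Cen.exists_fix hQ hx (fun y hy => h.conj_mem x hxz y hy)
    (fun hc => hxQ (h.self x hxz hc))
  rw [hie]
  interval_cases i <;> revert hm <;> decide

include h hQ hN in
/-- 6 elements of `C_Q(x)` have square 1 -/
theorem card_sqs_A (hx : orderOf x = 5) (hxz : x * z = z * x) :
    Nat.card ↥(sqs (Q ⊓ centralizer ({x} : Set K))) = 6 := by
  have h5 : Fact (Nat.Prime 5) := ⟨by norm_num⟩
  have h1 := card_sqs hx (A := Q) (fun y hy => h.conj_mem x hxz y hy)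
  rw [hN] at h1
  have h2 := card_sqs_le (Q ⊓ centralizer ({x} : Set K))
  rw [card_A h hQ hx hxz] at h2
  have h3 : 1 < Nat.card ↥(sqs (Q ⊓ centralizer ({x} : Set K))) := by
    rw [Finite.one_lt_card_iff_nontrivial]
    refine ⟨⟨⟨1, one_mem _, mul_one 1⟩, ⟨z, ⟨h.z_mem, mem_centralizer_singleton_iff.2 hxz.symm⟩, h.z_sq⟩, ?_⟩⟩
    intro h4
    exact h.z_ne (congrArg Subtype.val h4).symm
  generalize Nat.card ↥(sqs (Q ⊓ centralizer ({x} : Set K))) = m at *
  interval_cases m <;> revert h1 <;> decide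

include h hQ hN in
/-- **no element of order 3 commutes with `z` and `x`** -/
theorem not_three (hx : orderOf x = 5) (hxz : x * z = z * x) {c : K} (hc : orderOf c = 3) (hcz : c * z = z * c)
    (hcx : c * x = x * c) : False := by
  have h5 : Fact (Nat.Prime 5) := ⟨by norm_num⟩
  have h3 : Fact (Nat.Prime 3) := ⟨Nat.prime_three⟩
  set A := Q ⊓ centralizer ({x} : Set K) with hA
  have hAc : Nat.card ↥A = 8 := card_A h hQ hx hxz
  have hAs : Nat.card ↥(sqs A) = 6 := card_sqs_A h hQ hN hx hxz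
  have hcA : ∀ y ∈ A, c * y * c⁻¹ ∈ A := by
    rintro y ⟨hy, hyx⟩
    refine ⟨h.conj_mem c hcz y hy, mem_centralizer_singleton_iff.2 ?_⟩
    replace hyx := mem_centralizer_singleton_iff.1 hyx
    have e1 : c⁻¹ * x = x * c⁻¹ := by
      rw [inv_mul_eq_iff_eq_mul, ← mul_assoc, hcx, mul_assoc, mul_inv_cancel, mul_one]
    calc c * y * c⁻¹ * x = c * y * (c⁻¹ * x) := by group
      _ = c * (y * x) * c⁻¹ := by rw [e1]; group
      _ = (c * x) * y * c⁻¹ := by rw [hyx]; group
      _ = x * (c * y * c⁻¹) := by rw [hcx]; group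
  -- `c` centralizes `A`
  have hcent : ∀ y ∈ A, c * y = y * c := by
    by_contra hne
    obtain ⟨i, hi, hie, hm⟩ := Cen.exists_fix (p := 3) (n := 3) (N := A) (by rw [hAc]; norm_num) hc hcA hne
    have hi1 : i = 1 := by interval_cases i <;> revert hm <;> decide
    subst hi1
    have h1 := card_sqs hc hcA
    rw [hAs] at h1
    have h2 := card_sqs_le (A ⊓ centralizer ({c} : Set K))
    rw [hie] at h2
    have h4 : 1 < Nat.card ↥(sqs (A ⊓ centralizer ({c} : Set K))) := by
      rw [Finite.one_lt_card_iff_nontrivial]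
      refine ⟨⟨⟨1, one_mem _, mul_one 1⟩, ⟨z, ⟨⟨h.z_mem, mem_centralizer_singleton_iff.2 hxz.symm⟩,
        mem_centralizer_singleton_iff.2 hcz.symm⟩, h.z_sq⟩, ?_⟩⟩
      intro h4
      exact h.z_ne (congrArg Subtype.val h4).symm
    generalize Nat.card ↥(sqs (A ⊓ centralizer ({c} : Set K))) = m at *
    interval_cases m
    revert h1
    decide
  -- `C_Q(c) = A`
  have hcQ : c ∉ Q := Cen.not_mem_of_card (p := 3) (by norm_num) (by norm_num) hQ hc
  obtain ⟨j, hj, hje, hm⟩ := Cen.exists_fix hQ hc (fun y hy => h.conj_mem c hcz y hy)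
    (fun hc => hcQ (h.self c hcz hc))
  set F := Q ⊓ centralizer ({c} : Set K) with hF
  have hAF : A ≤ F := fun y hy => ⟨hy.1, mem_centralizer_singleton_iff.2 (hcent y hy).symm⟩
  have hxF : ∀ y ∈ F, x * y * x⁻¹ ∈ F := by
    rintro y ⟨hy, hyc⟩
    refine ⟨h.conj_mem x hxz y hy, mem_centralizer_singleton_iff.2 ?_⟩
    replace hyc := mem_centralizer_singleton_iff.1 hyc
    have e1 : x⁻¹ * c = c * x⁻¹ := by
      rw [inv_mul_eq_iff_eq_mul, ← mul_assoc, ← hcx, mul_assoc, mul_inv_cancel, mul_one]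
    calc x * y * x⁻¹ * c = x * y * (x⁻¹ * c) := by group
      _ = x * (y * c) * x⁻¹ := by rw [e1]; group
      _ = (x * c) * y * x⁻¹ := by rw [hyc]; group
      _ = c * (x * y * x⁻¹) := by rw [← hcx]; group
  have hFx : F ⊓ centralizer ({x} : Set K) = A := by
    apply le_antisymm
    · rintro y ⟨hy1, hy2⟩
      exact ⟨hy1.1, hy2⟩
    · intro y hy
      exact ⟨hAF hy, hy.2⟩
  have h6 := Cen.card_fix hx hxF
  rw [hFx, hje, hAc] at h6
  have h7 : 2 ^ 3 ≤ 2 ^ j := by
    have h8 := Nat.le_of_dvd Nat.card_pos (card_dvd_of_le hAF)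
    rw [hAc, hje] at h8
    exact h8
  have h8 : j = 3 := by
    have h9 : 3 ≤ j := (Nat.pow_le_pow_iff_right (by norm_num)).1 h7
    interval_cases j <;> revert hm h6 <;> decide
  have h9 : F = A := (eq_of_le_of_card_ge hAF (by rw [hje, h8, hAc]; norm_num)).symm
  have h10 := card_sqs hc (A := Q) (fun y hy => h.conj_mem c hcz y hy)
  rw [hN, ← hF, h9, hAs] at h10
  revert h10
  decide

include h hQ in
/-- **the 2-subgroups of `C(z) ∩ C(x)`** -/
theorem card_two (hx : orderOf x = 5) (hxz : x * z = z * x) {T : Subgroup K} (hT : IsPGroup 2 ↥T)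
    (hTz : ∀ t ∈ T, t * z = z * t) (hTx : ∀ t ∈ T, t * x = x * t) : Nat.card ↥T ∣ 32 := by
  classical
  have h5 : Fact (Nat.Prime 5) := ⟨by norm_num⟩
  have h2 : Fact (Nat.Prime 2) := ⟨Nat.prime_two⟩
  set A := Q ⊓ centralizer ({x} : Set K) with hA
  have hAc : Nat.card ↥A = 8 := card_A h hQ hx hxz
  have hxQ : x ∉ Q := Cen.not_mem_of_card (p := 5) (by norm_num) (by norm_num) hQ hx
  -- the fixed points of `T` on `Q`
  set F := Q ⊓ centralizer (T : Set K) with hF
  have hFA : ¬ F ≤ centralizer ((zpowers x : Subgroup K) : Set K) := by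
    intro hle
    have h1 := S0028.result 2 T (zpowers x) Q hT (by rw [Nat.card_zpowers, hx]; norm_num)
      (IsPGroup.of_card hQ) (fun t ht => mem_centralizer_iff.2 (by
        rintro y ⟨k, rfl⟩
        have h3 : Commute x t := (hTx t ht).symm
        exact (h3.zpow_left k).eq))
      (fun t ht => mem_normalizer_iff.2 fun y => ⟨fun hy => h.conj_mem t (hTz t ht) y hy, fun hy => by
        have h3 := h.conj_mem t⁻¹ (by
          rw [inv_mul_eq_iff_eq_mul, ← mul_assoc, hTz t ht, mul_assoc, mul_inv_cancel, mul_one]) _ hy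
        have h4 : t⁻¹ * (t * y * t⁻¹) * t⁻¹⁻¹ = y := by group
        rwa [h4] at h3⟩)
      (by
        rw [zpowers_le]
        refine mem_normalizer_iff.2 fun y => ⟨fun hy => h.conj_mem x hxz y hy, fun hy => ?_⟩
        have h3 := h.conj_mem x⁻¹ (by
          rw [inv_mul_eq_iff_eq_mul, ← mul_assoc, hxz, mul_assoc, mul_inv_cancel, mul_one]) _ hy
        have h4 : x⁻¹ * (x * y * x⁻¹) * x⁻¹⁻¹ = y := by group
        rwa [h4] at h3) hle
    apply hxQ
    refine h.self x hxz fun y hy => ?_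
    exact (mem_centralizer_iff.1 (h1 (mem_zpowers x)) y hy).symm
  have hxF : ∀ y ∈ F, x * y * x⁻¹ ∈ F := by
    rintro y ⟨hy, hyT⟩
    refine ⟨h.conj_mem x hxz y hy, mem_centralizer_iff.2 fun t ht => ?_⟩
    have h3 := mem_centralizer_iff.1 hyT t ht
    have h4 : t * x = x * t := hTx t ht
    have h6 : t * x⁻¹ = x⁻¹ * t := by
      rw [eq_inv_mul_iff_mul_eq, ← mul_assoc, ← h4, mul_assoc, mul_inv_cancel, mul_one]
    calc t * (x * y * x⁻¹) = (t * x) * y * x⁻¹ := by group
      _ = x * (t * y) * x⁻¹ := by rw [h4]; group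
      _ = x * y * (t * x⁻¹) := by rw [h3]; group
      _ = x * y * x⁻¹ * t := by rw [h6]; group
  have hFn : ¬ ∀ y ∈ F, x * y = y * x := fun hc => hFA fun y hy => mem_centralizer_iff.2 (by
    rintro _ ⟨k, rfl⟩
    have h3 : Commute x y := hc y hy
    exact (h3.zpow_left k).eq)
  obtain ⟨f, hf, hfe⟩ := (Nat.dvd_prime_pow Nat.prime_two).1 (hQ ▸ card_dvd_of_le (inf_le_left : F ≤ Q))
  obtain ⟨i, hi, hie, hm⟩ := Cen.exists_fix hfe hx hxF hFn
  have hFx : F ⊓ centralizer ({x} : Set K) = F ⊓ A := by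
    apply le_antisymm
    · rintro y ⟨hy1, hy2⟩
      exact ⟨hy1, hy1.1, hy2⟩
    · rintro y ⟨hy1, hy2⟩
      exact ⟨hy1, hy2.2⟩
  rw [hFx] at hie
  have hf4 : i + 4 ≤ f := by
    interval_cases f <;> interval_cases i <;> first | omega | (revert hm; decide)
  -- `Q = F A`
  have hsup : F ⊔ A = Q := by
    have hle : F ⊔ A ≤ Q := sup_le inf_le_left inf_le_left
    refine eq_of_le_of_card_ge hle ?_
    have h3 : F.relIndex A ≤ F.relIndex (F ⊔ A) := relIndex_le_of_le_right le_sup_right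
      (index_ne_zero_of_finite (H := F.subgroupOf (F ⊔ A)))
    have h4 : Nat.card ↥F * F.relIndex (F ⊔ A) = Nat.card ↥(F ⊔ A) := by
      rw [← relIndex_bot_left, ← relIndex_bot_left, relIndex_mul_relIndex _ _ _ bot_le le_sup_left]
    have h6 : Nat.card ↥(F ⊓ A) * F.relIndex A = Nat.card ↥A := by
      rw [← inf_relIndex_right, ← relIndex_bot_left, ← relIndex_bot_left, relIndex_mul_relIndex _ _ _ bot_le inf_le_right]
    have h7 : 2 ^ i * Nat.card ↥(F ⊔ A) ≥ 2 ^ f * 8 := by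
      rw [← hAc, ← h6, ← h4, hie, hfe]
      calc 2 ^ f * (2 ^ i * F.relIndex A) = 2 ^ i * (2 ^ f * F.relIndex A) := by ring
        _ ≤ _ := Nat.mul_le_mul_left _ (Nat.mul_le_mul_left _ h3)
    have h8 : 2 ^ (i + 4) ≤ 2 ^ f := Nat.pow_le_pow_right (by norm_num) hf4
    have h9 : 2 ^ i * 2 ^ 7 ≤ 2 ^ i * Nat.card ↥(F ⊔ A) := by
      calc 2 ^ i * 2 ^ 7 = 2 ^ (i + 4) * 8 := by ring
        _ ≤ 2 ^ f * 8 := Nat.mul_le_mul_right _ h8
        _ ≤ _ := h7
    rw [hQ]
    exact Nat.le_of_mul_le_mul_left h9 (by positivity)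
  -- the action on the elements of `A` outside `⟨z⟩`
  have hzA : z ∈ A := ⟨h.z_mem, mem_centralizer_singleton_iff.2 hxz.symm⟩
  have hTA : ∀ t ∈ T, ∀ y ∈ A, t * y * t⁻¹ ∈ A := by
    rintro t ht y ⟨hy, hyx⟩
    refine ⟨h.conj_mem t (hTz t ht) y hy, mem_centralizer_singleton_iff.2 ?_⟩
    replace hyx := mem_centralizer_singleton_iff.1 hyx
    have htx := hTx t ht
    have e1 : t⁻¹ * x = x * t⁻¹ := by
      rw [inv_mul_eq_iff_eq_mul, ← mul_assoc, htx, mul_assoc, mul_inv_cancel, mul_one]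
    calc t * y * t⁻¹ * x = t * y * (t⁻¹ * x) := by group
      _ = t * (y * x) * t⁻¹ := by rw [e1]; group
      _ = (t * x) * y * t⁻¹ := by rw [hyx]; group
      _ = x * (t * y * t⁻¹) := by rw [htx]; group
  let Y := {y : K // y ∈ A ∧ y ≠ 1 ∧ y ≠ z}
  have hY : Nat.card Y = 6 := by
    have h3 : Nat.card (Y ⊕ Bool) = Nat.card ↥A := by
      refine Nat.card_congr ⟨fun
        | .inl y => ⟨y.1, y.2.1⟩
        | .inr true => ⟨z, hzA⟩
        | .inr false => ⟨1, one_mem _⟩,
        fun a => if h1 : (a : K) = 1 then .inr false else if hz : (a : K) = z then .inr true else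
          .inl ⟨a, a.2, h1, hz⟩, ?_, ?_⟩
      · rintro (⟨y, hy1, hy2, hy3⟩ | b)
        · simp [hy2, hy3]
        · cases b
          · simp
          · simp [h.z_ne]
      · rintro ⟨a, ha⟩
        by_cases h1 : a = 1
        · subst h1
          simp
        · by_cases h2 : a = z
          · subst h2
            simp [h1]
          · simp [h1, h2]
    rw [Nat.card_sum, hAc] at h3
    simp at h3
    omega
  let act : MulAction ↥T Y :=
    { smul := fun t y => ⟨t * y.1 * (t : K)⁻¹, hTA t t.2 _ y.2.1, fun h1 => y.2.2.1 (by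
          have h3 : y.1 = (t : K)⁻¹ * (t * y.1 * (t : K)⁻¹) * t := by group
          rw [h3, h1]; group), fun h1 => y.2.2.2 (by
          have h3 : y.1 = (t : K)⁻¹ * (t * y.1 * (t : K)⁻¹) * t := by group
          rw [h3, h1, mul_assoc, ← hTz t t.2]; group)⟩
      one_smul := fun y => Subtype.ext (by
        change ((1 : ↥T) : K) * y.1 * ((1 : ↥T) : K)⁻¹ = y.1
        simp)
      mul_smul := fun s t y => Subtype.ext (by
        change ((s * t : ↥T) : K) * y.1 * ((s * t : ↥T) : K)⁻¹ = s * (t * y.1 * (t : K)⁻¹) * (s : K)⁻¹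
        rw [Subgroup.coe_mul]
        group) }
  let ρ : ↥T →* Equiv.Perm Y := MulAction.toPermHom ↥T Y
  have hker : ∀ k ∈ ρ.ker, (k : K) = 1 ∨ (k : K) = z := by
    intro k hk
    have hkA : ∀ y ∈ A, (k : K) * y = y * k := by
      intro y hy
      by_cases h1 : y = 1
      · rw [h1, mul_one, one_mul]
      · by_cases h2 : y = z
        · rw [h2]; exact hTz k k.2
        · have h3 : ρ k ⟨y, hy, h1, h2⟩ = ⟨y, hy, h1, h2⟩ := by
            rw [MonoidHom.mem_ker.1 hk]; rfl
          have h4 : (k : K) * y * (k : K)⁻¹ = y := congrArg Subtype.val h3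
          exact mul_inv_eq_iff_eq_mul.1 h4
    have hkQ : ∀ y ∈ Q, (k : K) * y = y * k := by
      have h3 : Q ≤ centralizer ({(k : K)} : Set K) := by
        rw [← hsup]
        refine sup_le (fun y hy => ?_) fun y hy => mem_centralizer_singleton_iff.2 (hkA y hy).symm
        exact mem_centralizer_singleton_iff.2 (mem_centralizer_iff.1 hy.2 k k.2).symm
      exact fun y hy => (mem_centralizer_singleton_iff.1 (h3 hy)).symm
    exact h.cent k (h.self k (hTz k k.2) hkQ) hkQ
  have hkc : Nat.card ↥ρ.ker ≤ 2 := by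
    have h3 : Nat.card ↥ρ.ker ≤ Nat.card Bool := by
      refine Nat.card_le_card_of_injective (fun k : ↥ρ.ker => decide (((k : ↥T) : K) = 1)) fun a b hab => ?_
      have hab' : (((a : ↥T) : K) = 1) ↔ (((b : ↥T) : K) = 1) := by simpa using hab
      apply Subtype.ext
      apply Subtype.ext
      rcases hker a a.2 with ha | ha
      · rw [ha, hab'.1 ha]
      · rcases hker b b.2 with hb | hb
        · rw [hb, hab'.2 hb]
        · rw [ha, hb]
    simpa using h3
  have hkr : Nat.card ↥T = Nat.card ↥ρ.ker * Nat.card ↥ρ.range := by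
    rw [← card_mul_index ρ.ker, index_ker]
  have hr : Nat.card ↥ρ.range ∣ 2 ^ 4 := by
    have h3 : Nat.card ↥ρ.range ∣ 720 := by
      refine (card_subgroup_dvd_card ρ.range).trans ?_
      rw [Nat.card_perm, hY]
      decide
    obtain ⟨m, hm'⟩ := IsPGroup.iff_card.1 (hT.of_surjective ρ.rangeRestrict ρ.rangeRestrict_surjective)
    rw [hm'] at h3 ⊢
    refine pow_dvd_pow 2 ?_
    by_contra hlt
    have h4 : 2 ^ 5 ∣ 720 := (pow_dvd_pow 2 (by omega)).trans h3
    norm_num at h4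
  have hk2 : Nat.card ↥ρ.ker ∣ 2 := by
    have h3 : 0 < Nat.card ↥ρ.ker := Nat.card_pos
    interval_cases Nat.card ↥ρ.ker
    · exact one_dvd _
    · exact dvd_refl _
  rw [hkr]
  exact Nat.mul_dvd_mul hk2 hr

end

end Cfsg.Agent.BpSpor.SuzFive
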