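import Cfsg.Agent.SuzThree.GoodX
import Cfsg.Agent.SuzThree.CentCard
import Cfsg.Agent.CTwoTab.Suz
import Cfsg.Agent.LThreeFour.Inv
import Cfsg.Agent.LThreeFour.Exists
import Cfsg.Agent.Lib.CoprimeHyperplane
import Cfsg.Agent.Lib.Cores

-- merged: Cfsg.Agent.BpSpor.SuzThreeConj
section

/-!
# `Suz`: elements of order 3 commuting with an involution of class 2A (helper51)

`conj_A0` : an element `x` with `x ^ 3 = 1` commuting with `z0` is conjugate to an element of the elementary abelian group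
`A0` of order `3 ^ 5`.
-/

set_option autoImplicit false
set_option maxRecDepth 100000
set_option exponentiation.threshold 4000

namespace Cfsg.Agent.BpSpor.SuzThree

open Cfsg.Spor Cfsg.Agent.Lib.PermNet Cfsg.Agent.Lib.PermNetOrbit Cfsg.Agent.SporadicRecognition.SuzPhi
  Cfsg.Agent.SporadicRecognition.SuzBound Cfsg.Agent.SporadicRecognition.SuzOrder
  Cfsg.Agent.SuzThree.Nets Cfsg.Agent.SuzThree.Basic Cfsg.Agent.SuzThree.Elts
  Cfsg.Agent.SuzThree.Elementary Cfsg.Agent.SuzThree.CentA Cfsg.Agent.SuzThree.CentB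
  Cfsg.Agent.SuzThree.QZero Cfsg.Agent.SuzThree.ThreeWr

/-- the conjugating word for `y0, y1, y2` -/
def uw : List Suz.Gen := [.d, .c, .b, .g]

/-- the conjugating element for `y0, y1, y2` -/
noncomputable def u : Suz := el uw

theorem rep_u : Rep u (wd uw) := Rep.el _

theorem u_y0 : u * y0 = (x .i0 * x .i0) * u :=
  eq_of_reps (rep_u.mul rep_y0) (((rep_x .i0).mul (rep_x .i0)).mul rep_u) (by decide +kernel)

theorem u_y1 : u * y1 = (x .i0 * (x .i2 * (x .i3 * (x .i3 * x .i4)))) * u :=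
  eq_of_reps (rep_u.mul rep_y1)
    (((rep_x .i0).mul ((rep_x .i2).mul ((rep_x .i3).mul ((rep_x .i3).mul (rep_x .i4))))).mul rep_u)
    (by decide +kernel)

theorem u_y2 : u * y2 = x .i8 * u :=
  eq_of_reps (rep_u.mul rep_y2) ((rep_x .i8).mul rep_u) (by decide +kernel)

/-- the elements conjugate under `u` to elements of `A0` -/
noncomputable def JA : Subgroup Suz := A0.comap (MulAut.conj u).toMonoidHom

theorem mem_JA {g : Suz} : g ∈ JA ↔ u * g * u⁻¹ ∈ A0 := Iff.rfl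

theorem mem_JA_of {g a : Suz} (h : u * g = a * u) (ha : a ∈ A0) : g ∈ JA := by
  rw [mem_JA, h, mul_inv_cancel_right]
  exact ha

theorem y0_JA : y0 ∈ JA := mem_JA_of u_y0 (A0.mul_mem (x_mem _) (x_mem _))

theorem y1_JA : y1 ∈ JA :=
  mem_JA_of u_y1 (A0.mul_mem (x_mem _) (A0.mul_mem (x_mem _) (A0.mul_mem (x_mem _) (A0.mul_mem (x_mem _) (x_mem _)))))

theorem y2_JA : y2 ∈ JA := mem_JA_of u_y2 (x_mem _)

/-- the word conjugating `w` to `y1 * y2` -/
def hw : List Suz.Gen :=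
  [.d, .e, .d, .b, .a, .c, .b, .a, .b, .d, .c, .d, .b, .c, .a, .b, .a, .b, .b, .c, .g, .b, .a, .b, .g, .c, .b, .d, .b,
    .c, .f, .b, .a, .b, .f, .c, .b, .e, .c]

/-- the element conjugating `w` to `y1 * y2` -/
noncomputable def h0 : Suz := el hw

theorem h0_w : h0 * w = (y1 * y2) * h0 :=
  eq_of_reps ((Rep.el _).mul rep_w) ((rep_y1.mul rep_y2).mul (Rep.el _)) (by decide +kernel)

theorem conj_w (l : ℕ) : ∃ g : Suz, g * w ^ l * g⁻¹ ∈ A0 := by
  refine ⟨u * h0, ?_⟩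
  have h1 : h0 * w ^ l * h0⁻¹ = (y1 * y2) ^ l := by
    rw [← conj_pow, h0_w, mul_inv_cancel_right]
  have h2 : (y1 * y2) ^ l ∈ JA := JA.pow_mem (JA.mul_mem y1_JA y2_JA) l
  rw [← h1, mem_JA] at h2
  have h3 : u * h0 * w ^ l * (u * h0)⁻¹ = u * (h0 * w ^ l * h0⁻¹) * u⁻¹ := by group
  rw [h3]
  exact h2

/-! ### The elements of order 3 of `S3` -/

/-- the exponents of the conjugating element -/
def ea (i k l : ℕ) : ℕ := cond (Nat.beq l 1) i (2 * k)

/-- the exponents of the conjugating element -/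
def eb (j k l : ℕ) : ℕ := cond (Nat.beq l 1) (2 * k) j

/-- the conjugating element -/
noncomputable def cc (i j k l : ℕ) : Suz := y0 ^ ea i k l * y1 ^ eb j k l

/-- networks of the conjugating element -/
noncomputable def ccn (i j k l : ℕ) : List Net := List.replicate (ea i k l) x0N ++ List.replicate (eb j k l) y1N

theorem rep_cc (i j k l : ℕ) : Rep (cc i j k l) (ccn i j k l) := (rep_pow rep_y0 _).mul (rep_pow rep_y1 _)

/-- the test -/
noncomputable def chk2 (i j k l : ℕ) : Bool :=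
  or (Nat.beq l 0) (or (not (Nat.beq (appWord (prn i j k l ++ prn i j k l ++ prn i j k l) (Nat.pow 2 0)) (Nat.pow 2 0)))
    (checkEq 11 (prn i j k l ++ ccn i j k l) (ccn i j k l ++ List.replicate l wN)))

/-- pairs of exponents -/
def ij : List (ℕ × ℕ) := [(0, 0), (0, 1), (0, 2), (1, 0), (1, 1), (1, 2), (2, 0), (2, 1), (2, 2)]

/-- a row of the table -/
noncomputable def row (k l : ℕ) : Bool := allL (fun t => chk2 t.1 t.2 k l) ij

theorem row00 : row 0 0 = true := by decide +kernel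
theorem row10 : row 1 0 = true := by decide +kernel
theorem row20 : row 2 0 = true := by decide +kernel
theorem row01 : row 0 1 = true := by decide +kernel
theorem row11 : row 1 1 = true := by decide +kernel
theorem row21 : row 2 1 = true := by decide +kernel
theorem row02 : row 0 2 = true := by decide +kernel
theorem row12 : row 1 2 = true := by decide +kernel
theorem row22 : row 2 2 = true := by decide +kernel

theorem row_all {k l : ℕ} (hk : k < 3) (hl : l < 3) : row k l = true := by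
  interval_cases k <;> interval_cases l
  · exact row00
  · exact row01
  · exact row02
  · exact row10
  · exact row11
  · exact row12
  · exact row20
  · exact row21
  · exact row22

theorem chk2_all {i j k l : ℕ} (hi : i < 3) (hj : j < 3) (hk : k < 3) (hl : l < 3) : chk2 i j k l = true := by
  have h1 : (i, j) ∈ ij := by
    interval_cases i <;> interval_cases j <;> simp [ij]
  have h := allL_spec (row_all hk hl) _ h1
  exact h

theorem conj_of_chk {i j k l : ℕ} (h : chk2 i j k l = true) (h3 : Pr i j k l ^ 3 = 1) :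
    ∃ g : Suz, g * Pr i j k l * g⁻¹ ∈ A0 := by
  rw [chk2, Bool.or_eq_true, Bool.or_eq_true] at h
  rcases h with h | h | h
  · have hl := Nat.eq_of_beq_eq_true h
    subst hl
    refine ⟨u, ?_⟩
    rw [← mem_JA, Pr, pow_zero, mul_one]
    exact JA.mul_mem (JA.mul_mem (JA.pow_mem y0_JA _) (JA.pow_mem y1_JA _)) (JA.pow_mem y2_JA _)
  · exfalso
    have h2 : wperm (prn i j k l ++ prn i j k l ++ prn i j k l) = 1 := by
      have hr := ((rep_Pr i j k l).mul (rep_Pr i j k l)).mul (rep_Pr i j k l)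
      rw [← hr.eq, ← pow_two, ← pow_succ, h3, map_one]
    have h4 : appWord (prn i j k l ++ prn i j k l ++ prn i j k l) (2 ^ 0) = 2 ^ 0 := by
      apply Nat.eq_of_testBit_eq
      intro p
      rw [testBit_appWord (((rep_Pr i j k l).mul (rep_Pr i j k l)).mul (rep_Pr i j k l)).ok, h2]; rfl
    rw [show appWord (prn i j k l ++ prn i j k l ++ prn i j k l) (Nat.pow 2 0) = Nat.pow 2 0 from h4,
      show Nat.beq (Nat.pow 2 0) (Nat.pow 2 0) = true from Nat.beq_refl _] at h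
    exact absurd h (by simp)
  · have h5 : Pr i j k l * cc i j k l = cc i j k l * w ^ l :=
      eq_of_reps ((rep_Pr i j k l).mul (rep_cc i j k l)) ((rep_cc i j k l).mul (rep_pow rep_w l)) h
    obtain ⟨g, hg⟩ := conj_w l
    refine ⟨g * (cc i j k l)⁻¹, ?_⟩
    have h6 : g * (cc i j k l)⁻¹ * Pr i j k l * (g * (cc i j k l)⁻¹)⁻¹ =
        g * ((cc i j k l)⁻¹ * (Pr i j k l * cc i j k l)) * g⁻¹ := by group
    rw [h6, h5, inv_mul_cancel_left]
    exact hg

theorem conj_S3 {s : Suz} (hs : s ∈ S3) (h3 : s ^ 3 = 1) : ∃ g : Suz, g * s * g⁻¹ ∈ A0 := by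
  obtain ⟨i, j, k, l, rfl⟩ := exists_Pr hs
  rw [Pr_mod] at h3 ⊢
  exact conj_of_chk (chk2_all (Nat.mod_lt i (by norm_num)) (Nat.mod_lt j (by norm_num))
    (Nat.mod_lt k (by norm_num)) (Nat.mod_lt l (by norm_num))) h3

theorem isPGroup_S3 : IsPGroup 3 S3 := by rw [IsPGroup.iff_card]; exact ⟨4, card_S3⟩

theorem not_dvd_relIndex : ¬ 3 ∣ S3.relIndex C1 := by
  have h1 : Nat.card S3 * S3.relIndex C1 = Nat.card C1 := by
    rw [← Subgroup.relIndex_bot_left, ← Subgroup.relIndex_bot_left]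
    exact Subgroup.relIndex_mul_relIndex ⊥ S3 C1 bot_le S3_le
  rw [card_S3, Cfsg.Agent.SuzThree.CentCard.card_C1] at h1
  omega

/-- **Elements of order 3 commuting with `z0`.** -/
theorem conj_A0 {x : Suz} (hx : x ^ 3 = 1) (hz : x * z0 = z0 * x) : ∃ g : Suz, g * x * g⁻¹ ∈ A0 := by
  have hfin : Finite Suz := Nat.finite_of_card_ne_zero (by rw [card_Suz]; norm_num)
  have hF : Fact (Nat.Prime 3) := ⟨Nat.prime_three⟩
  have hp : IsPGroup 3 ↥(Subgroup.zpowers x) := by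
    rintro ⟨_, k, rfl⟩
    refine ⟨1, Subtype.ext ?_⟩
    change (x ^ k) ^ 3 ^ 1 = 1
    rw [pow_one, ← zpow_natCast, ← zpow_mul, mul_comm, zpow_mul, zpow_natCast, hx, one_zpow]
  obtain ⟨c, -, hc⟩ := Cfsg.Agent.SuzThree.GoodX.exists_conj_le (C := C1)
    (Subgroup.zpowers_le.2 (mem_C1.2 hz)) isPGroup_S3 hp not_dvd_relIndex
  have hs : c * x * c⁻¹ ∈ S3 := hc ⟨x, Subgroup.mem_zpowers x, rfl⟩
  obtain ⟨g, hg⟩ := conj_S3 hs (by rw [conj_pow, hx, mul_one, mul_inv_cancel])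
  refine ⟨g * c, ?_⟩
  have h : g * c * x * (g * c)⁻¹ = g * (c * x * c⁻¹) * g⁻¹ := by group
  rw [h]
  exact hg

end Cfsg.Agent.BpSpor.SuzThree

end

-- merged: Cfsg.Agent.BpSpor.SuzThreeRank
section

/-!
# `Suz`: the 3-rank of the centralizers of involutions (helper51)

* `no81` : no abelian subgroup of order 81 commutes with an involution;
* `core_odd` : `O_{3'}(C(x))` has odd order for `x` in `A0`;
* `card_le_eight` : a 2-subgroup of `C(x) ∩ C(e0)` has order at most 8, for `x` of order 3.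
-/

set_option autoImplicit false
set_option maxRecDepth 100000

namespace Cfsg.Agent.BpSpor.SuzThree

open Subgroup Cfsg Cfsg.Spor
open Cfsg.Agent.Lib.PermNet Cfsg.Agent.SporadicRecognition.SuzPhi
  Cfsg.Agent.SporadicRecognition.SuzOrder
  Cfsg.Agent.SuzThree.Nets Cfsg.Agent.SuzThree.Basic Cfsg.Agent.SuzThree.Elts
  Cfsg.Agent.SuzThree.Elementary Cfsg.Agent.SuzThree.CentA Cfsg.Agent.SuzThree.CentB
  Cfsg.Agent.SuzThree.QZero Cfsg.Agent.SuzThree.ThreeWr
open Cfsg.Agent.KFacts.SuzLFour (L V e0 e0_sq e0_ne mem_V)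
open Cfsg.Agent.KFacts.SuzTwoB

theorem finSuz : Finite Suz := Nat.finite_of_card_ne_zero (by rw [card_Suz]; norm_num)

theorem y1_ne_y0 : y1 ≠ y0 := by
  intro h
  have h0 : φ y0 0 = 0 := rep_y0.pt (by decide +kernel)
  have h1 : φ y1 0 = 1513 := rep_y1.pt (by decide +kernel)
  rw [h, h0] at h1
  omega

theorem S3_not_comm (h : ∀ a ∈ S3, ∀ b ∈ S3, a * b = b * a) : False := by
  have h1 := h w w_mem y0 y0_mem
  rw [wy0] at h1
  exact y1_ne_y0 (mul_right_cancel h1)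

/-- **No abelian subgroup of order 81 commutes with an involution.** -/
theorem no81 {B : Subgroup Suz} (hB : Nat.card B = 81) (hc : ∀ a ∈ B, ∀ b ∈ B, a * b = b * a) {t : Suz}
    (ht : t * t = 1) (ht1 : t ≠ 1) (hBt : ∀ a ∈ B, a * t = t * a) : False := by
  have hfin := finSuz
  have hF : Fact (Nat.Prime 3) := ⟨Nat.prime_three⟩
  rcases Cfsg.Agent.CTwoTab.Suz.classes ht ht1 with h | h
  · obtain ⟨c, rfl⟩ := isConj_iff.1 h
    set B' : Subgroup Suz := B.map (MulAut.conj c⁻¹).toMonoidHom with hB'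
    have hB'c : Nat.card B' = 81 := by
      rw [hB', Nat.card_congr (B.equivMapOfInjective _ (MulAut.conj c⁻¹).injective).symm.toEquiv, hB]
    have hB'C : B' ≤ C1 := by
      rintro _ ⟨b, hb, rfl⟩
      rw [mem_C1]
      have h1 := hBt b hb
      show c⁻¹ * b * c⁻¹⁻¹ * z0 = z0 * (c⁻¹ * b * c⁻¹⁻¹)
      calc c⁻¹ * b * c⁻¹⁻¹ * z0 = c⁻¹ * (b * (c * z0 * c⁻¹)) * c := by group
        _ = z0 * (c⁻¹ * b * c⁻¹⁻¹) := by rw [h1]; group
    have hB'p : IsPGroup 3 B' := IsPGroup.of_card (n := 4) (by rw [hB'c]; norm_num)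
    have hidx : ¬ 3 ∣ B'.relIndex C1 := by
      have h1 : Nat.card B' * B'.relIndex C1 = Nat.card C1 := by
        rw [← relIndex_bot_left, ← relIndex_bot_left]
        exact relIndex_mul_relIndex ⊥ B' C1 bot_le hB'C
      rw [hB'c, Cfsg.Agent.SuzThree.CentCard.card_C1] at h1
      omega
    obtain ⟨g, -, hg⟩ := Cfsg.Agent.SuzThree.GoodX.exists_conj_le (C := C1) S3_le hB'p isPGroup_S3 hidx
    apply S3_not_comm
    intro a ha b hb
    obtain ⟨a', ha', ha2⟩ := hg ⟨a, ha, rfl⟩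
    obtain ⟨b', hb', hb2⟩ := hg ⟨b, hb, rfl⟩
    have h3 : (MulAut.conj g a) * (MulAut.conj g b) = (MulAut.conj g b) * (MulAut.conj g a) := by
      have e1 : (MulAut.conj c⁻¹) a' = (MulAut.conj g) a := ha2
      have e2 : (MulAut.conj c⁻¹) b' = (MulAut.conj g) b := hb2
      rw [← e1, ← e2, ← map_mul, ← map_mul, hc a' ha' b' hb']
    rw [← map_mul, ← map_mul] at h3
    exact (MulAut.conj g).injective h3
  · obtain ⟨c, rfl⟩ := isConj_iff.1 h
    set B' : Subgroup Suz := B.map (MulAut.conj c⁻¹).toMonoidHom with hB'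
    have hB'c : Nat.card B' = 81 := by
      rw [hB', Nat.card_congr (B.equivMapOfInjective _ (MulAut.conj c⁻¹).injective).symm.toEquiv, hB]
    have hB'C : B' ≤ CE := by
      rintro _ ⟨b, hb, rfl⟩
      rw [mem_CE]
      have h1 := hBt b hb
      show c⁻¹ * b * c⁻¹⁻¹ * e0 = e0 * (c⁻¹ * b * c⁻¹⁻¹)
      calc c⁻¹ * b * c⁻¹⁻¹ * e0 = c⁻¹ * (b * (c * e0 * c⁻¹)) * c := by group
        _ = e0 * (c⁻¹ * b * c⁻¹⁻¹) := by rw [h1]; group
    have h1 := card_dvd_of_le hB'C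
    rw [hB'c, card_CE] at h1
    exact absurd h1 (by norm_num)

/-- **`O_{3'}(C(x))` has odd order for `x` in `A0`.** -/
theorem core_odd {x : Suz} (hx : x ∈ A0) : ¬ 2 ∣ Nat.card ↥(pPrimeCore 3 ↥(centralizer ({x} : Set Suz))) := by
  have hfin := finSuz
  have hF : Fact (Nat.Prime 3) := ⟨Nat.prime_three⟩
  have hF2 : Fact (Nat.Prime 2) := ⟨Nat.prime_two⟩
  intro h2
  set H : Subgroup Suz := centralizer ({x} : Set Suz) with hH
  set Q : Subgroup Suz := (pPrimeCore 3 ↥H).map H.subtype with hQ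
  have hcard : Nat.card Q = Nat.card ↥(pPrimeCore 3 ↥H) := card_map_of_injective H.subtype_injective
  have hQ3 : ¬ 3 ∣ Nat.card Q := by
    rw [hcard]
    exact (Nat.Prime.coprime_iff_not_dvd Nat.prime_three).1
      (Cfsg.Agent.Lib.Cores.pPrimeCore_coprime (G := ↥H) 3).symm
  have hA0H : A0 ≤ H := fun a ha => mem_centralizer_singleton_iff.2 (comm_A0 ha hx)
  have hn := Cfsg.Agent.Lib.Cores.pPrimeCore_normal (G := ↥H) 3
  have hconj : ∀ g ∈ H, ∀ q ∈ Q, g * q * g⁻¹ ∈ Q := by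
    rintro g hg _ ⟨q, hq, rfl⟩
    exact ⟨⟨g, hg⟩ * q * ⟨g, hg⟩⁻¹, hn.conj_mem q hq ⟨g, hg⟩, rfl⟩
  have hAQ : A0 ≤ normalizer (Q : Set Suz) := by
    intro a ha
    rw [mem_normalizer_iff]
    intro q
    refine ⟨fun hq => hconj a (hA0H ha) q hq, fun hq => ?_⟩
    have := hconj a⁻¹ (H.inv_mem (hA0H ha)) _ hq
    simpa [mul_assoc] using this
  have hA0p : IsPGroup 3 A0 := fun a => ⟨1, Subtype.ext (by rw [pow_one]; exact cube_A0 a.2)⟩
  have hA0e : IsElementaryAbelian 3 A0 :=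
    ⟨⟨⟨fun a b => Subtype.ext (comm_A0 a.2 b.2)⟩⟩, fun a ha => cube_A0 ha⟩
  obtain ⟨P, hP⟩ := Lib.CoprimeHyperplane.exists_invariant_sylow hA0p hAQ hQ3 2
  set R : Subgroup Suz := (P : Subgroup ↥Q).map Q.subtype with hR
  have hRc : Nat.card R = Nat.card (P : Subgroup ↥Q) := card_map_of_injective Q.subtype_injective
  have hRp : IsPGroup 2 R := P.2.map _
  have hR2 : 2 ∣ Nat.card R := by
    rw [hRc]
    exact P.dvd_card_of_dvd_card (by rw [hcard]; exact h2)
  have hR3 : ¬ 3 ∣ Nat.card R := by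
    intro h3
    rw [hRc] at h3
    exact hQ3 (h3.trans (card_subgroup_dvd_card _))
  have hA1 : A0 ≠ ⊥ := by
    intro h
    have := card_A0
    rw [h, card_bot] at this
    omega
  have hgen := Lib.CoprimeHyperplane.iSup_centralizer_hyperplane hA0e hA1 hR3 hP
  obtain ⟨⟨B, hBA, hBi⟩, hB1⟩ : ∃ B : {B : Subgroup Suz // B ≤ A0 ∧ B.relIndex A0 = 3},
      R ⊓ centralizer ((B : Subgroup Suz) : Set Suz) ≠ ⊥ := by
    by_contra hcon
    push Not at hcon
    have h1 : R = ⊥ := by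
      rw [← hgen]
      exact iSup_eq_bot.2 hcon
    rw [h1, card_bot] at hR2
    exact absurd hR2 (by norm_num)
  have hBc : Nat.card B = 81 := by
    have h1 : Nat.card B * B.relIndex A0 = Nat.card A0 := by
      rw [← relIndex_bot_left, ← relIndex_bot_left]
      exact relIndex_mul_relIndex ⊥ B A0 bot_le hBA
    rw [hBi, card_A0] at h1
    omega
  set T : Subgroup Suz := R ⊓ centralizer ((B : Subgroup Suz) : Set Suz) with hT
  have hTp : IsPGroup 2 T := hRp.to_le inf_le_left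
  have hT2 : 2 ∣ Nat.card T := by
    obtain ⟨n, hn⟩ := IsPGroup.iff_card.1 hTp
    rcases Nat.eq_zero_or_pos n with h0 | h0
    · rw [h0, pow_zero] at hn
      exact absurd (card_eq_one.1 hn) hB1
    · rw [hn]
      exact dvd_pow_self 2 h0.ne'
  obtain ⟨t, ht⟩ := exists_prime_orderOf_dvd_card' 2 hT2
  have hto : orderOf (t : Suz) = 2 := by rw [orderOf_coe]; exact ht
  refine no81 hBc (fun a ha b hb => comm_A0 (hBA ha) (hBA hb)) (t := (t : Suz)) ?_ ?_ ?_
  · rw [← pow_two, ← hto, pow_orderOf_eq_one]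
  · intro h
    rw [h, orderOf_one] at hto
    omega
  · intro a ha
    exact (mem_centralizer_iff.1 t.2.2 a ha)

/-! ### Involutions of class 2B -/

/-- an element of order 3 of `L` does not commute with an involution of `L` -/
theorem no_six {x t : Suz} (hx : x ∈ L) (ht : t ∈ L) (hx3 : x ^ 3 = 1) (hx1 : x ≠ 1) (ht2 : t * t = 1)
    (ht1 : t ≠ 1) : x * t ≠ t * x := by
  intro hc
  obtain ⟨A⟩ := LThreeFour.exists_dat (F := Cfsg.Agent.SporadicA.FieldFour.F4) rfl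
    Cfsg.Agent.CTwoTab.SuzPlane.equiv
  obtain ⟨g, hg⟩ := A.invol_conj ⟨t, ht⟩ (fun h => ht1 (congrArg Subtype.val h)) (Subtype.ext ht2)
  have h1 : (g * ⟨x, hx⟩ * g⁻¹) * A.x 0 2 1 = A.x 0 2 1 * (g * ⟨x, hx⟩ * g⁻¹) := by
    have h2 : (⟨x, hx⟩ : ↥L) * ⟨t, ht⟩ = ⟨t, ht⟩ * ⟨x, hx⟩ := Subtype.ext hc
    rw [← hg]
    calc g * ⟨x, hx⟩ * g⁻¹ * (g * ⟨t, ht⟩ * g⁻¹) = g * (⟨x, hx⟩ * ⟨t, ht⟩) * g⁻¹ := by group
      _ = g * ⟨t, ht⟩ * g⁻¹ * (g * ⟨x, hx⟩ * g⁻¹) := by rw [h2]; group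
  obtain ⟨p, hp⟩ := A.cent _ h1
  have hm : g * ⟨x, hx⟩ * g⁻¹ ∈ A.T := A.mem_T.2 ⟨p, hp.symm⟩
  have h64 : (⟨x, hx⟩ : ↥L) ^ 64 = 1 := by
    have h2 : (⟨g * ⟨x, hx⟩ * g⁻¹, hm⟩ : ↥A.T) ^ 64 = 1 := by
      rw [← A.card_T]
      exact pow_card_eq_one'
    have h3 : (g * ⟨x, hx⟩ * g⁻¹) ^ 64 = 1 := congrArg Subtype.val h2
    rw [conj_pow] at h3
    have h4 : (⟨x, hx⟩ : ↥L) ^ 64 = g⁻¹ * (g * ⟨x, hx⟩ ^ 64 * g⁻¹) * g := by group
    rw [h4, h3]
    group
  have h3 : (⟨x, hx⟩ : ↥L) ^ 3 = 1 := Subtype.ext hx3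
  apply hx1
  have h5 : (⟨x, hx⟩ : ↥L) = 1 := by
    calc (⟨x, hx⟩ : ↥L) = ⟨x, hx⟩ ^ 64 * ((⟨x, hx⟩ ^ 3) ^ 21)⁻¹ := by rw [← pow_mul]; group
      _ = 1 := by rw [h64, h3, one_pow, inv_one, mul_one]
  exact congrArg Subtype.val h5

theorem mem_L_of_cube {x : Suz} (hx : x ^ 3 = 1) (hxe : x * e0 = e0 * x) : x ∈ L := by
  have h1 := mul_self_mem_of_index_two idx.1 (⟨x, mem_CE.2 hxe⟩ : ↥CE)
  have h2 : x * x ∈ VL := h1
  have h3 : x ∈ VL := by
    have h4 : x = (x * x) * (x * x) := by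
      calc x = x * x ^ 3 := by rw [hx, mul_one]
        _ = (x * x) * (x * x) := by simp only [pow_succ, pow_zero, one_mul, mul_assoc]
    rw [h4]
    exact VL.mul_mem h2 h2
  obtain ⟨v, hv, l, hl, hvl⟩ := mem_VL.1 h3
  have hcomm : v * l = l * v := Cfsg.Agent.KFacts.SuzLFour.V_comm v hv l hl
  have h5 : v ^ 3 * l ^ 3 = 1 := by
    rw [← (show Commute v l from hcomm).mul_pow, hvl, hx]
  have h6 : v ^ 3 ∈ L := by
    rw [eq_inv_of_mul_eq_one_left h5]
    exact L.inv_mem (L.pow_mem hl 3)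
  have h7 := V_cap_L (V.pow_mem hv 3) h6
  have h8 : v ^ 2 ^ 1 = 1 := Cfsg.Agent.CTwoTab.Suz.sq_V hv
  have h9 : v = 1 := by
    calc v = v ^ 3 * (v ^ 2 ^ 1)⁻¹ := by rw [pow_one]; group
      _ = 1 := by rw [h7, h8, inv_one, mul_one]
  rw [← hvl, h9, one_mul]
  exact hl

/-- **A 2-subgroup commuting with `e0` and an element of order 3 has order at most 8.** -/
theorem card_le_eight {x : Suz} (hx3 : x ^ 3 = 1) (hx1 : x ≠ 1) (hxe : x * e0 = e0 * x) {S : Subgroup Suz}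
    (hS : IsPGroup 2 S) (hSx : ∀ s ∈ S, s * x = x * s) (hSe : ∀ s ∈ S, s * e0 = e0 * s) : Nat.card S ≤ 8 := by
  have hfin := finSuz
  have hxL := mem_L_of_cube hx3 hxe
  have hSL : S ⊓ L = ⊥ := by
    by_contra hne
    have hp : IsPGroup 2 ↥(S ⊓ L) := hS.to_le inf_le_left
    have h2 : 2 ∣ Nat.card ↥(S ⊓ L) := by
      obtain ⟨n, hn⟩ := IsPGroup.iff_card.1 hp
      rcases Nat.eq_zero_or_pos n with h0 | h0
      · rw [h0, pow_zero] at hn
        exact absurd (card_eq_one.1 hn) hne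
      · rw [hn]
        exact dvd_pow_self 2 h0.ne'
    have hF2 : Fact (Nat.Prime 2) := ⟨Nat.prime_two⟩
    obtain ⟨t, ht⟩ := exists_prime_orderOf_dvd_card' 2 h2
    have hto : orderOf (t : Suz) = 2 := by rw [orderOf_coe]; exact ht
    refine no_six hxL t.2.2 hx3 hx1 ?_ ?_ (hSx _ t.2.1).symm
    · rw [← pow_two, ← hto, pow_orderOf_eq_one]
    · intro h
      rw [h, orderOf_one] at hto
      omega
  have hSCE : S ≤ CE := fun s hs => mem_CE.2 (hSe s hs)
  have h1 : L.relIndex CE = 8 := by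
    have h2 : Nat.card L * L.relIndex CE = Nat.card CE := by
      rw [← relIndex_bot_left, ← relIndex_bot_left]
      exact relIndex_mul_relIndex ⊥ L CE bot_le Cfsg.Agent.CTwoTab.Suz.L_le_CE
    rw [card_L, card_CE] at h2
    omega
  have h3 : L.relIndex S ≤ L.relIndex CE := relIndex_le_of_le_right hSCE (by rw [h1]; norm_num)
  have h4 : Nat.card S = L.relIndex S := by
    rw [← inf_relIndex_right, inf_comm, hSL, relIndex_bot_left]
  omega

end Cfsg.Agent.BpSpor.SuzThree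

end
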