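import Cfsg.Agent.BpSpor.Num
import Cfsg.Agent.BpSpor.SuzThreeRank
import Cfsg.Agent.BpSpor.NoComp
import Cfsg.Agent.BpSpor.LocalCrit
import Cfsg.Agent.BpSpor.Inn.Suz
import Cfsg.Agent.S1694

-- merged: Cfsg.Agent.BpSpor.OddCore
section

/-!
# `Good 3 H` if `O_{3'}(H)` has odd order (helper51)
-/

set_option autoImplicit false

namespace Cfsg.Agent.BpSpor

open Subgroup Cfsg Cfsg.Agent.Lib Cfsg.Agent.BpTab Cfsg.Agent.SignalizersComponents

universe u

/-- **The order criterion if `O_{3'}(H)` has odd order.** -/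
theorem good_of_odd_core {H : Type u} [Group H] [Finite H] (hodd : ¬ 2 ∣ Nat.card ↥(pPrimeCore 3 H))
    (h5 : ¬ 125 ∣ Nat.card H) (h7 : ¬ 49 ∣ Nat.card H)
    (h11 : ∀ r, r.Prime → 11 ≤ r → ¬ r ^ 2 ∣ Nat.card H) : Good 3 H := by
  have : Fact (Nat.Prime 3) := ⟨Nat.prime_three⟩
  by_contra hG
  obtain ⟨L, hL, r, k, d, M, hr, hrp, hd, hdk, hk, hS⟩ := exists_section hG
  have hqs : IsQuasisimple ↥(L.map (QuotientGroup.mk' (pPrimeCore 3 H))) := hL.2.1.2
  set q := QuotientGroup.mk' (pPrimeCore 3 H) with hq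
  have hna : ¬ ∀ a b : ↥(L.map q) ⧸ center ↥(L.map q), a * b = b * a := by
    intro hc
    refine Components.quasisimple_not_isSolvable hqs ?_
    have h4 : Group.IsSolvable ↥(center ↥(L.map q)) :=
      Group.isSolvable_of_comm fun a b => Subtype.ext (mem_center_iff.1 b.2 a)
    have h5 : Group.IsSolvable (↥(L.map q) ⧸ center ↥(L.map q)) := Group.isSolvable_of_comm hc
    exact Group.isSolvable_of_ker_le_range (center ↥(L.map q)).subtype (QuotientGroup.mk' (center ↥(L.map q))) (by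
      rw [QuotientGroup.ker_mk', Subgroup.range_subtype])
  have hsimp : IsSimpleGroup (↥(L.map q) ⧸ center ↥(L.map q)) := hqs.2
  have hdv : Nat.card ↥(pPrimeCore 3 H) * Nat.card (↥(L.map q) ⧸ center ↥(L.map q)) ∣ Nat.card H := by
    rw [card_eq_card_quotient_mul_card_subgroup (pPrimeCore 3 H), mul_comm]
    refine mul_dvd_mul ?_ dvd_rfl
    exact (card_quotient_dvd_card _).trans (card_subgroup_dvd_card _)
  have hkH : r ^ k ∣ Nat.card H := (hk.trans (Dvd.intro _ rfl)).trans hdv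
  have hr2 : r ^ 2 ∣ Nat.card H := (pow_dvd_pow r (by omega)).trans hkH
  rcases Nat.lt_or_ge r 11 with hlt | hge
  · have hr' : r = 2 ∨ r = 3 ∨ r = 5 ∨ r = 7 := by
      interval_cases r <;> first | omega | (exfalso; revert hr; norm_num)
    rcases hr' with rfl | rfl | rfl | rfl
    · exact hodd ((dvd_pow_self 2 (by omega)).trans hk)
    · exact hrp rfl
    · have hk3 : k < 3 := by
        by_contra hk3
        exact h5 ((pow_dvd_pow 5 (show 3 ≤ k by omega)).trans hkH)
      have hd2 : d = 2 := by omega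
      have hk2 : k = 2 := by omega
      subst hd2 hk2
      have h1 : ∏ i : Fin 2, (5 ^ 2 - 5 ^ (i : ℕ)) = 5 ^ 1 * (2 ^ 5 * 3 ^ 1) := by decide
      rw [h1] at hS
      have h8 : ¬ 5 ∣ Nat.card (↥(L.map q) ⧸ center ↥(L.map q)) := fun h8 =>
        h5 ((mul_dvd_mul hk h8).trans hdv)
      exact not_two_primes hna Nat.prime_two Nat.prime_three (dvd_of_not_dvd Nat.prime_five hS h8)
    · exact h7 hr2
  · exact h11 r hr hge hr2

end Cfsg.Agent.BpSpor

end

-- merged: Cfsg.Agent.BpSpor.SuzThree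
section

/-!
# S1332: the row `Suz`, `p = 3` (helper51)

An element `x` of order 3 commuting with an involution of class 2A is conjugate to an element of the elementary abelian
group `A0` of order `3 ^ 5`; involution centralizers contain no elementary abelian subgroup of order 81, so that
`O_{3'}(C(x))` has odd order.  The other elements of order 3 have `|C(x)|_2 ≤ 8`.
-/

set_option autoImplicit false
set_option maxRecDepth 100000

namespace Cfsg.Agent.BpSpor.SuzThree

open Subgroup Cfsg Cfsg.Spor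
open Cfsg.Agent.BpTab Cfsg.Agent.CpAut Cfsg.Agent.BpSpor
open Cfsg.Agent.SporadicRecognition.SuzOrder Cfsg.Agent.SuzThree.Elementary Cfsg.Agent.SuzThree.CentA
open Cfsg.Agent.KFacts.SuzLFour (e0)

theorem not_dvd {H : Subgroup Suz} {n : ℕ} (hn : ¬ n ∣ 448345497600) : ¬ n ∣ Nat.card ↥H := by
  intro h
  have h1 := h.trans (card_subgroup_dvd_card H)
  rw [card_Suz] at h1
  exact hn h1

theorem sq_not_dvd {r : ℕ} (hr : r.Prime) (h11 : 11 ≤ r) : ¬ r ^ 2 ∣ 448345497600 := by
  intro h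
  have h1 : r ∣ 448345497600 := (dvd_pow_self r two_ne_zero).trans h
  have h2 : (448345497600 : ℕ) = 2 ^ 13 * (3 ^ 7 * (5 ^ 2 * (7 * (11 * 13)))) := by norm_num
  rw [h2] at h1
  have key : r = 11 ∨ r = 13 := by
    rcases (Nat.Prime.dvd_mul hr).1 h1 with h3 | h3
    · have := (Nat.prime_dvd_prime_iff_eq hr Nat.prime_two).1 (hr.dvd_of_dvd_pow h3)
      omega
    · rcases (Nat.Prime.dvd_mul hr).1 h3 with h3 | h3
      · have := (Nat.prime_dvd_prime_iff_eq hr Nat.prime_three).1 (hr.dvd_of_dvd_pow h3)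
        omega
      · rcases (Nat.Prime.dvd_mul hr).1 h3 with h3 | h3
        · have := (Nat.prime_dvd_prime_iff_eq hr Nat.prime_five).1 (hr.dvd_of_dvd_pow h3)
          omega
        · rcases (Nat.Prime.dvd_mul hr).1 h3 with h3 | h3
          · have := (Nat.prime_dvd_prime_iff_eq hr (by norm_num)).1 h3
            omega
          · rcases (Nat.Prime.dvd_mul hr).1 h3 with h3 | h3
            · exact Or.inl ((Nat.prime_dvd_prime_iff_eq hr (by norm_num)).1 h3)
            · exact Or.inr ((Nat.prime_dvd_prime_iff_eq hr (by norm_num)).1 h3)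
  rcases key with rfl | rfl
  · exact absurd h (by norm_num)
  · exact absurd h (by norm_num)

/-- **`Good 3 C(x)` for `x` in `A0`.** -/
theorem good_A0 {x : Suz} (hx : x ∈ A0) : Good 3 ↥(centralizer ({x} : Set Suz)) := by
  have hfin := finSuz
  refine good_of_odd_core (core_odd hx) (not_dvd (by norm_num)) (not_dvd (by norm_num)) ?_
  intro r hr h11
  exact not_dvd (sq_not_dvd hr h11)

/-- an element of order 3 commuting with an involution of class 2A is conjugate to an element of `A0` -/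
theorem conj_A0' {x t : Suz} (hx : x ^ 3 = 1) (ht : IsConj z0 t) (hxt : x * t = t * x) :
    ∃ g : Suz, g * x * g⁻¹ ∈ A0 := by
  obtain ⟨c, rfl⟩ := isConj_iff.1 ht
  have h1 : (c⁻¹ * x * c) ^ 3 = 1 := by
    have := conj_pow (i := 3) (a := c⁻¹) (b := x)
    rw [inv_inv] at this
    rw [this, hx, mul_one, inv_mul_cancel]
  have h2 : c⁻¹ * x * c * z0 = z0 * (c⁻¹ * x * c) := by
    calc c⁻¹ * x * c * z0 = c⁻¹ * (x * (c * z0 * c⁻¹)) * c := by group
      _ = z0 * (c⁻¹ * x * c) := by rw [hxt]; group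
  obtain ⟨g, hg⟩ := conj_A0 h1 h2
  refine ⟨g * c⁻¹, ?_⟩
  have h3 : g * c⁻¹ * x * (g * c⁻¹)⁻¹ = g * (c⁻¹ * x * c) * g⁻¹ := by group
  rw [h3]
  exact hg

/-- the other elements of order 3 -/
theorem two_part {x : Suz} (hx : orderOf x = 3) (h : ∀ t : Suz, IsConj z0 t → x * t ≠ t * x) :
    ¬ 16 ∣ Nat.card ↥(centralizer ({x} : Set Suz)) := by
  have hfin := finSuz
  intro h16
  have hF : Fact (Nat.Prime 2) := ⟨Nat.prime_two⟩
  have hx3 : x ^ 3 = 1 := by rw [← hx, pow_orderOf_eq_one]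
  have hx1 : x ≠ 1 := by
    rintro rfl
    rw [orderOf_one] at hx
    omega
  set H : Subgroup Suz := centralizer ({x} : Set Suz) with hH
  obtain ⟨P⟩ : Nonempty (Sylow 2 ↥H) := inferInstance
  have hP16 : 16 ∣ Nat.card (P : Subgroup ↥H) := by
    have : (2 : ℕ) ^ 4 ∣ Nat.card (P : Subgroup ↥H) := P.pow_dvd_card_of_pow_dvd_card (by norm_num; exact h16)
    norm_num at this
    exact this
  have hnt : Nontrivial ↥(P : Subgroup ↥H) := by
    rw [← Finite.one_lt_card_iff_nontrivial]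
    have : 0 < Nat.card (P : Subgroup ↥H) := Nat.card_pos
    omega
  have hcnt := P.2.center_nontrivial
  obtain ⟨z, hz⟩ : ∃ z : ↥(center ↥(P : Subgroup ↥H)), orderOf z = 2 := by
    have hp : IsPGroup 2 ↥(center ↥(P : Subgroup ↥H)) := P.2.to_subgroup _
    have h2 : 2 ∣ Nat.card ↥(center ↥(P : Subgroup ↥H)) := by
      obtain ⟨n, hn⟩ := IsPGroup.iff_card.1 hp
      rcases Nat.eq_zero_or_pos n with h0 | h0
      · rw [h0, pow_zero] at hn
        have := Finite.one_lt_card_iff_nontrivial.2 hcnt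
        omega
      · rw [hn]
        exact dvd_pow_self 2 h0.ne'
    exact exists_prime_orderOf_dvd_card' 2 h2
  set t : Suz := (((z : ↥(P : Subgroup ↥H)) : ↥H) : Suz) with ht
  have hto : orderOf t = 2 := by rw [ht, orderOf_coe, orderOf_coe, orderOf_coe]; exact hz
  have htt : t * t = 1 := by rw [← pow_two, ← hto, pow_orderOf_eq_one]
  have ht1 : t ≠ 1 := by
    intro h0
    rw [h0, orderOf_one] at hto
    omega
  have htx : t * x = x * t := mem_centralizer_singleton_iff.1 ((z : ↥(P : Subgroup ↥H)) : ↥H).2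
  have htP : ∀ s ∈ (P : Subgroup ↥H), (s : Suz) * t = t * s := by
    intro s hs
    have h1 := mem_center_iff.1 z.2 ⟨s, hs⟩
    have h2 := congrArg (fun y : ↥(P : Subgroup ↥H) => ((y : ↥H) : Suz)) h1
    exact h2
  rcases Cfsg.Agent.CTwoTab.Suz.classes htt ht1 with h1 | h1
  · exact h t h1 htx.symm
  · obtain ⟨c, hc⟩ := isConj_iff.1 h1
    have hc' : e0 = c⁻¹ * t * c := by rw [← hc]; group
    -- conjugate everything by `c⁻¹`
    have e3 : (c⁻¹ * x * c) ^ 3 = 1 := by
      have := conj_pow (i := 3) (a := c⁻¹) (b := x)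
      rw [inv_inv] at this
      rw [this, hx3, mul_one, inv_mul_cancel]
    have e1 : c⁻¹ * x * c ≠ 1 := by
      intro h2
      apply hx1
      have h3 : x = c * (c⁻¹ * x * c) * c⁻¹ := by group
      rw [h3, h2]
      group
    have ee : c⁻¹ * x * c * e0 = e0 * (c⁻¹ * x * c) := by
      rw [hc']
      calc c⁻¹ * x * c * (c⁻¹ * t * c) = c⁻¹ * (x * t) * c := by group
        _ = c⁻¹ * t * c * (c⁻¹ * x * c) := by rw [← htx]; group
    set S : Subgroup Suz := ((P : Subgroup ↥H).map H.subtype).map (MulAut.conj c⁻¹).toMonoidHom with hS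
    have hSc : Nat.card S = Nat.card (P : Subgroup ↥H) := by
      rw [hS, card_map_of_injective (MulAut.conj c⁻¹).injective, card_map_of_injective H.subtype_injective]
    have hSp : IsPGroup 2 S := (P.2.map _).map _
    have hle := card_le_eight e3 e1 ee hSp ?_ ?_
    · rw [hSc] at hle
      have h5 : 0 < Nat.card (P : Subgroup ↥H) := Nat.card_pos
      have h6 := Nat.le_of_dvd h5 hP16
      omega
    · rintro _ ⟨_, ⟨s, hs, rfl⟩, rfl⟩
      have h5 : (s : Suz) * x = x * s := mem_centralizer_singleton_iff.1 s.2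
      show c⁻¹ * (s : Suz) * c⁻¹⁻¹ * (c⁻¹ * x * c) = c⁻¹ * x * c * (c⁻¹ * (s : Suz) * c⁻¹⁻¹)
      calc c⁻¹ * (s : Suz) * c⁻¹⁻¹ * (c⁻¹ * x * c) = c⁻¹ * (s * x) * c := by group
        _ = c⁻¹ * x * c * (c⁻¹ * (s : Suz) * c⁻¹⁻¹) := by rw [h5]; group
    · rintro _ ⟨_, ⟨s, hs, rfl⟩, rfl⟩
      have h5 : (s : Suz) * t = t * s := htP s hs
      show c⁻¹ * (s : Suz) * c⁻¹⁻¹ * e0 = e0 * (c⁻¹ * (s : Suz) * c⁻¹⁻¹)
      rw [hc']
      calc c⁻¹ * (s : Suz) * c⁻¹⁻¹ * (c⁻¹ * t * c) = c⁻¹ * (s * t) * c := by group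
        _ = c⁻¹ * t * c * (c⁻¹ * (s : Suz) * c⁻¹⁻¹) := by rw [h5]; group

/-- **Elements of order 3 of `Suz`**: conjugate to an element of `A0`, or `16 ∤ |C(x)|`. -/
theorem conj_or {x : Suz} (hx : orderOf x = 3) :
    (∃ g : Suz, g * x * g⁻¹ ∈ A0) ∨ ¬ 16 ∣ Nat.card ↥(centralizer ({x} : Set Suz)) := by
  by_cases h : ∃ t : Suz, IsConj z0 t ∧ x * t = t * x
  · obtain ⟨t, ht, hxt⟩ := h
    exact Or.inl (conj_A0' (by rw [← hx, pow_orderOf_eq_one]) ht hxt)
  · push Not at h
    exact Or.inr (two_part hx h)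

/-- **`Good 3 C(x)`** -/
theorem good {x : Suz} (hx : orderOf x = 3) : Good 3 ↥(centralizer ({x} : Set Suz)) := by
  have hfin := finSuz
  have hF : Fact (Nat.Prime 3) := ⟨Nat.prime_three⟩
  rcases conj_or hx with ⟨g, hg⟩ | h
  · refine good_of_conj (u := g * x * g⁻¹) (v := x) (c := g⁻¹) (by group) (good_A0 hg)
  · refine good_of_num Nat.prime_three (fun h64 => h ((by norm_num : (16 : ℕ) ∣ 64).trans h64)) (Or.inl rfl)
      (Or.inr (not_dvd (by norm_num))) (Or.inr (not_dvd (by norm_num))) ?_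
    intro r hr h11 _
    exact not_dvd (sq_not_dvd hr h11)

theorem center_eq : center Suz = ⊥ := by
  have hfin := finSuz
  have hs : IsSimpleGroup Suz := Cfsg.Agent.S1694.result.1
  refine CpAut.center_eq_bot_of_simple ?_
  intro h
  exact S3_not_comm fun a _ b _ => h.is_comm.comm a b

/-- **The row `Suz`, `p = 3` of S1332.** -/
theorem bps_three : BpS 3 Suz :=
  bpS_of_inner center_eq (Inn.suz ⟨MulEquiv.refl _⟩ 3 Nat.prime_three (by norm_num)) fun _ hg => good hg

/-- **The row `Suz`, `p = 3`, for every group isomorphic to `Suz`.** -/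
theorem bps_three_iso {K : Type*} [Group K] (h : IsoSuz K) : BpS 3 K := by
  obtain ⟨e⟩ := h
  have hfin := finSuz
  have : Finite K := Finite.of_equiv _ e.symm.toEquiv
  have hF : Fact (Nat.Prime 3) := ⟨Nat.prime_three⟩
  exact bpS_congr e.symm bps_three

end Cfsg.Agent.BpSpor.SuzThree

end
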