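import Cfsg.Agent.SuzThree.NormAct
import Cfsg.Agent.HNType.Alt

/-!
# `Suz`: the elements of `A0` are 3-central (helper51)

`dvd_A0` : `3 ^ 7 ∣ |C(x)|` for every `x` in the elementary abelian subgroup `A0` of order `3 ^ 5`.
-/

set_option autoImplicit false
set_option maxRecDepth 100000

namespace Cfsg.Agent.BpSpor.SuzThreeCentral

open Subgroup Cfsg Cfsg.Spor
open Cfsg.Agent.SporadicRecognition.SuzOrder
  Cfsg.Agent.SuzThree.Basic Cfsg.Agent.SuzThree.Elts
  Cfsg.Agent.SuzThree.Elementary Cfsg.Agent.SuzThree.NormElts Cfsg.Agent.SuzThree.NormAct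

/-- the list of all indices -/
def allIx : List Ix := [.i0, .i1, .i2, .i3, .i4, .i5, .i6, .i7, .i8, .i9, .i10]

/-- the list of scalars -/
def allS : List (ZMod 3) := [0, 1, 2]

/-- the combinations -/
def combos : List ((Ix × Ix) × (ZMod 3 × ZMod 3)) :=
  ((allIx.product allIx).filter fun p => decide (p.1 ≠ p.2)).product (allS.product allS)

/-- the vector of a combination -/
def val (c : (Ix × Ix) × (ZMod 3 × ZMod 3)) : V := c.2.1 • vec c.1.1 + c.2.2 • vec c.1.2

/-- the code of a vector -/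
def code (v : V) : ℕ := v.1.val + 3 * (v.2.1.val + 3 * (v.2.2.1.val + 3 * (v.2.2.2.1.val + 3 * v.2.2.2.2.val)))

theorem code_inj {v w : V} (h : code v = code w) : v = w := by
  obtain ⟨a, b, c, d, e⟩ := v
  obtain ⟨a', b', c', d', e'⟩ := w
  have ha := ZMod.val_lt a
  have hb := ZMod.val_lt b
  have hc := ZMod.val_lt c
  have hd := ZMod.val_lt d
  have he := ZMod.val_lt e
  have ha' := ZMod.val_lt a'
  have hb' := ZMod.val_lt b'
  have hc' := ZMod.val_lt c'
  have hd' := ZMod.val_lt d'
  have he' := ZMod.val_lt e'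
  simp only [code] at h
  have h1 : a.val = a'.val := by omega
  have h2 : b.val = b'.val := by omega
  have h3 : c.val = c'.val := by omega
  have h4 : d.val = d'.val := by omega
  have h5 : e.val = e'.val := by omega
  rw [ZMod.val_injective 3 h1, ZMod.val_injective 3 h2, ZMod.val_injective 3 h3, ZMod.val_injective 3 h4,
    ZMod.val_injective 3 h5]

theorem code_lt (v : V) : code v < 243 := by
  obtain ⟨a, b, c, d, e⟩ := v
  have ha := ZMod.val_lt a
  have hb := ZMod.val_lt b
  have hc := ZMod.val_lt c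
  have hd := ZMod.val_lt d
  have he := ZMod.val_lt e
  simp only [code]
  omega

/-- the set of all codes -/
noncomputable def msk (l : List ((Ix × Ix) × (ZMod 3 × ZMod 3))) : ℕ :=
  List.rec (motive := fun _ => ℕ) 0 (fun c _ ih => Nat.lor (Nat.shiftLeft 1 (code (val c))) ih) l

theorem msk_spec {l : List ((Ix × Ix) × (ZMod 3 × ZMod 3))} {k : ℕ} (h : (msk l).testBit k = true) :
    ∃ c ∈ l, code (val c) = k := by
  induction l with
  | nil =>
    have h' : (0 : ℕ).testBit k = true := h
    rw [Nat.zero_testBit] at h'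
    exact absurd h' (by simp)
  | cons y l ih =>
    have h' : (1 <<< (code (val y)) ||| msk l).testBit k = true := h
    rw [Nat.testBit_or, Bool.or_eq_true] at h'
    rcases h' with h' | h'
    · refine ⟨y, List.mem_cons_self, ?_⟩
      rw [Nat.testBit_shiftLeft, Bool.and_eq_true, decide_eq_true_eq] at h'
      have h2 := h'.2
      rw [Nat.testBit_one_eq_true_iff_self_eq_zero] at h2
      omega
    · obtain ⟨c, hc, hk⟩ := ih h'
      exact ⟨c, List.mem_cons_of_mem _ hc, hk⟩

theorem msk_all : Nat.beq (msk combos) (Nat.sub (Nat.pow 2 243) 1) = true := by decide +kernel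

theorem decomp (v : V) : ∃ f g : Ix, f ≠ g ∧ ∃ s t : ZMod 3, v = s • vec f + t • vec g := by
  have h : (msk combos).testBit (code v) = true := by
    rw [Nat.eq_of_beq_eq_true msk_all]
    show (2 ^ 243 - 1).testBit (code v) = true
    rw [Nat.testBit_two_pow_sub_one]
    exact decide_eq_true (code_lt v)
  obtain ⟨⟨⟨f, g⟩, s, t⟩, hc, hk⟩ := msk_spec h
  refine ⟨f, g, ?_, s, t, (code_inj hk).symm⟩
  have h1 := (List.pair_mem_product.1 hc).1
  have h2 := (List.mem_filter.1 h1).2
  exact of_decide_eq_true h2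

theorem finSuz : Finite Suz := Nat.finite_of_card_ne_zero (by rw [card_Suz]; norm_num)

theorem E_smul_mem {Z : Subgroup Suz} {f : Ix} (h : x f ∈ Z) (s : ZMod 3) : E (s • vec f) ∈ Z := by
  rw [x_eq] at h
  have h3 : s = 0 ∨ s = 1 ∨ s = 2 := by revert s; decide
  rcases h3 with rfl | rfl | rfl
  · rw [zero_smul, E_zero]
    exact Z.one_mem
  · rw [one_smul]
    exact h
  · have h2 : (2 : ZMod 3) • vec f = vec f + vec f := by
      rw [show (2 : ZMod 3) = 1 + 1 by decide, add_smul, one_smul]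
    rw [h2, E_add]
    exact Z.mul_mem h h

/-- the pairs of distinct indices -/
theorem card_pairs : Nat.card {p : Ix × Ix // p.1 ≠ p.2} = 110 := by
  rw [Nat.card_eq_fintype_card]
  decide +kernel

theorem card_NA : Nat.card NA = 243 * 7920 := by
  have hfin := finSuz
  have h1 : Nat.card (A0.subgroupOf NA) = 243 := by
    rw [Nat.card_congr (subgroupOfEquivOfLe (le_normalizer (H := A0))).toEquiv, card_A0]
  obtain ⟨e⟩ := isoM11
  have h2 : Nat.card (NA ⧸ A0.subgroupOf NA) = 7920 := by
    rw [Nat.card_congr e.toEquiv, HNType.Alt.card_M11]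
  rw [card_eq_card_quotient_mul_card_subgroup (A0.subgroupOf NA), h1, h2]

/-- the stabilizer of two special subgroups -/
noncomputable def D (f g : Ix) : Subgroup ↥NA := MulAction.stabilizer ↥NA (f, g)

theorem mem_D {f g : Ix} {n : ↥NA} : n ∈ D f g ↔ n • f = f ∧ n • g = g := by
  rw [D, MulAction.mem_stabilizer_iff]
  change (n • f, n • g) = (f, g) ↔ _
  rw [Prod.mk.injEq]

theorem D_index {f g : Ix} (hfg : f ≠ g) : (D f g).index = 110 := by
  rw [D, MulAction.index_stabilizer]
  have h : MulAction.orbit ↥NA (f, g) = {p : Ix × Ix | p.1 ≠ p.2} := by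
    ext ⟨a, b⟩
    constructor
    · rintro ⟨n, hn⟩
      have h1 : n • f = a := congrArg Prod.fst hn
      have h2 : n • g = b := congrArg Prod.snd hn
      show a ≠ b
      rw [← h1, ← h2]
      intro h
      exact hfg ((MulAction.injective n) h)
    · intro hab
      have hab' : a ≠ b := hab
      -- two more points
      have hex : ∀ a b : Ix, a ≠ b → ∃ c d : Ix, [a, b, c, d].Nodup := by decide +kernel
      obtain ⟨c, d, hn⟩ := hex a b hab'
      obtain ⟨c', d', hn'⟩ := hex f g hfg
      obtain ⟨n, h0, h1, -, -⟩ := exists_npr a b c d hn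
      obtain ⟨n', h0', h1', -, -⟩ := exists_npr f g c' d' hn'
      refine ⟨n * n'⁻¹, ?_⟩
      change ((n * n'⁻¹) • f, (n * n'⁻¹) • g) = (a, b)
      rw [mul_smul, mul_smul, ← h0', ← h1', inv_smul_smul, inv_smul_smul, h0, h1]
  rw [h, ← Nat.card_coe_set_eq]
  exact card_pairs

theorem comm_of_three {n : Suz} {f : Ix} (h : Sp n f f) {k : ℕ} (hk : n ^ 3 ^ k = 1) : n * x f = x f * n := by
  rcases h with h | h
  · rw [mul_inv_eq_iff_eq_mul] at h
    exact h
  · exfalso
    have h' : n * (x f)⁻¹ * n⁻¹ = x f := by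
      calc n * (x f)⁻¹ * n⁻¹ = (n * x f * n⁻¹)⁻¹ := by group
        _ = x f := by rw [h, inv_inv]
    have h1 : ∀ m : ℕ, n ^ (2 * m + 1) * x f * (n ^ (2 * m + 1))⁻¹ = (x f)⁻¹ := by
      intro m
      induction m with
      | zero => simpa using h
      | succ m ih =>
        have e : n ^ (2 * (m + 1) + 1) = n ^ (2 * m + 1) * (n * n) := by
          rw [← pow_two, ← pow_add]
          congr 1
        rw [e]
        calc n ^ (2 * m + 1) * (n * n) * x f * (n ^ (2 * m + 1) * (n * n))⁻¹
            = n ^ (2 * m + 1) * (n * (n * x f * n⁻¹) * n⁻¹) * (n ^ (2 * m + 1))⁻¹ := by group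
          _ = n ^ (2 * m + 1) * x f * (n ^ (2 * m + 1))⁻¹ := by rw [h, h']
          _ = (x f)⁻¹ := ih
    have hodd : Odd (3 ^ k) := Odd.pow (by decide)
    obtain ⟨m, hm⟩ := hodd
    have h2 := h1 m
    rw [← hm, hk, one_mul, inv_one, mul_one] at h2
    have h3 : x f * x f = 1 := by
      nth_rw 1 [h2]
      rw [inv_mul_cancel]
    have h4 := orderOf_x f
    have h5 : orderOf (x f) ∣ 2 := orderOf_dvd_of_pow_eq_one (by rw [pow_two]; exact h3)
    rw [h4] at h5
    exact absurd h5 (by norm_num)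

/-- **The elements of `A0` are 3-central.** -/
theorem dvd_A0 {a : Suz} (ha : a ∈ A0) : 3 ^ 7 ∣ Nat.card ↥(centralizer ({a} : Set Suz)) := by
  have hfin := finSuz
  have hF : Fact (Nat.Prime 3) := ⟨Nat.prime_three⟩
  obtain ⟨v, rfl⟩ := mem_A0.1 ha
  obtain ⟨f, g, hfg, s, t, hv⟩ := decomp v
  have hD : 3 ^ 7 ∣ Nat.card (D f g) := by
    have h1 := (D f g).card_mul_index
    rw [D_index hfg, card_NA] at h1
    have h2 : (3 : ℕ) ^ 7 ∣ Nat.card (D f g) * 110 := by
      rw [h1]
      norm_num
    exact (Nat.Coprime.dvd_mul_right (by norm_num)).1 h2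
  obtain ⟨P⟩ : Nonempty (Sylow 3 ↥(D f g)) := inferInstance
  have hP : 3 ^ 7 ∣ Nat.card (P : Subgroup ↥(D f g)) := P.pow_dvd_card_of_pow_dvd_card hD
  set Q : Subgroup Suz := ((P : Subgroup ↥(D f g)).map (D f g).subtype).map NA.subtype with hQ
  have hQc : Nat.card Q = Nat.card (P : Subgroup ↥(D f g)) := by
    rw [hQ, card_map_of_injective NA.subtype_injective, card_map_of_injective (D f g).subtype_injective]
  have hcent : ∀ q ∈ Q, ∀ i, i = f ∨ i = g → q * x i = x i * q := by
    rintro _ ⟨_, ⟨n, hn, rfl⟩, rfl⟩ i hi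
    obtain ⟨k, hk⟩ := P.2 ⟨n, hn⟩
    have hk' : ((n : ↥NA) : Suz) ^ 3 ^ k = 1 := by
      have h1 := congrArg (fun y : ↥(P : Subgroup ↥(D f g)) => (((y : ↥(D f g)) : ↥NA) : Suz)) hk
      exact h1
    have hn' := mem_D.1 n.2
    refine comm_of_three (k := k) ?_ hk'
    rcases hi with rfl | rfl
    · have := smul_spec (n : ↥NA) i
      rw [hn'.1] at this
      exact this
    · have := smul_spec (n : ↥NA) i
      rw [hn'.2] at this
      exact this
  have hle : Q ≤ centralizer ({E v} : Set Suz) := by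
    intro q hq
    rw [mem_centralizer_singleton_iff]
    have h1 : E v ∈ centralizer ({q} : Set Suz) := by
      rw [hv, E_add]
      refine mul_mem (E_smul_mem ?_ s) (E_smul_mem ?_ t)
      · exact mem_centralizer_singleton_iff.2 (hcent q hq f (Or.inl rfl)).symm
      · exact mem_centralizer_singleton_iff.2 (hcent q hq g (Or.inr rfl)).symm
    exact (mem_centralizer_singleton_iff.1 h1).symm
  exact (hP.trans (dvd_of_eq hQc.symm)).trans (card_dvd_of_le hle)

end Cfsg.Agent.BpSpor.SuzThreeCentral
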